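import Mathlib

/-!
# The local ring of a scheme-theoretic fibre

For a morphism of schemes `f : X ⟶ Y`, a point `y : Y` and a point `x'` of the scheme-theoretic
fibre `f.fiber y` with image `x = f.fiberι y x'` in `X`, the stalk map
`𝒪_{X,x} ⟶ 𝒪_{X_y,x'}` of `f.fiberι y` is surjective with kernel `𝔪_{f x} 𝒪_{X,x}`.
Hence `𝒪_{X_y,x'} ≃+* 𝒪_{X,x} ⧸ 𝔪_{f x} 𝒪_{X,x}`.

Main API (namespace `Groth.Agent.Helper16.FibStalk`):
* `fibIdeal f x : Ideal (X.presheaf.stalk x)`  (`= Ideal.map (f.stalkMap x).hom (maximalIdeal _)`,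
  by `fibIdeal_def`, which is `rfl`)
* `stalkMap_fiberι_surjective f y x'`, `ker_stalkMap_fiberι f y x'`
* `quotEquivStalkFiber f y x' : 𝒪_{X,ι x'} ⧸ fibIdeal f (ι x') ≃+* 𝒪_{X_y,x'}` with `_mk` lemma
* `quotEquivStalkFiberOfEq f y x' x (hx : f.fiberι y x' = x)`
* `toFibStalk f x : 𝒪_{X,x} →+* 𝒪_{X_{f x}, f.asFiber x}` (surjective, kernel `fibIdeal f x`)
* `fibStalkEquiv f x : 𝒪_{X,x} ⧸ fibIdeal f x ≃+* 𝒪_{X_{f x}, f.asFiber x}` with
  `fibStalkEquiv_mk`.
-/

open AlgebraicGeometry CategoryTheory Limits IsLocalRing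

universe u

namespace Groth.Agent.Helper16.FibStalk

variable {X Y : Scheme.{u}}

/-- In the stalk of `Spec K` (`K` a field) every non-unit is zero. -/
lemma eq_zero_of_not_isUnit_stalk_Spec_field (K : Type u) [Field K] (p : Spec (.of K))
    (b : (Spec (.of K)).presheaf.stalk p) (hb : ¬ IsUnit b) : b = 0 := by
  let K' := (Spec.structureSheaf K).presheaf.stalk p
  let e : K ≃ₐ[K] K' := IsLocalization.atUnits _ p.asIdeal.primeCompl
      (fun x hx ↦ by aesop (add simp IsUnit.mem_submonoid_iff))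
  have hF : IsField K' := e.toRingEquiv.symm.isField (Field.toIsField K)
  by_contra h0
  obtain ⟨c, hc⟩ := hF.mul_inv_cancel (a := (b : K')) h0
  exact hb (IsUnit.of_mul_eq_one c hc)

lemma exists_retraction {F X : Scheme.{u}} (ι : F ⟶ X) (R : CommRingCat.{u}) [IsLocalRing R]
    (g : Spec R ⟶ F) (x' : F) (h : g (closedPoint R) = x')
    (q : X.presheaf.stalk (ι x') ⟶ R) [IsLocalHom q.hom]
    (hq : g ≫ ι = Spec.map q ≫ X.fromSpecStalk (ι x')) :
    ∃ ψ : F.presheaf.stalk x' ⟶ R, ι.stalkMap x' ≫ ψ = q := by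
  subst h
  refine ⟨Scheme.stalkClosedPointTo g, ?_⟩
  rw [← Scheme.stalkClosedPointTo_comp]
  have h1 : SpecToEquivOfLocalRing X R (g ≫ ι) = ⟨ι (g (closedPoint R)), q, inferInstance⟩ := by
    rw [hq]; exact (SpecToEquivOfLocalRing X R).apply_symm_apply ⟨_, q, _⟩
  obtain ⟨h₁, h₂⟩ := SpecToEquivOfLocalRing_eq_iff.mp h1
  refine (h₂.trans ?_)
  exact (congrArg (· ≫ q) (TopCat.Presheaf.stalkSpecializes_refl X.presheaf _)).trans
    (Category.id_comp q)

/-- The ideal `𝔪_{f x} 𝒪_{X,x}` of `𝒪_{X,x}`. -/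
noncomputable def fibIdeal (f : X ⟶ Y) (x : X) : Ideal (X.presheaf.stalk x) :=
  Ideal.map (f.stalkMap x).hom (maximalIdeal (Y.presheaf.stalk (f x)))

lemma fibIdeal_def (f : X ⟶ Y) (x : X) :
    fibIdeal f x = Ideal.map (f.stalkMap x).hom (maximalIdeal (Y.presheaf.stalk (f x))) := rfl

lemma fibIdeal_le (f : X ⟶ Y) (x : X) : fibIdeal f x ≤ maximalIdeal (X.presheaf.stalk x) :=
  IsLocalRing.map_maximalIdeal_le (f.stalkMap x).hom

lemma fibIdeal_ne_top (f : X ⟶ Y) (x : X) : fibIdeal f x ≠ ⊤ := fun h =>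
  (maximalIdeal.isMaximal (X.presheaf.stalk x)).ne_top (top_le_iff.mp (h ▸ fibIdeal_le f x))

instance (f : X ⟶ Y) (x : X) : Nontrivial (X.presheaf.stalk x ⧸ fibIdeal f x) :=
  Ideal.Quotient.nontrivial_iff.mpr (fibIdeal_ne_top f x)

instance (f : X ⟶ Y) (x : X) : IsLocalRing (X.presheaf.stalk x ⧸ fibIdeal f x) :=
  IsLocalRing.of_surjective' (Ideal.Quotient.mk (fibIdeal f x)) Ideal.Quotient.mk_surjective

instance (f : X ⟶ Y) (x : X) : IsLocalHom (Ideal.Quotient.mk (fibIdeal f x)) :=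
  IsLocalHom.of_surjective _ Ideal.Quotient.mk_surjective

instance (f : X ⟶ Y) (x : X) :
    IsLocalHom (CommRingCat.ofHom (Ideal.Quotient.mk (fibIdeal f x))).hom :=
  IsLocalHom.of_surjective _ Ideal.Quotient.mk_surjective

lemma isUnit_of_stalkSpecializes_of_eq {y y' : Y} (h : y' = y) (a : Y.presheaf.stalk y)
    (hu : IsUnit ((Y.presheaf.stalkSpecializes (Inseparable.of_eq h).specializes).hom a)) :
    IsUnit a := by
  subst h
  simpa [TopCat.Presheaf.stalkSpecializes_refl] using hu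

variable (f : X ⟶ Y) (y : Y) (x' : f.fiber y)

lemma apply_fiberι (x' : f.fiber y) : f (f.fiberι y x') = y := by
  have := (f.range_fiberι y).le ⟨x', rfl⟩
  exact this

/-- The stalk map of `f.fiberι y` kills `𝔪_{f x} 𝒪_{X,x}`. -/
lemma stalkMap_fiberι_stalkMap_eq_zero (a : Y.presheaf.stalk (f (f.fiberι y x')))
    (ha : a ∈ maximalIdeal (Y.presheaf.stalk (f (f.fiberι y x')))) :
    ((f.fiberι y).stalkMap x').hom ((f.stalkMap (f.fiberι y x')).hom a) = 0 := by
  have h1 := Scheme.Hom.stalkMap_comp (f.fiberι y) f x'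
  have h2 := Scheme.Hom.stalkMap_comp (f.fiberToSpecResidueField y) (Y.fromSpecResidueField y) x'
  have h3 := Scheme.Hom.stalkMap_congr_hom _ _ (f.fiber_fac y) x'
  rw [h1, h2] at h3
  have hpt : (f.fiberι y ≫ f) x' =
      (f.fiberToSpecResidueField y ≫ Y.fromSpecResidueField y) x' := by rw [f.fiber_fac y]
  let e := Y.presheaf.stalkCongr (Inseparable.of_eq hpt)
  let b : Y.presheaf.stalk ((Y.fromSpecResidueField y) (f.fiberToSpecResidueField y x')) :=
    e.hom.hom a
  have key : ((f.fiberι y).stalkMap x').hom ((f.stalkMap (f.fiberι y x')).hom a) =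
      ((f.fiberToSpecResidueField y).stalkMap x').hom
        (((Y.fromSpecResidueField y).stalkMap (f.fiberToSpecResidueField y x')).hom b) :=
    congrArg (fun φ => φ.hom a) h3
  rw [key]
  have hbu : ¬ IsUnit b := by
    intro hu
    have h5 : IsUnit (e.inv.hom b) := hu.map e.inv.hom
    have h6 : e.inv.hom b = a := by
      change (e.hom ≫ e.inv).hom a = a
      rw [e.hom_inv_id]; rfl
    rw [h6] at h5
    exact ha h5
  have hc : ((Y.fromSpecResidueField y).stalkMap (f.fiberToSpecResidueField y x')).hom b = 0 := by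
    apply eq_zero_of_not_isUnit_stalk_Spec_field
    intro hu
    exact hbu (isUnit_of_map_unit
      ((Y.fromSpecResidueField y).stalkMap (f.fiberToSpecResidueField y x')).hom b hu)
  rw [hc, map_zero]

/-- `κ(y) → 𝒪_{X,x} ⧸ 𝔪_{f x} 𝒪_{X,x}` for `x` in the fibre over `y`. -/
noncomputable def resToQuot :
    Y.residueField y →+* (X.presheaf.stalk (f.fiberι y x') ⧸ fibIdeal f (f.fiberι y x')) :=
  Ideal.Quotient.lift (maximalIdeal (Y.presheaf.stalk y))
    ((Ideal.Quotient.mk (fibIdeal f (f.fiberι y x'))).comp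
      ((f.stalkMap (f.fiberι y x')).hom.comp
        (Y.presheaf.stalkSpecializes (Inseparable.of_eq (apply_fiberι f y x')).specializes).hom))
    (by
      intro a ha
      rw [RingHom.comp_apply, Ideal.Quotient.eq_zero_iff_mem]
      apply Ideal.mem_map_of_mem
      rw [mem_maximalIdeal, mem_nonunits_iff] at ha ⊢
      intro hu
      exact ha (isUnit_of_stalkSpecializes_of_eq (apply_fiberι f y x') a hu))

lemma resToQuot_residue :
    Y.residue y ≫ CommRingCat.ofHom (resToQuot f y x') =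
      Y.presheaf.stalkSpecializes (Inseparable.of_eq (apply_fiberι f y x')).specializes ≫
        f.stalkMap (f.fiberι y x') ≫
          CommRingCat.ofHom (Ideal.Quotient.mk (fibIdeal f (f.fiberι y x'))) := by
  ext a
  rfl

/-- The morphism `Spec (𝒪_{X,x} ⧸ 𝔪_{f x} 𝒪_{X,x}) ⟶ f.fiber y`. -/
noncomputable def specQuotToFiber :
    Spec (.of (X.presheaf.stalk (f.fiberι y x') ⧸ fibIdeal f (f.fiberι y x'))) ⟶ f.fiber y :=
  pullback.lift
    (Spec.map (CommRingCat.ofHom (Ideal.Quotient.mk (fibIdeal f (f.fiberι y x')))) ≫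
      X.fromSpecStalk (f.fiberι y x'))
    (Spec.map (CommRingCat.ofHom (resToQuot f y x')))
    (by
      rw [Category.assoc, ← Scheme.SpecMap_stalkMap_fromSpecStalk,
        ← Scheme.SpecMap_stalkSpecializes_fromSpecStalk
          (Inseparable.of_eq (apply_fiberι f y x')).specializes]
      rw [Scheme.fromSpecResidueField, ← Spec.map_comp_assoc, ← Spec.map_comp_assoc,
        ← Spec.map_comp_assoc, resToQuot_residue]
      rfl)

lemma specQuotToFiber_fiberι :
    specQuotToFiber f y x' ≫ f.fiberι y =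
      Spec.map (CommRingCat.ofHom (Ideal.Quotient.mk (fibIdeal f (f.fiberι y x')))) ≫
      X.fromSpecStalk (f.fiberι y x') :=
  pullback.lift_fst _ _ _

lemma specQuotToFiber_closedPoint :
    specQuotToFiber f y x'
      (closedPoint (X.presheaf.stalk (f.fiberι y x') ⧸ fibIdeal f (f.fiberι y x'))) = x' := by
  apply (f.fiberι y).isEmbedding.injective
  rw [← Scheme.Hom.comp_apply, specQuotToFiber_fiberι, Scheme.Hom.comp_apply]
  erw [Spec_closedPoint]
  exact Scheme.fromSpecStalk_closedPoint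

/-- The stalk map of the inclusion of the fibre is surjective. -/
theorem stalkMap_fiberι_surjective :
    Function.Surjective ((f.fiberι y).stalkMap x').hom :=
  (f.fiberι y).stalkMap_surjective x'

/-- The kernel of `𝒪_{X,x} ⟶ 𝒪_{X_y,x'}` is `𝔪_{f x} 𝒪_{X,x}`. -/
theorem ker_stalkMap_fiberι :
    RingHom.ker ((f.fiberι y).stalkMap x').hom = fibIdeal f (f.fiberι y x') := by
  apply le_antisymm
  · obtain ⟨ψ, hψ⟩ := exists_retraction (f.fiberι y)
      (.of (X.presheaf.stalk (f.fiberι y x') ⧸ fibIdeal f (f.fiberι y x')))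
      (specQuotToFiber f y x') x' (specQuotToFiber_closedPoint f y x')
      (CommRingCat.ofHom (Ideal.Quotient.mk (fibIdeal f (f.fiberι y x'))))
      (specQuotToFiber_fiberι f y x')
    intro r hr
    rw [RingHom.mem_ker] at hr
    have := congrArg (fun φ => φ.hom r) hψ
    simp only [CommRingCat.hom_comp, RingHom.comp_apply, hr, map_zero, CommRingCat.hom_ofHom] at this
    exact Ideal.Quotient.eq_zero_iff_mem.mp this.symm
  · rw [fibIdeal, Ideal.map_le_iff_le_comap]
    intro a ha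
    rw [Ideal.mem_comap, RingHom.mem_ker]
    exact stalkMap_fiberι_stalkMap_eq_zero f y x' a ha

/-- `𝒪_{X,x} ⧸ 𝔪_{f x} 𝒪_{X,x} ≃+* 𝒪_{X_y,x'}` where `x = f.fiberι y x'`. -/
noncomputable def quotEquivStalkFiber :
    (X.presheaf.stalk (f.fiberι y x') ⧸ fibIdeal f (f.fiberι y x')) ≃+*
      (f.fiber y).presheaf.stalk x' :=
  (Ideal.quotEquivOfEq (ker_stalkMap_fiberι f y x').symm).trans
    (RingHom.quotientKerEquivOfSurjective (stalkMap_fiberι_surjective f y x'))

@[simp]
lemma quotEquivStalkFiber_mk (r : X.presheaf.stalk (f.fiberι y x')) :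
    quotEquivStalkFiber f y x' (Ideal.Quotient.mk _ r) = ((f.fiberι y).stalkMap x').hom r := by
  simp [quotEquivStalkFiber]

/-- Flexible version of `quotEquivStalkFiber`: the image point is given up to an equality. -/
noncomputable def quotEquivStalkFiberOfEq (x : X) (hx : f.fiberι y x' = x) :
    (X.presheaf.stalk x ⧸ fibIdeal f x) ≃+* (f.fiber y).presheaf.stalk x' :=
  hx ▸ quotEquivStalkFiber f y x'

lemma quotEquivStalkFiberOfEq_mk (x : X) (hx : f.fiberι y x' = x) (r : X.presheaf.stalk x) :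
    quotEquivStalkFiberOfEq f y x' x hx (Ideal.Quotient.mk _ r) =
      ((f.fiberι y).stalkMap x').hom
        ((X.presheaf.stalkSpecializes (Inseparable.of_eq hx).specializes).hom r) := by
  subst hx
  simp [quotEquivStalkFiberOfEq, TopCat.Presheaf.stalkSpecializes_refl]

/-- The canonical ring map `𝒪_{X,x} → 𝒪_{X_{f x}, x}` to the local ring of the fibre through
`x`. -/
noncomputable def toFibStalk (x : X) :
    X.presheaf.stalk x →+* (f.fiber (f x)).presheaf.stalk (f.asFiber x) :=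
  ((f.fiberι (f x)).stalkMap (f.asFiber x)).hom.comp
    (X.presheaf.stalkSpecializes (Inseparable.of_eq (f.fiberι_asFiber x)).specializes).hom

/-- **The local ring of the fibre**: `𝒪_{X,x} ⧸ 𝔪_{f x} 𝒪_{X,x} ≃+* 𝒪_{X_{f x}, x}`. -/
noncomputable def fibStalkEquiv (x : X) :
    (X.presheaf.stalk x ⧸ fibIdeal f x) ≃+* (f.fiber (f x)).presheaf.stalk (f.asFiber x) :=
  quotEquivStalkFiberOfEq f (f x) (f.asFiber x) x (f.fiberι_asFiber x)

@[simp]
lemma fibStalkEquiv_mk (x : X) (r : X.presheaf.stalk x) :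
    fibStalkEquiv f x (Ideal.Quotient.mk _ r) = toFibStalk f x r :=
  quotEquivStalkFiberOfEq_mk f (f x) (f.asFiber x) x (f.fiberι_asFiber x) r

lemma toFibStalk_surjective (x : X) : Function.Surjective (toFibStalk f x) := by
  intro s
  obtain ⟨q, rfl⟩ := (fibStalkEquiv f x).surjective s
  obtain ⟨r, rfl⟩ := Ideal.Quotient.mk_surjective q
  exact ⟨r, (fibStalkEquiv_mk f x r).symm⟩

lemma ker_toFibStalk (x : X) : RingHom.ker (toFibStalk f x) = fibIdeal f x := by
  ext r
  rw [RingHom.mem_ker, ← fibStalkEquiv_mk, map_eq_zero_iff _ (fibStalkEquiv f x).injective,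
    Ideal.Quotient.eq_zero_iff_mem]

instance (x : X) : IsLocalHom (toFibStalk f x) :=
  IsLocalHom.of_surjective _ (toFibStalk_surjective f x)

/-- The maximal ideal of the local ring of the fibre is the image of `𝔪_x`. -/
lemma map_toFibStalk_maximalIdeal (x : X) :
    Ideal.map (toFibStalk f x) (maximalIdeal (X.presheaf.stalk x)) =
      maximalIdeal ((f.fiber (f x)).presheaf.stalk (f.asFiber x)) := by
  apply le_antisymm (IsLocalRing.map_maximalIdeal_le (toFibStalk f x))
  intro s hs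
  obtain ⟨r, rfl⟩ := toFibStalk_surjective f x s
  apply Ideal.mem_map_of_mem
  rw [mem_maximalIdeal, mem_nonunits_iff] at hs ⊢
  exact fun hu => hs (hu.map _)

end Groth.Agent.Helper16.FibStalk
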