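import Mathlib
import Groth.Agent.Lib.Helper16.Sch.FibStalk

/-!
# The local ring of the fibre and the residue field of the base (stalk square)

For `f : X ⟶ Y`, `x : X`, `x' = f.asFiber x`, `π = f.fiberToSpecResidueField (f x)`, we construct
`baseToFibBase f x : 𝒪_{Y, f x} →+* 𝒪_{Spec κ(f x), π x'}` (surjective with kernel the maximal
ideal) such that `π.stalkMap x' ∘ baseToFibBase = toFibStalk ∘ f.stalkMap x`.
-/

open AlgebraicGeometry CategoryTheory Limits IsLocalRing

universe u

namespace Groth.Agent.Helper16.FibStalk

variable {X Y : Scheme.{u}} (f : X ⟶ Y)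

/-- Element-wise form of `fiber_fac` on stalks. -/
lemma stalkMap_fiberι_stalkMap_apply (y : Y) (x' : f.fiber y)
    (a : Y.presheaf.stalk (f (f.fiberι y x')))
    (hpt : (f.fiberι y ≫ f) x' =
      (f.fiberToSpecResidueField y ≫ Y.fromSpecResidueField y) x') :
    ((f.fiberι y).stalkMap x').hom ((f.stalkMap (f.fiberι y x')).hom a) =
      ((f.fiberToSpecResidueField y).stalkMap x').hom
        (((Y.fromSpecResidueField y).stalkMap (f.fiberToSpecResidueField y x')).hom
          ((Y.presheaf.stalkCongr (Inseparable.of_eq hpt)).hom.hom a)) := by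
  have h1 := Scheme.Hom.stalkMap_comp (f.fiberι y) f x'
  have h2 := Scheme.Hom.stalkMap_comp (f.fiberToSpecResidueField y) (Y.fromSpecResidueField y) x'
  have h3 := Scheme.Hom.stalkMap_congr_hom _ _ (f.fiber_fac y) x'
  rw [h1, h2] at h3
  exact congrArg (fun φ => φ.hom a) h3

variable (x : X)

lemma fromSpecResidueField_fiberToSpecResidueField_asFiber :
    f x = Y.fromSpecResidueField (f x) (f.fiberToSpecResidueField (f x) (f.asFiber x)) :=
  (Scheme.fromSpecResidueField_apply _ _).symm

/-- The ring map `𝒪_{Y, f x} → 𝒪_{Spec κ(f x), pt}`. -/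
noncomputable def baseToFibBase :
    Y.presheaf.stalk (f x) →+*
      (Spec (Y.residueField (f x))).presheaf.stalk
        (f.fiberToSpecResidueField (f x) (f.asFiber x)) :=
  ((Y.fromSpecResidueField (f x)).stalkMap
      (f.fiberToSpecResidueField (f x) (f.asFiber x))).hom.comp
    (Y.presheaf.stalkCongr (Inseparable.of_eq
      (fromSpecResidueField_fiberToSpecResidueField_asFiber f x))).hom.hom

lemma baseToFibBase_surjective : Function.Surjective (baseToFibBase f x) := by
  unfold baseToFibBase
  rw [RingHom.coe_comp]
  refine Function.Surjective.comp ?_ ?_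
  · exact (Y.fromSpecResidueField (f x)).stalkMap_surjective _
  · exact ((Y.presheaf.stalkCongr (Inseparable.of_eq
      (fromSpecResidueField_fiberToSpecResidueField_asFiber f x))).commRingCatIsoToRingEquiv).surjective

instance : IsLocalHom (baseToFibBase f x) := by
  unfold baseToFibBase
  have : IsLocalHom (Y.presheaf.stalkCongr (Inseparable.of_eq
      (fromSpecResidueField_fiberToSpecResidueField_asFiber f x))).hom.hom :=
    isLocalHom_of_isIso _
  exact RingHom.isLocalHom_comp _ _

lemma ker_baseToFibBase :
    RingHom.ker (baseToFibBase f x) = maximalIdeal (Y.presheaf.stalk (f x)) := by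
  ext a
  rw [RingHom.mem_ker, mem_maximalIdeal, mem_nonunits_iff]
  constructor
  · intro h hu
    have := hu.map (baseToFibBase f x)
    rw [h] at this
    exact not_isUnit_zero this
  · intro h
    apply eq_zero_of_not_isUnit_stalk_Spec_field
    intro hu
    exact h (isUnit_of_map_unit (baseToFibBase f x) a hu)

/-- The stalk square of the fibre. -/
lemma stalkMap_fiberToSpecResidueField_comp_baseToFibBase :
    ((f.fiberToSpecResidueField (f x)).stalkMap (f.asFiber x)).hom.comp (baseToFibBase f x) =
      (toFibStalk f x).comp (f.stalkMap x).hom := by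
  ext a
  have hsp : f.fiberι (f x) (f.asFiber x) ⤳ x :=
    (Inseparable.of_eq (f.fiberι_asFiber x)).specializes
  have h1 := Scheme.Hom.stalkSpecializes_stalkMap_apply f _ _ hsp a
  have hpt : (f.fiberι (f x) ≫ f) (f.asFiber x) =
      (f.fiberToSpecResidueField (f x) ≫ Y.fromSpecResidueField (f x)) (f.asFiber x) := by
    rw [f.fiber_fac (f x)]
  have h2 := stalkMap_fiberι_stalkMap_apply f (f x) (f.asFiber x)
    ((Y.presheaf.stalkSpecializes (f.base.hom.map_specializes hsp)).hom a) hpt
  simp only [RingHom.comp_apply, toFibStalk]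
  change _ = ((f.fiberι (f x)).stalkMap (f.asFiber x)).hom
    ((X.presheaf.stalkSpecializes hsp).hom ((f.stalkMap x).hom a))
  erw [← h1]
  erw [h2]
  have h3 : (baseToFibBase f x) a =
      ((Y.fromSpecResidueField (f x)).stalkMap
        (f.fiberToSpecResidueField (f x) (f.asFiber x))).hom
        ((Y.presheaf.stalkCongr (Inseparable.of_eq hpt)).hom.hom
          ((Y.presheaf.stalkSpecializes (f.base.hom.map_specializes hsp)).hom a)) := by
    simp only [baseToFibBase, RingHom.comp_apply]
    congr 1
    simp only [TopCat.Presheaf.stalkCongr_hom]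
    exact (TopCat.Presheaf.stalkSpecializes_comp_apply Y.presheaf _ _ a).symm
  rw [h3]

end Groth.Agent.Helper16.FibStalk
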