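import Mathlib
import Groth.Agent.Lib.Helper16.Alg.SmoothFibreLocal2
import Groth.Agent.Lib.Helper16.Sch.FibStalk2

open AlgebraicGeometry CategoryTheory Limits IsLocalRing

universe u

set_option linter.style.haveILetI false

namespace Groth.Agent.Helper16.SmoothFibreSch

open Groth.Agent.Helper16.FibStalk Groth.Agent.Helper16.SmoothFibreLocal

variable {X Y : Scheme.{u}}

/-- Flat at `x` and the fibre smooth at `x` implies smooth at `x`. -/
theorem formallySmooth_stalkMap_of_flat_of_fibre (f : X ⟶ Y) [LocallyOfFinitePresentation f]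
    (x : X) (hflat : (f.stalkMap x).hom.Flat)
    (hfib : ((f.fiberToSpecResidueField (f x)).stalkMap (f.asFiber x)).hom.FormallySmooth) :
    (f.stalkMap x).hom.FormallySmooth := by
  obtain ⟨_, ⟨U, hU, rfl⟩, hxU, -⟩ :=
    Y.isBasis_affineOpens.exists_subset_of_mem_open (Set.mem_univ (f x)) isOpen_univ
  obtain ⟨_, ⟨V, hV, rfl⟩, hxV, hVU⟩ :=
    X.isBasis_affineOpens.exists_subset_of_mem_open hxU (U.2.preimage f.continuous)
  have hfp := f.finitePresentation_appLE hU hV hVU
  letI : Algebra Γ(Y, U) Γ(X, V) := (f.appLE U V hVU).hom.toAlgebra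
  haveI : Algebra.FinitePresentation Γ(Y, U) Γ(X, V) := hfp
  let p := (hU.primeIdealOf ⟨f x, hVU hxV⟩).asIdeal
  let q := (hV.primeIdealOf ⟨x, hxV⟩).asIdeal
  haveI : q.LiesOver p :=
    ⟨congr($(IsAffineOpen.comap_primeIdealOf_appLE U hU V hV hVU hxV).1).symm⟩
  letI : Algebra Γ(Y, U) (Y.presheaf.stalk (f x)) := Y.presheaf.algebra_section_stalk ⟨f x, hVU hxV⟩
  haveI : IsLocalization.AtPrime (Y.presheaf.stalk (f x)) p := hU.isLocalization_stalk ⟨f x, hVU hxV⟩
  letI : Algebra Γ(X, V) (X.presheaf.stalk x) := X.presheaf.algebra_section_stalk ⟨x, hxV⟩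
  haveI : IsLocalization.AtPrime (X.presheaf.stalk x) q := hV.isLocalization_stalk ⟨x, hxV⟩
  letI : Algebra (Y.presheaf.stalk (f x)) (X.presheaf.stalk x) := (f.stalkMap x).hom.toAlgebra
  letI : Algebra Γ(Y, U) (X.presheaf.stalk x) :=
    ((f.stalkMap x).hom.comp (algebraMap Γ(Y, U) (Y.presheaf.stalk (f x)))).toAlgebra
  haveI : IsScalarTower Γ(Y, U) (Y.presheaf.stalk (f x)) (X.presheaf.stalk x) :=
    IsScalarTower.of_algebraMap_eq' rfl
  haveI : IsScalarTower Γ(Y, U) Γ(X, V) (X.presheaf.stalk x) := by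
    refine IsScalarTower.of_algebraMap_eq fun a => ?_
    simp only [RingHom.algebraMap_toAlgebra, RingHom.comp_apply]
    simp only [Scheme.Hom.germ_stalkMap_apply, Scheme.Hom.appLE,
      homOfLE_leOfHom, CommRingCat.hom_comp, RingHom.coe_comp, Function.comp_apply,
      X.presheaf.germ_res_apply]
  haveI : IsLocalHom (algebraMap (Y.presheaf.stalk (f x)) (X.presheaf.stalk x)) :=
    inferInstanceAs (IsLocalHom (f.stalkMap x).hom)
  haveI : Module.Flat (Y.presheaf.stalk (f x)) (X.presheaf.stalk x) := hflat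
  have h : Algebra.FormallySmooth
      (Y.presheaf.stalk (f x) ⧸ maximalIdeal (Y.presheaf.stalk (f x)))
      (X.presheaf.stalk x ⧸ (maximalIdeal (Y.presheaf.stalk (f x))).map
        (algebraMap (Y.presheaf.stalk (f x)) (X.presheaf.stalk x))) :=
    formallySmooth_quotient_of_square
      ((f.fiberToSpecResidueField (f x)).stalkMap (f.asFiber x)).hom hfib
      (baseToFibBase f x) (baseToFibBase_surjective f x) (ker_baseToFibBase f x)
      (toFibStalk f x) (toFibStalk_surjective f x) (ker_toFibStalk f x)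
      (stalkMap_fiberToSpecResidueField_comp_baseToFibBase f x)
  have key : Algebra.FormallySmooth (Y.presheaf.stalk (f x)) (X.presheaf.stalk x) :=
    formallySmooth_of_flat_of_fibre_of_isLocalization p q h
  rw [← RingHom.formallySmooth_algebraMap] at key
  exact key

/-- Smooth at `x` implies the fibre is smooth at `x`. -/
theorem formallySmooth_fibre_of_formallySmooth (f : X ⟶ Y) (x : X)
    (hsm : (f.stalkMap x).hom.FormallySmooth) :
    ((f.fiberToSpecResidueField (f x)).stalkMap (f.asFiber x)).hom.FormallySmooth := by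
  letI : Algebra (Y.presheaf.stalk (f x)) (X.presheaf.stalk x) := (f.stalkMap x).hom.toAlgebra
  haveI : Algebra.FormallySmooth (Y.presheaf.stalk (f x)) (X.presheaf.stalk x) := by
    rw [← RingHom.formallySmooth_algebraMap]; exact hsm
  exact formallySmooth_of_square_of_quotient
    ((f.fiberToSpecResidueField (f x)).stalkMap (f.asFiber x)).hom
    (baseToFibBase f x) (baseToFibBase_surjective f x) (ker_baseToFibBase f x)
    (toFibStalk f x) (toFibStalk_surjective f x) (ker_toFibStalk f x)
    (stalkMap_fiberToSpecResidueField_comp_baseToFibBase f x)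
    (formallySmooth_quotient_of_formallySmooth _)

/-- Smooth at `x` implies flat at `x`. -/
theorem flat_stalkMap_of_mem_smoothLocus (f : X ⟶ Y) [LocallyOfFinitePresentation f] (x : X)
    (hx : x ∈ f.smoothLocus) : (f.stalkMap x).hom.Flat := by
  let W := f.smoothLocus
  haveI : Smooth (W.ι ≫ f) := by
    rw [← Scheme.Hom.smoothLocus_eq_top_iff, ← Scheme.Hom.preimage_smoothLocus_eq]
    exact Scheme.Opens.ι_preimage_self W
  let x₀ : W.toScheme := ⟨x, hx⟩
  have h1 := Flat.stalkMap (W.ι ≫ f) x₀
  rw [Scheme.Hom.stalkMap_comp] at h1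
  exact (RingHom.Flat.respectsIso.cancel_right_isIso _ (W.ι.stalkMap x₀)).mp h1

/-- **Smooth at a point iff flat and fibre smooth at the point.** -/
theorem mem_smoothLocus_iff_flat_and_fiber (f : X ⟶ Y) [LocallyOfFinitePresentation f] (x : X)
    [LocallyOfFinitePresentation (f.fiberToSpecResidueField (f x))] :
    x ∈ f.smoothLocus ↔
      (f.stalkMap x).hom.Flat ∧ f.asFiber x ∈ (f.fiberToSpecResidueField (f x)).smoothLocus := by
  constructor
  · intro hx
    exact ⟨flat_stalkMap_of_mem_smoothLocus f x hx,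
      formallySmooth_fibre_of_formallySmooth f x hx⟩
  · rintro ⟨h1, h2⟩
    exact formallySmooth_stalkMap_of_flat_of_fibre f x h1 h2

end Groth.Agent.Helper16.SmoothFibreSch
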