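import Mathlib
import Groth.Agent.Lib.Helper16.Alg.SmoothBC

set_option autoImplicit false
set_option linter.style.haveILetI false
universe u
open CategoryTheory CategoryTheory.Limits AlgebraicGeometry Opposite TopologicalSpace

noncomputable section

namespace Groth.Agent.Helper16.SmoothLocusBC

variable {X Y X' Y' : Scheme.{u}} {f : X ⟶ Y} {g : Y' ⟶ Y} {f' : X' ⟶ Y'} {g' : X' ⟶ X}

/-- The preimage of the smooth locus is contained in the smooth locus of the base change. -/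
theorem preimage_smoothLocus_le (H : IsPullback g' f' f g) [LocallyOfFinitePresentation f]
    [LocallyOfFinitePresentation f'] : g' ⁻¹ᵁ f.smoothLocus ≤ f'.smoothLocus := by
  intro x' hx'
  let W := f.smoothLocus
  haveI : Smooth (W.ι ≫ f) := by
    rw [← Scheme.Hom.smoothLocus_eq_top_iff, ← Scheme.Hom.preimage_smoothLocus_eq]
    exact Scheme.Opens.ι_preimage_self W
  have sq : IsPullback (g' ∣_ W) ((g' ⁻¹ᵁ W).ι ≫ f') (W.ι ≫ f) g :=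
    (isPullback_morphismRestrict g' W).paste_vert H
  haveI : Smooth ((g' ⁻¹ᵁ W).ι ≫ f') := MorphismProperty.of_isPullback sq ‹_›
  have h1 : (g' ⁻¹ᵁ W).ι ⁻¹ᵁ f'.smoothLocus = ⊤ := by
    rw [Scheme.Hom.preimage_smoothLocus_eq (g' ⁻¹ᵁ W).ι f']
    exact Scheme.Hom.smoothLocus_eq_top _
  let x₀ : (g' ⁻¹ᵁ W).toScheme := ⟨x', hx'⟩
  have h2 : x₀ ∈ (g' ⁻¹ᵁ W).ι ⁻¹ᵁ f'.smoothLocus := by rw [h1]; trivial
  exact h2

/-- Descent of the smooth locus along a flat base change: a point of `X'` where `f'` is smooth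
maps to a point where `f` is smooth. -/
theorem mem_smoothLocus_of_isPullback_of_flat (H : IsPullback g' f' f g)
    [LocallyOfFinitePresentation f] [LocallyOfFinitePresentation f'] [Flat g]
    (x' : X') (hx' : x' ∈ f'.smoothLocus) : g' x' ∈ f.smoothLocus := by
  obtain ⟨_, ⟨U, hU, rfl⟩, hyU, -⟩ :=
    Y.isBasis_affineOpens.exists_subset_of_mem_open (Set.mem_univ (f (g' x'))) isOpen_univ
  obtain ⟨_, ⟨V, hV, rfl⟩, hxV, hVU⟩ :=
    X.isBasis_affineOpens.exists_subset_of_mem_open hyU (U.2.preimage f.continuous)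
  have hy' : g (f' x') ∈ U := by
    rw [← Scheme.Hom.comp_apply, ← H.w, Scheme.Hom.comp_apply]; exact hyU
  obtain ⟨_, ⟨U', hU', rfl⟩, hy'U', hU'U⟩ :=
    Y'.isBasis_affineOpens.exists_subset_of_mem_open hy' (U.2.preimage g.continuous)
  have hV'def : g' ⁻¹ᵁ V ⊓ f' ⁻¹ᵁ U' = g' ⁻¹ᵁ V ⊓ f' ⁻¹ᵁ U' := rfl
  have hx'V' : x' ∈ g' ⁻¹ᵁ V ⊓ f' ⁻¹ᵁ U' := ⟨hxV, hy'U'⟩
  have hV' : IsAffineOpen (g' ⁻¹ᵁ V ⊓ f' ⁻¹ᵁ U') := by
    have : IsAffine _ := hU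
    have : IsAffine _ := hU'
    have : IsAffine _ := hV
    exact .of_isIso (Scheme.Hom.isPullback_resLE H hU'U hVU hV'def).isoPullback.hom
  have hpo := (isIso_pushoutSection_iff H hU'U hVU hV'def).mp
    (isIso_pushoutSection_of_isAffineOpen H hU'U hVU hV'def hU hU' hV)
  rw [Scheme.Hom.mem_smoothLocus,
    formallySmooth_stalkMap_iff U' hU' _ hV' inf_le_right hx'V'] at hx'
  rw [Scheme.Hom.mem_smoothLocus, formallySmooth_stalkMap_iff U hU V hV hVU hxV]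
  have hfin := f.finitePresentation_appLE hU hV hVU
  have hgflat := Flat.flat_appLE g hU hU' hU'U
  letI aAB := (f.appLE U V hVU).hom.toAlgebra
  letI aAA' := (g.appLE U U' hU'U).hom.toAlgebra
  letI aA'B' := (f'.appLE U' (g' ⁻¹ᵁ V ⊓ f' ⁻¹ᵁ U') inf_le_right).hom.toAlgebra
  letI aBB' := (g'.appLE V (g' ⁻¹ᵁ V ⊓ f' ⁻¹ᵁ U') inf_le_left).hom.toAlgebra
  letI aAB' : Algebra Γ(Y, U) Γ(X', g' ⁻¹ᵁ V ⊓ f' ⁻¹ᵁ U') :=
    ((g'.appLE V (g' ⁻¹ᵁ V ⊓ f' ⁻¹ᵁ U') inf_le_left).hom.comp (f.appLE U V hVU).hom).toAlgebra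
  haveI : IsScalarTower Γ(Y, U) Γ(X, V) Γ(X', g' ⁻¹ᵁ V ⊓ f' ⁻¹ᵁ U') :=
    IsScalarTower.of_algebraMap_eq' rfl
  haveI : IsScalarTower Γ(Y, U) Γ(Y', U') Γ(X', g' ⁻¹ᵁ V ⊓ f' ⁻¹ᵁ U') :=
    IsScalarTower.of_algebraMap_eq' (by
      have := congrArg CommRingCat.Hom.hom hpo.w
      exact this)
  haveI : Algebra.IsPushout Γ(Y, U) Γ(Y', U') Γ(X, V) Γ(X', g' ⁻¹ᵁ V ⊓ f' ⁻¹ᵁ U') :=
    CommRingCat.isPushout_iff_isPushout.mp hpo.flip
  haveI : Algebra.FinitePresentation Γ(Y, U) Γ(X, V) := hfin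
  haveI : Module.Flat Γ(Y, U) Γ(Y', U') := hgflat
  have key := SmoothBC.mem_smoothLocus_of_isPushout_of_flat Γ(Y, U) Γ(Y', U') Γ(X, V)
    Γ(X', g' ⁻¹ᵁ V ⊓ f' ⁻¹ᵁ U') _ hx'
  have hc := IsAffineOpen.comap_primeIdealOf_appLE V hV _ hV' inf_le_left hx'V'
  rw [← hc]
  exact key

end Groth.Agent.Helper16.SmoothLocusBC
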