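import Mathlib
import Groth.Agent.Lib.Helper16.Sch.SmoothLocusBC
import Groth.Agent.Lib.Helper16.Sch.SmoothFibreSch

set_option autoImplicit false
set_option linter.style.haveILetI false
universe u
open CategoryTheory CategoryTheory.Limits AlgebraicGeometry Opposite TopologicalSpace

noncomputable section

namespace Groth.Agent.Helper16.SmoothLocusBC

open Groth.Agent.Helper16.SmoothFibreSch

variable {X Y X' Y' : Scheme.{u}} {f : X ⟶ Y} {g : Y' ⟶ Y} {f' : X' ⟶ Y'} {g' : X' ⟶ X}

/-- The smooth locus commutes with flat base change. -/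
theorem smoothLocus_eq_preimage_of_flat (H : IsPullback g' f' f g)
    [LocallyOfFinitePresentation f] [LocallyOfFinitePresentation f'] [Flat g] :
    f'.smoothLocus = g' ⁻¹ᵁ f.smoothLocus :=
  le_antisymm (fun x' hx' => mem_smoothLocus_of_isPullback_of_flat H x' hx')
    (preimage_smoothLocus_le H)

instance lfp_fiberToSpecResidueField {X Y : Scheme.{u}} (f : X ⟶ Y)
    [LocallyOfFinitePresentation f] (s : Y) :
    LocallyOfFinitePresentation (f.fiberToSpecResidueField s) :=
  MorphismProperty.pullback_snd _ _ inferInstance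

/-- The fibre criterion with the point of the fibre given up to equalities. -/
theorem mem_smoothLocus_iff_flat_and_fiber' {X Y : Scheme.{u}} (f : X ⟶ Y)
    [LocallyOfFinitePresentation f] (x : X) (s : Y) (hs : f x = s) (z : f.fiber s)
    (hz : f.fiberι s z = x) :
    x ∈ f.smoothLocus ↔
      (f.stalkMap x).hom.Flat ∧ z ∈ (f.fiberToSpecResidueField s).smoothLocus := by
  subst hs
  have : z = f.asFiber x :=
    (f.fiberι (f x)).isEmbedding.injective (hz.trans (f.fiberι_asFiber x).symm)
  subst this
  exact mem_smoothLocus_iff_flat_and_fiber f x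

/-- Descent of smoothness at a point along an arbitrary base change, when `f` is flat at the
image point. -/
theorem mem_smoothLocus_of_isPullback_of_flat_at (H : IsPullback g' f' f g)
    [LocallyOfFinitePresentation f] [LocallyOfFinitePresentation f']
    (x' : X') (hx' : x' ∈ f'.smoothLocus) (hflat : (f.stalkMap (g' x')).hom.Flat) :
    g' x' ∈ f.smoothLocus := by
  have h1 := ((mem_smoothLocus_iff_flat_and_fiber f' x').mp hx').2
  let φ : f'.fiber (f' x') ⟶ f.fiber (g (f' x')) :=
    pullback.map _ _ _ _ g' (Spec.map (g.residueFieldMap (f' x'))) g H.w.symm (by simp)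
  have FS : IsPullback φ (f'.fiberToSpecResidueField (f' x'))
      (f.fiberToSpecResidueField (g (f' x'))) (Spec.map (g.residueFieldMap (f' x'))) :=
    isPullback_fiberToSpecResidueField_of_isPullback H (f' x')
  haveI : Flat (Spec.map (g.residueFieldMap (f' x'))) := by
    rw [HasRingHomProperty.Spec_iff (P := @Flat)]
    rw [RingHom.Flat]
    letI := (g.residueFieldMap (f' x')).hom.toAlgebra
    infer_instance
  have h2 := mem_smoothLocus_of_isPullback_of_flat FS _ h1
  have e : φ ≫ f.fiberι (g (f' x')) = f'.fiberι (f' x') ≫ g' := by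
    exact pullback.lift_fst _ _ _
  refine (mem_smoothLocus_iff_flat_and_fiber' f (g' x') (g (f' x')) ?_ _ ?_).mpr ⟨hflat, h2⟩
  · rw [← Scheme.Hom.comp_apply, H.w, Scheme.Hom.comp_apply]
  · have := congrArg (fun (h : f'.fiber (f' x') ⟶ X) => h (f'.asFiber x')) e
    simpa using this

/-- The smooth locus commutes with arbitrary base change when `f` is flat. -/
theorem smoothLocus_eq_preimage_of_flat_left (H : IsPullback g' f' f g)
    [LocallyOfFinitePresentation f] [LocallyOfFinitePresentation f'] [Flat f] :
    f'.smoothLocus = g' ⁻¹ᵁ f.smoothLocus :=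
  le_antisymm (fun x' hx' => mem_smoothLocus_of_isPullback_of_flat_at H x' hx'
    (Flat.stalkMap f (g' x'))) (preimage_smoothLocus_le H)

end Groth.Agent.Helper16.SmoothLocusBC
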