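import Groth.Agent.Lib.Helper16.Alg.UnramBC

set_option autoImplicit false
set_option linter.style.haveILetI false
universe u
open CategoryTheory CategoryTheory.Limits AlgebraicGeometry Opposite TopologicalSpace

noncomputable section

namespace Groth.Agent.Helper16.UnramLocus

variable {X Y : Scheme.{u}}

instance formallyUnramified_comp {X Y Z : Scheme.{u}} (f : X ⟶ Y) (g : Y ⟶ Z)
    [FormallyUnramified f] [FormallyUnramified g] : FormallyUnramified (f ≫ g) :=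
  MorphismProperty.comp_mem _ f g ‹_› ‹_›

/-- `f` is formally unramified on an open neighbourhood of `x`. -/
def UnrAt (f : X ⟶ Y) (x : X) : Prop :=
  ∃ U : X.Opens, x ∈ U ∧ FormallyUnramified (U.ι ≫ f)

lemma formallyUnramified_stalkMap_iff {f : X ⟶ Y} {x : X} (U : Y.Opens)
      (hU : IsAffineOpen U) (V : X.Opens) (hV : IsAffineOpen V) (hVU : V ≤ f ⁻¹ᵁ U)
      (hx : x ∈ V) :
    letI := (f.appLE U V hVU).hom.toAlgebra
    (f.stalkMap x).hom.FormallyUnramified ↔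
      hV.primeIdealOf ⟨x, hx⟩ ∈ Algebra.unramifiedLocus Γ(Y, U) Γ(X, V) := by
  let := (f.appLE U V hVU).hom.toAlgebra
  let p := (hU.primeIdealOf ⟨f x, hVU hx⟩).asIdeal
  let q := (hV.primeIdealOf ⟨x, hx⟩).asIdeal
  have : q.LiesOver p :=
    ⟨congr($(IsAffineOpen.comap_primeIdealOf_appLE U hU V hV hVU hx).1).symm⟩
  let := Localization.AtPrime.algebraOfLiesOver p q
  trans Algebra.FormallyUnramified (Localization.AtPrime p) (Localization.AtPrime q)
  · rw [← RingHom.formallyUnramified_algebraMap]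
    exact RingHom.FormallyUnramified.respectsIso.arrow_mk_iso_iff
      (IsAffineOpen.arrowStalkMapIso f U hU V hV hVU hx)
  · constructor
    · intro h
      exact Algebra.FormallyUnramified.comp Γ(Y, U) (Localization.AtPrime p)
        (Localization.AtPrime q)
    · intro h
      have h' : Algebra.FormallyUnramified Γ(Y, U) (Localization.AtPrime q) := h
      exact Algebra.FormallyUnramified.of_restrictScalars Γ(Y, U) _ _

lemma stalkMap_of_unrAt {f : X ⟶ Y} {x : X} (h : UnrAt f x) :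
    (f.stalkMap x).hom.FormallyUnramified := by
  obtain ⟨W, hxW, hW⟩ := h
  let x₀ : W.toScheme := ⟨x, hxW⟩
  have h1 := FormallyUnramified.stalkMap (W.ι ≫ f) x₀
  rw [Scheme.Hom.stalkMap_comp] at h1
  exact (RingHom.FormallyUnramified.respectsIso.cancel_right_isIso _
    (W.ι.stalkMap x₀)).mp h1

set_option backward.defeqAttrib.useBackward true in
set_option backward.isDefEq.respectTransparency false in
lemma unrAt_of_mem_unramifiedLocus {f : X ⟶ Y} [LocallyOfFiniteType f] {x : X} (U : Y.Opens)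
    (hU : IsAffineOpen U) (V : X.Opens) (hV : IsAffineOpen V) (hVU : V ≤ f ⁻¹ᵁ U)
    (hx : x ∈ V)
    (H : letI := (f.appLE U V hVU).hom.toAlgebra
      hV.primeIdealOf ⟨x, hx⟩ ∈ Algebra.unramifiedLocus Γ(Y, U) Γ(X, V)) : UnrAt f x := by
  have := f.finiteType_appLE hU hV hVU
  algebraize [(f.appLE U V hVU).hom]
  have : Algebra.IsUnramifiedAt Γ(Y, U) (hV.primeIdealOf ⟨x, hx⟩).asIdeal := H
  obtain ⟨r, hrx, hr⟩ := Algebra.exists_formallyUnramified_of_isUnramifiedAt (R := Γ(Y, U))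
    (hV.primeIdealOf ⟨x, hx⟩).asIdeal
  have hxr : x ∈ X.basicOpen r := by
    rwa [← PrimeSpectrum.mem_basicOpen, IsAffineOpen.primeIdealOf,
      ← hV.fromSpec_preimage_basicOpen, Scheme.Hom.mem_preimage, ← Scheme.Hom.comp_apply,
      IsAffineOpen.isoSpec_hom, IsAffineOpen.toSpecΓ_fromSpec] at hrx
  have hle : X.basicOpen r ≤ f ⁻¹ᵁ U := (X.basicOpen_le r).trans hVU
  have hring : (f.appLE U (X.basicOpen r) hle).hom.FormallyUnramified := by
    have := hV.isLocalization_basicOpen r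
    rw [← RingHom.formallyUnramified_algebraMap] at hr
    convert!
      RingHom.FormallyUnramified.respectsIso.1 _
        (IsLocalization.algEquiv (.powers r) _ Γ(X, X.basicOpen r)).toRingEquiv hr
    ext
    dsimp
    simp only [IsScalarTower.algebraMap_apply Γ(Y, U) Γ(X, V) (Localization _),
      IsLocalization.map_eq]
    simp only [RingHom.algebraMap_toAlgebra, RingHomCompTriple.comp_apply, ← ConcreteCategory.comp_apply,
      Scheme.Hom.appLE_map]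
  refine ⟨X.basicOpen r, hxr, ?_⟩
  have : IsAffine _ := hU
  have : IsAffine _ := hV.basicOpen r
  have h1 : FormallyUnramified (f.resLE U (X.basicOpen r) hle) := by
    rw [HasRingHomProperty.iff_of_isAffine (P := @FormallyUnramified)]
    exact (RingHom.FormallyUnramified.respectsIso.arrow_mk_iso_iff
      (arrowResLEAppIso f U (X.basicOpen r) hle)).mpr hring
  rw [← Scheme.Hom.resLE_comp_ι f hle]
  infer_instance

lemma unrAt_iff_mem_unramifiedLocus {f : X ⟶ Y} [LocallyOfFiniteType f] {x : X} (U : Y.Opens)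
    (hU : IsAffineOpen U) (V : X.Opens) (hV : IsAffineOpen V) (hVU : V ≤ f ⁻¹ᵁ U)
    (hx : x ∈ V) :
    letI := (f.appLE U V hVU).hom.toAlgebra
    UnrAt f x ↔ hV.primeIdealOf ⟨x, hx⟩ ∈ Algebra.unramifiedLocus Γ(Y, U) Γ(X, V) :=
  ⟨fun h => (formallyUnramified_stalkMap_iff U hU V hV hVU hx).mp (stalkMap_of_unrAt h),
    fun h => unrAt_of_mem_unramifiedLocus U hU V hV hVU hx h⟩

lemma unrAt_iff_stalkMap {f : X ⟶ Y} [LocallyOfFiniteType f] {x : X} :
    UnrAt f x ↔ (f.stalkMap x).hom.FormallyUnramified := by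
  refine ⟨stalkMap_of_unrAt, fun h => ?_⟩
  obtain ⟨_, ⟨U, hU, rfl⟩, hxU, -⟩ :=
    Y.isBasis_affineOpens.exists_subset_of_mem_open (Set.mem_univ (f x)) isOpen_univ
  obtain ⟨_, ⟨V, hV, rfl⟩, hxV, hVU⟩ :=
    X.isBasis_affineOpens.exists_subset_of_mem_open hxU (U.2.preimage f.continuous)
  exact unrAt_of_mem_unramifiedLocus U hU V hV hVU hxV
    ((formallyUnramified_stalkMap_iff U hU V hV hVU hxV).mp h)

/-- The unramified locus commutes with arbitrary base change. -/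
theorem unrAt_iff_of_isPullback {X Y X' Y' : Scheme.{u}} {f : X ⟶ Y} {g : Y' ⟶ Y}
    {f' : X' ⟶ Y'} {g' : X' ⟶ X} (H : IsPullback g' f' f g) [LocallyOfFiniteType f] (x' : X') :
    UnrAt f' x' ↔ UnrAt f (g' x') := by
  haveI : LocallyOfFiniteType f' := MorphismProperty.of_isPullback H ‹_›
  obtain ⟨_, ⟨U, hU, rfl⟩, hyU, -⟩ :=
    Y.isBasis_affineOpens.exists_subset_of_mem_open (Set.mem_univ (f (g' x'))) isOpen_univ
  obtain ⟨_, ⟨V, hV, rfl⟩, hxV, hVU⟩ :=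
    X.isBasis_affineOpens.exists_subset_of_mem_open hyU (U.2.preimage f.continuous)
  have hy' : g (f' x') ∈ U := by
    rw [← Scheme.Hom.comp_apply, ← H.w, Scheme.Hom.comp_apply]; exact hyU
  obtain ⟨_, ⟨U', hU', rfl⟩, hy'U', hU'U⟩ :=
    Y'.isBasis_affineOpens.exists_subset_of_mem_open hy' (U.2.preimage g.continuous)
  have hV'def : g' ⁻¹ᵁ V ⊓ f' ⁻¹ᵁ U' = g' ⁻¹ᵁ V ⊓ f' ⁻¹ᵁ U' := rfl
  have hx'V' : x' ∈ g' ⁻¹ᵁ V ⊓ f' ⁻¹ᵁ U' := ⟨hxV, hy'U'⟩
  have hV' : IsAffineOpen (g' ⁻¹ᵁ V ⊓ f' ⁻¹ᵁ U') := by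
    have : IsAffine _ := hU
    have : IsAffine _ := hU'
    have : IsAffine _ := hV
    exact .of_isIso (Scheme.Hom.isPullback_resLE H hU'U hVU hV'def).isoPullback.hom
  have hpo := (isIso_pushoutSection_iff H hU'U hVU hV'def).mp
    (isIso_pushoutSection_of_isAffineOpen H hU'U hVU hV'def hU hU' hV)
  rw [unrAt_iff_mem_unramifiedLocus U' hU' _ hV' inf_le_right hx'V',
    unrAt_iff_mem_unramifiedLocus U hU V hV hVU hxV]
  have hfin := f.finiteType_appLE hU hV hVU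
  have hfin' := f'.finiteType_appLE hU' hV' inf_le_right
  letI aAB := (f.appLE U V hVU).hom.toAlgebra
  letI aAA' := (g.appLE U U' hU'U).hom.toAlgebra
  letI aA'B' := (f'.appLE U' (g' ⁻¹ᵁ V ⊓ f' ⁻¹ᵁ U') inf_le_right).hom.toAlgebra
  letI aBB' := (g'.appLE V (g' ⁻¹ᵁ V ⊓ f' ⁻¹ᵁ U') inf_le_left).hom.toAlgebra
  letI aAB' : Algebra Γ(Y, U) Γ(X', g' ⁻¹ᵁ V ⊓ f' ⁻¹ᵁ U') :=
    ((g'.appLE V (g' ⁻¹ᵁ V ⊓ f' ⁻¹ᵁ U') inf_le_left).hom.comp (f.appLE U V hVU).hom).toAlgebra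
  haveI : IsScalarTower Γ(Y, U) Γ(X, V) Γ(X', g' ⁻¹ᵁ V ⊓ f' ⁻¹ᵁ U') :=
    IsScalarTower.of_algebraMap_eq' rfl
  haveI : IsScalarTower Γ(Y, U) Γ(Y', U') Γ(X', g' ⁻¹ᵁ V ⊓ f' ⁻¹ᵁ U') :=
    IsScalarTower.of_algebraMap_eq' (by
      have := congrArg CommRingCat.Hom.hom hpo.w
      exact this)
  haveI : Algebra.IsPushout Γ(Y, U) Γ(Y', U') Γ(X, V) Γ(X', g' ⁻¹ᵁ V ⊓ f' ⁻¹ᵁ U') :=
    CommRingCat.isPushout_iff_isPushout.mp hpo.flip
  haveI : Algebra.FiniteType Γ(Y, U) Γ(X, V) := hfin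
  haveI : Algebra.FiniteType Γ(Y', U') Γ(X', g' ⁻¹ᵁ V ⊓ f' ⁻¹ᵁ U') := hfin'
  rw [UnramBC.mem_unramifiedLocus_iff_of_isPushout Γ(Y, U) Γ(Y', U') Γ(X, V)
    Γ(X', g' ⁻¹ᵁ V ⊓ f' ⁻¹ᵁ U')]
  have hc := IsAffineOpen.comap_primeIdealOf_appLE V hV _ hV' inf_le_left hx'V'
  rw [← hc]
  rfl

end Groth.Agent.Helper16.UnramLocus
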