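import Mathlib
import Groth.Agent.Lib.Helper16.Sch.SmoothLocusBC2
import Groth.Agent.Lib.Helper16.Sch.UnramLocus

set_option autoImplicit false
set_option linter.style.haveILetI false
universe u
open CategoryTheory CategoryTheory.Limits AlgebraicGeometry Opposite TopologicalSpace

noncomputable section

namespace Groth.Agent.Helper16.SmoothLocusBC

theorem flat_fromSpecStalk (X : Scheme.{u}) (x : X) : Flat (X.fromSpecStalk x) := by
  obtain ⟨U, hU, hxU, -⟩ :=
    Opens.isBasis_iff_nbhd.mp X.isBasis_affineOpens (show x ∈ (⊤ : X.Opens) from trivial)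
  have hU : IsAffineOpen U := hU
  rw [← hU.fromSpecStalk_eq_fromSpecStalk hxU]
  unfold IsAffineOpen.fromSpecStalk
  haveI h1 : Flat (Spec.map (X.presheaf.germ U x hxU)) := by
    letI : Algebra Γ(X, U) (X.presheaf.stalk x) := (X.presheaf.germ U x hxU).hom.toAlgebra
    haveI := hU.isLocalization_stalk ⟨x, hxU⟩
    rw [HasRingHomProperty.Spec_iff (P := @Flat)]
    exact RingHom.flat_algebraMap_iff.mpr
      (IsLocalization.flat _ (hU.primeIdealOf ⟨x, hxU⟩).asIdeal.primeCompl)
  exact MorphismProperty.comp_mem _ _ _ h1 inferInstance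

/-- `f` is smooth on an open neighbourhood of `x` iff `x` lies in the smooth locus. -/
theorem exists_smooth_nhd_iff {X Y : Scheme.{u}} (f : X ⟶ Y) [LocallyOfFinitePresentation f]
    (x : X) : (∃ U : X.Opens, x ∈ U ∧ Smooth (U.ι ≫ f)) ↔ x ∈ f.smoothLocus := by
  constructor
  · rintro ⟨U, hxU, hU⟩
    have h1 : U.ι ⁻¹ᵁ f.smoothLocus = ⊤ := by
      rw [Scheme.Hom.preimage_smoothLocus_eq U.ι f]
      exact Scheme.Hom.smoothLocus_eq_top _
    let x₀ : U.toScheme := ⟨x, hxU⟩
    have h2 : x₀ ∈ U.ι ⁻¹ᵁ f.smoothLocus := by rw [h1]; trivial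
    exact h2
  · intro hx
    refine ⟨f.smoothLocus, hx, ?_⟩
    rw [← Scheme.Hom.smoothLocus_eq_top_iff, ← Scheme.Hom.preimage_smoothLocus_eq]
    exact Scheme.Opens.ι_preimage_self _

/-- Flatness of `Spec 𝒪_{Y',y'} ⟶ Y' ⟶ Y` when `g` is flat at `y'`. -/
theorem flat_fromSpecStalk_comp {Y Y' : Scheme.{u}} (g : Y' ⟶ Y) (y' : Y')
    (hg : (g.stalkMap y').hom.Flat) : Flat (Y'.fromSpecStalk y' ≫ g) := by
  rw [← Scheme.SpecMap_stalkMap_fromSpecStalk]
  haveI h1 : Flat (Spec.map (g.stalkMap y')) := by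
    rw [HasRingHomProperty.Spec_iff (P := @Flat)]
    exact hg
  haveI h2 := flat_fromSpecStalk Y (g y')
  exact MorphismProperty.comp_mem _ _ _ h1 h2

/-- Descent of smoothness at a point along a base change which is flat at the image point. -/
theorem mem_smoothLocus_of_isPullback_of_flat_stalk {X Y X' Y' : Scheme.{u}} {f : X ⟶ Y}
    {g : Y' ⟶ Y} {f' : X' ⟶ Y'} {g' : X' ⟶ X} (H : IsPullback g' f' f g)
    [LocallyOfFinitePresentation f] [LocallyOfFinitePresentation f']
    (x' : X') (hx' : x' ∈ f'.smoothLocus) (hg : (g.stalkMap (f' x')).hom.Flat) :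
    g' x' ∈ f.smoothLocus := by
  let y' := f' x'
  let j := Y'.fromSpecStalk y'
  haveI : Flat (j ≫ g) := flat_fromSpecStalk_comp g y' hg
  have sq1 : IsPullback (pullback.fst f' j) (pullback.snd f' j) f' j := IsPullback.of_hasPullback _ _
  have sq2 : IsPullback (pullback.fst f' j ≫ g') (pullback.snd f' j) f (j ≫ g) :=
    sq1.paste_horiz H
  obtain ⟨x'', hx''1, hx''2⟩ := Scheme.Pullback.exists_preimage_pullback (f := f') (g := j) x'
    (IsLocalRing.closedPoint _) (Scheme.fromSpecStalk_closedPoint).symm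
  have h1 : x'' ∈ (pullback.snd f' j).smoothLocus :=
    preimage_smoothLocus_le sq1 (by rw [Scheme.Hom.mem_preimage, hx''1]; exact hx')
  have h2 := mem_smoothLocus_of_isPullback_of_flat sq2 x'' h1
  rwa [Scheme.Hom.comp_apply, hx''1] at h2

end Groth.Agent.Helper16.SmoothLocusBC
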