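import Mathlib
import Groth.Agent.Lib.Helper16.Sch.FibStalk
import Groth.Agent.Lib.Lead.Fib3
import Groth.Agent.Lib.Lead.Depth21

set_option autoImplicit false
set_option linter.style.haveILetI false
universe u

open AlgebraicGeometry CategoryTheory Limits IsLocalRing

namespace Groth.Agent.Helper16.FibCM

open Groth.Agent.Helper16.FibStalk Groth.Agent.Lead.Fib Groth.Agent.Lead.Depth

/-- CM local rings are invariant under ring isomorphisms. -/
theorem isCM_of_ringEquiv {A B : Type u} [CommRing A] [CommRing B] (e : A ≃+* B)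
    [hA : LocCoh.IsCohenMacaulayLocalRing A] : LocCoh.IsCohenMacaulayLocalRing B := by
  haveI : IsNoetherianRing B := isNoetherianRing_of_ringEquiv A e
  haveI : IsLocalRing B := e.isLocalRing
  rw [isCMLocal_iff] at hA ⊢
  rw [← depth_self_eq_of_ringEquiv e, ← hA]
  have h1 := IsLocalRing.maximalIdeal_height_eq_ringKrullDim (R := A)
  have h2 := IsLocalRing.maximalIdeal_height_eq_ringKrullDim (R := B)
  have h3 := ringKrullDim_eq_of_ringEquiv e
  rw [← h1, ← h2] at h3
  exact (WithBot.coe_injective h3).symm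

/-- ring level: flat local hom with CM target: source and fibre are CM. -/
theorem isCM_base_and_fibre {R S : Type u} [CommRing R] [CommRing S] [IsLocalRing R] [IsLocalRing S]
    [IsNoetherianRing R] [IsNoetherianRing S] [Algebra R S] [IsLocalHom (algebraMap R S)]
    [Module.Flat R S] (hS : LocCoh.IsCohenMacaulayLocalRing S)
    (I : Ideal S) (hI : I = (maximalIdeal R).map (algebraMap R S)) [IsLocalRing (S ⧸ I)] :
    LocCoh.IsCohenMacaulayLocalRing R ∧ LocCoh.IsCohenMacaulayLocalRing (S ⧸ I) := by
  have hd := depth_eq_add_fibre (R := R) (S := S) I hI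
  have hh := height_eq_add_fibre (R := R) (S := S) I hI
  have hcm := (isCMLocal_iff S).mp hS
  have le1 : LocCoh.depth R R ≤ (maximalIdeal R).height := by
    have := depth_le_supportDim (R := R) R
    rw [Module.supportDim_self_eq_ringKrullDim,
      ← IsLocalRing.maximalIdeal_height_eq_ringKrullDim] at this
    exact_mod_cast this
  have le2 : LocCoh.depth (S ⧸ I) (S ⧸ I) ≤ (maximalIdeal (S ⧸ I)).height := by
    have := depth_le_supportDim (R := S ⧸ I) (S ⧸ I)
    rw [Module.supportDim_self_eq_ringKrullDim,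
      ← IsLocalRing.maximalIdeal_height_eq_ringKrullDim] at this
    exact_mod_cast this
  have hfin1 : (maximalIdeal R).height ≠ ⊤ := Ideal.height_ne_top (maximalIdeal.isMaximal R).ne_top
  have hfin2 : (maximalIdeal (S ⧸ I)).height ≠ ⊤ :=
    Ideal.height_ne_top (maximalIdeal.isMaximal (S ⧸ I)).ne_top
  rw [hh, hd] at hcm
  have e1 : (maximalIdeal R).height = LocCoh.depth R R := by
    apply le_antisymm _ le1
    by_contra hlt
    push_neg at hlt
    have : LocCoh.depth R R + LocCoh.depth (S ⧸ I) (S ⧸ I) <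
        (maximalIdeal R).height + (maximalIdeal (S ⧸ I)).height :=
      ENat.add_lt_add_of_lt_of_le (ne_top_of_le_ne_top hfin2 le2) hlt le2
    exact absurd hcm.symm this.ne
  have e2 : (maximalIdeal (S ⧸ I)).height = LocCoh.depth (S ⧸ I) (S ⧸ I) := by
    rw [e1] at hcm
    exact ENat.add_right_injective_of_ne_top (e1 ▸ hfin1) hcm
  exact ⟨(isCMLocal_iff R).mpr e1, (isCMLocal_iff (S ⧸ I)).mpr e2⟩

end Groth.Agent.Helper16.FibCM
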