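import Mathlib
import Groth.Agent.Lib.Helper16.Sch.FibCM

set_option autoImplicit false
set_option linter.style.haveILetI false
universe u

open IsLocalRing

namespace Groth.Agent.Helper16.FibCM

open Groth.Agent.Lead.Fib Groth.Agent.Lead.Depth

/-- ring level: for a flat local hom of Noetherian local rings, target is CM iff source and closed
fibre are. -/
theorem isCM_iff_base_and_fibre {R S : Type u} [CommRing R] [CommRing S] [IsLocalRing R]
    [IsLocalRing S] [IsNoetherianRing R] [IsNoetherianRing S] [Algebra R S]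
    [IsLocalHom (algebraMap R S)] [Module.Flat R S]
    (I : Ideal S) (hI : I = (maximalIdeal R).map (algebraMap R S)) [IsLocalRing (S ⧸ I)] :
    LocCoh.IsCohenMacaulayLocalRing S ↔
      LocCoh.IsCohenMacaulayLocalRing R ∧ LocCoh.IsCohenMacaulayLocalRing (S ⧸ I) := by
  refine ⟨fun h => isCM_base_and_fibre h I hI, fun ⟨h1, h2⟩ => ?_⟩
  have hd := depth_eq_add_fibre (R := R) (S := S) I hI
  have hh := height_eq_add_fibre (R := R) (S := S) I hI
  rw [isCMLocal_iff] at h1 h2 ⊢
  rw [hh, hd, h1, h2]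

/-- quotient of a local ring by an ideal in the maximal ideal is local -/
theorem isLocalRing_quotient {R : Type u} [CommRing R] [IsLocalRing R] (I : Ideal R)
    (hI : I ≤ maximalIdeal R) : IsLocalRing (R ⧸ I) := by
  haveI : Nontrivial (R ⧸ I) := Ideal.Quotient.nontrivial_iff.mpr (fun h =>
    (maximalIdeal.isMaximal R).ne_top (top_le_iff.mp (h ▸ hI)))
  exact IsLocalRing.of_surjective' (Ideal.Quotient.mk I) Ideal.Quotient.mk_surjective

section Triple

variable {A B C : Type u} [CommRing A] [CommRing B] [CommRing C] [IsLocalRing A] [IsLocalRing B]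
  [IsLocalRing C] [Algebra A B] [Algebra B C] [Algebra A C] [IsScalarTower A B C]
  [IsLocalHom (algebraMap A B)] [IsLocalHom (algebraMap B C)]

/-- the ideal `m_A B` mapped to `C` is `m_A C` -/
theorem map_map_maximalIdeal :
    ((maximalIdeal A).map (algebraMap A B)).map (algebraMap B C) =
      (maximalIdeal A).map (algebraMap A C) := by
  rw [Ideal.map_map, ← IsScalarTower.algebraMap_eq]

theorem mAC_le_mBC :
    ((maximalIdeal A).map (algebraMap A B)).map (algebraMap B C) ≤
      (maximalIdeal B).map (algebraMap B C) :=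
  Ideal.map_mono (IsLocalRing.map_maximalIdeal_le (algebraMap A B))

variable (A B C) in
/-- key equivalence: `C/m_A C` is CM iff `B/m_A B` and `C/m_B C` are. -/
theorem isCM_triple_iff [Module.Flat B C]
    [hNB : IsNoetherianRing (B ⧸ (maximalIdeal A).map (algebraMap A B))]
    [hNC : IsNoetherianRing
      (C ⧸ ((maximalIdeal A).map (algebraMap A B)).map (algebraMap B C))] :
    LocCoh.IsCohenMacaulayLocalRing
        (C ⧸ ((maximalIdeal A).map (algebraMap A B)).map (algebraMap B C)) ↔
      LocCoh.IsCohenMacaulayLocalRing (B ⧸ (maximalIdeal A).map (algebraMap A B)) ∧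
        LocCoh.IsCohenMacaulayLocalRing (C ⧸ (maximalIdeal B).map (algebraMap B C)) := by
  set IB := (maximalIdeal A).map (algebraMap A B) with hIB
  set I' := IB.map (algebraMap B C) with hI'
  set JC := (maximalIdeal B).map (algebraMap B C) with hJC
  have hIBle : IB ≤ maximalIdeal B := IsLocalRing.map_maximalIdeal_le (algebraMap A B)
  have hJCle : JC ≤ maximalIdeal C := IsLocalRing.map_maximalIdeal_le (algebraMap B C)
  have hI'le : I' ≤ JC := mAC_le_mBC
  haveI : IsLocalRing (B ⧸ IB) := isLocalRing_quotient IB hIBle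
  haveI : IsLocalRing (C ⧸ I') := isLocalRing_quotient I' (hI'le.trans hJCle)
  haveI : IsLocalRing (C ⧸ JC) := isLocalRing_quotient JC hJCle
  haveI : Module.Flat (B ⧸ IB) (C ⧸ I') := Module.Flat.of_linearEquiv
    (Algebra.TensorProduct.quotIdealMapEquivQuotTensor C IB).toLinearEquiv
  have hmB : maximalIdeal (B ⧸ IB) = (maximalIdeal B).map (Ideal.Quotient.mk IB) :=
    (IsLocalRing.map_maximalIdeal_of_surjective _ Ideal.Quotient.mk_surjective).symm
  have hmC : maximalIdeal (C ⧸ I') = (maximalIdeal C).map (Ideal.Quotient.mk I') :=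
    (IsLocalRing.map_maximalIdeal_of_surjective _ Ideal.Quotient.mk_surjective).symm
  have hcomp : (algebraMap (B ⧸ IB) (C ⧸ I')).comp (Ideal.Quotient.mk IB) =
      (Ideal.Quotient.mk I').comp (algebraMap B C) := by
    ext b; rfl
  have hmap : (maximalIdeal (B ⧸ IB)).map (algebraMap (B ⧸ IB) (C ⧸ I')) =
      JC.map (Ideal.Quotient.mk I') := by
    rw [hmB, Ideal.map_map, hcomp, ← Ideal.map_map]
  haveI : IsLocalHom (algebraMap (B ⧸ IB) (C ⧸ I')) := by
    refine ((IsLocalRing.local_hom_TFAE (algebraMap (B ⧸ IB) (C ⧸ I'))).out 0 2).mpr ?_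
    rw [hmap, hmC]
    exact Ideal.map_mono hJCle
  let e : ((C ⧸ I') ⧸ JC.map (Ideal.Quotient.mk I')) ≃+* (C ⧸ JC) :=
    DoubleQuot.quotQuotEquivQuotOfLE hI'le
  haveI : IsLocalRing ((C ⧸ I') ⧸ JC.map (Ideal.Quotient.mk I')) := e.symm.isLocalRing
  rw [isCM_iff_base_and_fibre (R := B ⧸ IB) (S := C ⧸ I') (JC.map (Ideal.Quotient.mk I'))
    hmap.symm]
  exact and_congr_right fun _ =>
    ⟨fun h => @isCM_of_ringEquiv _ _ _ _ e h, fun h => @isCM_of_ringEquiv _ _ _ _ e.symm h⟩

end Triple

end Groth.Agent.Helper16.FibCM
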