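import Mathlib
import Groth.Agent.Lib.Helper16.Sch.FibCM2
import Groth.Prelude.Def_MoreMor
import Groth.Agent.Lib.Helper7.FlatDescent

set_option autoImplicit false
set_option linter.style.haveILetI false
universe u

open AlgebraicGeometry CategoryTheory Limits IsLocalRing

namespace Groth.Agent.Helper16.FibCM

open Groth.Agent.Helper16.FibStalk

theorem isCMAt_comp {X Y Z : Scheme.{u}} (f : X ⟶ Y) (g : Y ⟶ Z) (x : X)
    (hN : IsLocallyNoetherian ((f ≫ g).fiber (g (f x))))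
    (hf : MoreMor.IsCMAt f x) (hg : MoreMor.IsCMAt g (f x)) : MoreMor.IsCMAt (f ≫ g) x := by
  letI aAB : Algebra (Z.presheaf.stalk (g (f x))) (Y.presheaf.stalk (f x)) :=
    (g.stalkMap (f x)).hom.toAlgebra
  letI aBC : Algebra (Y.presheaf.stalk (f x)) (X.presheaf.stalk x) := (f.stalkMap x).hom.toAlgebra
  letI aAC : Algebra (Z.presheaf.stalk (g (f x))) (X.presheaf.stalk x) :=
    ((f ≫ g).stalkMap x).hom.toAlgebra
  haveI : IsScalarTower (Z.presheaf.stalk (g (f x))) (Y.presheaf.stalk (f x))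
      (X.presheaf.stalk x) := IsScalarTower.of_algebraMap_eq' (by
    change ((f ≫ g).stalkMap x).hom = (f.stalkMap x).hom.comp (g.stalkMap (f x)).hom
    rw [Scheme.Hom.stalkMap_comp]; rfl)
  haveI : IsLocalHom (algebraMap (Z.presheaf.stalk (g (f x))) (Y.presheaf.stalk (f x))) :=
    inferInstanceAs (IsLocalHom (g.stalkMap (f x)).hom)
  haveI : IsLocalHom (algebraMap (Y.presheaf.stalk (f x)) (X.presheaf.stalk x)) :=
    inferInstanceAs (IsLocalHom (f.stalkMap x).hom)
  obtain ⟨hf1, hf2⟩ := hf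
  obtain ⟨hg1, hg2⟩ := hg
  haveI : Module.Flat (Y.presheaf.stalk (f x)) (X.presheaf.stalk x) := hf1
  have cmB : LocCoh.IsCohenMacaulayLocalRing (Y.presheaf.stalk (f x) ⧸
      (maximalIdeal (Z.presheaf.stalk (g (f x)))).map
        (algebraMap (Z.presheaf.stalk (g (f x))) (Y.presheaf.stalk (f x)))) :=
    @isCM_of_ringEquiv _ _ _ _ (fibStalkEquiv g (f x)).symm hg2
  have cmC : LocCoh.IsCohenMacaulayLocalRing (X.presheaf.stalk x ⧸
      (maximalIdeal (Y.presheaf.stalk (f x))).map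
        (algebraMap (Y.presheaf.stalk (f x)) (X.presheaf.stalk x))) :=
    @isCM_of_ringEquiv _ _ _ _ (fibStalkEquiv f x).symm hf2
  haveI : IsNoetherianRing (Y.presheaf.stalk (f x) ⧸
      (maximalIdeal (Z.presheaf.stalk (g (f x)))).map
        (algebraMap (Z.presheaf.stalk (g (f x))) (Y.presheaf.stalk (f x)))) := by
    haveI := cmB; infer_instance
  have hIeq := map_map_maximalIdeal (A := Z.presheaf.stalk (g (f x)))
    (B := Y.presheaf.stalk (f x)) (C := X.presheaf.stalk x)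
  let e0 : (X.presheaf.stalk x ⧸ ((maximalIdeal (Z.presheaf.stalk (g (f x)))).map
        (algebraMap (Z.presheaf.stalk (g (f x))) (Y.presheaf.stalk (f x)))).map
        (algebraMap (Y.presheaf.stalk (f x)) (X.presheaf.stalk x))) ≃+*
      (X.presheaf.stalk x ⧸ fibIdeal (f ≫ g) x) := Ideal.quotEquivOfEq hIeq
  haveI hNst : IsNoetherianRing (((f ≫ g).fiber ((f ≫ g) x)).presheaf.stalk ((f ≫ g).asFiber x)) :=
by
    haveI hN' : IsLocallyNoetherian ((f ≫ g).fiber ((f ≫ g) x)) := hN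
    infer_instance
  haveI : IsNoetherianRing (X.presheaf.stalk x ⧸ ((maximalIdeal (Z.presheaf.stalk (g (f x)))).map
        (algebraMap (Z.presheaf.stalk (g (f x))) (Y.presheaf.stalk (f x)))).map
        (algebraMap (Y.presheaf.stalk (f x)) (X.presheaf.stalk x))) :=
    isNoetherianRing_of_ringEquiv _ ((fibStalkEquiv (f ≫ g) x).symm.trans e0.symm)
  have key := (isCM_triple_iff (Z.presheaf.stalk (g (f x))) (Y.presheaf.stalk (f x))
    (X.presheaf.stalk x)).mpr ⟨cmB, cmC⟩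
  refine ⟨?_, @isCM_of_ringEquiv _ _ _ _ (e0.trans (fibStalkEquiv (f ≫ g) x)) key⟩
  have hcomp : ((f ≫ g).stalkMap x).hom = (f.stalkMap x).hom.comp (g.stalkMap (f x)).hom := by
    rw [Scheme.Hom.stalkMap_comp]; rfl
  rw [hcomp]
  exact RingHom.Flat.comp hg1 hf1

theorem isCMAt_of_comp {X Y Z : Scheme.{u}} (f : X ⟶ Y) (g : Y ⟶ Z) (x : X)
    (hNg : IsLocallyNoetherian (g.fiber (g (f x))))
    (h : MoreMor.IsCMAt (f ≫ g) x) (hfl : (f.stalkMap x).hom.Flat) :
    MoreMor.IsCMAt f x ∧ MoreMor.IsCMAt g (f x) := by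
  letI aAB : Algebra (Z.presheaf.stalk (g (f x))) (Y.presheaf.stalk (f x)) :=
    (g.stalkMap (f x)).hom.toAlgebra
  letI aBC : Algebra (Y.presheaf.stalk (f x)) (X.presheaf.stalk x) := (f.stalkMap x).hom.toAlgebra
  letI aAC : Algebra (Z.presheaf.stalk (g (f x))) (X.presheaf.stalk x) :=
    ((f ≫ g).stalkMap x).hom.toAlgebra
  have hcomp : ((f ≫ g).stalkMap x).hom = (f.stalkMap x).hom.comp (g.stalkMap (f x)).hom := by
    rw [Scheme.Hom.stalkMap_comp]; rfl
  haveI : IsScalarTower (Z.presheaf.stalk (g (f x))) (Y.presheaf.stalk (f x))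
      (X.presheaf.stalk x) := IsScalarTower.of_algebraMap_eq' hcomp
  haveI : IsLocalHom (algebraMap (Z.presheaf.stalk (g (f x))) (Y.presheaf.stalk (f x))) :=
    inferInstanceAs (IsLocalHom (g.stalkMap (f x)).hom)
  haveI : IsLocalHom (algebraMap (Y.presheaf.stalk (f x)) (X.presheaf.stalk x)) :=
    inferInstanceAs (IsLocalHom (f.stalkMap x).hom)
  obtain ⟨h1, h2⟩ := h
  haveI : Module.Flat (Y.presheaf.stalk (f x)) (X.presheaf.stalk x) := hfl
  have hIeq := map_map_maximalIdeal (A := Z.presheaf.stalk (g (f x)))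
    (B := Y.presheaf.stalk (f x)) (C := X.presheaf.stalk x)
  let e0 : (X.presheaf.stalk x ⧸ ((maximalIdeal (Z.presheaf.stalk (g (f x)))).map
        (algebraMap (Z.presheaf.stalk (g (f x))) (Y.presheaf.stalk (f x)))).map
        (algebraMap (Y.presheaf.stalk (f x)) (X.presheaf.stalk x))) ≃+*
      (X.presheaf.stalk x ⧸ fibIdeal (f ≫ g) x) := Ideal.quotEquivOfEq hIeq
  have cmC' : LocCoh.IsCohenMacaulayLocalRing (X.presheaf.stalk x ⧸
      ((maximalIdeal (Z.presheaf.stalk (g (f x)))).map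
        (algebraMap (Z.presheaf.stalk (g (f x))) (Y.presheaf.stalk (f x)))).map
        (algebraMap (Y.presheaf.stalk (f x)) (X.presheaf.stalk x))) :=
    @isCM_of_ringEquiv _ _ _ _ ((fibStalkEquiv (f ≫ g) x).symm.trans e0.symm) h2
  haveI : IsNoetherianRing (X.presheaf.stalk x ⧸
      ((maximalIdeal (Z.presheaf.stalk (g (f x)))).map
        (algebraMap (Z.presheaf.stalk (g (f x))) (Y.presheaf.stalk (f x)))).map
        (algebraMap (Y.presheaf.stalk (f x)) (X.presheaf.stalk x))) := by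
    haveI := cmC'; infer_instance
  haveI hNst : IsNoetherianRing ((g.fiber (g (f x))).presheaf.stalk (g.asFiber (f x))) := by
    haveI := hNg; infer_instance
  haveI : IsNoetherianRing (Y.presheaf.stalk (f x) ⧸
      (maximalIdeal (Z.presheaf.stalk (g (f x)))).map
        (algebraMap (Z.presheaf.stalk (g (f x))) (Y.presheaf.stalk (f x)))) :=
    isNoetherianRing_of_ringEquiv _ (fibStalkEquiv g (f x)).symm
  obtain ⟨cmB, cmC⟩ := (isCM_triple_iff (Z.presheaf.stalk (g (f x))) (Y.presheaf.stalk (f x))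
    (X.presheaf.stalk x)).mp cmC'
  refine ⟨⟨hfl, @isCM_of_ringEquiv _ _ _ _ (fibStalkEquiv f x) cmC⟩,
    ⟨?_, @isCM_of_ringEquiv _ _ _ _ (fibStalkEquiv g (f x)) cmB⟩⟩
  rw [hcomp] at h1
  exact Groth.Agent.Helper7.ringHom_flat_of_comp_of_flat_isLocalHom _ _ hfl h1

end Groth.Agent.Helper16.FibCM
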