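import Mathlib
import Groth.Agent.Lib.Helper2.GenericFreeMain

set_option autoImplicit false
set_option linter.style.haveILetI false
universe u

namespace Groth.Agent.Helper16.GenRed

open Groth.Agent.Helper2.GenericFree TensorProduct
open scoped nonZeroDivisors

attribute [local instance] Algebra.TensorProduct.rightAlgebra

/-- Generic non-reducedness over a domain. -/
theorem not_isReduced_tensor_of_generic {A K B : Type u} [CommRing A] [IsDomain A] [Field K]
    [Algebra A K] [IsFractionRing A K] [CommRing B] [Algebra A B] [Algebra.FiniteType A B]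
    (h : ¬ IsReduced (K ⊗[A] B)) :
    ∃ a : A, a ≠ 0 ∧ ∀ (L : Type u) [Field L] [Algebra A L], algebraMap A L a ≠ 0 →
      ¬ IsReduced (L ⊗[A] B) := by
  obtain ⟨ξ, hξnil, hξ0⟩ : ∃ ξ : K ⊗[A] B, IsNilpotent ξ ∧ ξ ≠ 0 := by
    by_contra hcon
    push Not at hcon
    exact h ⟨fun x hx => hcon x hx⟩
  haveI : IsLocalization (Algebra.algebraMapSubmonoid B A⁰) (K ⊗[A] B) :=
    inferInstance
  obtain ⟨⟨b, s⟩, hbs⟩ := IsLocalization.surj (Algebra.algebraMapSubmonoid B A⁰) ξ
  have hunit : IsUnit (algebraMap B (K ⊗[A] B) s) := IsLocalization.map_units _ s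
  have hb_nil : IsNilpotent (algebraMap B (K ⊗[A] B) b) := by
    rw [← hbs]; exact (Commute.all _ _).isNilpotent_mul_right hξnil
  have hb_ne : algebraMap B (K ⊗[A] B) b ≠ 0 := by
    rw [← hbs]; intro h0; exact hξ0 (hunit.mul_left_eq_zero.mp h0)
  obtain ⟨n, hn⟩ := hb_nil
  rw [← map_pow, IsLocalization.map_eq_zero_iff (Algebra.algebraMapSubmonoid B A⁰)] at hn
  obtain ⟨⟨_, a₁, ha₁, rfl⟩, hm⟩ := hn
  have ha₁0 : a₁ ≠ 0 := nonZeroDivisors.ne_zero ha₁
  have htors : ∀ a : A, a ≠ 0 → algebraMap A B a * b ≠ 0 := by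
    intro a ha h0
    apply hb_ne
    rw [IsLocalization.map_eq_zero_iff (Algebra.algebraMapSubmonoid B A⁰)]
    exact ⟨⟨_, a, mem_nonZeroDivisors_of_ne_zero ha, rfl⟩, h0⟩
  obtain ⟨f, hf0, hf⟩ := exists_gfree (R := A) B B
  haveI := hf.free_localizedModule
  let e := Module.Free.chooseBasis (Localization.Away f) (LocalizedModule.Away f B)
  have hb'0 : LocalizedModule.mkLinearMap (Submonoid.powers f) B b ≠ 0 := by
    intro h0
    rw [LocalizedModule.mkLinearMap_apply, ← LocalizedModule.zero_mk 1, LocalizedModule.mk_eq] at h0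
    obtain ⟨⟨_, k, rfl⟩, hk⟩ := h0
    simp only [one_smul, smul_zero, Submonoid.smul_def] at hk
    exact htors (f ^ k) (pow_ne_zero k hf0) (by rw [← Algebra.smul_def]; exact hk)
  obtain ⟨i, hi⟩ : ∃ i, e.repr (LocalizedModule.mkLinearMap (Submonoid.powers f) B b) i ≠ 0 := by
    by_contra hcon
    push Not at hcon
    apply hb'0
    apply e.repr.injective
    ext i
    rw [hcon i, map_zero, Finsupp.zero_apply]
  obtain ⟨⟨c, ⟨_, m, rfl⟩⟩, hc⟩ := IsLocalization.surj (Submonoid.powers f)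
    (e.repr (LocalizedModule.mkLinearMap (Submonoid.powers f) B b) i)
  have hc0 : c ≠ 0 := by
    rintro rfl
    rw [map_zero] at hc
    exact hi ((IsLocalization.map_units (Localization.Away f)
      (⟨f ^ m, m, rfl⟩ : Submonoid.powers f)).mul_left_eq_zero.mp hc)
  refine ⟨a₁ * f * c, mul_ne_zero (mul_ne_zero ha₁0 hf0) hc0, ?_⟩
  intro L _ _ haL hred
  rw [map_mul, map_mul] at haL
  have ha₁L : algebraMap A L a₁ ≠ 0 := fun h => haL (by rw [h, zero_mul, zero_mul])
  have hfL : algebraMap A L f ≠ 0 := fun h => haL (by rw [h, mul_zero, zero_mul])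
  have hcL : algebraMap A L c ≠ 0 := fun h => haL (by rw [h, mul_zero])
  have hnilL : ((1 : L) ⊗ₜ[A] b) ^ n = 0 := by
    rw [Algebra.TensorProduct.tmul_pow, one_pow]
    have h1 : ((algebraMap A L a₁)⁻¹ : L) ⊗ₜ[A] (a₁ • b ^ n) = 0 := by
      rw [Algebra.smul_def, hm, tmul_zero]
    rw [TensorProduct.tmul_smul, TensorProduct.smul_tmul', Algebra.smul_def,
      mul_inv_cancel₀ ha₁L] at h1
    exact h1
  have h10 : ((1 : L) ⊗ₜ[A] b) = 0 := hred.eq_zero _ ⟨n, hnilL⟩
  let ψ : Localization.Away f →ₐ[A] L :=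
    IsLocalization.liftAlgHom (M := Submonoid.powers f) (f := Algebra.ofId A L)
      (by rintro ⟨_, k, rfl⟩; simpa using (pow_ne_zero k hfL).isUnit)
  let lam : B →ₗ[A] L := ψ.toLinearMap ∘ₗ ((e.coord i).restrictScalars A) ∘ₗ
    (LocalizedModule.mkLinearMap (Submonoid.powers f) B)
  have hlam : lam b ≠ 0 := by
    intro h0
    have h2 : ψ (e.repr (LocalizedModule.mkLinearMap (Submonoid.powers f) B b) i) = 0 := h0
    have h3 := congrArg ψ hc
    rw [map_mul, h2, zero_mul] at h3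
    have h4 : ψ (algebraMap A (Localization.Away f) c) = algebraMap A L c := ψ.commutes c
    rw [h4] at h3
    exact hcL h3.symm
  let Lam : L ⊗[A] B →ₗ[A] L := LinearMap.mul' A L ∘ₗ LinearMap.lTensor L lam
  have hLam : Lam ((1 : L) ⊗ₜ[A] b) = lam b := by
    simp [Lam]
  rw [h10, map_zero] at hLam
  exact hlam hLam.symm

end Groth.Agent.Helper16.GenRed
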