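import Mathlib
import Groth.Agent.Lib.Helper16.Sch.GenRed1

set_option autoImplicit false
set_option linter.style.haveILetI false
universe u

namespace Groth.Agent.Helper16.GenRed

open TensorProduct
open scoped nonZeroDivisors

/-- a field algebra over `R` is an algebra over `R ⧸ nilradical R` -/
@[reducible] def algebraQuotNilradical (R L : Type u) [CommRing R] [Field L] [Algebra R L] :
    Algebra (R ⧸ nilradical R) L :=
  (Ideal.Quotient.lift (nilradical R) (algebraMap R L) (fun r hr => by
    obtain ⟨n, hn⟩ := mem_nilradical.mp hr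
    have : (algebraMap R L r) ^ n = 0 := by rw [← map_pow, hn, map_zero]
    exact pow_eq_zero_iff (n := n) (by
      rintro rfl; rw [pow_zero] at this; exact one_ne_zero this) |>.mp this)).toAlgebra

lemma isScalarTower_quotNilradical (R L : Type u) [CommRing R] [Field L] [Algebra R L] :
    letI := algebraQuotNilradical R L
    IsScalarTower R (R ⧸ nilradical R) L := by
  letI := algebraQuotNilradical R L
  exact IsScalarTower.of_algebraMap_eq' rfl

/-- Generic non-reducedness over a ring with prime nilradical. -/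
theorem not_isReduced_tensor_of_generic' {R K₀ B : Type u} [CommRing R] [Field K₀]
    [Algebra R K₀] [CommRing B] [Algebra R B] [Algebra.FiniteType R B]
    (hn : (nilradical R).IsPrime)
    (h1 : ∀ r : R, algebraMap R K₀ r = 0 → IsNilpotent r)
    (h2 : ∀ z : K₀, ∃ x y : R, z = algebraMap R K₀ x / algebraMap R K₀ y)
    (h : ¬ IsReduced (K₀ ⊗[R] B)) :
    ∃ a : R, ¬ IsNilpotent a ∧ ∀ (L : Type u) [Field L] [Algebra R L], algebraMap R L a ≠ 0 →
      ¬ IsReduced (L ⊗[R] B) := by
  haveI : IsDomain (R ⧸ nilradical R) := Ideal.Quotient.isDomain _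
  letI : Algebra (R ⧸ nilradical R) K₀ := algebraQuotNilradical R K₀
  haveI : IsScalarTower R (R ⧸ nilradical R) K₀ := isScalarTower_quotNilradical R K₀
  haveI : FaithfulSMul (R ⧸ nilradical R) K₀ := by
    rw [faithfulSMul_iff_algebraMap_injective, injective_iff_map_eq_zero]
    intro x hx
    obtain ⟨r, rfl⟩ := Ideal.Quotient.mk_surjective x
    exact Ideal.Quotient.eq_zero_iff_mem.mpr (mem_nilradical.mpr (h1 r hx))
  haveI : IsFractionRing (R ⧸ nilradical R) K₀ := by
    refine IsFractionRing.of_field (R := R ⧸ nilradical R) (K := K₀) (fun z => ?_)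
    obtain ⟨x, y, rfl⟩ := h2 z
    exact ⟨Ideal.Quotient.mk _ x, Ideal.Quotient.mk _ y, rfl⟩
  have hA : ¬ IsReduced (K₀ ⊗[R ⧸ nilradical R] ((R ⧸ nilradical R) ⊗[R] B)) := by
    intro hred
    apply h
    exact isReduced_of_injective
      (Algebra.TensorProduct.cancelBaseChange R (R ⧸ nilradical R) K₀ K₀ B).symm
      (Algebra.TensorProduct.cancelBaseChange R (R ⧸ nilradical R) K₀ K₀ B).symm.injective
  obtain ⟨a, ha0, ha⟩ := not_isReduced_tensor_of_generic hA
  obtain ⟨a, rfl⟩ := Ideal.Quotient.mk_surjective a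
  refine ⟨a, fun hnil => ha0 (Ideal.Quotient.eq_zero_iff_mem.mpr (mem_nilradical.mpr hnil)), ?_⟩
  intro L _ _ haL hred
  letI : Algebra (R ⧸ nilradical R) L := algebraQuotNilradical R L
  haveI : IsScalarTower R (R ⧸ nilradical R) L := isScalarTower_quotNilradical R L
  refine ha L haL ?_
  exact isReduced_of_injective
    (Algebra.TensorProduct.cancelBaseChange R (R ⧸ nilradical R) L L B)
    (Algebra.TensorProduct.cancelBaseChange R (R ⧸ nilradical R) L L B).injective

end Groth.Agent.Helper16.GenRed
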