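import Mathlib
import Groth.Agent.Lib.Helper16.Sch.GenRed2

set_option autoImplicit false
set_option linter.style.haveILetI false
universe u

namespace Groth.Agent.Helper16.GenND

open TensorProduct Groth.Agent.Helper16.GenRed
open scoped nonZeroDivisors

attribute [local instance] Algebra.TensorProduct.rightAlgebra

/-- The generic fibre of a reduced algebra over a ring with prime nilradical is reduced. -/
theorem isReduced_tensor_of_isReduced {R K₀ B : Type u} [CommRing R] [Field K₀] [Algebra R K₀]
    [CommRing B] [Algebra R B] [IsReduced B]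
    (hn : (nilradical R).IsPrime)
    (h1 : ∀ r : R, algebraMap R K₀ r = 0 → IsNilpotent r)
    (h2 : ∀ z : K₀, ∃ x y : R, z = algebraMap R K₀ x / algebraMap R K₀ y) :
    IsReduced (K₀ ⊗[R] B) := by
  haveI : IsDomain (R ⧸ nilradical R) := Ideal.Quotient.isDomain _
  letI : Algebra (R ⧸ nilradical R) K₀ := algebraQuotNilradical R K₀
  haveI : IsScalarTower R (R ⧸ nilradical R) K₀ := isScalarTower_quotNilradical R K₀
  haveI : FaithfulSMul (R ⧸ nilradical R) K₀ := by
    rw [faithfulSMul_iff_algebraMap_injective, injective_iff_map_eq_zero]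
    intro x hx
    obtain ⟨r, rfl⟩ := Ideal.Quotient.mk_surjective x
    exact Ideal.Quotient.eq_zero_iff_mem.mpr (mem_nilradical.mpr (h1 r hx))
  haveI : IsFractionRing (R ⧸ nilradical R) K₀ := by
    refine IsFractionRing.of_field (R := R ⧸ nilradical R) (K := K₀) (fun z => ?_)
    obtain ⟨x, y, rfl⟩ := h2 z
    exact ⟨Ideal.Quotient.mk _ x, Ideal.Quotient.mk _ y, rfl⟩
  have hJ : (nilradical R).map (algebraMap R B) = ⊥ := by
    rw [eq_bot_iff, Ideal.map_le_iff_le_comap]
    intro r hr
    rw [Ideal.mem_comap, Ideal.mem_bot]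
    exact (mem_nilradical.mp hr).map (algebraMap R B) |>.eq_zero
  haveI hred1 : IsReduced (B ⧸ (nilradical R).map (algebraMap R B)) := by
    rw [← Ideal.isRadical_iff_quotient_reduced, hJ]
    exact Ideal.isRadical_bot
  haveI hred2 : IsReduced ((R ⧸ nilradical R) ⊗[R] B) := by
    let φ : (R ⧸ nilradical R) ⊗[R] B →+* B ⧸ (nilradical R).map (algebraMap R B) :=
      ((Algebra.TensorProduct.quotIdealMapEquivTensorQuot B (nilradical R)).symm.toRingEquiv.toRingHom).comp
        (Algebra.TensorProduct.comm R (R ⧸ nilradical R) B).toRingEquiv.toRingHom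
    have hφ : Function.Injective φ :=
      (Algebra.TensorProduct.quotIdealMapEquivTensorQuot B (nilradical R)).symm.injective.comp
        (Algebra.TensorProduct.comm R (R ⧸ nilradical R) B).injective
    exact isReduced_of_injective φ hφ
  haveI : IsLocalization (Algebra.algebraMapSubmonoid ((R ⧸ nilradical R) ⊗[R] B)
      (R ⧸ nilradical R)⁰) (K₀ ⊗[R ⧸ nilradical R] ((R ⧸ nilradical R) ⊗[R] B)) := inferInstance
  haveI hred3 : IsReduced (K₀ ⊗[R ⧸ nilradical R] ((R ⧸ nilradical R) ⊗[R] B)) :=
    isReduced_localizationPreserves (Algebra.algebraMapSubmonoid ((R ⧸ nilradical R) ⊗[R] B)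
      (R ⧸ nilradical R)⁰) (K₀ ⊗[R ⧸ nilradical R] ((R ⧸ nilradical R) ⊗[R] B)) hred2
  exact isReduced_of_injective
    (Algebra.TensorProduct.cancelBaseChange R (R ⧸ nilradical R) K₀ K₀ B).symm
    (Algebra.TensorProduct.cancelBaseChange R (R ⧸ nilradical R) K₀ K₀ B).symm.injective

end Groth.Agent.Helper16.GenND
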