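import Mathlib
import Groth.Agent.Lib.Helper2.GenericFreeMain

set_option autoImplicit false
set_option linter.style.haveILetI false
universe u

namespace Groth.Agent.Helper16.GenPt

open Groth.Agent.Helper2.GenericFree

/-- an element of a minimal prime is nilpotent locally at that prime -/
lemma exists_mul_pow_eq_zero_of_mem_minimalPrimes {C : Type*} [CommRing C] {q : Ideal C}
    (hq : q ∈ minimalPrimes C) {x : C} (hx : x ∈ q) : ∃ s ∉ q, ∃ n : ℕ, s * x ^ n = 0 := by
  haveI hqp : q.IsPrime := hq.1.1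
  by_contra hcon
  push Not at hcon
  let S : Submonoid C := q.primeCompl ⊔ Submonoid.powers x
  have hdisj : Disjoint ((⊥ : Ideal C) : Set C) (S : Set C) := by
    rw [Set.disjoint_left]
    intro z hz hzS
    rw [SetLike.mem_coe, Ideal.mem_bot] at hz
    obtain ⟨s, hs, t, ⟨n, rfl⟩, hst⟩ := Submonoid.mem_sup.mp hzS
    exact hcon s hs n (hst.trans hz)
  obtain ⟨P, hP, -, hPS⟩ := Ideal.exists_le_prime_disjoint ⊥ S hdisj
  have hPq : P ≤ q := by
    intro p hp
    by_contra hpq
    exact Set.disjoint_left.mp hPS hp (Submonoid.mem_sup_left (show p ∈ q.primeCompl from hpq))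
  have hxP : x ∉ P := fun h =>
    Set.disjoint_left.mp hPS h (Submonoid.mem_sup_right (Submonoid.mem_powers x))
  exact hxP (hq.2 ⟨hP, bot_le⟩ hPq hx)

/-- over a generically free algebra, minimal primes away from `f` lie over the zero ideal -/
theorem comap_eq_bot_of_gfree {A C : Type u} [CommRing A] [IsDomain A] [CommRing C] [Algebra A C]
    {f : A} (hf : GFree f C) {q : Ideal C} (hq : q ∈ minimalPrimes C)
    (hfq : algebraMap A C f ∉ q) : q.comap (algebraMap A C) = ⊥ := by
  haveI hqp : q.IsPrime := hq.1.1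
  rw [eq_bot_iff]
  intro r hr
  rw [Ideal.mem_comap] at hr
  rw [Ideal.mem_bot]
  by_contra hr0
  obtain ⟨s, hs, n, hsn⟩ := exists_mul_pow_eq_zero_of_mem_minimalPrimes hq hr
  obtain ⟨ι, φ, hinj, hsurj⟩ := hf
  obtain ⟨k, y, hy⟩ := hsurj s
  have h1 : φ (r ^ n • y) = 0 := by
    rw [map_smul, hy, smul_comm, Algebra.smul_def (r ^ n) s, map_pow, mul_comm, hsn, smul_zero]
  have h2 : r ^ n • y = 0 := hinj _ 0 (by rw [pow_zero, one_smul, h1])
  have h3 : y = 0 := by
    rcases smul_eq_zero.mp h2 with h | h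
    · exact absurd h (pow_ne_zero n hr0)
    · exact h
  rw [h3, map_zero] at hy
  have h4 : algebraMap A C f ^ k * s ∈ q := by
    rw [← map_pow, ← Algebra.smul_def, ← hy]; exact q.zero_mem
  rcases hqp.mem_or_mem h4 with h | h
  · exact hfq (hqp.mem_of_pow_mem _ h)
  · exact hs h

/-- finite type algebra over a domain: away from some `f ≠ 0`, every prime contains a prime
lying over zero. -/
theorem exists_forall_exists_le_comap_eq_bot (A C : Type u) [CommRing A] [IsDomain A] [CommRing C]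
    [Algebra A C] [Algebra.FiniteType A C] :
    ∃ f : A, f ≠ 0 ∧ ∀ q : Ideal C, q.IsPrime → algebraMap A C f ∉ q →
      ∃ q' : Ideal C, q'.IsPrime ∧ q' ≤ q ∧ q'.comap (algebraMap A C) = ⊥ := by
  obtain ⟨f, hf0, hf⟩ := exists_gfree (R := A) C C
  refine ⟨f, hf0, fun q hq hfq => ?_⟩
  obtain ⟨q', hq', hle⟩ := Ideal.exists_minimalPrimes_le (I := ⊥) (J := q) bot_le
  exact ⟨q', hq'.1.1, hle, comap_eq_bot_of_gfree hf hq' (fun h => hfq (hle h))⟩

end Groth.Agent.Helper16.GenPt
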