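import Mathlib
import Groth.Agent.Lib.Helper16.Sch.GenPt1

set_option autoImplicit false
set_option linter.style.haveILetI false
universe u

namespace Groth.Agent.Helper16.GenPt

/-- finite type algebra over a ring with prime nilradical: away from some non-nilpotent `a`,
every prime contains a prime lying over the nilradical. -/
theorem exists_forall_exists_le_comap_eq_nilradical (R B : Type u) [CommRing R] [CommRing B]
    [Algebra R B] [Algebra.FiniteType R B] (hn : (nilradical R).IsPrime) :
    ∃ a : R, a ∉ nilradical R ∧ ∀ q : Ideal B, q.IsPrime → algebraMap R B a ∉ q →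
      ∃ q' : Ideal B, q'.IsPrime ∧ q' ≤ q ∧ q'.comap (algebraMap R B) = nilradical R := by
  set J : Ideal B := (nilradical R).map (algebraMap R B) with hJ
  haveI : IsDomain (R ⧸ nilradical R) := Ideal.Quotient.isDomain _
  haveI : Algebra.FiniteType R (B ⧸ J) :=
    Algebra.FiniteType.of_surjective (Ideal.Quotient.mkₐ R J) Ideal.Quotient.mk_surjective
  haveI : Algebra.FiniteType (R ⧸ nilradical R) (B ⧸ J) :=
    Algebra.FiniteType.of_restrictScalars_finiteType R _ _
  obtain ⟨f, hf0, hf⟩ := exists_forall_exists_le_comap_eq_bot (R ⧸ nilradical R) (B ⧸ J)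
  obtain ⟨a, rfl⟩ := Ideal.Quotient.mk_surjective f
  refine ⟨a, fun h => hf0 (Ideal.Quotient.eq_zero_iff_mem.mpr h), fun q hq haq => ?_⟩
  have hJq : J ≤ q := by
    rw [hJ, Ideal.map_le_iff_le_comap]
    haveI := hq.comap (algebraMap R B)
    exact nilradical_le_prime _
  have hqbar : (q.map (Ideal.Quotient.mk J)).IsPrime :=
    Ideal.map_isPrime_of_surjective Ideal.Quotient.mk_surjective (by rwa [Ideal.mk_ker])
  have hnot : algebraMap (R ⧸ nilradical R) (B ⧸ J) (Ideal.Quotient.mk _ a) ∉
      q.map (Ideal.Quotient.mk J) := by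
    rw [Ideal.Quotient.algebraMap_quotient_map_quotient, Ideal.mem_quotient_iff_mem hJq]
    exact haq
  obtain ⟨q', hq', hle, hcomap⟩ := hf _ hqbar hnot
  refine ⟨q'.comap (Ideal.Quotient.mk J), hq'.comap _, ?_, ?_⟩
  · intro x hx
    rw [Ideal.mem_comap] at hx
    exact (Ideal.mem_quotient_iff_mem hJq).mp (hle hx)
  · ext r
    rw [Ideal.mem_comap, Ideal.mem_comap, ← Ideal.Quotient.algebraMap_quotient_map_quotient,
      ← Ideal.mem_comap, hcomap, Ideal.mem_bot, Ideal.Quotient.eq_zero_iff_mem]

end Groth.Agent.Helper16.GenPt
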