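import Mathlib
import Groth.Agent.Lib.Helper16.Sch.GenPt2

set_option autoImplicit false
set_option linter.style.haveILetI false
universe u
open CategoryTheory CategoryTheory.Limits AlgebraicGeometry Opposite TopologicalSpace

noncomputable section

namespace Groth.Agent.Helper16.GenPt

/-- chart version of "points near the generic fibre are specializations of points of the generic
fibre". -/
theorem exists_basicOpen_chart {X Y : Scheme.{u}} (f : X ⟶ Y) [LocallyOfFiniteType f]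
    (W : Y.Opens) (hW : IsAffineOpen W) (hn : (nilradical Γ(Y, W)).IsPrime)
    (U : X.Opens) (hU : IsAffineOpen U) (e : U ≤ f ⁻¹ᵁ W) :
    ∃ a : Γ(Y, W), a ∉ nilradical Γ(Y, W) ∧ ∀ x ∈ U, f x ∈ Y.basicOpen a →
      ∃ x' : X, x' ⤳ x ∧ f x' = hW.fromSpec ⟨nilradical Γ(Y, W), hn⟩ := by
  letI : Algebra Γ(Y, W) Γ(X, U) := (f.appLE W U e).hom.toAlgebra
  haveI : Algebra.FiniteType Γ(Y, W) Γ(X, U) := f.finiteType_appLE hW hU e
  obtain ⟨a, ha, H⟩ := exists_forall_exists_le_comap_eq_nilradical Γ(Y, W) Γ(X, U) hn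
  refine ⟨a, ha, fun x hxU hfx => ?_⟩
  have hsq := IsAffineOpen.SpecMap_appLE_fromSpec f hW hU e
  have hx : hU.fromSpec (hU.primeIdealOf ⟨x, hxU⟩) = x := hU.fromSpec_primeIdealOf ⟨x, hxU⟩
  have hnot : algebraMap Γ(Y, W) Γ(X, U) a ∉ (hU.primeIdealOf ⟨x, hxU⟩).asIdeal := by
    intro hmem
    have h1 : hW.fromSpec (Spec.map (f.appLE W U e) (hU.primeIdealOf ⟨x, hxU⟩)) = f x := by
      rw [← Scheme.Hom.comp_apply, hsq, Scheme.Hom.comp_apply, hx]
    have h2 : Spec.map (f.appLE W U e) (hU.primeIdealOf ⟨x, hxU⟩) ∈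
        hW.fromSpec ⁻¹ᵁ Y.basicOpen a := by
      show hW.fromSpec _ ∈ Y.basicOpen a
      rw [h1]; exact hfx
    rw [hW.fromSpec_preimage_basicOpen] at h2
    exact h2 hmem
  obtain ⟨q', hq', hle, hc⟩ := H _ (hU.primeIdealOf ⟨x, hxU⟩).isPrime hnot
  refine ⟨hU.fromSpec ⟨q', hq'⟩, ?_, ?_⟩
  · rw [← hx]
    have h3 : @Specializes (PrimeSpectrum Γ(X, U)) _ ⟨q', hq'⟩ (hU.primeIdealOf ⟨x, hxU⟩) :=
      (PrimeSpectrum.le_iff_specializes _ _).mp hle
    exact h3.map hU.fromSpec.continuous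
  · rw [← Scheme.Hom.comp_apply, ← hsq, Scheme.Hom.comp_apply]
    congr 1
    exact PrimeSpectrum.ext hc

end Groth.Agent.Helper16.GenPt
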