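import Mathlib
import Groth.Agent.Lib.Helper16.Sch.GenPt3

set_option autoImplicit false
set_option linter.style.haveILetI false
universe u
open CategoryTheory CategoryTheory.Limits AlgebraicGeometry Opposite TopologicalSpace

noncomputable section

namespace Groth.Agent.Helper16.GenPt

/-- the ring of sections over a nonempty affine open of an irreducible scheme has prime
nilradical. -/
theorem isPrime_nilradical_of_isAffineOpen {Y : Scheme.{u}} [IrreducibleSpace Y] (W : Y.Opens)
    (hW : IsAffineOpen W) (hne : (W : Set Y).Nonempty) : (nilradical Γ(Y, W)).IsPrime := by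
  rw [← PrimeSpectrum.irreducibleSpace_iff_isPrime_nilradical]
  obtain ⟨y, hy⟩ := hne
  have h1 : IsPreirreducible (hW.fromSpec ⁻¹' (Set.univ : Set Y)) :=
    (PreirreducibleSpace.isPreirreducible_univ).preimage hW.fromSpec.isOpenEmbedding
  rw [Set.preimage_univ] at h1
  exact { isPreirreducible_univ := h1, toNonempty := ⟨hW.primeIdealOf ⟨y, hy⟩⟩ }

/-- the point of an affine open of an irreducible scheme corresponding to the nilradical is the
generic point. -/
theorem fromSpec_nilradical_eq_genericPoint {Y : Scheme.{u}} [IrreducibleSpace Y] (W : Y.Opens)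
    (hW : IsAffineOpen W) (hn : (nilradical Γ(Y, W)).IsPrime) :
    hW.fromSpec ⟨nilradical Γ(Y, W), hn⟩ = genericPoint Y := by
  have hηW : genericPoint Y ∈ W := by
    have hmem : hW.fromSpec ⟨nilradical Γ(Y, W), hn⟩ ∈ W := by
      rw [← SetLike.mem_coe, ← hW.range_fromSpec]; exact ⟨_, rfl⟩
    exact ((genericPoint_spec Y).specializes (Set.mem_univ _)).mem_open W.isOpen hmem
  have h1 : hW.fromSpec ⟨nilradical Γ(Y, W), hn⟩ ⤳ genericPoint Y := by
    have e : hW.fromSpec (hW.primeIdealOf ⟨genericPoint Y, hηW⟩) = genericPoint Y :=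
      hW.fromSpec_primeIdealOf ⟨genericPoint Y, hηW⟩
    rw [← e]
    have h3 : @Specializes (PrimeSpectrum Γ(Y, W)) _ ⟨nilradical Γ(Y, W), hn⟩
        (hW.primeIdealOf ⟨genericPoint Y, hηW⟩) :=
      (PrimeSpectrum.le_iff_specializes _ _).mp
        (nilradical_le_prime (hW.primeIdealOf ⟨genericPoint Y, hηW⟩).asIdeal)
    exact h3.map hW.fromSpec.continuous
  have h2 : genericPoint Y ⤳ hW.fromSpec ⟨nilradical Γ(Y, W), hn⟩ :=
    (genericPoint_spec Y).specializes (Set.mem_univ _)
  exact (h1.antisymm h2).eq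

/-- Let `f : X ⟶ Y` be of finite type with `Y` irreducible. Over some nonempty open of `Y`, every
point of `X` is a specialization of a point of the generic fibre. -/
theorem exists_open_forall_exists_specializes {X Y : Scheme.{u}} (f : X ⟶ Y) [IrreducibleSpace Y]
    [LocallyOfFiniteType f] [QuasiCompact f] :
    ∃ V : Y.Opens, (V : Set Y).Nonempty ∧
      ∀ x : X, f x ∈ V → ∃ x' : X, x' ⤳ x ∧ f x' = genericPoint Y := by
  obtain ⟨_, ⟨W, hW, rfl⟩, hηW, -⟩ := Y.isBasis_affineOpens.exists_subset_of_mem_open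
    (Set.mem_univ (genericPoint Y)) isOpen_univ
  have hW : IsAffineOpen W := hW
  have hn := isPrime_nilradical_of_isAffineOpen W hW ⟨_, hηW⟩
  have hη := fromSpec_nilradical_eq_genericPoint W hW hn
  have hcomp : IsCompact ((f ⁻¹ᵁ W : X.Opens) : Set X) :=
    QuasiCompact.isCompact_preimage (f := f) _ W.isOpen hW.isCompact
  obtain ⟨s, hs, hsU⟩ := isCompact_iff_finite_and_eq_biUnion_affineOpens.mp hcomp
  haveI : Fintype s := hs.fintype
  classical
  have hle : ∀ U : s, (U.1 : X.Opens) ≤ f ⁻¹ᵁ W := fun U => by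
    rw [hsU]; exact le_iSup₂ (f := fun (i : X.affineOpens) (_ : i ∈ s) => (i : X.Opens)) U.1 U.2
  have H := fun U : s => exists_basicOpen_chart f W hW hn U.1.1 U.1.2 (hle U)
  choose a ha hax using H
  refine ⟨Y.basicOpen (∏ U : s, a U), ⟨genericPoint Y, ?_⟩, fun x hx => ?_⟩
  · rw [← hη]
    show _ ∈ hW.fromSpec ⁻¹ᵁ Y.basicOpen (∏ U : s, a U)
    rw [hW.fromSpec_preimage_basicOpen]
    intro hmem
    obtain ⟨U, -, hU⟩ := (Ideal.IsPrime.prod_mem_iff (hp := hn)).mp hmem
    exact ha U hU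
  · have hxW : x ∈ f ⁻¹ᵁ W := (Y.basicOpen_le (∏ U : s, a U)) hx
    rw [hsU] at hxW
    simp only [Opens.mem_iSup] at hxW
    obtain ⟨U, hUs, hxU⟩ := hxW
    have hsub : Y.basicOpen (∏ U : s, a U) ≤ Y.basicOpen (a ⟨U, hUs⟩) := by
      rw [← Finset.mul_prod_erase Finset.univ a (Finset.mem_univ ⟨U, hUs⟩), Scheme.basicOpen_mul]
      exact inf_le_left
    obtain ⟨x', hx', hfx'⟩ := hax ⟨U, hUs⟩ x hxU (hsub hx)
    exact ⟨x', hx', hfx'.trans hη⟩

end Groth.Agent.Helper16.GenPt
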