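import Mathlib
import Groth.Agent.Lib.Helper16.Sch.GenRed2

set_option autoImplicit false
set_option linter.style.haveILetI false
universe u
open CategoryTheory CategoryTheory.Limits AlgebraicGeometry Opposite TopologicalSpace TensorProduct

noncomputable section

namespace Groth.Agent.Helper16.GenRed

variable {X Y : Scheme.{u}} (f : X ⟶ Y) (y : Y)

lemma top_le_preimage (W : Y.Opens) (hy : y ∈ W) :
    (⊤ : (Spec (Y.residueField y)).Opens) ≤ (Y.fromSpecResidueField y) ⁻¹ᵁ W := by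
  intro z _
  show Y.fromSpecResidueField y z ∈ W
  rw [Scheme.fromSpecResidueField_apply]; exact hy

lemma fiber_piece_eq (U : X.Opens) :
    f.fiberι y ⁻¹ᵁ U = f.fiberι y ⁻¹ᵁ U ⊓ f.fiberToSpecResidueField y ⁻¹ᵁ ⊤ := by
  rw [Scheme.Hom.preimage_top, inf_top_eq]

theorem isAffineOpen_fiber_piece (W : Y.Opens) (hW : IsAffineOpen W) (hy : y ∈ W) (U : X.Opens)
    (hU : IsAffineOpen U) (e : U ≤ f ⁻¹ᵁ W) : IsAffineOpen (f.fiberι y ⁻¹ᵁ U) := by
  have H : IsPullback (f.fiberι y) (f.fiberToSpecResidueField y) f (Y.fromSpecResidueField y) :=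
    IsPullback.of_hasPullback _ _
  have : IsAffine _ := hW
  have : IsAffine _ := hU
  have : IsAffine ((⊤ : (Spec (Y.residueField y)).Opens) : Scheme) := (isAffineOpen_top _)
  exact .of_isIso (Scheme.Hom.isPullback_resLE H (top_le_preimage y W hy) e
    (fiber_piece_eq f y U)).isoPullback.hom

theorem isReduced_fiber_piece_iff (W : Y.Opens) (hW : IsAffineOpen W) (hy : y ∈ W) (U : X.Opens)
    (hU : IsAffineOpen U) (e : U ≤ f ⁻¹ᵁ W) :
    letI := (f.appLE W U e).hom.toAlgebra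
    letI := ((Y.fromSpecResidueField y).appLE W ⊤ (top_le_preimage y W hy)).hom.toAlgebra
    _root_.IsReduced Γ(f.fiber y, f.fiberι y ⁻¹ᵁ U) ↔
      _root_.IsReduced (Γ(Spec (Y.residueField y), ⊤) ⊗[Γ(Y, W)] Γ(X, U)) := by
  have H : IsPullback (f.fiberι y) (f.fiberToSpecResidueField y) f (Y.fromSpecResidueField y) :=
    IsPullback.of_hasPullback _ _
  have hq := top_le_preimage y W hy
  have hUY := fiber_piece_eq f y U
  have hpo := (isIso_pushoutSection_iff H hq e hUY).mp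
    (isIso_pushoutSection_of_isAffineOpen H hq e hUY hW (isAffineOpen_top _) hU)
  letI aRB := (f.appLE W U e).hom.toAlgebra
  letI aRL := ((Y.fromSpecResidueField y).appLE W ⊤ hq).hom.toAlgebra
  letI aBP := ((f.fiberι y).appLE U (f.fiberι y ⁻¹ᵁ U) le_rfl).hom.toAlgebra
  letI aLP := ((f.fiberToSpecResidueField y).appLE ⊤ (f.fiberι y ⁻¹ᵁ U)
    (fun _ _ => trivial)).hom.toAlgebra
  letI aRP : Algebra Γ(Y, W) Γ(f.fiber y, f.fiberι y ⁻¹ᵁ U) :=
    ((algebraMap Γ(X, U) Γ(f.fiber y, f.fiberι y ⁻¹ᵁ U)).comp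
      (algebraMap Γ(Y, W) Γ(X, U))).toAlgebra
  haveI : IsScalarTower Γ(Y, W) Γ(X, U) Γ(f.fiber y, f.fiberι y ⁻¹ᵁ U) :=
    IsScalarTower.of_algebraMap_eq' rfl
  haveI : IsScalarTower Γ(Y, W) Γ(Spec (Y.residueField y), ⊤)
      Γ(f.fiber y, f.fiberι y ⁻¹ᵁ U) :=
    IsScalarTower.of_algebraMap_eq' (by
      have := congrArg CommRingCat.Hom.hom hpo.w
      exact this)
  haveI : Algebra.IsPushout Γ(Y, W) Γ(Spec (Y.residueField y), ⊤) Γ(X, U)
      Γ(f.fiber y, f.fiberι y ⁻¹ᵁ U) :=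
    CommRingCat.isPushout_iff_isPushout.mp hpo.flip
  let E := Algebra.IsPushout.equiv Γ(Y, W) Γ(Spec (Y.residueField y), ⊤) Γ(X, U)
    Γ(f.fiber y, f.fiberι y ⁻¹ᵁ U)
  constructor
  · intro h
    exact isReduced_of_injective E E.injective
  · intro h
    exact isReduced_of_injective E.symm E.symm.injective

end Groth.Agent.Helper16.GenRed
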