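import Mathlib
import Groth.Agent.Lib.Helper16.Sch.GenRed3

set_option autoImplicit false
set_option linter.style.haveILetI false
universe u
open CategoryTheory CategoryTheory.Limits AlgebraicGeometry Opposite TopologicalSpace TensorProduct

noncomputable section

namespace Groth.Agent.Helper16.GenRed

variable {X Y : Scheme.{u}} (f : X ⟶ Y) (y : Y)

lemma fromSpecResidueField_appLE (W : Y.Opens) (hy : y ∈ W) :
    (Y.fromSpecResidueField y).appLE W ⊤ (top_le_preimage y W hy) =
      Y.evaluation W y hy ≫ (Scheme.ΓSpecIso (Y.residueField y)).inv := by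
  have h0 : (Spec.map (Y.residue y)).appLE ⊤ ⊤ (fun _ _ => trivial) =
      (Spec.map (Y.residue y)).appTop := by
    simp [Scheme.Hom.appLE]
  unfold Scheme.fromSpecResidueField
  rw [Scheme.Hom.comp_appLE, Scheme.fromSpecStalk_app hy, Category.assoc, Category.assoc,
    Scheme.Hom.map_appLE, h0, ← Scheme.ΓSpecIso_inv_naturality, ← Category.assoc]
  rfl

end Groth.Agent.Helper16.GenRed
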