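import Mathlib
import Groth.Agent.Lib.Helper16.Sch.GenRed4
import Groth.Agent.Lib.Helper16.Sch.GenPt4

set_option autoImplicit false
set_option linter.style.haveILetI false
universe u
open CategoryTheory CategoryTheory.Limits AlgebraicGeometry Opposite TopologicalSpace TensorProduct

noncomputable section

namespace Groth.Agent.Helper16.GenRed

variable {X Y : Scheme.{u}} (f : X ⟶ Y) (y : Y)

lemma isField_ΓSpec_residueField : IsField Γ(Spec (Y.residueField y), ⊤) :=
  (Scheme.ΓSpecIso (Y.residueField y)).commRingCatIsoToRingEquiv.toMulEquiv.isField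
    (Field.toIsField (Y.residueField y))

lemma ΓSpecIso_inv_injective (R : CommRingCat.{u}) :
    Function.Injective (Scheme.ΓSpecIso R).inv.hom :=
  (Scheme.ΓSpecIso R).symm.commRingCatIsoToRingEquiv.injective

lemma ΓSpecIso_inv_surjective (R : CommRingCat.{u}) :
    Function.Surjective (Scheme.ΓSpecIso R).inv.hom :=
  (Scheme.ΓSpecIso R).symm.commRingCatIsoToRingEquiv.surjective

lemma appLE_ne_zero_iff (W : Y.Opens) (hy : y ∈ W) (a : Γ(Y, W)) :
    ((Y.fromSpecResidueField y).appLE W ⊤ (top_le_preimage y W hy)).hom a ≠ 0 ↔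
      y ∈ Y.basicOpen a := by
  rw [fromSpecResidueField_appLE, ← Scheme.evaluation_ne_zero_iff_mem_basicOpen Y y hy a]
  constructor
  · intro h h0
    apply h
    rw [CommRingCat.hom_comp, RingHom.comp_apply, h0, map_zero]
  · intro h h0
    apply h
    apply ΓSpecIso_inv_injective
    rw [map_zero]
    exact h0

/-- (h1): a section vanishing at the generic point of an irreducible scheme is nilpotent -/
lemma isNilpotent_of_appLE_eq_zero [IrreducibleSpace Y] (W : Y.Opens) (hW : IsAffineOpen W)
    (hy : genericPoint Y ∈ W) (r : Γ(Y, W))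
    (h : ((Y.fromSpecResidueField (genericPoint Y)).appLE W ⊤
      (top_le_preimage _ W hy)).hom r = 0) : IsNilpotent r := by
  have h1 : genericPoint Y ∉ Y.basicOpen r := fun hmem =>
    (appLE_ne_zero_iff (genericPoint Y) W hy r).mpr hmem h
  have h2 : Y.basicOpen r = ⊥ := by
    rw [eq_bot_iff]
    intro z hz
    exact h1 (((genericPoint_spec Y).specializes (Set.mem_univ z)).mem_open
      (Y.basicOpen r).isOpen hz)
  have h3 := hW.fromSpec_preimage_basicOpen r
  rw [h2] at h3
  exact (PrimeSpectrum.basicOpen_eq_bot_iff r).mp h3.symm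

/-- (h2): every element of the residue field is a fraction of sections -/
lemma exists_eq_div_appLE (W : Y.Opens) (hW : IsAffineOpen W) (hy : y ∈ W)
    (z : Γ(Spec (Y.residueField y), ⊤)) :
    letI := (isField_ΓSpec_residueField y).toField
    ∃ x s : Γ(Y, W), z =
      ((Y.fromSpecResidueField y).appLE W ⊤ (top_le_preimage y W hy)).hom x /
      ((Y.fromSpecResidueField y).appLE W ⊤ (top_le_preimage y W hy)).hom s := by
  letI := (isField_ΓSpec_residueField y).toField
  obtain ⟨k, rfl⟩ := ΓSpecIso_inv_surjective _ z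
  obtain ⟨t, rfl⟩ := Y.residue_surjective y k
  letI := Y.presheaf.algebra_section_stalk ⟨y, hy⟩
  haveI := hW.isLocalization_stalk ⟨y, hy⟩
  obtain ⟨⟨x, s⟩, hxs⟩ := IsLocalization.surj (hW.primeIdealOf ⟨y, hy⟩).asIdeal.primeCompl t
  have hunit : IsUnit (algebraMap Γ(Y, W) (Y.presheaf.stalk y) s) :=
    IsLocalization.map_units _ s
  refine ⟨x, s, ?_⟩
  rw [fromSpecResidueField_appLE y W hy]
  have e1 : ∀ r : Γ(Y, W), (Y.evaluation W y hy ≫ (Scheme.ΓSpecIso (Y.residueField y)).inv).hom r =
      (Scheme.ΓSpecIso (Y.residueField y)).inv.hom ((Y.residue y).hom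
        (algebraMap Γ(Y, W) (Y.presheaf.stalk y) r)) := fun r => rfl
  rw [e1, e1, eq_div_iff, ← map_mul, ← map_mul, hxs]
  exact ((hunit.map (Y.residue y).hom).map (Scheme.ΓSpecIso (Y.residueField y)).inv.hom).ne_zero

end Groth.Agent.Helper16.GenRed
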