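import Mathlib
import Groth.Agent.Lib.Helper16.Sch.GenRed5

set_option autoImplicit false
set_option linter.style.haveILetI false
universe u
open CategoryTheory CategoryTheory.Limits AlgebraicGeometry Opposite TopologicalSpace TensorProduct

noncomputable section

namespace Groth.Agent.Helper16.GenRed

variable {X Y : Scheme.{u}} (f : X ⟶ Y) (y : Y)

theorem isReduced_fiber_of_pieces (W : Y.Opens) (hW : IsAffineOpen W) (hy : y ∈ W)
    (H : ∀ U : X.Opens, IsAffineOpen U → U ≤ f ⁻¹ᵁ W →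
      _root_.IsReduced Γ(f.fiber y, f.fiberι y ⁻¹ᵁ U)) :
    IsReduced (f.fiber y) := by
  haveI : ∀ z : f.fiber y, _root_.IsReduced ((f.fiber y).presheaf.stalk z) := by
    intro z
    have hfz : f (f.fiberι y z) = y := by
      have : f.fiberι y z ∈ Set.range (f.fiberι y) := ⟨z, rfl⟩
      rw [f.range_fiberι y] at this
      exact this
    have hmem : f.fiberι y z ∈ f ⁻¹ᵁ W := by
      show f (f.fiberι y z) ∈ W
      rw [hfz]; exact hy
    obtain ⟨_, ⟨U, hU, rfl⟩, hxU, hUW⟩ :=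
      X.isBasis_affineOpens.exists_subset_of_mem_open hmem (f ⁻¹ᵁ W).isOpen
    have hV := isAffineOpen_fiber_piece f y W hW hy U hU hUW
    have hz : z ∈ f.fiberι y ⁻¹ᵁ U := hxU
    letI := (f.fiber y).presheaf.algebra_section_stalk ⟨z, hz⟩
    haveI := hV.isLocalization_stalk ⟨z, hz⟩
    exact isReduced_localizationPreserves
      (hV.primeIdealOf ⟨z, hz⟩).asIdeal.primeCompl _ (H U hU hUW)
  exact isReduced_of_isReduced_stalk _

theorem main (f : X ⟶ Y) [IrreducibleSpace Y] [LocallyOfFiniteType f] [QuasiCompact f]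
    (h : ¬ IsReduced (f.fiber (genericPoint Y))) :
    ∃ V : Y.Opens, (V : Set Y).Nonempty ∧ ∀ y ∈ V, ¬ IsReduced (f.fiber y) := by
  obtain ⟨_, ⟨W, hW, rfl⟩, hηW, -⟩ := Y.isBasis_affineOpens.exists_subset_of_mem_open
    (Set.mem_univ (genericPoint Y)) isOpen_univ
  have hW : IsAffineOpen W := hW
  have hn := GenPt.isPrime_nilradical_of_isAffineOpen W hW ⟨_, hηW⟩
  obtain ⟨U, hU, hUW, hbad⟩ : ∃ U : X.Opens, IsAffineOpen U ∧ ∃ _ : U ≤ f ⁻¹ᵁ W,
      ¬ _root_.IsReduced Γ(f.fiber (genericPoint Y), f.fiberι (genericPoint Y) ⁻¹ᵁ U) := by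
    by_contra hcon
    push Not at hcon
    exact h (isReduced_fiber_of_pieces f _ W hW hηW (fun U hU hUW => hcon U hU hUW))
  letI : Algebra Γ(Y, W) Γ(X, U) := (f.appLE W U hUW).hom.toAlgebra
  haveI : Algebra.FiniteType Γ(Y, W) Γ(X, U) := f.finiteType_appLE hW hU hUW
  letI : Field Γ(Spec (Y.residueField (genericPoint Y)), ⊤) :=
    (isField_ΓSpec_residueField (genericPoint Y)).toField
  letI : Algebra Γ(Y, W) Γ(Spec (Y.residueField (genericPoint Y)), ⊤) :=
    ((Y.fromSpecResidueField (genericPoint Y)).appLE W ⊤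
      (top_le_preimage _ W hηW)).hom.toAlgebra
  have hbad' : ¬ _root_.IsReduced
      (Γ(Spec (Y.residueField (genericPoint Y)), ⊤) ⊗[Γ(Y, W)] Γ(X, U)) := fun hred =>
    hbad ((isReduced_fiber_piece_iff f (genericPoint Y) W hW hηW U hU hUW).mpr hred)
  obtain ⟨a, ha, Ha⟩ := not_isReduced_tensor_of_generic' hn
    (fun r hr => isNilpotent_of_appLE_eq_zero W hW hηW r hr)
    (fun z => exists_eq_div_appLE (genericPoint Y) W hW hηW z) hbad'
  refine ⟨Y.basicOpen a, ⟨genericPoint Y, ?_⟩, ?_⟩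
  · by_contra hmem
    have h0 : ((Y.fromSpecResidueField (genericPoint Y)).appLE W ⊤
        (top_le_preimage _ W hηW)).hom a = 0 := by
      by_contra hne
      exact hmem ((appLE_ne_zero_iff (genericPoint Y) W hηW a).mp hne)
    exact ha (isNilpotent_of_appLE_eq_zero W hW hηW a h0)
  · intro y hy hred
    have hyW : y ∈ W := Y.basicOpen_le a hy
    letI : Field Γ(Spec (Y.residueField y), ⊤) := (isField_ΓSpec_residueField y).toField
    letI : Algebra Γ(Y, W) Γ(Spec (Y.residueField y), ⊤) :=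
      ((Y.fromSpecResidueField y).appLE W ⊤ (top_le_preimage _ W hyW)).hom.toAlgebra
    refine Ha Γ(Spec (Y.residueField y), ⊤) ((appLE_ne_zero_iff y W hyW a).mpr hy) ?_
    exact (isReduced_fiber_piece_iff f y W hW hyW U hU hUW).mp inferInstance

end Groth.Agent.Helper16.GenRed
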