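import Mathlib
import Groth.Agent.Lib.Helper16.Sch.GenND1
import Groth.Agent.Lib.Helper16.Sch.GenRed6

set_option autoImplicit false
set_option linter.style.haveILetI false
universe u
open CategoryTheory CategoryTheory.Limits AlgebraicGeometry Opposite TopologicalSpace TensorProduct

noncomputable section

namespace Groth.Agent.Helper16.GenND

open Groth.Agent.Helper16.GenRed Groth.Agent.Helper16.GenPt

variable {X Y : Scheme.{u}}

/-- The generic fibre of a reduced scheme over an irreducible scheme is reduced. -/
theorem isReduced_genericFiber (f : X ⟶ Y) [IrreducibleSpace Y] [IsReduced X] :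
    IsReduced (f.fiber (genericPoint Y)) := by
  obtain ⟨_, ⟨W, hW, rfl⟩, hηW, -⟩ := Y.isBasis_affineOpens.exists_subset_of_mem_open
    (Set.mem_univ (genericPoint Y)) isOpen_univ
  have hW : IsAffineOpen W := hW
  have hn := isPrime_nilradical_of_isAffineOpen W hW ⟨_, hηW⟩
  refine isReduced_fiber_of_pieces f _ W hW hηW (fun U₀ hU₀ e => ?_)
  letI : Algebra Γ(Y, W) Γ(X, U₀) := (f.appLE W U₀ e).hom.toAlgebra
  letI : Field Γ(Spec (Y.residueField (genericPoint Y)), ⊤) :=
    (isField_ΓSpec_residueField (genericPoint Y)).toField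
  letI : Algebra Γ(Y, W) Γ(Spec (Y.residueField (genericPoint Y)), ⊤) :=
    ((Y.fromSpecResidueField (genericPoint Y)).appLE W ⊤
      (top_le_preimage _ W hηW)).hom.toAlgebra
  rw [isReduced_fiber_piece_iff f (genericPoint Y) W hW hηW U₀ hU₀ e]
  exact isReduced_tensor_of_isReduced hn
    (fun r hr => isNilpotent_of_appLE_eq_zero W hW hηW r hr)
    (fun z => exists_eq_div_appLE (genericPoint Y) W hW hηW z)

/-- The reduced induced closed subscheme structure is reduced. -/
theorem isReduced_vanishingIdeal_subscheme (Z : TopologicalSpace.Closeds X) :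
    IsReduced (Scheme.IdealSheafData.vanishingIdeal Z).subscheme := by
  set I := Scheme.IdealSheafData.vanishingIdeal Z
  rw [IsReduced.iff_of_openCover (X := I.subscheme) I.subschemeCover.openCover]
  intro (U : X.affineOpens)
  have h3 : (I.ideal U).IsRadical := by
    rw [Scheme.IdealSheafData.vanishingIdeal_ideal]
    exact PrimeSpectrum.isRadical_vanishingIdeal _
  have h2 : _root_.IsReduced (Γ(X, U) ⧸ I.ideal U) :=
    (Ideal.isRadical_iff_quotient_reduced _).mp h3
  exact (affine_isReduced_iff (.of (Γ(X, U) ⧸ I.ideal U))).mpr h2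

/-- the reduced induced closed subscheme on a closed subset -/
theorem exists_closedImmersion_isReduced_range_eq (Z : Set X) (hc : IsClosed Z) :
    ∃ (T : Scheme.{u}) (i : T ⟶ X), IsClosedImmersion i ∧ IsReduced T ∧ Set.range i = Z := by
  let I := Scheme.IdealSheafData.vanishingIdeal ⟨Z, hc⟩
  have hr : Set.range I.subschemeι = Z := by
    rw [Scheme.IdealSheafData.range_subschemeι, Scheme.IdealSheafData.coe_support_vanishingIdeal]
    rfl
  exact ⟨I.subscheme, I.subschemeι, inferInstance, isReduced_vanishingIdeal_subscheme _, hr⟩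

end Groth.Agent.Helper16.GenND
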