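import Mathlib
import Groth.Agent.Lib.Helper14.AlgClosedTensor
import Groth.Agent.Lib.Helper28.GeomIrredCover

set_option autoImplicit false
set_option linter.style.haveILetI false
universe u
open CategoryTheory CategoryTheory.Limits AlgebraicGeometry TensorProduct

namespace Groth.Agent.Helper16.GrpIrr

variable {k : Type u} [Field k] [IsAlgClosed k]

/-- an affine scheme with irreducible spectrum over an algebraically closed field is
geometrically irreducible -/
theorem geometricallyIrreducible_Spec (R : CommRingCat.{u}) [IrreducibleSpace (Spec R)]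
    (y : Spec R ⟶ Spec (CommRingCat.of k)) : GeometricallyIrreducible y := by
  constructor
  intro L _ z Z fst snd hpb
  obtain ⟨φ, rfl⟩ := Spec.map_surjective y
  obtain ⟨ψ, rfl⟩ := Spec.map_surjective z
  algebraize [φ.hom, ψ.hom]
  have e1 : φ = CommRingCat.ofHom (algebraMap k R) := rfl
  have e2 : ψ = CommRingCat.ofHom (algebraMap k L) := rfl
  rw [e1, e2] at hpb
  haveI : IrreducibleSpace (PrimeSpectrum R) := ‹IrreducibleSpace (Spec R)›
  have h1 : IrreducibleSpace (PrimeSpectrum (L ⊗[k] R)) :=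
    Groth.Agent.Helper14.AlgClosedTensor.irreducibleSpace_tensor R L
  have h2 : IrreducibleSpace (Spec (CommRingCat.of (L ⊗[k] R))) := h1
  exact ((hpb.flip.isoPullback ≪≫ pullbackSpecIso k L R).hom.homeomorph.irreducibleSpace_iff).2 h2

/-- an irreducible scheme over an algebraically closed field is geometrically irreducible -/
theorem geometricallyIrreducible_of_isAlgClosed {T : Scheme.{u}} [IrreducibleSpace T]
    (f : T ⟶ Spec (CommRingCat.of k)) : GeometricallyIrreducible f := by
  letI : T.Over (Spec (CommRingCat.of k)) := ⟨f⟩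
  show GeometricallyIrreducible (T ↘ Spec (CommRingCat.of k))
  -- the cover by nonempty affine opens
  let ι : Type u := {U : T.affineOpens // (U.1 : Set T).Nonempty}
  have hne : Nonempty ι := by
    obtain ⟨x⟩ : Nonempty T := inferInstance
    obtain ⟨_, ⟨U, hU, rfl⟩, hxU, -⟩ :=
      T.isBasis_affineOpens.exists_subset_of_mem_open (Set.mem_univ x) isOpen_univ
    exact ⟨⟨⟨U, hU⟩, ⟨x, hxU⟩⟩⟩
  refine Groth.Agent.Helper28.GeomIrredCover.main k T ι (fun i => i.1.1) hne ?_ ?_ ?_
  · rw [eq_top_iff]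
    intro x _
    obtain ⟨_, ⟨U, hU, rfl⟩, hxU, -⟩ :=
      T.isBasis_affineOpens.exists_subset_of_mem_open (Set.mem_univ x) isOpen_univ
    exact TopologicalSpace.Opens.mem_iSup.mpr ⟨⟨⟨U, hU⟩, ⟨x, hxU⟩⟩, hxU⟩
  · intro i j
    exact nonempty_preirreducible_inter i.1.1.2 j.1.1.2 i.2 j.2
  · intro i
    have hU : IsAffineOpen i.1.1 := i.1.2
    haveI : Nonempty i.1.1 := i.2.to_subtype
    haveI : IrreducibleSpace i.1.1.toScheme := i.1.1.ι.isOpenEmbedding.irreducibleSpace
    haveI : IrreducibleSpace (Spec Γ(T, i.1.1)) :=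
      (hU.isoSpec.hom.homeomorph.irreducibleSpace_iff).1 inferInstance
    have h := geometricallyIrreducible_Spec Γ(T, i.1.1) (hU.isoSpec.inv ≫ i.1.1.ι ≫ f)
    have e : i.1.1.ι ≫ (T ↘ Spec (CommRingCat.of k)) =
        hU.isoSpec.hom ≫ (hU.isoSpec.inv ≫ i.1.1.ι ≫ f) := by
      rw [Iso.hom_inv_id_assoc]; rfl
    rw [e]
    exact (MorphismProperty.cancel_left_of_respectsIso @GeometricallyIrreducible _ _).mpr h

end Groth.Agent.Helper16.GrpIrr
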