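import Mathlib
import Groth.Agent.Lib.Helper16.Sch.GrpIrr1

set_option autoImplicit false
set_option linter.style.haveILetI false
universe u
open CategoryTheory CategoryTheory.Limits AlgebraicGeometry TensorProduct

namespace Groth.Agent.Helper16.GrpIrr

/-- the reduced induced closed subscheme of a closed irreducible set is an irreducible scheme -/
theorem exists_closedImmersion_of_isIrreducible {X : Scheme.{u}} (Z : Set X) (hZ : IsIrreducible Z)
    (hc : IsClosed Z) : ∃ (T : Scheme.{u}) (i : T ⟶ X), IsClosedImmersion i ∧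
      IrreducibleSpace T ∧ Set.range i = Z := by
  let I := Scheme.IdealSheafData.vanishingIdeal ⟨Z, hc⟩
  have hr : Set.range I.subschemeι = Z := by
    rw [Scheme.IdealSheafData.range_subschemeι, Scheme.IdealSheafData.coe_support_vanishingIdeal]
    rfl
  refine ⟨I.subscheme, I.subschemeι, inferInstance, ?_, hr⟩
  haveI : IrreducibleSpace (Set.range I.subschemeι) := by
    rw [hr]; exact Subtype.irreducibleSpace hZ
  exact (I.subschemeι.isEmbedding.toHomeomorph.irreducibleSpace_iff).2 inferInstance

variable {k : Type u} [Field k] [IsAlgClosed k]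

/-- over an algebraically closed field the product of irreducible closed sets is irreducible -/
theorem isIrreducible_inter_preimage {X Y : Scheme.{u}} (f : X ⟶ Spec (CommRingCat.of k))
    (g : Y ⟶ Spec (CommRingCat.of k)) (Z₁ : Set X) (Z₂ : Set Y) (h1 : IsIrreducible Z₁)
    (h1c : IsClosed Z₁) (h2 : IsIrreducible Z₂) (h2c : IsClosed Z₂) :
    IsIrreducible (pullback.fst f g ⁻¹' Z₁ ∩ pullback.snd f g ⁻¹' Z₂) := by
  obtain ⟨T₁, i₁, _, _, hr₁⟩ := exists_closedImmersion_of_isIrreducible Z₁ h1 h1c
  obtain ⟨T₂, i₂, _, _, hr₂⟩ := exists_closedImmersion_of_isIrreducible Z₂ h2 h2c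
  haveI : GeometricallyIrreducible (i₁ ≫ f) := geometricallyIrreducible_of_isAlgClosed _
  haveI : UniversallyOpen (i₁ ≫ f) := inferInstance
  haveI : IrreducibleSpace ↥(pullback (i₁ ≫ f) (i₂ ≫ g)) := inferInstance
  have h := Scheme.Pullback.range_map (i₁ ≫ f) (i₂ ≫ g) f g i₁ i₂ (𝟙 _) (by simp) (by simp)
  rw [hr₁, hr₂] at h
  rw [← h, ← Set.image_univ]
  exact (IrreducibleSpace.isIrreducible_univ _).image _ (Scheme.Hom.continuous _).continuousOn

end Groth.Agent.Helper16.GrpIrr
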