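import Mathlib
import Groth.Agent.Lib.Helper14.DimClosure
import Groth.Agent.Lib.Helper14.ClosedFibreDim
import Groth.Agent.Lib.Helper9.TopDim

set_option autoImplicit false
universe u
open CategoryTheory CategoryTheory.Limits AlgebraicGeometry Opposite TopologicalSpace

noncomputable section

namespace Groth.Agent.Helper16.FTDim

open Groth.Agent.Helper14

variable {X Y Z : Scheme.{u}}

/-- the transcendence degree of `κ(x)` over `κ(f x)`, as a natural number. -/
def td (f : X ⟶ Y) (x : X) : ℕ :=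
  Cardinal.toNat (@Algebra.trdeg (Y.residueField (f x)) (X.residueField x) _ _
    (f.residueFieldMap x).hom.toAlgebra)

theorem td_spec (f : X ⟶ Y) [LocallyOfFiniteType f] (x : X) :
    @Algebra.trdeg (Y.residueField (f x)) (X.residueField x) _ _
      (f.residueFieldMap x).hom.toAlgebra = (td f x : Cardinal) := by
  obtain ⟨n, hn⟩ := ResFieldBridge.exists_nat_trdeg_residueField f x
  unfold td
  rw [hn, Cardinal.toNat_natCast]

theorem td_eq (f : X ⟶ Y) (x : X) (n : ℕ)
    (hn : @Algebra.trdeg (Y.residueField (f x)) (X.residueField x) _ _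
      (f.residueFieldMap x).hom.toAlgebra = n) : td f x = n := by
  unfold td
  rw [hn, Cardinal.toNat_natCast]

theorem td_comp (f : X ⟶ Y) (g : Y ⟶ Z) [LocallyOfFiniteType f] [LocallyOfFiniteType g] (x : X) :
    td (f ≫ g) x = td g (f x) + td f x := by
  have h := DimClosure.trdeg_comp f g x
  rw [td_spec f x, td_spec g (f x)] at h
  apply td_eq
  rw [h]
  push_cast
  rfl

theorem trdegFun_eq_td (f : X ⟶ Y) (x : X) : DimClosure.trdegFun f x = (td f x : ℤ) := rfl

/-- **dimension of the closure of a point** of a scheme locally of finite type over a field. -/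
theorem dim_closure (k : Type u) [Field k] (g : Y ⟶ Spec (CommRingCat.of k))
    [LocallyOfFiniteType g] (η : Y) :
    topologicalKrullDim (closure ({η} : Set Y)) = (td g η : WithBot ℕ∞) := by
  rw [DimClosure.dim_closure_eq k g η, trdegFun_eq_td]
  simp

/-- lower bound for the local dimension of `closure {ξ} ∩ f⁻¹(f x)`. -/
theorem td_le_localDim (f : X ⟶ Y) [LocallyOfFiniteType f] (ξ x : X) (h : ξ ⤳ x) :
    (td f ξ : WithBot ℕ∞) ≤ FlatMor.localDim ↥(closure ({ξ} : Set X) ∩ f ⁻¹' {f x})
      ⟨x, h.mem_closure, rfl⟩ :=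
  ClosedFibreDim.trdeg_le_localDim f ⟨closure {ξ}, isClosed_closure⟩ x ⟨h.mem_closure, rfl⟩ ξ
    (subset_closure rfl) h (td f ξ) (td_spec f ξ)

theorem td_le_dim (f : X ⟶ Y) [LocallyOfFiniteType f] (ξ x : X) (h : ξ ⤳ x) (y : Y)
    (hy : f x = y) :
    (td f ξ : WithBot ℕ∞) ≤ topologicalKrullDim ↥(closure ({ξ} : Set X) ∩ f ⁻¹' {y}) := by
  subst hy
  exact (td_le_localDim f ξ x h).trans (Groth.Agent.Helper9.TopDim.localDim_le_dim _)

end Groth.Agent.Helper16.FTDim
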