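import Mathlib
import Groth.Agent.Lib.Helper16.Sch.FTDim1
import Groth.Agent.Lib.Helper4.Constr
import Groth.Agent.S0402

set_option autoImplicit false
universe u
open CategoryTheory CategoryTheory.Limits AlgebraicGeometry Opposite TopologicalSpace Topology

noncomputable section

namespace Groth.Agent.Helper16.FTDim

open Groth.Agent.Helper14

section top

variable {S : Type*} [TopologicalSpace S]

theorem exists_open_of_mem_constructible (η : S) {E : Set S} (hE : IsConstructible E)
    (h : η ∈ E) : ∃ U : Set S, IsOpen U ∧ η ∈ U ∧ U ∩ closure {η} ⊆ E := by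
  have hirr : IsIrreducible (closure ({η} : Set S)) := isIrreducible_singleton.closure
  rcases Groth.Agent.Helper4.Constr.trace_dichotomy hirr hE with ⟨U, hU, hne, hsub⟩ | ⟨U, hU, hne, hsub⟩
  · refine ⟨U, hU, ?_, hsub⟩
    obtain ⟨z, hzU, hz⟩ := hne
    obtain ⟨w, hw1, hw3⟩ := mem_closure_iff.mp hz U hU hzU
    rw [Set.mem_singleton_iff] at hw3
    subst hw3
    exact hw1
  · exfalso
    obtain ⟨z, hzU, hz⟩ := hne
    obtain ⟨w, hw1, hw3⟩ := mem_closure_iff.mp hz U hU hzU
    rw [Set.mem_singleton_iff] at hw3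
    subst hw3
    exact hsub ⟨hw1, subset_closure rfl⟩ h

theorem exists_open_of_not_mem_constructible (η : S) {E : Set S} (hE : IsConstructible E)
    (h : η ∉ E) : ∃ U : Set S, IsOpen U ∧ η ∈ U ∧ U ∩ closure {η} ⊆ Eᶜ :=
  exists_open_of_mem_constructible η hE.compl h

end top

variable {X Y : Scheme.{u}}

/-- **upper bound on an open**: near the image of `ξ`, the local dimensions of
`closure {ξ} ∩ f⁻¹(y)` are at most `td f ξ`. -/
theorem exists_open_localDim_le (f : X ⟶ Y) [IsNoetherian X] [IsNoetherian Y]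
    [LocallyOfFiniteType f] (ξ : X) :
    ∃ V : Y.Opens, f ξ ∈ V ∧ ∀ (x : X) (hx : ξ ⤳ x), f x ∈ V →
      FlatMor.localDim ↥(closure ({ξ} : Set X) ∩ f ⁻¹' {f x}) ⟨x, hx.mem_closure, rfl⟩ ≤
        (td f ξ : WithBot ℕ∞) := by
  let T : Closeds X := ⟨closure {ξ}, isClosed_closure⟩
  have hrange := ClosedFibreDim.range_subschemeι_vanishingIdeal T
  set ι := (Scheme.IdealSheafData.vanishingIdeal T).subschemeι with hι
  set g := ι ≫ f with hg
  obtain ⟨ξ', hξ'⟩ : ξ ∈ Set.range ι := by rw [hrange]; exact subset_closure rfl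
  have : IsLocallyNoetherian (Scheme.IdealSheafData.vanishingIdeal T).subscheme :=
    LocallyOfFiniteType.isLocallyNoetherian ι
  have : CompactSpace (Scheme.IdealSheafData.vanishingIdeal T).subscheme :=
    ι.isClosedEmbedding.compactSpace
  have : IsNoetherian (Scheme.IdealSheafData.vanishingIdeal T).subscheme := {}
  -- the bad locus
  have hopen := Groth.Agent.S0402.result g (td f ξ)
  set C : Set (Scheme.IdealSheafData.vanishingIdeal T).subscheme :=
    {x' | FlatMor.fibreDimAt g x' ≤ (td f ξ : WithBot ℕ∞)}ᶜ with hC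
  have hCcl : IsClosed C := hopen.isClosed_compl
  have hCc : IsConstructible C := Groth.Agent.Helper4.Constr.isConstructible_of_isClosed hCcl
  have himg : IsConstructible (g '' C) := g.isConstructible_image hCc
  -- the image of `ξ` is not in the image of the bad locus
  have hη : f ξ ∉ g '' C := by
    rintro ⟨x', hx'C, hx'⟩
    apply hx'C
    show FlatMor.fibreDimAt g x' ≤ (td f ξ : WithBot ℕ∞)
    obtain ⟨z', n, hz'x', hgz', hz'max, hn, hfd⟩ :=
      EquidimAt.exists_maximal_trdeg_eq_fibreDimAt g x'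
    have h1 : ι ξ' ⤳ ι z' := by
      rw [hξ']
      have : ι z' ∈ closure ({ξ} : Set X) := by
        have : ι z' ∈ Set.range ι := ⟨z', rfl⟩
        rwa [hrange] at this
      exact specializes_iff_mem_closure.mpr this
    have h2 : ξ' ⤳ z' := ι.isEmbedding.isInducing.specializes_iff.mp h1
    have h3 : g ξ' = g z' := by
      rw [hgz', hx']
      show f (ι ξ') = f ξ
      rw [hξ']
    have h4 : ξ' = z' := hz'max ξ' h3 h2
    subst h4
    rw [hfd]
    have h5 := ClosedFibreDim.trdeg_subschemeι f (Scheme.IdealSheafData.vanishingIdeal T) ξ'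
    have h6 : td f (ι ξ') = n := by
      apply td_eq
      rw [← hn]
      exact h5.symm
    rw [← hξ', h6]
  obtain ⟨V, hVo, hηV, hVsub⟩ := exists_open_of_not_mem_constructible (f ξ) himg hη
  refine ⟨⟨V, hVo⟩, hηV, fun x hx hxV => ?_⟩
  obtain ⟨x', hx'⟩ : x ∈ Set.range ι := by rw [hrange]; exact hx.mem_closure
  subst hx'
  have hmem : ι x' ∈ (T : Set X) ∩ f ⁻¹' {f (ι x')} := ⟨hx.mem_closure, rfl⟩
  have key := ClosedFibreDim.localDim_inter_fibre_eq f T x' (f (ι x')) hmem
  refine (le_of_eq key).trans ?_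
  by_contra hcon
  have hx'C : x' ∈ C := hcon
  have : f (ι x') ∈ (g '' C)ᶜ := hVsub ⟨hxV, ?_⟩
  · exact this ⟨x', hx'C, rfl⟩
  · exact (hx.map f.continuous).mem_closure

end Groth.Agent.Helper16.FTDim
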