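import Mathlib
import Groth.Agent.Lib.Helper16.Sch.SmoothLocusBC3
import Groth.Agent.Lib.Helper16.Sch.UnramLocus

set_option autoImplicit false
set_option linter.style.haveILetI false
universe u
open CategoryTheory CategoryTheory.Limits AlgebraicGeometry Opposite TopologicalSpace

noncomputable section

namespace Groth.Agent.Helper16.SmoothLocusBC

open Groth.Agent.Helper16.UnramLocus

/-- Étale near a point iff smooth at the point and unramified near the point. -/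
theorem exists_etale_nhd_iff {X Y : Scheme.{u}} (f : X ⟶ Y) [LocallyOfFinitePresentation f]
    (x : X) : (∃ U : X.Opens, x ∈ U ∧ Etale (U.ι ≫ f)) ↔ x ∈ f.smoothLocus ∧ UnrAt f x := by
  constructor
  · rintro ⟨U, hxU, hU⟩
    exact ⟨(exists_smooth_nhd_iff f x).mp ⟨U, hxU, inferInstance⟩, U, hxU, inferInstance⟩
  · rintro ⟨h1, U₂, hxU₂, hU₂⟩
    obtain ⟨U₁, hxU₁, hU₁⟩ := (exists_smooth_nhd_iff f x).mpr h1
    refine ⟨U₁ ⊓ U₂, ⟨hxU₁, hxU₂⟩, ?_⟩
    have e1 : (U₁ ⊓ U₂).ι ≫ f = X.homOfLE (inf_le_left : U₁ ⊓ U₂ ≤ U₁) ≫ (U₁.ι ≫ f) := by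
      rw [← Category.assoc, Scheme.homOfLE_ι]
    have e2 : (U₁ ⊓ U₂).ι ≫ f = X.homOfLE (inf_le_right : U₁ ⊓ U₂ ≤ U₂) ≫ (U₂.ι ≫ f) := by
      rw [← Category.assoc, Scheme.homOfLE_ι]
    haveI : Smooth ((U₁ ⊓ U₂).ι ≫ f) := by
      rw [e1]; exact MorphismProperty.comp_mem _ _ _ inferInstance hU₁
    haveI : FormallyUnramified ((U₁ ⊓ U₂).ι ≫ f) := by
      rw [e2]; infer_instance
    exact Etale.of_formallyUnramified_of_flat _

/-- Descent of étaleness near a point along a base change flat at the image point. -/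
theorem exists_etale_nhd_of_isPullback_of_flat_stalk {X Y X' Y' : Scheme.{u}} {f : X ⟶ Y}
    {g : Y' ⟶ Y} {f' : X' ⟶ Y'} {g' : X' ⟶ X} (H : IsPullback g' f' f g)
    [LocallyOfFinitePresentation f] [LocallyOfFinitePresentation f']
    (x' : X') (hx' : ∃ U' : X'.Opens, x' ∈ U' ∧ Etale (U'.ι ≫ f'))
    (hg : (g.stalkMap (f' x')).hom.Flat) :
    ∃ U : X.Opens, g' x' ∈ U ∧ Etale (U.ι ≫ f) := by
  rw [exists_etale_nhd_iff] at hx' ⊢
  exact ⟨mem_smoothLocus_of_isPullback_of_flat_stalk H x' hx'.1 hg,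
    (unrAt_iff_of_isPullback H x').mp hx'.2⟩

end Groth.Agent.Helper16.SmoothLocusBC
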