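import Mathlib
import Groth.Agent.Lib.Helper16.Sch.UnramLocus
set_option autoImplicit false
set_option linter.style.haveILetI false
open CategoryTheory AlgebraicGeometry
universe u

namespace Groth.Agent.Helper16.StalkUnr

set_option backward.defeqAttrib.useBackward true in
set_option backward.isDefEq.respectTransparency false in
/-- the stalk map of a morphism locally of finite type is essentially of finite type -/
theorem essFiniteType_stalkMap {X Y : Scheme.{u}} (f : X ⟶ Y) [LocallyOfFiniteType f] (x : X) :
    letI := (f.stalkMap x).hom.toAlgebra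
    Algebra.EssFiniteType (Y.presheaf.stalk (f x)) (X.presheaf.stalk x) := by
  obtain ⟨_, ⟨V, hV, rfl⟩, hxV, -⟩ :=
    Y.isBasis_affineOpens.exists_subset_of_mem_open (Set.mem_univ (f x)) isOpen_univ
  obtain ⟨_, ⟨U, hU, rfl⟩, hxU, hUV⟩ :=
    X.isBasis_affineOpens.exists_subset_of_mem_open hxV (V.2.preimage f.continuous)
  have hft : (f.appLE V U hUV).hom.FiniteType := f.finiteType_appLE hV hU hUV
  algebraize [(f.appLE V U hUV).hom]
  letI := Y.presheaf.algebra_section_stalk ⟨f x, hxV⟩
  haveI := hV.isLocalization_stalk ⟨f x, hxV⟩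
  letI := X.presheaf.algebra_section_stalk ⟨x, hxU⟩
  haveI := hU.isLocalization_stalk ⟨x, hxU⟩
  letI : Algebra (Y.presheaf.stalk (f x)) (X.presheaf.stalk x) := (f.stalkMap x).hom.toAlgebra
  letI : Algebra Γ(Y, V) (X.presheaf.stalk x) :=
    ((algebraMap Γ(X, U) (X.presheaf.stalk x)).comp (algebraMap Γ(Y, V) Γ(X, U))).toAlgebra
  haveI : IsScalarTower Γ(Y, V) Γ(X, U) (X.presheaf.stalk x) := IsScalarTower.of_algebraMap_eq' rfl
  haveI : IsScalarTower Γ(Y, V) (Y.presheaf.stalk (f x)) (X.presheaf.stalk x) := by
    refine IsScalarTower.of_algebraMap_eq' ?_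
    ext a
    simp only [RingHom.algebraMap_toAlgebra, RingHom.comp_apply]
    show X.presheaf.germ U x hxU (f.appLE V U hUV a) =
      f.stalkMap x (Y.presheaf.germ V (f x) hxV a)
    rw [Scheme.Hom.appLE, CommRingCat.comp_apply, TopCat.Presheaf.germ_res_apply,
      ← Scheme.Hom.germ_stalkMap_apply]
  haveI : Algebra.EssFiniteType Γ(X, U) (X.presheaf.stalk x) :=
    Algebra.EssFiniteType.of_isLocalization _ (hU.primeIdealOf ⟨x, hxU⟩).asIdeal.primeCompl
  haveI : Algebra.EssFiniteType Γ(Y, V) (X.presheaf.stalk x) :=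
    Algebra.EssFiniteType.comp Γ(Y, V) Γ(X, U) _
  exact Algebra.EssFiniteType.of_comp Γ(Y, V) _ _

lemma finite_congr_algebra {K L : Type*} [CommSemiring K] [Semiring L] {a b : Algebra K L}
    (h : a = b) : @Module.Finite K L _ _ a.toModule ↔ @Module.Finite K L _ _ b.toModule := by
  subst h; rfl

lemma isSeparable_congr_algebra {K L : Type*} [CommRing K] [Ring L] {a b : Algebra K L}
    (h : a = b) : @Algebra.IsSeparable K L _ _ a ↔ @Algebra.IsSeparable K L _ _ b := by
  subst h; rfl

open Groth.Agent.Helper16.UnramLocus in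
/-- unramified near a point iff the local homomorphism is unramified -/
theorem unrAt_iff_local {X Y : Scheme.{u}} (f : X ⟶ Y) [LocallyOfFiniteType f] (x : X) :
    (∃ U : X.Opens, x ∈ U ∧ FormallyUnramified (U.ι ≫ f)) ↔
      ((IsLocalRing.maximalIdeal (Y.presheaf.stalk (f.base x))).map (f.stalkMap x).hom =
          IsLocalRing.maximalIdeal (X.presheaf.stalk x) ∧
        letI := (f.residueFieldMap x).hom.toAlgebra
        Module.Finite (Y.residueField (f.base x)) (X.residueField x) ∧
          Algebra.IsSeparable (Y.residueField (f.base x)) (X.residueField x)) := by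
  haveI hess := essFiniteType_stalkMap f x
  letI : Algebra (Y.presheaf.stalk (f x)) (X.presheaf.stalk x) := (f.stalkMap x).hom.toAlgebra
  haveI : IsLocalHom (algebraMap (Y.presheaf.stalk (f x)) (X.presheaf.stalk x)) := by
    show IsLocalHom (f.stalkMap x).hom
    infer_instance
  have key : (∃ U : X.Opens, x ∈ U ∧ FormallyUnramified (U.ι ≫ f)) ↔
      Algebra.FormallyUnramified (Y.presheaf.stalk (f x)) (X.presheaf.stalk x) := by
    rw [← RingHom.formallyUnramified_algebraMap]
    exact unrAt_iff_stalkMap
  have halg : (IsLocalRing.ResidueField.instAlgebra :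
      Algebra (IsLocalRing.ResidueField (Y.presheaf.stalk (f x)))
        (IsLocalRing.ResidueField (X.presheaf.stalk x))) = (f.residueFieldMap x).hom.toAlgebra := by
    apply Algebra.algebra_ext
    intro r
    rfl
  rw [key, Algebra.FormallyUnramified.iff_map_maximalIdeal_eq]
  constructor
  · rintro ⟨hsep, hmap⟩
    have hunr : Algebra.FormallyUnramified (Y.presheaf.stalk (f x)) (X.presheaf.stalk x) :=
      Algebra.FormallyUnramified.of_map_maximalIdeal hmap
    have hfin : Module.Finite (IsLocalRing.ResidueField (Y.presheaf.stalk (f x)))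
      (IsLocalRing.ResidueField (X.presheaf.stalk x)) := inferInstance
    exact ⟨hmap, (finite_congr_algebra halg).mp hfin, (isSeparable_congr_algebra halg).mp hsep⟩
  · rintro ⟨hmap, -, hsep⟩
    exact ⟨(isSeparable_congr_algebra halg).mpr hsep, hmap⟩

end Groth.Agent.Helper16.StalkUnr
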