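import Mathlib
import Groth.Agent.Lib.Helper16.Sch.Rigid
set_option autoImplicit false
open CategoryTheory CategoryTheory.Limits AlgebraicGeometry Opposite
universe u

namespace Groth.Agent.Helper16.NilLift

/-- Two morphisms into a formally unramified, locally finite type `p` agreeing after composing
with a surjective morphism `i` and after composing with `p` are equal. -/
theorem hom_ext_of_surjective {T T' X Y : Scheme.{u}} (i : T ⟶ T') [Surjective i]
    (p : X ⟶ Y) [FormallyUnramified p] [LocallyOfFiniteType p]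
    (f g : T' ⟶ X) (h1 : i ≫ f = i ≫ g) (h2 : f ≫ p = g ≫ p) : f = g := by
  let Y' : Over Y := Over.mk (f ≫ p)
  let X' : Over Y := Over.mk p
  let f' : Y' ⟶ X' := Over.homMk f rfl
  let g' : Y' ⟶ X' := Over.homMk g h2.symm
  have hunr : FormallyUnramified X'.hom := ‹_›
  have hlft : LocallyOfFiniteType X'.hom := ‹_›
  have hop : IsOpenImmersion (equalizer.ι f' g').left :=
    Rigid.isOpenImmersion_equalizer_ι_left f' g'
  let K : Over Y := Over.mk (i ≫ f ≫ p)
  let ι' : K ⟶ Y' := Over.homMk i rfl
  have hι : ι' ≫ f' = ι' ≫ g' := by ext1; exact h1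
  have hsurj : Surjective (equalizer.ι f' g').left := by
    refine ⟨fun y => ?_⟩
    obtain ⟨x, rfl⟩ := i.surjective y
    refine ⟨(equalizer.lift ι' hι).left x, ?_⟩
    rw [← Scheme.Hom.comp_apply, ← Over.comp_left, equalizer.lift_ι]
    rfl
  have : IsIso (equalizer.ι f' g').left :=
    (isIso_iff_isOpenImmersion_and_surjective _).mpr ⟨hop, hsurj⟩
  rw [← cancel_epi (equalizer.ι f' g').left]
  exact congr($(equalizer.condition f' g').left)

/-- Ring-level lifting for an étale ring map against a surjection with nil kernel. -/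
theorem ring_lift_nil {B C R' R : Type u} [CommRing B] [CommRing C] [CommRing R'] [CommRing R]
    (γ : B →+* C) (hγ : γ.Etale) (φ : R' →+* R) (hφ : Function.Surjective φ)
    (hker : RingHom.ker φ ≤ nilradical R') (α : C →+* R) (β : B →+* R')
    (h : φ.comp β = α.comp γ) :
    ∃ ψ : C →+* R', φ.comp ψ = α ∧ ψ.comp γ = β := by
  algebraize [γ]
  let := β.toAlgebra
  let := (φ.comp β).toAlgebra
  let φ' : R' →ₐ[B] R := { φ with commutes' := fun _ => rfl }
  let α' : C →ₐ[B] R := { α with commutes' := fun b => (RingHom.congr_fun h b).symm }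
  obtain ⟨n, π, hπ, hfg⟩ := Algebra.FinitePresentation.out (R := B) (A := C)
  choose r hr using fun i : Fin n => hφ (α (π (MvPolynomial.X i)))
  let θ : MvPolynomial (Fin n) B →ₐ[B] R' := MvPolynomial.aeval r
  have hθ : φ'.comp θ = α'.comp π := by
    apply MvPolynomial.algHom_ext
    intro i
    simp only [AlgHom.comp_apply, θ, MvPolynomial.aeval_X]
    exact hr i
  let J : Ideal R' := Ideal.map θ (RingHom.ker π)
  have hJfg : J.FG := hfg.map _
  have hJφ : J ≤ RingHom.ker φ := by
    rw [Ideal.map_le_iff_le_comap]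
    intro x hx
    rw [Ideal.mem_comap, RingHom.mem_ker]
    have := congr($hθ x)
    simp only [AlgHom.comp_apply] at this
    change φ (θ x) = α (π x) at this
    rw [this, (RingHom.mem_ker).mp hx, map_zero]
  have hJnil : IsNilpotent J := (Ideal.FG.isNilpotent_iff_le_nilradical hJfg).mpr (hJφ.trans hker)
  have hθker : ∀ a ∈ RingHom.ker π, ((Ideal.Quotient.mkₐ B J).comp θ) a = 0 := by
    intro a ha
    simp only [AlgHom.comp_apply, Ideal.Quotient.mkₐ_eq_mk]
    rw [Ideal.Quotient.eq_zero_iff_mem]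
    exact Ideal.mem_map_of_mem _ ha
  let θbar : C →ₐ[B] R' ⧸ J :=
    (Ideal.Quotient.liftₐ (RingHom.ker π) ((Ideal.Quotient.mkₐ B J).comp θ) hθker).comp
      (Ideal.quotientKerAlgEquivOfSurjective hπ).symm.toAlgHom
  have hθbar : ∀ p, θbar (π p) = Ideal.Quotient.mk J (θ p) := by
    intro p
    simp only [θbar, AlgHom.comp_apply]
    have : (Ideal.quotientKerAlgEquivOfSurjective hπ).symm.toAlgHom (π p) =
        Ideal.Quotient.mk _ p := by
      show (Ideal.quotientKerAlgEquivOfSurjective hπ).symm (π p) = _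
      rw [AlgEquiv.symm_apply_eq]
      rfl
    rw [this]
    rfl
  have : Algebra.FormallySmooth B C := inferInstance
  let ψ : C →ₐ[B] R' := Algebra.FormallySmooth.lift J hJnil θbar
  have hψ : ∀ c, Ideal.Quotient.mk J (ψ c) = θbar c :=
    fun c => Algebra.FormallySmooth.mk_lift J hJnil θbar c
  refine ⟨ψ.toRingHom, ?_, ?_⟩
  · ext c
    obtain ⟨p, rfl⟩ := hπ c
    have h1 : ψ (π p) - θ p ∈ J := by
      rw [← Ideal.Quotient.eq, hψ, hθbar]
    have h2 : φ (ψ (π p) - θ p) = 0 := (RingHom.mem_ker).mp (hJφ h1)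
    rw [map_sub, sub_eq_zero] at h2
    show φ (ψ (π p)) = α (π p)
    rw [h2]
    exact congr($hθ p)
  · ext b
    exact ψ.commutes b

end Groth.Agent.Helper16.NilLift
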