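import Mathlib
import Groth.Agent.Lib.Helper16.Sch.NilLift
set_option autoImplicit false
open CategoryTheory CategoryTheory.Limits AlgebraicGeometry Opposite
universe u

namespace Groth.Agent.Helper16.UHLift

/-- étale + universally injective ⇒ open immersion. -/
theorem isOpenImmersion_of_etale_of_universallyInjective {X Y : Scheme.{u}} (f : X ⟶ Y) [Etale f]
    [UniversallyInjective f] : IsOpenImmersion f := by
  have h1 : Surjective (pullback.diagonal f) := (UniversallyInjective.iff_diagonal f).mp ‹_›
  have h2 : IsOpenImmersion (pullback.diagonal f) := inferInstance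
  have h3 : IsIso (pullback.diagonal f) :=
    (isIso_iff_isOpenImmersion_and_surjective _).mpr ⟨h2, h1⟩
  have h4 : Mono f := (pullback.isIso_diagonal_iff f).mp h3
  exact IsOpenImmersion.of_flat_of_mono f

theorem isIso_of_etale_of_universallyInjective_of_surjective {X Y : Scheme.{u}} (f : X ⟶ Y)
    [Etale f] [UniversallyInjective f] [Surjective f] : IsIso f :=
  (isIso_iff_isOpenImmersion_and_surjective _).mpr
    ⟨isOpenImmersion_of_etale_of_universallyInjective f, ‹_›⟩

/-- universal homeomorphisms are homeomorphisms -/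
theorem isHomeomorph_of_univHomeo {X Y : Scheme.{u}} (f : X ⟶ Y) [IsIntegralHom f]
    [UniversallyInjective f] [Surjective f] : IsHomeomorph f := by
  rw [isHomeomorph_iff_continuous_isClosedMap_bijective]
  exact ⟨f.continuous, f.isClosedMap, f.injective, f.surjective⟩

/-- if `σ' ≫ u` is universally injective, and `σ'` is surjective, then `u` is universally
injective -/
theorem universallyInjective_of_comp {X Y Z : Scheme.{u}} (σ' : X ⟶ Y) (u : Y ⟶ Z)
    [UniversallyInjective (σ' ≫ u)] [Surjective σ'] : UniversallyInjective u := by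
  have h3 := ((tfae_universallyInjective (σ' ≫ u)).out 0 2).mp ‹_›
  have hu := (tfae_universallyInjective u).out 0 2
  rw [hu]
  refine ⟨?_, ?_⟩
  · intro p₁ p₂ hp
    obtain ⟨x₁, rfl⟩ := σ'.surjective p₁
    obtain ⟨x₂, rfl⟩ := σ'.surjective p₂
    have : (σ' ≫ u) x₁ = (σ' ≫ u) x₂ := by simpa using hp
    rw [h3.1 this]
  · intro p
    obtain ⟨x, rfl⟩ := σ'.surjective p
    have h : ((σ'.residueFieldMap x).hom.comp (u.residueFieldMap (σ' x)).hom).IsPurelyInseparable := by
      have h := h3.2 x
      have e := Scheme.residueFieldMap_comp σ' u x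
      rw [e] at h
      exact h
    set φ := (u.residueFieldMap (σ' x)).hom with hφ
    set ψ := (σ'.residueFieldMap x).hom with hψ
    algebraize [φ, ψ, ψ.comp φ]
    have : IsPurelyInseparable (Z.residueField (u (σ' x))) (X.residueField x) := h
    exact IsPurelyInseparable.tower_bot (Z.residueField (u (σ' x))) (Y.residueField (σ' x))
      (X.residueField x)

end Groth.Agent.Helper16.UHLift

namespace Groth.Agent.Helper16.UHLift

/-- Descent of sections of étale morphisms along universal homeomorphisms. -/
theorem exists_section_of_univHomeo {W Y Y' : Scheme.{u}} (π : W ⟶ Y) [Etale π]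
    (h : Y' ⟶ Y) [IsIntegralHom h] [UniversallyInjective h] [Surjective h]
    (σ : Y' ⟶ W) (hσ : σ ≫ π = h) :
    ∃ s : Y ⟶ W, s ≫ π = 𝟙 Y ∧ h ≫ s = σ := by
  -- the base change
  let pr1 := pullback.fst π h
  let pr2 := pullback.snd π h
  let s' : Y' ⟶ pullback π h := pullback.lift σ (𝟙 Y') (by simp [hσ])
  have hs'1 : s' ≫ pr1 = σ := pullback.lift_fst _ _ _
  have hs'2 : s' ≫ pr2 = 𝟙 Y' := pullback.lift_snd _ _ _
  have hpr2 : Etale pr2 := inferInstance
  have hs'et : Etale s' := by
    have : Etale (s' ≫ pr2) := by rw [hs'2]; infer_instance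
    exact Etale.of_comp s' pr2
  have hs'mono : Mono s' := by
    have : Mono (s' ≫ pr2) := by rw [hs'2]; infer_instance
    exact mono_of_mono s' pr2
  have hs'op : IsOpenImmersion s' := IsOpenImmersion.of_flat_of_mono s'
  have hpr1a : IsIntegralHom pr1 := MorphismProperty.pullback_fst (P := @IsIntegralHom) π h ‹_›
  have hpr1b : UniversallyInjective pr1 :=
    MorphismProperty.pullback_fst (P := @UniversallyInjective) π h ‹_›
  have hpr1c : Surjective pr1 := MorphismProperty.pullback_fst (P := @Surjective) π h ‹_›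
  have hpr1 : IsHomeomorph pr1 := isHomeomorph_of_univHomeo pr1
  have hopen : IsOpen (Set.range σ) := by
    have : Set.range σ = pr1 '' Set.range s' := by
      rw [← Set.range_comp]
      have : (σ : Y' → W) = (pr1 : _ → W) ∘ (s' : Y' → _) := by
        funext y
        rw [← hs'1]
        rfl
      rw [this]
    rw [this]
    exact hpr1.isOpenMap _ s'.isOpenEmbedding.isOpen_range
  let Uo : W.Opens := ⟨Set.range σ, hopen⟩
  let σ' : Y' ⟶ Uo := IsOpenImmersion.lift Uo.ι σ (by simp [Uo])
  have hσ' : σ' ≫ Uo.ι = σ := IsOpenImmersion.lift_fac _ _ _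
  let v : (Uo : Scheme.{u}) ⟶ Y := Uo.ι ≫ π
  have hσ'v : σ' ≫ v = h := by simp only [v, ← Category.assoc, hσ', hσ]
  have hσ'surj : Surjective σ' := by
    refine ⟨fun p => ?_⟩
    have hp : (p.1 : W) ∈ Set.range σ := p.2
    obtain ⟨y, hy⟩ := hp
    refine ⟨y, ?_⟩
    apply Uo.ι.injective
    rw [← Scheme.Hom.comp_apply, hσ', hy]
    rfl
  have hvui : UniversallyInjective v := by
    have : UniversallyInjective (σ' ≫ v) := by rw [hσ'v]; infer_instance
    exact universallyInjective_of_comp σ' v
  have hvsurj : Surjective v := by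
    have : Surjective (σ' ≫ v) := by rw [hσ'v]; infer_instance
    exact Surjective.of_comp σ' v
  have hvet : Etale v := inferInstance
  have hviso : IsIso v := isIso_of_etale_of_universallyInjective_of_surjective v
  refine ⟨inv v ≫ Uo.ι, ?_, ?_⟩
  · rw [Category.assoc]
    exact IsIso.inv_hom_id v
  · rw [← hσ'v, Category.assoc, IsIso.hom_inv_id_assoc, hσ']

/-- Unique lifting for étale morphisms against universal homeomorphisms. -/
theorem exists_unique_lift_univHomeo {X S : Scheme.{u}} (π : X ⟶ S) [Etale π]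
    {T T' : Scheme.{u}} (t : T ⟶ T') [IsIntegralHom t] [UniversallyInjective t] [Surjective t]
    (a : T ⟶ X) (b : T' ⟶ S) (w : t ≫ b = a ≫ π) :
    ∃! l : T' ⟶ X, t ≫ l = a ∧ l ≫ π = b := by
  obtain ⟨s, hs1, hs2⟩ := exists_section_of_univHomeo (pullback.snd π b) t
    (pullback.lift a t w.symm) (pullback.lift_snd _ _ _)
  have h1 : t ≫ s ≫ pullback.fst π b = a := by
    rw [← Category.assoc, hs2, pullback.lift_fst]
  have h2 : (s ≫ pullback.fst π b) ≫ π = b := by
    rw [Category.assoc, pullback.condition, ← Category.assoc, hs1, Category.id_comp]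
  refine ⟨s ≫ pullback.fst π b, ⟨h1, h2⟩, ?_⟩
  rintro l' ⟨h1', h2'⟩
  exact NilLift.hom_ext_of_surjective t π _ _ (h1'.trans h1.symm) (h2'.trans h2.symm)

end Groth.Agent.Helper16.UHLift
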