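import Mathlib
import Groth.Agent.Lib.Helper16.Sch.NilLift
set_option autoImplicit false
open CategoryTheory CategoryTheory.Limits AlgebraicGeometry Opposite
universe u

namespace Groth.Agent.Helper16.NilLift

theorem spec_lift_nil {B C R' R : CommRingCat.{u}} (γ : B ⟶ C) (hγ : γ.hom.Etale)
    (φ : R' ⟶ R) (hφ : Function.Surjective φ.hom) (hker : RingHom.ker φ.hom ≤ nilradical R')
    (a : Spec R ⟶ Spec C) (b : Spec R' ⟶ Spec B) (h : Spec.map φ ≫ b = a ≫ Spec.map γ) :
    ∃ l : Spec R' ⟶ Spec C, Spec.map φ ≫ l = a ∧ l ≫ Spec.map γ = b := by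
  obtain ⟨α, rfl⟩ := Spec.map_surjective a
  obtain ⟨β, rfl⟩ := Spec.map_surjective b
  rw [← Spec.map_comp, ← Spec.map_comp] at h
  have h' := Spec.map_injective h
  obtain ⟨ψ, h1, h2⟩ := ring_lift_nil γ.hom hγ φ.hom hφ hker α.hom β.hom (by
    rw [← CommRingCat.hom_comp, ← CommRingCat.hom_comp, h'])
  refine ⟨Spec.map (CommRingCat.ofHom ψ), ?_, ?_⟩
  · rw [← Spec.map_comp]
    congr 1
    ext x
    exact RingHom.congr_fun h1 x
  · rw [← Spec.map_comp]
    congr 1
    ext x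
    exact RingHom.congr_fun h2 x

theorem specMap_surjective_of_ker_nil {R' R : CommRingCat.{u}} (φ : R' ⟶ R)
    (hφ : Function.Surjective φ.hom) (hker : RingHom.ker φ.hom ≤ nilradical R') :
    Function.Surjective (Spec.map φ) := by
  intro p
  have h1 : RingHom.ker φ.hom ≤ p.asIdeal := by
    refine hker.trans ?_
    rw [nilradical_eq_sInf]
    exact sInf_le p.isPrime
  have h2 : p ∈ Set.range (PrimeSpectrum.comap φ.hom) := by
    rw [range_comap_of_surjective _ _ hφ]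
    exact h1
  obtain ⟨q, hq⟩ := h2
  exact ⟨q, hq⟩

theorem local_lift_nil {X Y : Scheme.{u}} (f : X ⟶ Y) {V : X.Opens} {W : Y.Opens}
    (hV : IsAffineOpen V) (hW : IsAffineOpen W) (hVW : V ≤ f ⁻¹ᵁ W)
    (hfe : (f.appLE W V hVW).hom.Etale)
    {R' R : CommRingCat.{u}} (φ : R' ⟶ R) (hφ : Function.Surjective φ.hom)
    (hker : RingHom.ker φ.hom ≤ nilradical R')
    (a : Spec R ⟶ X) (b : Spec R' ⟶ Y) (h : Spec.map φ ≫ b = a ≫ f)
    (ha : Set.range a ⊆ V) :
    ∃ l : Spec R' ⟶ X, Spec.map φ ≫ l = a ∧ l ≫ f = b := by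
  have hb : Set.range b ⊆ W := by
    rintro _ ⟨y, rfl⟩
    obtain ⟨x, rfl⟩ := specMap_surjective_of_ker_nil φ hφ hker y
    have : b (Spec.map φ x) = f (a x) := by
      rw [← Scheme.Hom.comp_apply, h, Scheme.Hom.comp_apply]
    rw [this]
    exact hVW (ha ⟨x, rfl⟩)
  let a'' : Spec R ⟶ Spec Γ(X, V) := IsOpenImmersion.lift hV.fromSpec a (by
    rw [hV.range_fromSpec]; exact ha)
  let b'' : Spec R' ⟶ Spec Γ(Y, W) := IsOpenImmersion.lift hW.fromSpec b (by
    rw [hW.range_fromSpec]; exact hb)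
  have ha'' : a'' ≫ hV.fromSpec = a := IsOpenImmersion.lift_fac _ _ _
  have hb'' : b'' ≫ hW.fromSpec = b := IsOpenImmersion.lift_fac _ _ _
  have hsq : Spec.map φ ≫ b'' = a'' ≫ Spec.map (f.appLE W V hVW) := by
    rw [← cancel_mono hW.fromSpec, Category.assoc, hb'', Category.assoc,
      hW.SpecMap_appLE_fromSpec f hV hVW, ← Category.assoc, ha'', h]
  obtain ⟨l'', h1, h2⟩ := spec_lift_nil (f.appLE W V hVW) hfe φ hφ hker a'' b'' hsq
  refine ⟨l'' ≫ hV.fromSpec, ?_, ?_⟩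
  · rw [← Category.assoc, h1, ha'']
  · rw [Category.assoc, ← hW.SpecMap_appLE_fromSpec f hV hVW, ← Category.assoc, h2, hb'']

/-- if `Spec (R'/I) → Spec R'` is surjective then `I` is nil. -/
theorem le_nilradical_of_surjective {R' : CommRingCat.{u}} (I : Ideal R')
    (hs : Function.Surjective (Spec.map (CommRingCat.ofHom (Ideal.Quotient.mk I)))) :
    I ≤ nilradical R' := by
  rw [nilradical_eq_sInf]
  refine le_sInf fun p hp => ?_
  let P : Spec R' := ⟨p, hp⟩
  obtain ⟨q, hq⟩ := hs P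
  have : p = (Spec.map (CommRingCat.ofHom (Ideal.Quotient.mk I)) q).asIdeal := by rw [hq]
  rw [this]
  intro x hx
  show x ∈ Ideal.comap (Ideal.Quotient.mk I) q.asIdeal
  rw [Ideal.mem_comap, Ideal.Quotient.eq_zero_iff_mem.mpr hx]
  exact zero_mem _

/-- Local lift on a small affine open of the thickening. -/
theorem local_lift_open_nil {X Y : Scheme.{u}} (f : X ⟶ Y) {V : X.Opens} {W : Y.Opens}
    (hV : IsAffineOpen V) (hW : IsAffineOpen W) (hVW : V ≤ f ⁻¹ᵁ W)
    (hfe : (f.appLE W V hVW).hom.Etale)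
    {T T' : Scheme.{u}} (t : T ⟶ T') [IsClosedImmersion t] [Surjective t]
    (a : T ⟶ X) (b : T' ⟶ Y) (w : t ≫ b = a ≫ f)
    (U : T'.Opens) (hU : IsAffineOpen U) (hUa : ∀ z : T, t z ∈ U → a z ∈ V) :
    ∃ l : U.toScheme ⟶ X, pullback.snd t U.ι ≫ l = pullback.fst t U.ι ≫ a ∧ l ≫ f = U.ι ≫ b := by
  have : IsAffine U.toScheme := hU
  let s := pullback.snd t U.ι
  have hssurj : Surjective s := inferInstance
  let s' := s ≫ U.toScheme.isoSpec.hom
  have hs' : IsClosedImmersion s' := inferInstance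
  have hs'surj : Surjective s' := inferInstance
  obtain ⟨I, e, he⟩ := IsClosedImmersion.Spec_iff.mp hs'
  have hmk : Spec.map (CommRingCat.ofHom (Ideal.Quotient.mk I)) = e.inv ≫ s' := by
    rw [Iso.eq_inv_comp, ← he]
  have hI : I ≤ nilradical _ := by
    apply le_nilradical_of_surjective
    rw [hmk]
    have : Surjective (e.inv ≫ s') := inferInstance
    exact (e.inv ≫ s').surjective
  have hw' : Spec.map (CommRingCat.ofHom (Ideal.Quotient.mk I)) ≫
      (U.toScheme.isoSpec.inv ≫ U.ι ≫ b) = (e.inv ≫ pullback.fst t U.ι ≫ a) ≫ f := by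
    rw [hmk]
    simp only [s', s, Category.assoc, Iso.hom_inv_id_assoc]
    rw [← pullback.condition_assoc, w]
  have hrange : Set.range (e.inv ≫ pullback.fst t U.ι ≫ a) ⊆ V := by
    rintro _ ⟨x, rfl⟩
    have hx : (e.inv ≫ pullback.fst t U.ι ≫ a) x = a (pullback.fst t U.ι (e.inv x)) := by
      simp
    rw [hx]
    apply hUa
    have : t (pullback.fst t U.ι (e.inv x)) = U.ι (pullback.snd t U.ι (e.inv x)) := by
      show (pullback.fst t U.ι ≫ t) (e.inv x) = (pullback.snd t U.ι ≫ U.ι) (e.inv x)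
      rw [pullback.condition]
    rw [this]
    exact (pullback.snd t U.ι (e.inv x)).2
  obtain ⟨l₀, h1, h2⟩ := local_lift_nil f hV hW hVW hfe (CommRingCat.ofHom (Ideal.Quotient.mk I))
    Ideal.Quotient.mk_surjective (by simpa using hI) _ _ hw' hrange
  refine ⟨U.toScheme.isoSpec.hom ≫ l₀, ?_, ?_⟩
  · have : pullback.snd t U.ι ≫ U.toScheme.isoSpec.hom = e.hom ≫
        Spec.map (CommRingCat.ofHom (Ideal.Quotient.mk I)) := he
    rw [← Category.assoc, this, Category.assoc, h1, Iso.hom_inv_id_assoc]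
  · rw [Category.assoc, h2, Iso.hom_inv_id_assoc]

/-- Unique lifting against surjective closed immersions for étale morphisms. -/
theorem exists_unique_lift_nil {X Y : Scheme.{u}} (f : X ⟶ Y) [Etale f]
    {T T' : Scheme.{u}} (t : T ⟶ T') [IsClosedImmersion t] [Surjective t]
    (a : T ⟶ X) (b : T' ⟶ Y) (w : t ≫ b = a ≫ f) :
    ∃! l : T' ⟶ X, t ≫ l = a ∧ l ≫ f = b := by
  have hsurj : Function.Surjective t := t.surjective
  have hhomeo : IsHomeomorph t :=
    isHomeomorph_iff_isEmbedding_surjective.mpr ⟨t.isClosedEmbedding.isEmbedding, hsurj⟩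
  have hloc : ∀ x' : T', ∃ (U : T'.Opens), x' ∈ U ∧
      ∃ l : U.toScheme ⟶ X, pullback.snd t U.ι ≫ l = pullback.fst t U.ι ≫ a ∧
        l ≫ f = U.ι ≫ b := by
    intro x'
    obtain ⟨x, rfl⟩ := hsurj x'
    obtain ⟨_, ⟨W, hW, rfl⟩, hxW, -⟩ :=
      Y.isBasis_affineOpens.exists_subset_of_mem_open (Set.mem_univ (f (a x))) isOpen_univ
    obtain ⟨_, ⟨V, hV, rfl⟩, hxV, hVW : V ≤ f ⁻¹ᵁ W⟩ :=
      X.isBasis_affineOpens.exists_subset_of_mem_open hxW (f ⁻¹ᵁ W).isOpen
    have hO : IsOpen (t '' (a ⁻¹ᵁ V : Set T)) := hhomeo.isOpenMap _ (a ⁻¹ᵁ V).isOpen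
    obtain ⟨_, ⟨U, hU, rfl⟩, hxU, hUO⟩ :=
      T'.isBasis_affineOpens.exists_subset_of_mem_open
        (show t x ∈ t '' (a ⁻¹ᵁ V : Set T) from ⟨x, hxV, rfl⟩) hO
    refine ⟨U, hxU, ?_⟩
    refine local_lift_open_nil f hV hW hVW (f.etale_appLE hW hV hVW) t a b w U hU ?_
    intro z hz
    obtain ⟨z', hz', hzz'⟩ := hUO hz
    have : z' = z := hhomeo.injective hzz'
    rw [← this]
    exact hz'
  choose U hxU l hl1 hl2 using hloc
  let 𝒰 : T'.OpenCover :=
    { I₀ := T', X := fun i => (U i), f := fun i => (U i).ι,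
      mem₀ := by
        rw [Scheme.presieve₀_mem_precoverage_iff]
        refine ⟨fun x ↦ ⟨x, by simpa using hxU x⟩, inferInstance⟩ }
  have hcompat : ∀ i j : T', pullback.fst (𝒰.f i) (𝒰.f j) ≫ l i = pullback.snd _ _ ≫ l j := by
    intro i j
    let p : pullback (𝒰.f i) (𝒰.f j) ⟶ T' := pullback.fst (𝒰.f i) (𝒰.f j) ≫ 𝒰.f i
    have hp : p = pullback.snd (𝒰.f i) (𝒰.f j) ≫ 𝒰.f j := pullback.condition
    have hsj : Surjective (pullback.snd t p) := inferInstance
    refine hom_ext_of_surjective (pullback.snd t p) f _ _ ?_ ?_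
    · have h1 : pullback.snd t p ≫ pullback.fst (𝒰.f i) (𝒰.f j) ≫ l i =
          pullback.fst t p ≫ a := by
        have hc : pullback.fst t p ≫ t = (pullback.snd t p ≫ pullback.fst (𝒰.f i) (𝒰.f j)) ≫
            (U i).ι := by
          rw [pullback.condition, Category.assoc]
        have : pullback.snd t p ≫ pullback.fst (𝒰.f i) (𝒰.f j) =
            pullback.lift (pullback.fst t p) (pullback.snd t p ≫ pullback.fst (𝒰.f i) (𝒰.f j)) hc ≫
              pullback.snd t (U i).ι := (pullback.lift_snd _ _ _).symm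
        rw [← Category.assoc, this, Category.assoc, hl1 i, ← Category.assoc, pullback.lift_fst]
      have h2 : pullback.snd t p ≫ pullback.snd (𝒰.f i) (𝒰.f j) ≫ l j =
          pullback.fst t p ≫ a := by
        have hc : pullback.fst t p ≫ t = (pullback.snd t p ≫ pullback.snd (𝒰.f i) (𝒰.f j)) ≫
            (U j).ι := by
          rw [pullback.condition, Category.assoc, hp]
        have : pullback.snd t p ≫ pullback.snd (𝒰.f i) (𝒰.f j) =
            pullback.lift (pullback.fst t p) (pullback.snd t p ≫ pullback.snd (𝒰.f i) (𝒰.f j)) hc ≫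
              pullback.snd t (U j).ι := (pullback.lift_snd _ _ _).symm
        rw [← Category.assoc, this, Category.assoc, hl1 j, ← Category.assoc, pullback.lift_fst]
      rw [h1, h2]
    · rw [Category.assoc, Category.assoc, hl2 i, hl2 j]
      show pullback.fst (𝒰.f i) (𝒰.f j) ≫ 𝒰.f i ≫ b = pullback.snd (𝒰.f i) (𝒰.f j) ≫ 𝒰.f j ≫ b
      rw [← Category.assoc, ← Category.assoc, pullback.condition]
  let L : T' ⟶ X := 𝒰.glueMorphisms l hcompat
  have hL : ∀ i, (U i).ι ≫ L = l i := fun i => 𝒰.ι_glueMorphisms l hcompat i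
  have hL1 : t ≫ L = a := by
    refine Scheme.Cover.hom_ext (𝒰.pullback₁ t) _ _ fun i => ?_
    show pullback.fst t (U i).ι ≫ t ≫ L = pullback.fst t (U i).ι ≫ a
    rw [← Category.assoc, pullback.condition, Category.assoc, hL i, hl1 i]
  have hL2 : L ≫ f = b := by
    refine Scheme.Cover.hom_ext 𝒰 _ _ fun i => ?_
    show (U i).ι ≫ L ≫ f = (U i).ι ≫ b
    rw [← Category.assoc, hL i, hl2 i]
  refine ⟨L, ⟨hL1, hL2⟩, ?_⟩
  rintro L' ⟨h1, h2⟩
  exact hom_ext_of_surjective t f _ _ (h1.trans hL1.symm) (h2.trans hL2.symm)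

end Groth.Agent.Helper16.NilLift
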