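import Mathlib
import Groth.Agent.Lib.Helper13.FinPresAffine
import Groth.Agent.Lib.Helper13.QCohAss
import Groth.Agent.Lib.Helper13.WeakAss
import Groth.Prelude.Def_CohB1
import Groth.Prelude.Def_FlatMod2

set_option autoImplicit false
set_option linter.style.haveILetI false
set_option linter.unusedSectionVars false
universe u

open AlgebraicGeometry CategoryTheory Limits IsLocalRing

namespace Groth.Agent.Helper16.UnitMod

theorem isFP_structureModule (X : Scheme.{u}) : CohB1.IsFP (Coh.structureModule X) := by
  haveI : (Coh.structureModule X).IsQuasicoherent :=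
    Groth.Agent.Helper13.QCoh.isQuasicoherent_unit X
  apply Groth.Agent.Helper13.LocFree.isFinitePresentation_of_finitePresentation_sections
  intro x
  obtain ⟨_, ⟨U, hU, rfl⟩, hxU, -⟩ :=
    X.isBasis_affineOpens.exists_subset_of_mem_open (Set.mem_univ x) isOpen_univ
  refine ⟨U, hU, hxU, ?_⟩
  show Module.FinitePresentation Γ(X, U) Γ(X, U)
  infer_instance

theorem support_structureModule (X : Scheme.{u}) : CohB1.support (Coh.structureModule X) = Set.univ := by
  rw [Set.eq_univ_iff_forall]
  intro x
  show ¬ Subsingleton ((Coh.structureModule X).presheaf.stalk x)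
  intro h
  have e := Groth.Agent.Helper13.WeakAss.unitStalkEquiv x
  haveI : Subsingleton (X.presheaf.stalk x) := e.symm.toEquiv.subsingleton
  exact false_of_nontrivial_of_subsingleton (X.presheaf.stalk x)

theorem isFlatOver_structureModule {X Y : Scheme.{u}} (f : X ⟶ Y) [Flat f] :
    FlatMod.IsFlatOver f (Coh.structureModule X) := by
  intro x
  unfold FlatMod.IsFlatOverAt
  letI := FlatMod.moduleStalkOver f (Coh.structureModule X) x
  have hflat : (f.stalkMap x).hom.Flat := Flat.stalkMap f x
  letI : Algebra (Y.presheaf.stalk (f.base x)) (X.presheaf.stalk x) := (f.stalkMap x).hom.toAlgebra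
  haveI : Module.Flat (Y.presheaf.stalk (f.base x)) (X.presheaf.stalk x) := hflat
  let e := Groth.Agent.Helper13.WeakAss.unitStalkEquiv x
  let e' : (Coh.structureModule X).presheaf.stalk x ≃ₗ[Y.presheaf.stalk (f.base x)]
      X.presheaf.stalk x :=
    { e.toAddEquiv with
      map_smul' := fun r m => by
        show e ((f.stalkMap x).hom r • m) = (f.stalkMap x).hom r • e m
        exact e.map_smul _ _ }
  exact Module.Flat.of_linearEquiv e'

end Groth.Agent.Helper16.UnitMod
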