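import Mathlib
import Groth.Agent.Lib.Helper16.Sch.SmoothLocusBC3

set_option autoImplicit false
set_option linter.style.haveILetI false
universe u
open CategoryTheory CategoryTheory.Limits AlgebraicGeometry Opposite TopologicalSpace

noncomputable section

namespace Groth.Agent.Helper16.GenSm

open Groth.Agent.Helper16.SmoothLocusBC Groth.Agent.Helper16.SmoothFibreSch

/-- A nonempty scheme locally of finite presentation and geometrically reduced over a field has
nonempty smooth locus. -/
theorem smoothLocus_nonempty_of_geometricallyReduced (K : Type u) [Field K]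
    {F : Scheme.{u}} (q : F ⟶ Spec (.of K)) [LocallyOfFinitePresentation q]
    [GeometricallyReduced q] [Nonempty F] : (q.smoothLocus : Set F).Nonempty := by
  let L := AlgebraicClosure K
  let g : Spec (.of L) ⟶ Spec (.of K) := Spec.map (CommRingCat.ofHom (algebraMap K L))
  have H : IsPullback (pullback.fst q g) (pullback.snd q g) q g := .of_hasPullback _ _
  haveI : IsReduced (pullback q g) := GeometricallyReduced.geometrically_isReduced g _ _ H
  have hd := Scheme.Hom.dense_smoothLocus_of_perfectField (pullback.snd q g)
  haveI : Surjective g := by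
    refine ⟨fun y => ?_⟩
    have hss : Subsingleton (PrimeSpectrum K) := inferInstance
    have hne : Nonempty (PrimeSpectrum L) := inferInstance
    obtain ⟨z⟩ := hne
    exact ⟨z, hss.elim _ _⟩
  haveI : Surjective (pullback.fst q g) := inferInstance
  haveI : Nonempty ↥(pullback q g) := by
    obtain ⟨x⟩ := ‹Nonempty F›
    obtain ⟨z, -⟩ := (pullback.fst q g).surjective x
    exact ⟨z⟩
  obtain ⟨z', hz'⟩ := hd.nonempty
  exact ⟨pullback.fst q g z', mem_smoothLocus_of_isPullback_of_flat H z' hz'⟩

end Groth.Agent.Helper16.GenSm
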