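import Mathlib
import Groth.Agent.Lib.Helper16.Sch.GenSm1

set_option autoImplicit false
set_option linter.style.haveILetI false
universe u
open CategoryTheory CategoryTheory.Limits AlgebraicGeometry Opposite TopologicalSpace

noncomputable section

namespace Groth.Agent.Helper16.GenSm

open Groth.Agent.Helper16.SmoothLocusBC Groth.Agent.Helper16.SmoothFibreSch

/-- a dominant morphism of irreducible schemes maps the generic point to the generic point -/
theorem map_genericPoint_of_isDominant {X Y : Scheme.{u}} [IrreducibleSpace X]
    [IrreducibleSpace Y] (f : X ⟶ Y) [IsDominant f] : f (genericPoint X) = genericPoint Y := by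
  have h := (genericPoint_spec X).image f.continuous
  rw [Set.image_univ, f.denseRange.closure_range] at h
  exact h.eq (genericPoint_spec Y)

theorem flat_stalkMap_of_isField {X Y : Scheme.{u}} (f : X ⟶ Y) (x : X)
    (hF : IsField (Y.presheaf.stalk (f x))) : (f.stalkMap x).hom.Flat := by
  letI := hF.toField
  algebraize [(f.stalkMap x).hom]
  show Module.Flat (Y.presheaf.stalk (f x)) (X.presheaf.stalk x)
  infer_instance

theorem main (X Y : Scheme.{u}) [IsIntegral X] [IsIntegral Y]
    (f : X ⟶ Y) [IsDominant f] [LocallyOfFinitePresentation f]
    (hsep : GeometricallyReduced (f.fiberToSpecResidueField (f.base (genericPoint X)))) :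
    Dense (f.smoothLocus : Set X) := by
  have e : f (genericPoint X) = genericPoint Y := map_genericPoint_of_isDominant f
  suffices h : genericPoint X ∈ f.smoothLocus from f.smoothLocus.isOpen.dense ⟨_, h⟩
  rw [mem_smoothLocus_iff_flat_and_fiber f (genericPoint X)]
  refine ⟨flat_stalkMap_of_isField f _ ?_, ?_⟩
  · rw [e]
    exact (inferInstance : Field Y.functionField).toIsField
  · haveI : Nonempty ↥(f.fiber (f (genericPoint X))) := ⟨f.asFiber (genericPoint X)⟩
    obtain ⟨z, hz⟩ := smoothLocus_nonempty_of_geometricallyReduced
      (Y.residueField (f (genericPoint X))) (f.fiberToSpecResidueField (f (genericPoint X)))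
    have hsp : f.asFiber (genericPoint X) ⤳ z := by
      rw [← (f.fiberι _).isEmbedding.isInducing.specializes_iff, Scheme.Hom.fiberι_asFiber]
      exact (genericPoint_spec X).specializes (Set.mem_univ _)
    exact hsp.mem_open (Scheme.Hom.smoothLocus _).isOpen hz

end Groth.Agent.Helper16.GenSm
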