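import Mathlib
import Groth.Agent.Lib.Helper16.Sch.GrpIrr2

set_option autoImplicit false
set_option linter.style.haveILetI false
set_option linter.unusedSectionVars false
universe u v
open CategoryTheory CategoryTheory.Limits AlgebraicGeometry MonoidalCategory CartesianMonoidalCategory
  MonObj GrpObj

namespace Groth.Agent.Helper16.GrpIrr

section Cat

variable {C : Type u} [Category.{v} C] [CartesianMonoidalCategory C] (G : C) [GrpObj G]

theorem lift_id_one_mul : lift (𝟙 G) (toUnit G ≫ η[G]) ≫ μ[G] = 𝟙 G := by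
  rw [← Hom.mul_def, ← Hom.one_def]
  exact _root_.mul_one _

theorem lift_one_id_mul : lift (toUnit G ≫ η[G]) (𝟙 G) ≫ μ[G] = 𝟙 G := by
  rw [← Hom.mul_def, ← Hom.one_def]
  exact _root_.one_mul _

end Cat

section Sch

variable {k : Type u} [Field k] (G : Over (Spec (CommRingCat.of k))) [GrpObj G]

theorem unit_apply (z : G.left) :
    η[G].left (G.hom z) = η[G].left (IsLocalRing.closedPoint k) :=
  congrArg _ (Subsingleton.elim (α := PrimeSpectrum k) _ _)

variable [IsAlgClosed k]

/-- over an algebraically closed field, there is at most one irreducible component through the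
unit -/
theorem irreducibleComponent_unit_unique_of_isAlgClosed (Z₁ Z₂ : Set G.left)
    (h1 : Z₁ ∈ irreducibleComponents G.left) (h2 : Z₂ ∈ irreducibleComponents G.left)
    (he1 : η[G].left (IsLocalRing.closedPoint k) ∈ Z₁)
    (he2 : η[G].left (IsLocalRing.closedPoint k) ∈ Z₂) : Z₁ = Z₂ := by
  have hW : IsIrreducible ((fst G G).left ⁻¹' Z₁ ∩ (snd G G).left ⁻¹' Z₂) :=
    isIrreducible_inter_preimage G.hom G.hom Z₁ Z₂ h1.1 (isClosed_of_mem_irreducibleComponents _ h1)
      h2.1 (isClosed_of_mem_irreducibleComponents _ h2)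
  have hμ := hW.image μ[G].left μ[G].left.continuous.continuousOn
  have hZ₁ : Z₁ ⊆ μ[G].left '' ((fst G G).left ⁻¹' Z₁ ∩ (snd G G).left ⁻¹' Z₂) := by
    intro z hz
    refine ⟨(lift (𝟙 G) (toUnit G ≫ η[G])).left z, ⟨?_, ?_⟩, ?_⟩
    · rw [Set.mem_preimage, ← Scheme.Hom.comp_apply, ← Over.comp_left, lift_fst]
      exact hz
    · rw [Set.mem_preimage, ← Scheme.Hom.comp_apply, ← Over.comp_left, lift_snd, Over.comp_left,
        Scheme.Hom.comp_apply]
      rw [show (toUnit G).left z = G.hom z from rfl, unit_apply]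
      exact he2
    · rw [← Scheme.Hom.comp_apply, ← Over.comp_left, lift_id_one_mul]
      rfl
  have hZ₂ : Z₂ ⊆ μ[G].left '' ((fst G G).left ⁻¹' Z₁ ∩ (snd G G).left ⁻¹' Z₂) := by
    intro z hz
    refine ⟨(lift (toUnit G ≫ η[G]) (𝟙 G)).left z, ⟨?_, ?_⟩, ?_⟩
    · rw [Set.mem_preimage, ← Scheme.Hom.comp_apply, ← Over.comp_left, lift_fst, Over.comp_left,
        Scheme.Hom.comp_apply]
      rw [show (toUnit G).left z = G.hom z from rfl, unit_apply]
      exact he1
    · rw [Set.mem_preimage, ← Scheme.Hom.comp_apply, ← Over.comp_left, lift_snd]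
      exact hz
    · rw [← Scheme.Hom.comp_apply, ← Over.comp_left, lift_one_id_mul]
      rfl
  exact le_antisymm ((h2.2 hμ hZ₂).trans' hZ₁) ((h1.2 hμ hZ₁).trans' hZ₂)

end Sch

end Groth.Agent.Helper16.GrpIrr
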