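import Mathlib
import Groth.Agent.Lib.Helper16.Sch.GrpIrr3

set_option autoImplicit false
set_option linter.style.haveILetI false
set_option linter.unusedSectionVars false
universe u v
open CategoryTheory CategoryTheory.Limits AlgebraicGeometry MonoidalCategory CartesianMonoidalCategory
  MonObj GrpObj

namespace Groth.Agent.Helper16.GrpIrr

/-- descent of "at most one irreducible component through a point" along generalizing maps -/
theorem irreducibleComponent_unique_of_generalizingMap {X' X : Scheme.{u}} (π : X' ⟶ X)
    (hπ : GeneralizingMap π) (x' : X')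
    (h : ∀ Z₁ Z₂ : Set X', Z₁ ∈ irreducibleComponents X' → Z₂ ∈ irreducibleComponents X' →
      x' ∈ Z₁ → x' ∈ Z₂ → Z₁ = Z₂)
    (Z₁ Z₂ : Set X) (h1 : Z₁ ∈ irreducibleComponents X) (h2 : Z₂ ∈ irreducibleComponents X)
    (hx1 : π x' ∈ Z₁) (hx2 : π x' ∈ Z₂) : Z₁ = Z₂ := by
  have key : ∀ Z : Set X, Z ∈ irreducibleComponents X → π x' ∈ Z →
      Z = closure (π '' irreducibleComponent x') := by
    intro Z hZ hxZ
    have hZc : IsClosed Z := isClosed_of_mem_irreducibleComponents _ hZ
    obtain ⟨ξ, hξ⟩ := QuasiSober.sober hZ.1 hZc
    have hξcl : closure {ξ} = Z := hξ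
    have hspec : ξ ⤳ π x' := by
      rw [specializes_iff_mem_closure, hξcl]; exact hxZ
    obtain ⟨ξ', hξ', rfl⟩ := hπ hspec
    have hx'mem : x' ∈ irreducibleComponent ξ' := by
      have : closure {ξ'} ⊆ irreducibleComponent ξ' :=
        closure_minimal (Set.singleton_subset_iff.mpr mem_irreducibleComponent)
          isClosed_irreducibleComponent
      exact this (specializes_iff_mem_closure.mp hξ')
    have heq : irreducibleComponent ξ' = irreducibleComponent x' :=
      h _ _ (irreducibleComponent_mem_irreducibleComponents ξ')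
        (irreducibleComponent_mem_irreducibleComponents x') hx'mem mem_irreducibleComponent
    have hξ'mem : ξ' ∈ irreducibleComponent x' := heq ▸ mem_irreducibleComponent
    have hle : Z ⊆ closure (π '' irreducibleComponent x') := by
      rw [← hξcl]
      exact closure_mono (Set.singleton_subset_iff.mpr ⟨ξ', hξ'mem, rfl⟩)
    have hirr : IsIrreducible (closure (π '' irreducibleComponent x')) :=
      (isIrreducible_irreducibleComponent.image _ π.continuous.continuousOn).closure
    exact le_antisymm hle (hZ.2 hirr hle)
  rw [key Z₁ h1 hx1, key Z₂ h2 hx2]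

end Groth.Agent.Helper16.GrpIrr

namespace Groth.Agent.Helper16.GrpIrr

open scoped CategoryTheory.Obj

section BC

variable {S S' : Scheme.{u}} (c : S' ⟶ S) (G : Over S) [GrpObj G]

/-- the projection from the base change of a group scheme sends the unit section to the unit
section -/
theorem unit_baseChange_fst :
    η[(Over.pullback c).obj G].left ≫ pullback.fst G.hom c =
      c ≫ η[G].left := by
  rw [Functor.obj.η_def, Over.comp_left, Category.assoc]
  have h1 : ((Over.pullback c).map η[G]).left ≫ pullback.fst G.hom c =
      pullback.fst (𝟙 S) c ≫ η[G].left := by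
    simp only [Over.pullback, Over.homMk_left]
    exact pullback.lift_fst _ _ _
  rw [h1, Over.ε_pullback_left]
  have h2 : inv (pullback.snd (𝟙 S) c) ≫ pullback.fst (𝟙 S) c = c := by
    rw [IsIso.inv_comp_eq, ← pullback.condition, Category.comp_id]
  exact (Category.assoc _ _ _).symm.trans (congrArg (fun t => t ≫ η[G].left) h2)

end BC

section Field

variable {k : Type u} [Field k] (G : Over (Spec (CommRingCat.of k))) [GrpObj G]

/-- at most one irreducible component of a group scheme over a field passes through the unit -/
theorem irreducibleComponent_unit_unique (Z₁ Z₂ : Set G.left)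
    (h1 : Z₁ ∈ irreducibleComponents G.left) (h2 : Z₂ ∈ irreducibleComponents G.left)
    (he1 : η[G].left (IsLocalRing.closedPoint k) ∈ Z₁)
    (he2 : η[G].left (IsLocalRing.closedPoint k) ∈ Z₂) : Z₁ = Z₂ := by
  let c : Spec (CommRingCat.of (AlgebraicClosure k)) ⟶ Spec (CommRingCat.of k) :=
    Spec.map (CommRingCat.ofHom (algebraMap k (AlgebraicClosure k)))
  have hπe : pullback.fst G.hom c
      (η[(Over.pullback c).obj G].left (IsLocalRing.closedPoint (AlgebraicClosure k))) =
      η[G].left (IsLocalRing.closedPoint k) := by
    rw [← Scheme.Hom.comp_apply, unit_baseChange_fst, Scheme.Hom.comp_apply]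
    exact congrArg _ (Subsingleton.elim (α := PrimeSpectrum k) _ _)
  refine irreducibleComponent_unique_of_generalizingMap (pullback.fst G.hom c)
    (Flat.generalizingMap _)
    (η[(Over.pullback c).obj G].left (IsLocalRing.closedPoint (AlgebraicClosure k)))
    (fun W₁ W₂ hW₁ hW₂ h1 h2 => irreducibleComponent_unit_unique_of_isAlgClosed
      ((Over.pullback c).obj G) W₁ W₂ hW₁ hW₂ h1 h2) Z₁ Z₂ h1 h2 ?_ ?_
  · rw [hπe]; exact he1
  · rw [hπe]; exact he2

end Field

end Groth.Agent.Helper16.GrpIrr
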