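import Mathlib
import Groth.Agent.Lib.Helper16.Sch.UnramLocus
set_option autoImplicit false
open CategoryTheory CategoryTheory.Limits AlgebraicGeometry Opposite
universe u

namespace Groth.Agent.Helper16.MonoFib

open IsLocalRing in
theorem quotientMap_eq_residueFieldMap {A B : Type u} [CommRing A] [CommRing B] [IsLocalRing A]
    [IsLocalRing B] (φ : A →+* B) [IsLocalHom φ] (J : Ideal B) (hJ : J = maximalIdeal B)
    (h : maximalIdeal A ≤ J.comap φ) :
    Function.Bijective (Ideal.quotientMap J φ h) ↔
      Function.Bijective (ResidueField.map φ) := by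
  subst hJ
  have : Ideal.quotientMap (maximalIdeal B) φ h = ResidueField.map φ := by
    apply Ideal.Quotient.ringHom_ext
    ext a
    rfl
  rw [← this]
  exact Iff.rfl

open IsLocalRing in
/-- The local-ring criterion. -/
theorem bijective_quotientMap_iff {A B : Type u} [CommRing A] [CommRing B] [IsLocalRing A]
    [IsLocalRing B] (φ : A →+* B) [IsLocalHom φ] (hφ : φ.EssFiniteType) :
    Function.Bijective (Ideal.quotientMap ((maximalIdeal A).map φ) φ Ideal.le_comap_map) ↔
      φ.FormallyUnramified ∧ Function.Bijective (ResidueField.map φ) := by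
  algebraize [φ]
  have hloc : IsLocalHom (algebraMap A B) := ‹IsLocalHom φ›
  constructor
  · intro hbij
    have hfield : IsField (B ⧸ (maximalIdeal A).map φ) :=
      (RingEquiv.ofBijective _ hbij).symm.toMulEquiv.isField
        (Ideal.Quotient.maximal_ideal_iff_isField_quotient _ |>.mp (maximalIdeal.isMaximal A))
    have hmax : ((maximalIdeal A).map φ).IsMaximal :=
      Ideal.Quotient.maximal_of_isField _ hfield
    have hJ : (maximalIdeal A).map φ = maximalIdeal B := IsLocalRing.eq_maximalIdeal hmax
    have hres : Function.Bijective (ResidueField.map φ) :=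
      (quotientMap_eq_residueFieldMap φ _ hJ Ideal.le_comap_map).mp hbij
    refine ⟨?_, hres⟩
    have hsep : Algebra.IsSeparable (ResidueField A) (ResidueField B) := by
      refine ⟨fun x => ?_⟩
      obtain ⟨y, rfl⟩ := hres.2 x
      exact isSeparable_algebraMap (K := ResidueField B) y
    exact Algebra.FormallyUnramified.of_map_maximalIdeal hJ
  · rintro ⟨hunr, hres⟩
    have : Algebra.FormallyUnramified A B := hunr
    have hJ : (maximalIdeal A).map φ = maximalIdeal B :=
      Algebra.FormallyUnramified.map_maximalIdeal
    exact (quotientMap_eq_residueFieldMap φ _ hJ Ideal.le_comap_map).mpr hres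

end Groth.Agent.Helper16.MonoFib
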