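import Mathlib
import Groth.Agent.Lib.Helper16.Sch.FibStalk2
import Groth.Agent.Lib.Helper16.Sch.MonoFib
import Groth.Agent.Lib.Helper16.Sch.UnramLocus

/-!
# Closed-immersion neighbourhoods (EGA IV 18.12.7-type statement)

`f` locally of finite type, universally closed near `y`, with fibre `X_y` empty or `Spec κ(y)`:
then `f` is a closed immersion over a neighbourhood of `y`.
-/

set_option autoImplicit false
open AlgebraicGeometry CategoryTheory Limits IsLocalRing
universe u

namespace Groth.Agent.Helper16.CINhd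

variable {X Y : Scheme.{u}}

open FibStalk in
/-- If the fibre through `x` is `Spec κ(f x)`, then `κ(f x) → 𝒪_{X,x}/𝔪_{f x}𝒪_{X,x}` is
bijective. -/
theorem bijective_quotientMap_of_isIso_fiber (f : X ⟶ Y) (x : X)
    [IsIso (f.fiberToSpecResidueField (f x))] :
    Function.Bijective (Ideal.quotientMap
      ((maximalIdeal (Y.presheaf.stalk (f x))).map (f.stalkMap x).hom) (f.stalkMap x).hom
      Ideal.le_comap_map) := by
  constructor
  · let := Ideal.Quotient.field (maximalIdeal (Y.presheaf.stalk (f x)))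
    have : Nontrivial (X.presheaf.stalk x ⧸
        (maximalIdeal (Y.presheaf.stalk (f x))).map (f.stalkMap x).hom) :=
      inferInstanceAs (Nontrivial (X.presheaf.stalk x ⧸ fibIdeal f x))
    exact RingHom.injective _
  · intro q
    obtain ⟨r, rfl⟩ := Ideal.Quotient.mk_surjective q
    have hbij : Function.Bijective
        ((f.fiberToSpecResidueField (f x)).stalkMap (f.asFiber x)).hom :=
      ConcreteCategory.bijective_of_isIso _
    obtain ⟨c, hc⟩ := hbij.2 (toFibStalk f x r)
    obtain ⟨a, rfl⟩ := baseToFibBase_surjective f x c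
    refine ⟨Ideal.Quotient.mk _ a, ?_⟩
    rw [Ideal.quotientMap_mk, Ideal.Quotient.eq]
    change _ ∈ fibIdeal f x
    rw [← ker_toFibStalk, RingHom.mem_ker, map_sub, sub_eq_zero]
    have := congrArg (fun φ => φ a) (stalkMap_fiberToSpecResidueField_comp_baseToFibBase f x)
    simp only [RingHom.comp_apply] at this
    rw [← this, hc]

/-- If the fibre through `x` is `Spec κ(f x)`, then `x` is the only point of its fibre. -/
theorem eq_of_isIso_fiber (f : X ⟶ Y) (x : X)
    [IsIso (f.fiberToSpecResidueField (f x))] (x₁ : X) (h : f x₁ = f x) : x₁ = x := by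
  have h1 : x₁ ∈ Set.range (f.fiberι (f x)) := by
    rw [f.range_fiberι]; exact h
  obtain ⟨a, rfl⟩ := h1
  have h2 : x ∈ Set.range (f.fiberι (f x)) := by
    rw [f.range_fiberι]; rfl
  obtain ⟨b, hb⟩ := h2
  have hinj : Function.Injective (f.fiberToSpecResidueField (f x)) :=
    (ConcreteCategory.bijective_of_isIso (f.fiberToSpecResidueField (f x)).base).1
  have : a = b := hinj (Subsingleton.elim _ _)
  rw [this, hb]

open Scheme.Pullback in
theorem subsingleton_Spec_tensor {X Y S : Scheme.{u}} {f : X ⟶ S} {g : Y ⟶ S} (T : Triplet f g)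
    (hsurj : Function.Surjective (f.residueFieldMap T.x).hom) : Subsingleton (Spec T.tensor) := by
  have hiso : IsIso ((S.residueFieldCongr T.hx).inv ≫ f.residueFieldMap T.x) := by
    have : IsIso (f.residueFieldMap T.x) := by
      rw [ConcreteCategory.isIso_iff_bijective]
      exact ⟨(f.residueFieldMap T.x).hom.injective, hsurj⟩
    infer_instance
  have hiso2 : IsIso T.tensorInr := by
    unfold Triplet.tensorInr
    exact pushout_inr_iso_of_left_iso _ _
  have hbij : Function.Bijective (Spec.map T.tensorInr) :=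
    ConcreteCategory.bijective_of_isIso (Spec.map T.tensorInr).base
  have : Subsingleton (Spec (Y.residueField T.y)) :=
    inferInstanceAs (Subsingleton (PrimeSpectrum (Y.residueField T.y)))
  exact hbij.1.subsingleton

open Scheme.Pullback in
/-- Two points of a fibre product with the same projections coincide as soon as one of the
residue field extensions is trivial. -/
theorem eq_of_fst_eq_snd_eq {X Y S : Scheme.{u}} (f : X ⟶ S) (g : Y ⟶ S) (p q : ↑(pullback f g))
    (h1 : pullback.fst f g p = pullback.fst f g q) (h2 : pullback.snd f g p = pullback.snd f g q)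
    (hsurj : Function.Surjective (f.residueFieldMap (pullback.fst f g p)).hom) : p = q := by
  have hsub : Subsingleton (Spec (carrierEquiv p).1.tensor) :=
    subsingleton_Spec_tensor (Triplet.ofPoint p) hsurj
  symm
  apply carrierEquiv.injective
  rw [carrierEquiv_eq_iff]
  exact ⟨Triplet.ext h1.symm h2.symm, Subsingleton.elim _ _⟩

/-- A universally closed morphism locally of finite type which, at a point `x`, is unramified with
trivial residue field extension and has `x` as the only point of its fibre is a monomorphism over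
a neighbourhood of the image of `x`. -/
theorem exists_nhd_mono (g : X ⟶ Y) [LocallyOfFiniteType g] [UniversallyClosed g] (x : X)
    (huniq : ∀ x₁, g x₁ = g x → x₁ = x)
    (hbij : Function.Bijective (Ideal.quotientMap
      ((maximalIdeal (Y.presheaf.stalk (g x))).map (g.stalkMap x).hom) (g.stalkMap x).hom
      Ideal.le_comap_map)) :
    ∃ U : Y.Opens, g x ∈ U ∧ Mono (g ∣_ U) := by
  obtain ⟨hunr, hres⟩ :=
    (MonoFib.bijective_quotientMap_iff _ (LocallyOfFiniteType.stalkMap g x)).mp hbij
  obtain ⟨W, hxW, hW⟩ := UnramLocus.unrAt_iff_stalkMap.mpr hunr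
  have hj1 : (W.ι ≫ g) ≫ 𝟙 Y = W.ι ≫ g := Category.comp_id _
  let j : pullback (W.ι ≫ g) (W.ι ≫ g) ⟶ pullback g g :=
    pullback.map (W.ι ≫ g) (W.ι ≫ g) g g W.ι W.ι (𝟙 Y) hj1 hj1
  let d : W.toScheme ⟶ pullback g g := pullback.diagonal (W.ι ≫ g) ≫ j
  have hd_fst : d ≫ pullback.fst g g = W.ι := by
    simp only [d, j, Category.assoc, pullback.lift_fst, pullback.diagonal_fst_assoc]
  have hd_snd : d ≫ pullback.snd g g = W.ι := by
    simp only [d, j, Category.assoc, pullback.lift_snd, pullback.diagonal_snd_assoc]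
  have hdo : IsOpenImmersion d := inferInstance
  let h : pullback g g ⟶ Y := pullback.fst g g ≫ g
  have hh : UniversallyClosed h := inferInstance
  let Z : Set ↑(pullback g g) := (Set.range d)ᶜ
  have hZ : IsClosed Z := d.isOpenEmbedding.isOpen_range.isClosed_compl
  have hhZ : IsClosed (h '' Z) := h.isClosedMap _ hZ
  let U : Y.Opens := ⟨(h '' Z)ᶜ, hhZ.isOpen_compl⟩
  have hxU : g x ∈ U := by
    rintro ⟨p, hpZ, hp⟩
    have hp' : g (pullback.fst g g p) = g x := hp
    have h1 : pullback.fst g g p = x := huniq _ hp'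
    have h2 : pullback.snd g g p = x := by
      apply huniq
      rw [← hp']
      change (pullback.snd g g ≫ g) p = (pullback.fst g g ≫ g) p
      rw [pullback.condition]
    apply hpZ
    refine ⟨⟨x, hxW⟩, ?_⟩
    have e1 : pullback.fst g g (d ⟨x, hxW⟩) = x := by
      rw [← Scheme.Hom.comp_apply, hd_fst]; rfl
    have e2 : pullback.snd g g (d ⟨x, hxW⟩) = x := by
      rw [← Scheme.Hom.comp_apply, hd_snd]; rfl
    symm
    apply eq_of_fst_eq_snd_eq g g p _ (h1.trans e1.symm) (h2.trans e2.symm)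
    rw [h1]
    exact hres.2
  refine ⟨U, hxU, ⟨fun {T} a b hab => ?_⟩⟩
  have hab' : (a ≫ (g ⁻¹ᵁ U).ι) ≫ g = (b ≫ (g ⁻¹ᵁ U).ι) ≫ g := by
    rw [Category.assoc, Category.assoc, ← morphismRestrict_ι, ← Category.assoc, ← Category.assoc,
      hab]
  let t : T ⟶ pullback g g := pullback.lift _ _ hab'
  have hrange : Set.range t ⊆ Set.range d := by
    rintro _ ⟨τ, rfl⟩
    by_contra hcon
    have h3 : h (t τ) ∈ h '' Z := ⟨t τ, hcon, rfl⟩
    have h4 : h (t τ) ∈ U := by
      have : h (t τ) = U.ι ((g ∣_ U) (a τ)) := by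
        change (t ≫ pullback.fst g g ≫ g) τ = (a ≫ (g ∣_ U) ≫ U.ι) τ
        rw [pullback.lift_fst_assoc, morphismRestrict_ι, Category.assoc]
      rw [this]
      exact ((g ∣_ U) (a τ)).2
    exact h4 h3
  let c : T ⟶ W.toScheme := IsOpenImmersion.lift d t hrange
  have hc : c ≫ d = t := IsOpenImmersion.lift_fac d t hrange
  have ha : a ≫ (g ⁻¹ᵁ U).ι = c ≫ W.ι := by
    rw [← hd_fst, ← Category.assoc, hc, pullback.lift_fst]
  have hb : b ≫ (g ⁻¹ᵁ U).ι = c ≫ W.ι := by
    rw [← hd_snd, ← Category.assoc, hc, pullback.lift_snd]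
  rw [← cancel_mono (g ⁻¹ᵁ U).ι, ha, hb]

/-- Universally closed, locally of finite type, fibre through `x` equal to `Spec κ(g x)`:
closed immersion near `g x`. -/
theorem exists_nhd_isClosedImmersion (g : X ⟶ Y) [LocallyOfFiniteType g] [UniversallyClosed g]
    (x : X) [IsIso (g.fiberToSpecResidueField (g x))] :
    ∃ U : Y.Opens, g x ∈ U ∧ IsClosedImmersion (g ∣_ U) := by
  obtain ⟨U, hxU, hU⟩ := exists_nhd_mono g x (eq_of_isIso_fiber g x)
    (bijective_quotientMap_of_isIso_fiber g x)
  refine ⟨U, hxU, ?_⟩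
  have h1 : UniversallyClosed (g ∣_ U) := IsZariskiLocalAtTarget.restrict ‹_› U
  have h2 : IsSeparated (g ∣_ U) := inferInstance
  have h3 : LocallyOfFiniteType (g ∣_ U) := inferInstance
  have h4 : IsProper (g ∣_ U) := {}
  exact (IsClosedImmersion.iff_isProper_and_mono _).mpr ⟨h4, hU⟩

/-- A closed map is a closed immersion near any point outside its image. -/
theorem exists_nhd_isClosedImmersion_of_notMem_range (g : X ⟶ Y) (hcl : IsClosedMap g) (y : Y)
    (hy : y ∉ Set.range g) : ∃ U : Y.Opens, y ∈ U ∧ IsClosedImmersion (g ∣_ U) := by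
  let U : Y.Opens := ⟨(Set.range g)ᶜ, hcl.isClosed_range.isOpen_compl⟩
  refine ⟨U, hy, ?_⟩
  have : IsEmpty ↥(g ⁻¹ᵁ U).toScheme := ⟨fun z => z.2 ⟨z.1, rfl⟩⟩
  infer_instance

/-- The fibre of a restriction `f ∣_ U` is a base change of the fibre of `f`. -/
theorem isPullback_fiber_restrict (f : X ⟶ Y) (U : Y.Opens) (y' : U) :
    ∃ m, IsPullback m
      ((f ∣_ U).fiberToSpecResidueField y')
      (f.fiberToSpecResidueField (U.ι y'))
      (Spec.map (U.ι.residueFieldMap y')) :=
  ⟨_, isPullback_fiberToSpecResidueField_of_isPullback (isPullback_morphismRestrict f U).flip y'⟩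

theorem isIso_fiber_restrict (f : X ⟶ Y) (U : Y.Opens) (y' : U)
    (h : IsIso (f.fiberToSpecResidueField (U.ι y'))) :
    IsIso ((f ∣_ U).fiberToSpecResidueField y') := by
  obtain ⟨m, hm⟩ := isPullback_fiber_restrict f U y'
  exact (MorphismProperty.isomorphisms Scheme).of_isPullback hm h

theorem isClosedImmersion_fiber_of_restrict (f : X ⟶ Y) (U : Y.Opens) (y' : U)
    [IsClosedImmersion (f ∣_ U)] : IsClosedImmersion (f.fiberToSpecResidueField (U.ι y')) := by
  have h1 : IsClosedImmersion ((f ∣_ U).fiberToSpecResidueField y') :=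
    inferInstanceAs (IsClosedImmersion (pullback.snd _ _))
  obtain ⟨m, hsq⟩ := isPullback_fiber_restrict f U y'
  have h0 : IsIso (Spec.map (U.ι.residueFieldMap y')) := inferInstance
  have h2 : IsIso m :=
    (MorphismProperty.isomorphisms Scheme).of_isPullback hsq.flip h0
  have h3 : f.fiberToSpecResidueField (U.ι y') =
      inv m ≫ (f ∣_ U).fiberToSpecResidueField y' ≫ Spec.map (U.ι.residueFieldMap y') := by
    rw [IsIso.eq_inv_comp]; exact hsq.w
  rw [h3]
  infer_instance

/-- A closed immersion into the spectrum of a field has empty source or is an isomorphism. -/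
theorem isEmpty_or_isIso_of_isClosedImmersion {F : Scheme.{u}} (K : CommRingCat.{u})
    (hK : IsField K) (φ : F ⟶ Spec K) [IsClosedImmersion φ] : IsEmpty F ∨ IsIso φ := by
  by_cases hF : IsEmpty F
  · exact Or.inl hF
  · right
    rw [not_isEmpty_iff] at hF
    obtain ⟨z⟩ := hF
    let := hK.toField
    have hs : Subsingleton (PrimeSpectrum K) := inferInstance
    have : Surjective φ := ⟨fun p => ⟨z, hs.elim (φ z) p⟩⟩
    have : IsDomain K := hK.isDomain
    exact isIso_of_isClosedImmersion_of_surjective φ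

theorem main (f : X ⟶ Y) [LocallyOfFiniteType f] (y : Y) :
    (∃ U : Y.Opens, y ∈ U ∧ IsClosedImmersion (f ∣_ U)) ↔
      ((IsEmpty ↥(f.fiber y) ∨ IsIso (f.fiberToSpecResidueField y)) ∧
        ∃ V : Y.Opens, y ∈ V ∧ UniversallyClosed (f ∣_ V)) := by
  constructor
  · rintro ⟨U, hyU, hU⟩
    refine ⟨?_, U, hyU, inferInstance⟩
    have : IsClosedImmersion (f.fiberToSpecResidueField y) :=
      isClosedImmersion_fiber_of_restrict f U ⟨y, hyU⟩
    exact isEmpty_or_isIso_of_isClosedImmersion _ (Field.toIsField _) (f.fiberToSpecResidueField y)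
  · rintro ⟨hfib, V, hyV, hV⟩
    -- reduce to `g = f ∣_ V`
    suffices H : ∃ U' : V.toScheme.Opens, (⟨y, hyV⟩ : V) ∈ U' ∧
        IsClosedImmersion ((f ∣_ V) ∣_ U') by
      obtain ⟨U', hyU', hU'⟩ := H
      refine ⟨V.ι ''ᵁ U', ⟨⟨y, hyV⟩, hyU', rfl⟩, ?_⟩
      exact (MorphismProperty.arrow_mk_iso_iff @IsClosedImmersion
        (morphismRestrictRestrict f V U')).mp hU'
    rcases hfib with hempty | hiso
    · apply exists_nhd_isClosedImmersion_of_notMem_range (f ∣_ V) (f ∣_ V).isClosedMap
      rintro ⟨x', hx'⟩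
      have hx'' : f ((f ⁻¹ᵁ V).ι x') = y := by
        have e : ((f ⁻¹ᵁ V).ι ≫ f) x' = ((f ∣_ V) ≫ V.ι) x' := by rw [morphismRestrict_ι]
        rw [Scheme.Hom.comp_apply, Scheme.Hom.comp_apply, hx'] at e
        exact e
      have hmem : (f ⁻¹ᵁ V).ι x' ∈ Set.range (f.fiberι y) := by
        rw [f.range_fiberι]; exact hx''
      obtain ⟨z, -⟩ := hmem
      exact hempty.false z
    · have hiso' : IsIso (f.fiberToSpecResidueField (V.ι ⟨y, hyV⟩)) := hiso
      have hiso2 := isIso_fiber_restrict f V ⟨y, hyV⟩ hiso'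
      have hne : Nonempty ↥((f ∣_ V).fiber ⟨y, hyV⟩) := by
        have hb := ConcreteCategory.bijective_of_isIso
          ((f ∣_ V).fiberToSpecResidueField ⟨y, hyV⟩).base
        obtain ⟨z, -⟩ := hb.2 (IsLocalRing.closedPoint _)
        exact ⟨z⟩
      obtain ⟨z⟩ := hne
      have hz : (f ∣_ V) ((f ∣_ V).fiberι ⟨y, hyV⟩ z) = ⟨y, hyV⟩ :=
        FibStalk.apply_fiberι _ _ z
      rw [← hz]
      have : IsIso ((f ∣_ V).fiberToSpecResidueField
          ((f ∣_ V) ((f ∣_ V).fiberι ⟨y, hyV⟩ z))) := by rw [hz]; exact hiso2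
      exact exists_nhd_isClosedImmersion (f ∣_ V) _

end Groth.Agent.Helper16.CINhd
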