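import Mathlib
import Groth.Agent.Lib.Helper16.Alg.GenFin3

set_option autoImplicit false
set_option linter.style.haveILetI false
universe u
open CategoryTheory CategoryTheory.Limits AlgebraicGeometry Opposite TopologicalSpace

noncomputable section

namespace Groth.Agent.Helper16.GenFinSch

variable {X Y : Scheme.{u}}

theorem basicOpen_appLE (f : X ⟶ Y) {U : Y.Opens} {W : X.Opens} (e : W ≤ f ⁻¹ᵁ U) (a : Γ(Y, U)) :
    X.basicOpen (f.appLE U W e a) = W ⊓ f ⁻¹ᵁ (Y.basicOpen a) := by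
  rw [Scheme.Hom.appLE, CommRingCat.comp_apply, Scheme.basicOpen_res, Scheme.preimage_basicOpen]

set_option backward.defeqAttrib.useBackward true in
set_option backward.isDefEq.respectTransparency false in
theorem mem_basicOpen_iff_notMem_primeIdealOf {U : X.Opens} (hU : IsAffineOpen U)
    (x : X) (hx : x ∈ U) (g : Γ(X, U)) :
    x ∈ X.basicOpen g ↔ g ∉ (hU.primeIdealOf ⟨x, hx⟩).asIdeal := by
  rw [← PrimeSpectrum.mem_basicOpen, IsAffineOpen.primeIdealOf,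
    ← hU.fromSpec_preimage_basicOpen, Scheme.Hom.mem_preimage, ← Scheme.Hom.comp_apply,
    IsAffineOpen.isoSpec_hom, IsAffineOpen.toSpecΓ_fromSpec]
  rfl

theorem fromSpec_injective {U : X.Opens} (hU : IsAffineOpen U) :
    Function.Injective hU.fromSpec :=
  hU.fromSpec.isOpenEmbedding.injective

/-- minimality transfers to prime ideals of affine opens -/
theorem primeIdealOf_minimal {U : Y.Opens} (hU : IsAffineOpen U) (η : Y) (hηU : η ∈ U)
    (hη : ∀ y : Y, y ⤳ η → y = η) :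
    ∀ q : Ideal Γ(Y, U), q.IsPrime → q ≤ (hU.primeIdealOf ⟨η, hηU⟩).asIdeal →
      q = (hU.primeIdealOf ⟨η, hηU⟩).asIdeal := by
  intro q hq hle
  let Q : PrimeSpectrum Γ(Y, U) := ⟨q, hq⟩
  have h1 : Q ⤳ hU.primeIdealOf ⟨η, hηU⟩ := (PrimeSpectrum.le_iff_specializes _ _).mp hle
  have h2 : hU.fromSpec Q ⤳ hU.fromSpec (hU.primeIdealOf ⟨η, hηU⟩) :=
    h1.map hU.fromSpec.continuous
  rw [hU.fromSpec_primeIdealOf] at h2
  have h3 := hη _ h2
  have h4 : Q = hU.primeIdealOf ⟨η, hηU⟩ := fromSpec_injective hU (by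
    rw [h3, hU.fromSpec_primeIdealOf])
  exact congrArg PrimeSpectrum.asIdeal h4

theorem map_fromSpec_eq (f : X ⟶ Y) {U : Y.Opens} (hU : IsAffineOpen U) {W : X.Opens}
    (hW : IsAffineOpen W) (e : W ≤ f ⁻¹ᵁ U) (Q : PrimeSpectrum Γ(X, W)) :
    f (hW.fromSpec Q) = hU.fromSpec (PrimeSpectrum.comap (f.appLE U W e).hom Q) := by
  have := hU.SpecMap_appLE_fromSpec f hW e
  have h2 : f (hW.fromSpec Q) = hU.fromSpec (Spec.map (f.appLE U W e) Q) := by
    rw [← Scheme.Hom.comp_apply, ← this, Scheme.Hom.comp_apply]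
  exact h2

theorem finite_comap_preimage (f : X ⟶ Y) {U : Y.Opens} (hU : IsAffineOpen U) {W : X.Opens}
    (hW : IsAffineOpen W) (e : W ≤ f ⁻¹ᵁ U) (η : Y) (hηU : η ∈ U)
    (hfin : (f ⁻¹' {η}).Finite) :
    (PrimeSpectrum.comap (f.appLE U W e).hom ⁻¹' {hU.primeIdealOf ⟨η, hηU⟩}).Finite := by
  refine (hfin.preimage ((fromSpec_injective hW).injOn)).subset ?_
  intro Q hQ
  show f (hW.fromSpec Q) = η
  rw [map_fromSpec_eq f hU hW e Q]
  have h3 : PrimeSpectrum.comap (f.appLE U W e).hom Q = hU.primeIdealOf ⟨η, hηU⟩ := hQ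
  rw [h3, hU.fromSpec_primeIdealOf]

/-- generic finiteness for affine charts -/
theorem exists_finite_appLE (f : X ⟶ Y) [LocallyOfFiniteType f] {U : Y.Opens}
    (hU : IsAffineOpen U) {W : X.Opens} (hW : IsAffineOpen W) (e : W ≤ f ⁻¹ᵁ U) (η : Y)
    (hηU : η ∈ U) (hη : ∀ y : Y, y ⤳ η → y = η) (hfin : (f ⁻¹' {η}).Finite) :
    ∃ a : Γ(Y, U), η ∈ Y.basicOpen a ∧
      ∀ e' : X.basicOpen (f.appLE U W e a) ≤ f ⁻¹ᵁ (Y.basicOpen a),
        (f.appLE (Y.basicOpen a) (X.basicOpen (f.appLE U W e a)) e').hom.Finite := by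
  letI : Algebra Γ(Y, U) Γ(X, W) := (f.appLE U W e).hom.toAlgebra
  haveI : Algebra.FiniteType Γ(Y, U) Γ(X, W) := f.finiteType_appLE hU hW e
  obtain ⟨a, hap, H⟩ := Groth.Agent.Helper16.GenFin.exists_finite_away
    (hU.primeIdealOf ⟨η, hηU⟩).asIdeal (primeIdealOf_minimal hU η hηU hη)
    (finite_comap_preimage f hU hW e η hηU hfin)
  refine ⟨a, (mem_basicOpen_iff_notMem_primeIdealOf hU η hηU a).mpr hap, ?_⟩
  intro e'
  letI : Algebra Γ(Y, U) Γ(Y, Y.basicOpen a) :=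
    (Y.presheaf.map (homOfLE (Y.basicOpen_le a)).op).hom.toAlgebra
  haveI : IsLocalization.Away a Γ(Y, Y.basicOpen a) := hU.isLocalization_basicOpen a
  letI : Algebra Γ(X, W) Γ(X, X.basicOpen (f.appLE U W e a)) :=
    (X.presheaf.map (homOfLE (X.basicOpen_le _)).op).hom.toAlgebra
  haveI : IsLocalization.Away (algebraMap Γ(Y, U) Γ(X, W) a)
      Γ(X, X.basicOpen (f.appLE U W e a)) := hW.isLocalization_basicOpen _
  letI : Algebra Γ(Y, Y.basicOpen a) Γ(X, X.basicOpen (f.appLE U W e a)) :=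
    (f.appLE (Y.basicOpen a) (X.basicOpen (f.appLE U W e a)) e').hom.toAlgebra
  letI : Algebra Γ(Y, U) Γ(X, X.basicOpen (f.appLE U W e a)) :=
    ((algebraMap Γ(Y, Y.basicOpen a) Γ(X, X.basicOpen (f.appLE U W e a))).comp
      (algebraMap Γ(Y, U) Γ(Y, Y.basicOpen a))).toAlgebra
  haveI : IsScalarTower Γ(Y, U) Γ(Y, Y.basicOpen a) Γ(X, X.basicOpen (f.appLE U W e a)) :=
    .of_algebraMap_eq' rfl
  haveI : IsScalarTower Γ(Y, U) Γ(X, W) Γ(X, X.basicOpen (f.appLE U W e a)) :=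
    .of_algebraMap_eq' (by
      show (f.appLE (Y.basicOpen a) (X.basicOpen (f.appLE U W e a)) e').hom.comp
          (Y.presheaf.map (homOfLE (Y.basicOpen_le a)).op).hom =
        (X.presheaf.map (homOfLE (X.basicOpen_le _)).op).hom.comp (f.appLE U W e).hom
      rw [← CommRingCat.hom_comp, ← CommRingCat.hom_comp, Scheme.Hom.map_appLE,
        Scheme.Hom.appLE_map])
  exact H Γ(Y, Y.basicOpen a) Γ(X, X.basicOpen (f.appLE U W e a))

/-- a closed subset of an affine chart missing the fibre over a minimal point misses the preimage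
of a basic open neighbourhood -/
theorem exists_basicOpen_disjoint (f : X ⟶ Y) {U : Y.Opens} (hU : IsAffineOpen U) {W : X.Opens}
    (hW : IsAffineOpen W) (e : W ≤ f ⁻¹ᵁ U) (η : Y) (hηU : η ∈ U)
    (hη : ∀ y : Y, y ⤳ η → y = η) (Z : Set X) (hZ : IsClosed Z)
    (hZη : ∀ z ∈ Z, z ∈ W → f z ≠ η) :
    ∃ a : Γ(Y, U), η ∈ Y.basicOpen a ∧ ∀ z ∈ Z, z ∈ W → f z ∉ Y.basicOpen a := by
  let Z' : Set (PrimeSpectrum Γ(X, W)) := hW.fromSpec ⁻¹' Z
  have hZ' : IsClosed Z' := hZ.preimage hW.fromSpec.continuous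
  let J : Ideal Γ(X, W) := PrimeSpectrum.vanishingIdeal Z'
  have hJ : PrimeSpectrum.zeroLocus (J : Set Γ(X, W)) = Z' := by
    rw [PrimeSpectrum.zeroLocus_vanishingIdeal_eq_closure, hZ'.closure_eq]
  obtain ⟨a, hap, ha⟩ := Groth.Agent.Helper16.GenFin.exists_notMem_map_eq_zero
    ((Ideal.Quotient.mk J).comp (f.appLE U W e).hom)
    (hU.primeIdealOf ⟨η, hηU⟩).asIdeal (primeIdealOf_minimal hU η hηU hη) (by
      intro Q' hQ' hQp
      let Q : PrimeSpectrum Γ(X, W) := ⟨Q'.comap (Ideal.Quotient.mk J), inferInstance⟩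
      have hQJ : Q ∈ PrimeSpectrum.zeroLocus (J : Set Γ(X, W)) := by
        intro x hx
        show Ideal.Quotient.mk J x ∈ Q'
        rw [Ideal.Quotient.eq_zero_iff_mem.mpr hx]
        exact Ideal.zero_mem _
      rw [hJ] at hQJ
      have hQW : hW.fromSpec Q ∈ W := by
        have := hW.range_fromSpec
        rw [← SetLike.mem_coe, ← this]
        exact ⟨Q, rfl⟩
      apply hZη _ hQJ hQW
      rw [map_fromSpec_eq f hU hW e Q]
      have : PrimeSpectrum.comap (f.appLE U W e).hom Q = hU.primeIdealOf ⟨η, hηU⟩ :=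
        PrimeSpectrum.ext hQp
      rw [this, hU.fromSpec_primeIdealOf])
  refine ⟨a, (mem_basicOpen_iff_notMem_primeIdealOf hU η hηU a).mpr hap, ?_⟩
  intro z hzZ hzW
  have hfz : f z ∈ U := e hzW
  rw [mem_basicOpen_iff_notMem_primeIdealOf hU (f z) hfz a, not_not,
    ← IsAffineOpen.comap_primeIdealOf_appLE U hU W hW e hzW]
  show (f.appLE U W e).hom a ∈ (hW.primeIdealOf ⟨z, hzW⟩).asIdeal
  have haJ : (f.appLE U W e).hom a ∈ J := Ideal.Quotient.eq_zero_iff_mem.mp ha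
  have hzZ' : hW.primeIdealOf ⟨z, hzW⟩ ∈ Z' := by
    show hW.fromSpec (hW.primeIdealOf ⟨z, hzW⟩) ∈ Z
    rw [hW.fromSpec_primeIdealOf]
    exact hzZ
  exact (PrimeSpectrum.mem_vanishingIdeal _ _).mp haJ _ hzZ'

end Groth.Agent.Helper16.GenFinSch
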