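import Mathlib
import Groth.Agent.Lib.Helper16.Sch.GenFinSch

set_option autoImplicit false
set_option linter.style.haveILetI false
universe u
open CategoryTheory CategoryTheory.Limits AlgebraicGeometry Opposite TopologicalSpace

noncomputable section

namespace Groth.Agent.Helper16.GenFinSch

variable {X Y : Scheme.{u}}

theorem mem_basicOpen_prod_iff {U : Y.Opens} (hU : IsAffineOpen U) (y : Y) (hy : y ∈ U)
    {ι : Type*} (t : Finset ι) (g : ι → Γ(Y, U)) :
    y ∈ Y.basicOpen (∏ i ∈ t, g i) ↔ ∀ i ∈ t, y ∈ Y.basicOpen (g i) := by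
  rw [mem_basicOpen_iff_notMem_primeIdealOf hU y hy, Ideal.IsPrime.prod_mem_iff]
  push_neg
  exact forall₂_congr fun i _ => (mem_basicOpen_iff_notMem_primeIdealOf hU y hy (g i)).symm

theorem isFinite_morphismRestrict_of_appLE (f : X ⟶ Y) {V : Y.Opens} (hV : IsAffineOpen V)
    (hT : IsAffineOpen (f ⁻¹ᵁ V)) (h : (f.appLE V (f ⁻¹ᵁ V) le_rfl).hom.Finite) :
    IsFinite (f ∣_ V) := by
  haveI : IsAffine V.toScheme := hV
  haveI : IsAffine (f ⁻¹ᵁ V).toScheme := hT
  rw [HasAffineProperty.iff_of_isAffine (P := @IsFinite)]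
  refine ⟨hT, ?_⟩
  rw [← Scheme.Hom.resLE_eq_morphismRestrict]
  exact (RingHom.finite_respectsIso.arrow_mk_iso_iff (arrowResLEAppIso f V (f ⁻¹ᵁ V) le_rfl)).mpr h

theorem isFinite_resLE_of_appLE (f : X ⟶ Y) {V : Y.Opens} (hV : IsAffineOpen V) {T : X.Opens}
    (hT : IsAffineOpen T) (e : T ≤ f ⁻¹ᵁ V) (h : (f.appLE V T e).hom.Finite) :
    IsFinite (f.resLE V T e) := by
  haveI : IsAffine V.toScheme := hV
  haveI : IsAffine T.toScheme := hT
  rw [HasAffineProperty.iff_of_isAffine (P := @IsFinite)]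
  refine ⟨hT, ?_⟩
  exact (RingHom.finite_respectsIso.arrow_mk_iso_iff (arrowResLEAppIso f V T e)).mpr h

theorem isFinite_morphismRestrict_image (f : X ⟶ Y) (U : Y.Opens) (V : U.toScheme.Opens)
    (h : IsFinite ((f ∣_ U) ∣_ V)) : IsFinite (f ∣_ (U.ι ''ᵁ V)) :=
  (MorphismProperty.arrow_mk_iso_iff @IsFinite (morphismRestrictRestrict f U V)).mp h

theorem eq_of_specializes_of_mem_irreducibleComponents {T : Type*} [TopologicalSpace T]
    [T0Space T] (η : T) (hη : closure {η} ∈ irreducibleComponents T) (y : T) (h : y ⤳ η) :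
    y = η := by
  have h1 : closure {η} ⊆ closure {y} :=
    closure_minimal (Set.singleton_subset_iff.mpr (specializes_iff_mem_closure.mp h))
      isClosed_closure
  have h2 : IsIrreducible (closure {y}) := isIrreducible_singleton.closure
  have h3 : closure {y} ⊆ closure {η} := hη.2 h2 h1
  have h4 : η ⤳ y := specializes_iff_mem_closure.mpr (h3 (subset_closure rfl))
  exact (h.antisymm h4).eq

theorem discreteTopology_fiber (f : X ⟶ Y) [LocallyOfFiniteType f] (y : Y)
    (h : (f ⁻¹' {y}).Finite) : DiscreteTopology (f ⁻¹' {y}) := by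
  have : Finite (f.fiber y) := (f.fiberHomeo y).finite_iff.mpr h
  have : DiscreteTopology (f.fiber y) := inferInstance
  exact (f.fiberHomeo y).symm.isEmbedding.discreteTopology

/-- an open neighbourhood of a fibre point meeting the (finite) fibre only in this point -/
theorem exists_open_inter_fiber_eq (f : X ⟶ Y) [LocallyOfFiniteType f] (y : Y)
    (h : (f ⁻¹' {y}).Finite) (x : X) (hx : f x = y) :
    ∃ O : X.Opens, x ∈ O ∧ ∀ x' ∈ O, f x' = y → x' = x := by
  haveI := discreteTopology_fiber f y h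
  have ho : IsOpen ({⟨x, hx⟩} : Set (f ⁻¹' {y})) := isOpen_discrete _
  obtain ⟨O, hO, hOeq⟩ := isOpen_induced_iff.mp ho
  refine ⟨⟨O, hO⟩, ?_, ?_⟩
  · have : (⟨x, hx⟩ : f ⁻¹' {y}) ∈ Subtype.val ⁻¹' O := by rw [hOeq]; rfl
    exact this
  · intro x' hx'O hx'
    have : (⟨x', hx'⟩ : f ⁻¹' {y}) ∈ Subtype.val ⁻¹' O := hx'O
    rw [hOeq] at this
    exact congrArg Subtype.val (Set.mem_singleton_iff.mp this)

end Groth.Agent.Helper16.GenFinSch
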