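import Mathlib
import Groth.Agent.Lib.Helper16.Sch.CINhd
import Groth.Agent.Lib.Helper16.Sch.GenFinSch2

set_option autoImplicit false
open CategoryTheory CategoryTheory.Limits AlgebraicGeometry
universe u

namespace Groth.Agent.Helper16.RankOne

variable {T S : Scheme.{u}}

/-- every point of a scheme has a generization which is a maximal point -/
theorem exists_maximal_generization (S : Scheme.{u}) (x : S) :
    ∃ s : S, s ⤳ x ∧ ∀ t : S, t ⤳ s → t = s := by
  obtain ⟨η, hηgen⟩ := QuasiSober.sober (isIrreducible_irreducibleComponent (x := x))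
    isClosed_irreducibleComponent
  have hηcl : closure {η} = irreducibleComponent x := hηgen
  refine ⟨η, ?_, ?_⟩
  · rw [specializes_iff_mem_closure, hηcl]
    exact mem_irreducibleComponent
  · intro t ht
    apply GenFinSch.eq_of_specializes_of_mem_irreducibleComponents η _ t ht
    rw [hηcl]
    exact irreducibleComponent_mem_irreducibleComponents x

/-- the residue field extension is trivial at a point whose fibre is `Spec κ` -/
theorem surjective_residueFieldMap_of_isIso_fiber (g : T ⟶ S) [LocallyOfFiniteType g] (t : T)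
    [IsIso (g.fiberToSpecResidueField (g t))] :
    Function.Surjective (g.residueFieldMap t).hom := by
  have hbij := CINhd.bijective_quotientMap_of_isIso_fiber g t
  obtain ⟨-, hres⟩ :=
    (MonoFib.bijective_quotientMap_iff _ (LocallyOfFiniteType.stalkMap g t)).mp hbij
  exact hres.2

/-- the diagonal of `g` is surjective if all fibres over maximal points are empty or `Spec κ` -/
theorem surjective_diagonal (g : T ⟶ S) [LocallyOfFinitePresentation g] [IsSeparated g] [Flat g]
    (h : ∀ s : S, (∀ t : S, t ⤳ s → t = s) →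
      IsEmpty ↑(g.fiber s) ∨ IsIso (g.fiberToSpecResidueField s)) :
    Function.Surjective (pullback.diagonal g) := by
  intro z
  by_contra hz
  let gP : pullback g g ⟶ S := pullback.fst g g ≫ g
  let Z : Set ↑(pullback g g) := (Set.range (pullback.diagonal g))ᶜ
  have hZo : IsOpen Z := (pullback.diagonal g).isClosedEmbedding.isClosed_range.isOpen_compl
  have hzZ : z ∈ Z := fun ⟨t, ht⟩ => hz ⟨t, ht⟩
  have hgZ : IsOpen (gP '' Z) := gP.isOpenMap _ hZo
  obtain ⟨s, hs, hmax⟩ := exists_maximal_generization S (gP z)
  have hsZ : s ∈ gP '' Z := hs.mem_open hgZ ⟨z, hzZ, rfl⟩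
  obtain ⟨z', hz'Z, hz's⟩ := hsZ
  set t₁ := pullback.fst g g z' with ht₁
  set t₂ := pullback.snd g g z' with ht₂
  have hg1 : g t₁ = s := hz's
  have hg2 : g t₂ = g t₁ := by
    change (pullback.snd g g ≫ g) z' = (pullback.fst g g ≫ g) z'
    rw [pullback.condition]
  have hiso : IsIso (g.fiberToSpecResidueField (g t₁)) := by
    rcases h (g t₁) (by rw [hg1]; exact hmax) with hemp | hiso
    · exact (hemp.false (g.asFiber t₁)).elim
    · exact hiso
  have h21 : t₂ = t₁ := CINhd.eq_of_isIso_fiber g t₁ t₂ hg2
  apply hz'Z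
  refine ⟨t₁, ?_⟩
  have e1 : pullback.fst g g (pullback.diagonal g t₁) = t₁ := by
    rw [← Scheme.Hom.comp_apply, pullback.diagonal_fst]; rfl
  have e2 : pullback.snd g g (pullback.diagonal g t₁) = t₁ := by
    rw [← Scheme.Hom.comp_apply, pullback.diagonal_snd]; rfl
  symm
  apply CINhd.eq_of_fst_eq_snd_eq g g z' _ e1.symm (h21.trans e2.symm)
  exact surjective_residueFieldMap_of_isIso_fiber g t₁

/-- the base change of `pullback.fst g g` to the residue field of a point `t'` whose fibre is
`Spec κ` is an isomorphism -/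
theorem isIso_snd_fst_of_isIso_fiber (g : T ⟶ S) (t' : T)
    [IsIso (g.fiberToSpecResidueField (g t'))] :
    IsIso (pullback.snd (pullback.fst g g) (T.fromSpecResidueField t')) := by
  let p1 := pullback.fst g g
  let p2 := pullback.snd g g
  let j := T.fromSpecResidueField t'
  have sq1 : IsPullback (pullback.fst p1 j) (pullback.snd p1 j) p1 j := IsPullback.of_hasPullback _ _
  have sq2 : IsPullback p1 p2 g g := IsPullback.of_hasPullback _ _
  have big : IsPullback (pullback.fst p1 j ≫ p2) (pullback.snd p1 j) g (j ≫ g) :=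
    (sq1.flip.paste_vert sq2).flip
  have hj : j ≫ g = Spec.map (g.residueFieldMap t') ≫ S.fromSpecResidueField (g t') :=
    (Scheme.Hom.SpecMap_residueFieldMap_fromSpecResidueField g t').symm
  rw [hj] at big
  have fib : IsPullback (g.fiberι (g t')) (g.fiberToSpecResidueField (g t')) g
      (S.fromSpecResidueField (g t')) := IsPullback.of_hasPullback _ _
  let ℓ : pullback p1 j ⟶ g.fiber (g t') :=
    fib.lift (pullback.fst p1 j ≫ p2) (pullback.snd p1 j ≫ Spec.map (g.residueFieldMap t'))
      (by rw [Category.assoc]; exact big.w)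
  have hℓ1 : ℓ ≫ g.fiberι (g t') = pullback.fst p1 j ≫ p2 := fib.lift_fst _ _ _
  have hℓ2 : ℓ ≫ g.fiberToSpecResidueField (g t') =
      pullback.snd p1 j ≫ Spec.map (g.residueFieldMap t') := fib.lift_snd _ _ _
  have left : IsPullback ℓ (pullback.snd p1 j) (g.fiberToSpecResidueField (g t'))
      (Spec.map (g.residueFieldMap t')) := by
    refine IsPullback.of_right ?_ hℓ2 fib
    rw [hℓ1]; exact big
  exact (MorphismProperty.isomorphisms Scheme).of_isPullback left inferInstance

/-- S3207 -/
theorem main (g : T ⟶ S) [LocallyQuasiFinite g]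
    [LocallyOfFinitePresentation g] [QuasiCompact g] [IsSeparated g] [Flat g]
    (h : ∀ s : S, (∀ t : S, t ⤳ s → t = s) →
      IsEmpty ↑(g.fiber s) ∨ IsIso (g.fiberToSpecResidueField s)) :
    IsOpenImmersion g := by
  let p1 := pullback.fst g g
  have hΔ : Surjective (pullback.diagonal g) := ⟨surjective_diagonal g h⟩
  have hΔp : pullback.diagonal g ≫ p1 = 𝟙 T := pullback.diagonal_fst g
  have huc0 : UniversallyClosed (pullback.diagonal g ≫ p1) := by rw [hΔp]; infer_instance
  have huc : UniversallyClosed p1 := UniversallyClosed.of_comp_surjective (pullback.diagonal g) p1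
  have hprop : IsProper p1 := {}
  have hfin : IsFinite p1 := IsFinite.of_isProper_of_locallyQuasiFinite p1
  have hrank : Scheme.Hom.finrank p1 = 1 := by
    ext t
    have hlc := Scheme.Hom.isLocallyConstant_finrank p1
    let N : Set T := {t' | Scheme.Hom.finrank p1 t' = Scheme.Hom.finrank p1 t}
    have hNo : IsOpen N := hlc.isOpen_fiber _
    have hgN : IsOpen (g '' N) := g.isOpenMap _ hNo
    obtain ⟨s, hs, hmax⟩ := exists_maximal_generization S (g t)
    have hsN : s ∈ g '' N := hs.mem_open hgN ⟨t, rfl, rfl⟩
    obtain ⟨t', ht'N, ht's⟩ := hsN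
    have hiso : IsIso (g.fiberToSpecResidueField (g t')) := by
      rcases h (g t') (by rw [ht's]; exact hmax) with hemp | hiso
      · exact (hemp.false (g.asFiber t')).elim
      · exact hiso
    have h1 := isIso_snd_fst_of_isIso_fiber g t'
    have h2 := Scheme.Hom.finrank_eq_one_of_isIso
      (pullback.snd (pullback.fst g g) (T.fromSpecResidueField t'))
    obtain ⟨pt⟩ : Nonempty ↑(Spec (T.residueField t')) := inferInstance
    have h3 := Scheme.Hom.finrank_pullback_snd p1 (T.fromSpecResidueField t') pt
    rw [Scheme.fromSpecResidueField_apply] at h3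
    have h4 : Scheme.Hom.finrank p1 t' = 1 := by
      rw [← h3]
      exact congrFun h2 pt
    rw [Pi.one_apply, ← h4]
    exact ht'N.symm
  have hiso : IsIso p1 := (Scheme.Hom.isIso_iff_finrank_eq p1).mpr hrank
  have hmono : Mono g :=
    IsKernelPair.mono_of_isIso_fst (f := g) (IsPullback.of_hasPullback g g)
  exact IsOpenImmersion.of_flat_of_mono g

end Groth.Agent.Helper16.RankOne
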