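import Mathlib
import Groth.Agent.Lib.Helper16.Sch.RankOne

set_option autoImplicit false
open CategoryTheory CategoryTheory.Limits AlgebraicGeometry
universe u

namespace Groth.Agent.Helper16.UnivInjGen

variable {X Y : Scheme.{u}}

/-- a maximal point is the generic point of an irreducible component -/
theorem closure_mem_irreducibleComponents_of_maximal (X : Scheme.{u}) (ξ : X)
    (hξ : ∀ t : X, t ⤳ ξ → t = ξ) : closure ({ξ} : Set X) ∈ irreducibleComponents X := by
  refine ⟨⟨isIrreducible_singleton.closure.1, isIrreducible_singleton.closure.2⟩, ?_⟩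
  intro Z hZ hle
  -- `Z` irreducible containing `closure {ξ}`; its closure has a generic point
  obtain ⟨η, hη⟩ := QuasiSober.sober hZ.closure isClosed_closure
  have hηcl : closure {η} = closure Z := hη
  have hξZ : ξ ∈ closure Z := subset_closure (hle (subset_closure rfl))
  have hspec : η ⤳ ξ := by
    rw [specializes_iff_mem_closure, hηcl]; exact hξZ
  have := hξ η hspec
  subst this
  rw [hηcl]
  exact subset_closure

/-- the image of a maximal point under a generalizing map is a maximal point -/
theorem maximal_of_generalizingMap {P X : Scheme.{u}} (p : P ⟶ X) (hp : GeneralizingMap p)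
    (z : P) (hz : ∀ t : P, t ⤳ z → t = z) : ∀ t : X, t ⤳ p z → t = p z := by
  intro t ht
  obtain ⟨z', hz', rfl⟩ := hp ht
  rw [hz z' hz']

theorem main (f : X ⟶ Y) [Flat f] [IsSeparated f]
    (h2 : ∀ ξ : X, closure ({ξ} : Set X) ∈ irreducibleComponents (X : Type u) →
      Function.Surjective (f.residueFieldMap ξ).hom)
    (h3 : Set.InjOn f {ξ : X | closure ({ξ} : Set X) ∈ irreducibleComponents (X : Type u)}) :
    UniversallyInjective f := by
  rw [UniversallyInjective.iff_diagonal]
  refine ⟨fun z => ?_⟩
  obtain ⟨z', hz'z, hmax⟩ := RankOne.exists_maximal_generization (pullback f f) z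
  have hm1 := maximal_of_generalizingMap (pullback.fst f f) (Flat.generalizingMap _) z' hmax
  have hm2 := maximal_of_generalizingMap (pullback.snd f f) (Flat.generalizingMap _) z' hmax
  have hc1 := closure_mem_irreducibleComponents_of_maximal X _ hm1
  have hc2 := closure_mem_irreducibleComponents_of_maximal X _ hm2
  have hff : f (pullback.fst f f z') = f (pullback.snd f f z') := by
    rw [← Scheme.Hom.comp_apply, ← Scheme.Hom.comp_apply, pullback.condition]
  have h12 : pullback.fst f f z' = pullback.snd f f z' := h3 hc1 hc2 hff
  have e1 : pullback.fst f f (pullback.diagonal f (pullback.fst f f z')) = pullback.fst f f z' := by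
    rw [← Scheme.Hom.comp_apply, pullback.diagonal_fst]; rfl
  have e2 : pullback.snd f f (pullback.diagonal f (pullback.fst f f z')) = pullback.fst f f z' := by
    rw [← Scheme.Hom.comp_apply, pullback.diagonal_snd]; rfl
  have hz' : z' = pullback.diagonal f (pullback.fst f f z') :=
    CINhd.eq_of_fst_eq_snd_eq f f z' _ e1.symm (h12.symm.trans e2.symm) (h2 _ hc1)
  have hcl : IsClosed (Set.range (pullback.diagonal f)) :=
    (pullback.diagonal f).isClosedEmbedding.isClosed_range
  exact hz'z.mem_closed hcl ⟨_, hz'.symm⟩

end Groth.Agent.Helper16.UnivInjGen
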