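import Mathlib
import Groth.Agent.Lib.Helper16.Sch.GrpIrr4
import Groth.Agent.Lib.Helper16.Sch.UnivInjGen

set_option autoImplicit false
set_option linter.style.haveILetI false
set_option linter.unusedSectionVars false
universe u v
open CategoryTheory CategoryTheory.Limits AlgebraicGeometry MonoidalCategory CartesianMonoidalCategory
  MonObj GrpObj

namespace Groth.Agent.Helper16.GrpIrr

/-- if at most one irreducible component passes through `x`, the stalk at `x` has at most one
minimal prime -/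
theorem minimalPrimes_stalk_subsingleton {X : Scheme.{u}} (x : X)
    (h : ∀ Z₁ Z₂ : Set X, Z₁ ∈ irreducibleComponents X → Z₂ ∈ irreducibleComponents X →
      x ∈ Z₁ → x ∈ Z₂ → Z₁ = Z₂) :
    (minimalPrimes (X.presheaf.stalk x)).Subsingleton := by
  have key : ∀ p ∈ minimalPrimes (X.presheaf.stalk x), ∀ hp : p.IsPrime,
      closure {X.fromSpecStalk x ⟨p, hp⟩} ∈ irreducibleComponents X ∧
        x ∈ closure {X.fromSpecStalk x ⟨p, hp⟩} := by
    intro p hpmin hp
    have hx : X.fromSpecStalk x ⟨p, hp⟩ ⤳ x := by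
      have : X.fromSpecStalk x ⟨p, hp⟩ ∈ Set.range (X.fromSpecStalk x) := ⟨_, rfl⟩
      rw [Scheme.range_fromSpecStalk] at this
      exact this
    refine ⟨UnivInjGen.closure_mem_irreducibleComponents_of_maximal X _ ?_,
      specializes_iff_mem_closure.mp hx⟩
    intro t ht
    have ht' : t ∈ Set.range (X.fromSpecStalk x) := by
      rw [Scheme.range_fromSpecStalk]; exact ht.trans hx
    obtain ⟨Q, rfl⟩ := ht'
    congr 1
    have hQ : Q ⤳ ⟨p, hp⟩ := (X.fromSpecStalk x).isEmbedding.isInducing.specializes_iff.mp ht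
    have hQ' : @Specializes (PrimeSpectrum (X.presheaf.stalk x)) _ Q ⟨p, hp⟩ := hQ
    have hQp : Q.asIdeal ≤ p := (PrimeSpectrum.le_iff_specializes Q ⟨p, hp⟩).mpr hQ'
    have := hpmin.2 ⟨Q.isPrime, bot_le⟩ hQp
    exact PrimeSpectrum.ext (le_antisymm hQp this)
  intro p₁ hp₁ p₂ hp₂
  have hp₁' : p₁.IsPrime := hp₁.1.1
  have hp₂' : p₂.IsPrime := hp₂.1.1
  obtain ⟨h1, hx1⟩ := key p₁ hp₁ hp₁'
  obtain ⟨h2, hx2⟩ := key p₂ hp₂ hp₂'
  have heq := h _ _ h1 h2 hx1 hx2
  have h3 : X.fromSpecStalk x ⟨p₁, hp₁'⟩ = X.fromSpecStalk x ⟨p₂, hp₂'⟩ :=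
    (inseparable_iff_closure_eq.mpr heq).eq
  have h4 := (X.fromSpecStalk x).isEmbedding.injective h3
  exact congrArg PrimeSpectrum.asIdeal h4

end Groth.Agent.Helper16.GrpIrr

namespace Groth.Agent.Helper16.GrpIrr

section Cat

variable {C : Type u} [Category.{v} C] [CartesianMonoidalCategory C] (G : C) [GrpObj G]

/-- left translation by a rational point -/
def trans (ψ : 𝟙_ C ⟶ G) : G ⟶ G := (toUnit G ≫ ψ) * 𝟙 G

theorem trans_comp (ψ φ : 𝟙_ C ⟶ G) : trans G ψ ≫ trans G φ = trans G (φ * ψ) := by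
  unfold trans
  rw [MonObj.comp_mul, Category.comp_id, ← Category.assoc, toUnit_unique (_ ≫ toUnit G) (toUnit G),
    ← _root_.mul_assoc, MonObj.comp_mul]

theorem trans_one : trans G (1 : 𝟙_ C ⟶ G) = 𝟙 G := by
  unfold trans
  rw [MonObj.comp_one, _root_.one_mul]

/-- translation as an isomorphism -/
def transIso (ψ : 𝟙_ C ⟶ G) : G ≅ G where
  hom := trans G ψ
  inv := trans G ψ⁻¹
  hom_inv_id := by rw [trans_comp, inv_mul_cancel, trans_one]
  inv_hom_id := by rw [trans_comp, mul_inv_cancel, trans_one]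

theorem unit_trans (ψ : 𝟙_ C ⟶ G) : η[G] ≫ trans G ψ = ψ := by
  unfold trans
  rw [MonObj.comp_mul, Category.comp_id, ← Category.assoc,
    toUnit_unique (η[G] ≫ toUnit G) (𝟙 _), Category.id_comp]
  have : (η[G] : 𝟙_ C ⟶ G) = 1 := by
    rw [Hom.one_def, toUnit_unique (toUnit (𝟙_ C)) (𝟙 _), Category.id_comp]
  rw [this, _root_.mul_one]

end Cat

end Groth.Agent.Helper16.GrpIrr

namespace Groth.Agent.Helper16.GrpIrr

open scoped CategoryTheory.Obj

section Field

variable {K : Type u} [Field K] (G : Over (Spec (CommRingCat.of K))) [GrpObj G]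

theorem irreducibleComponent_unique_of_rational (ψ : 𝟙_ (Over (Spec (CommRingCat.of K))) ⟶ G)
    (Z₁ Z₂ : Set G.left)
    (h1 : Z₁ ∈ irreducibleComponents G.left) (h2 : Z₂ ∈ irreducibleComponents G.left)
    (hx1 : ψ.left (IsLocalRing.closedPoint K) ∈ Z₁)
    (hx2 : ψ.left (IsLocalRing.closedPoint K) ∈ Z₂) : Z₁ = Z₂ := by
  haveI : IsIso (transIso G ψ).hom.left :=
    inferInstanceAs (IsIso ((Over.forget _).map (transIso G ψ).hom))
  have he : (transIso G ψ).hom.left (η[G].left (IsLocalRing.closedPoint K)) =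
      ψ.left (IsLocalRing.closedPoint K) := by
    rw [← Scheme.Hom.comp_apply, ← Over.comp_left]
    show (η[G] ≫ trans G ψ).left _ = _
    rw [unit_trans]
  refine irreducibleComponent_unique_of_generalizingMap (transIso G ψ).hom.left
    (Flat.generalizingMap _) (η[G].left (IsLocalRing.closedPoint K))
    (irreducibleComponent_unit_unique G) Z₁ Z₂ h1 h2 ?_ ?_
  · rw [he]; exact hx1
  · rw [he]; exact hx2

end Field

section Main

variable {k : Type u} [Field k] (G : Over (Spec (CommRingCat.of k))) [GrpObj G]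

theorem irreducibleComponent_unique (x : G.left) (Z₁ Z₂ : Set G.left)
    (h1 : Z₁ ∈ irreducibleComponents G.left) (h2 : Z₂ ∈ irreducibleComponents G.left)
    (hx1 : x ∈ Z₁) (hx2 : x ∈ Z₂) : Z₁ = Z₂ := by
  let c : Spec (CommRingCat.of (G.left.residueField x)) ⟶ Spec (CommRingCat.of k) :=
    G.left.fromSpecResidueField x ≫ G.hom
  let ψ : 𝟙_ (Over (Spec (CommRingCat.of (G.left.residueField x)))) ⟶ (Over.pullback c).obj G :=
    Over.homMk (pullback.lift (G.left.fromSpecResidueField x) (𝟙 _) (by simp [c]))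
      (pullback.lift_snd _ _ _)
  have hπ : pullback.fst G.hom c (ψ.left (IsLocalRing.closedPoint (G.left.residueField x))) = x := by
    rw [← Scheme.Hom.comp_apply]
    have : ψ.left ≫ pullback.fst G.hom c = G.left.fromSpecResidueField x := pullback.lift_fst _ _ _
    rw [this]
    exact Scheme.fromSpecResidueField_apply _ _
  refine irreducibleComponent_unique_of_generalizingMap (pullback.fst G.hom c)
    (Flat.generalizingMap _) (ψ.left (IsLocalRing.closedPoint (G.left.residueField x)))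
    (irreducibleComponent_unique_of_rational ((Over.pullback c).obj G) ψ) Z₁ Z₂ h1 h2 ?_ ?_
  · rw [hπ]; exact hx1
  · rw [hπ]; exact hx2

theorem main : (∀ x : G.left, (minimalPrimes (G.left.presheaf.stalk x)).Subsingleton) ∧
    ∃! Z : Set G.left, Z ∈ irreducibleComponents (G.left : Type u) ∧
      η[G].left (IsLocalRing.closedPoint k) ∈ Z := by
  refine ⟨fun x => minimalPrimes_stalk_subsingleton x (irreducibleComponent_unique G x), ?_⟩
  refine ⟨irreducibleComponent (η[G].left (IsLocalRing.closedPoint k)),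
    ⟨irreducibleComponent_mem_irreducibleComponents _, mem_irreducibleComponent⟩, ?_⟩
  rintro Z ⟨hZ, heZ⟩
  exact irreducibleComponent_unit_unique G _ _ hZ
    (irreducibleComponent_mem_irreducibleComponents _) heZ mem_irreducibleComponent

end Main

end Groth.Agent.Helper16.GrpIrr
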