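import Mathlib
import Groth.Agent.Lib.Helper16.Sch.GrpIrr5
import Groth.Agent.Lib.Helper16.Sch.GenSm2

set_option autoImplicit false
set_option linter.style.haveILetI false
set_option linter.unusedSectionVars false
universe u v
open CategoryTheory CategoryTheory.Limits AlgebraicGeometry MonoidalCategory CartesianMonoidalCategory
  MonObj GrpObj

noncomputable section

namespace Groth.Agent.Helper16.GrpSm

open Groth.Agent.Helper16.GrpIrr Groth.Agent.Helper16.SmoothLocusBC
open scoped CategoryTheory.Obj

lemma smoothLocus_congr {X Y : Scheme.{u}} (g : X ⟶ Y) [LocallyOfFinitePresentation g]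
    (g' : X ⟶ Y) [LocallyOfFinitePresentation g'] (h : g' = g) :
    g'.smoothLocus = g.smoothLocus := by
  subst h; rfl

/-- an automorphism over the base preserves the smooth locus -/
theorem mem_smoothLocus_of_iso {X Y : Scheme.{u}} (g : X ⟶ Y) [LocallyOfFinitePresentation g]
    (τ : X ⟶ X) [IsIso τ] (hτ : τ ≫ g = g) (x : X) :
    τ x ∈ g.smoothLocus ↔ x ∈ g.smoothLocus := by
  have h1 := Scheme.Hom.preimage_smoothLocus_eq τ g
  rw [smoothLocus_congr g (τ ≫ g) hτ] at h1
  constructor
  · intro h; rw [← h1]; exact h
  · intro h; rw [← h1] at h; exact h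

section Field

variable {K : Type u} [Field K] (G : Over (Spec (CommRingCat.of K))) [GrpObj G]
  [LocallyOfFinitePresentation G.hom]

theorem rational_mem_smoothLocus_iff (ψ : 𝟙_ (Over (Spec (CommRingCat.of K))) ⟶ G) :
    ψ.left (IsLocalRing.closedPoint K) ∈ G.hom.smoothLocus ↔
      η[G].left (IsLocalRing.closedPoint K) ∈ G.hom.smoothLocus := by
  haveI : IsIso (transIso G ψ).hom.left :=
    inferInstanceAs (IsIso ((Over.forget _).map (transIso G ψ).hom))
  have he : (transIso G ψ).hom.left (η[G].left (IsLocalRing.closedPoint K)) =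
      ψ.left (IsLocalRing.closedPoint K) := by
    rw [← Scheme.Hom.comp_apply, ← Over.comp_left]
    show (η[G] ≫ trans G ψ).left _ = _
    rw [unit_trans]
  rw [← he]
  exact mem_smoothLocus_of_iso G.hom (transIso G ψ).hom.left (Over.w _) _

end Field

section Main

variable {k : Type u} [Field k] (G : Over (Spec (CommRingCat.of k))) [GrpObj G]
  [LocallyOfFinitePresentation G.hom]

theorem mem_smoothLocus_iff_unit (x : G.left) :
    x ∈ G.hom.smoothLocus ↔ η[G].left (IsLocalRing.closedPoint k) ∈ G.hom.smoothLocus := by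
  let c : Spec (CommRingCat.of (G.left.residueField x)) ⟶ Spec (CommRingCat.of k) :=
    G.left.fromSpecResidueField x ≫ G.hom
  let ψ : 𝟙_ (Over (Spec (CommRingCat.of (G.left.residueField x)))) ⟶ (Over.pullback c).obj G :=
    Over.homMk (pullback.lift (G.left.fromSpecResidueField x) (𝟙 _) (by simp [c]))
      (pullback.lift_snd _ _ _)
  have hπ : pullback.fst G.hom c (ψ.left (IsLocalRing.closedPoint (G.left.residueField x))) = x := by
    rw [← Scheme.Hom.comp_apply]
    have : ψ.left ≫ pullback.fst G.hom c = G.left.fromSpecResidueField x := pullback.lift_fst _ _ _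
    rw [this]
    exact Scheme.fromSpecResidueField_apply _ _
  have hπe : pullback.fst G.hom c
      (η[(Over.pullback c).obj G].left (IsLocalRing.closedPoint (G.left.residueField x))) =
      η[G].left (IsLocalRing.closedPoint k) := by
    rw [← Scheme.Hom.comp_apply, unit_baseChange_fst, Scheme.Hom.comp_apply]
    exact congrArg _ (Subsingleton.elim (α := PrimeSpectrum k) _ _)
  haveI : LocallyOfFinitePresentation ((Over.pullback c).obj G).hom :=
    inferInstanceAs (LocallyOfFinitePresentation (pullback.snd G.hom c))
  have H : IsPullback (pullback.fst G.hom c) ((Over.pullback c).obj G).hom G.hom c :=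
    .of_hasPullback _ _
  have hloc := smoothLocus_eq_preimage_of_flat H
  have h1 := rational_mem_smoothLocus_iff ((Over.pullback c).obj G) ψ
  rw [hloc] at h1
  rw [← hπ, ← hπe]
  exact h1

theorem smooth_of_smoothLocus_nonempty (h : (G.hom.smoothLocus : Set G.left).Nonempty) :
    Smooth G.hom := by
  obtain ⟨x₀, hx₀⟩ := h
  have he := (mem_smoothLocus_iff_unit G x₀).mp hx₀
  rw [← Scheme.Hom.smoothLocus_eq_top_iff, eq_top_iff]
  intro x _
  exact (mem_smoothLocus_iff_unit G x).mpr he

end Main

end Groth.Agent.Helper16.GrpSm
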