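import Mathlib

set_option autoImplicit false
set_option linter.style.haveILetI false
universe u
open TopologicalSpace Topology

namespace Groth.Agent.Helper16.FibCl

section top

variable {X S : Type*} [TopologicalSpace X]

/-- the fibrewise closure of a subset `E` with respect to a map `f` -/
def fibCl (f : X → S) (E : Set X) : Set X :=
  {x | x ∈ closure (E ∩ f ⁻¹' {f x})}

theorem mem_fibCl_iff (f : X → S) (E : Set X) (x : X) :
    x ∈ fibCl f E ↔ x ∈ closure (E ∩ f ⁻¹' {f x}) := Iff.rfl

theorem subset_fibCl (f : X → S) (E : Set X) : E ⊆ fibCl f E :=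
  fun x hx => subset_closure ⟨hx, rfl⟩

theorem fibCl_mono (f : X → S) {E E' : Set X} (h : E ⊆ E') : fibCl f E ⊆ fibCl f E' :=
  fun _ hx => closure_mono (Set.inter_subset_inter_left _ h) hx

theorem fibCl_subset_closure (f : X → S) (E : Set X) : fibCl f E ⊆ closure E :=
  fun _ hx => closure_mono Set.inter_subset_left hx

@[simp] theorem fibCl_empty (f : X → S) : fibCl f (∅ : Set X) = ∅ := by
  ext x; simp [fibCl]

theorem fibCl_union (f : X → S) (E E' : Set X) : fibCl f (E ∪ E') = fibCl f E ∪ fibCl f E' := by
  ext x
  simp only [mem_fibCl_iff, Set.union_inter_distrib_right, closure_union, Set.mem_union]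

theorem fibCl_biUnion {ι : Type*} (f : X → S) (s : Finset ι) (E : ι → Set X) :
    fibCl f (⋃ i ∈ s, E i) = ⋃ i ∈ s, fibCl f (E i) := by
  classical
  induction s using Finset.induction_on with
  | empty => simp
  | insert a s _ ih =>
    simp only [Finset.mem_insert, Set.iUnion_iUnion_eq_or_left, fibCl_union, ih]

theorem fibCl_preimage_of_isOpenEmbedding {X' : Type*} [TopologicalSpace X'] (f : X → S)
    {j : X' → X} (hj : IsOpenEmbedding j) (E : Set X) :
    fibCl (f ∘ j) (j ⁻¹' E) = j ⁻¹' (fibCl f E) := by
  ext x'
  simp only [mem_fibCl_iff, Set.mem_preimage, Function.comp_apply]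
  rw [← Set.mem_preimage, hj.isOpenMap.preimage_closure_eq_closure_preimage hj.continuous]
  rfl

theorem fibCl_comp_injective {S' : Type*} (f : X → S) {m : S → S'} (hm : Function.Injective m)
    (E : Set X) : fibCl (m ∘ f) E = fibCl f E := by
  ext x
  simp only [mem_fibCl_iff, Function.comp_apply]
  have : (m ∘ f) ⁻¹' {m (f x)} = f ⁻¹' {f x} := by
    ext z
    simp only [Set.mem_preimage, Function.comp_apply, Set.mem_singleton_iff]
    exact hm.eq_iff
  rw [this]

/-- A closed subset of a space with a generic point, not containing the generic point, has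
strictly smaller dimension. -/
theorem topologicalKrullDim_add_one_le_of_closed {Y : Type*} [TopologicalSpace Y] (y₀ : Y)
    (hy₀ : closure ({y₀} : Set Y) = Set.univ) (A : Set Y) (hA : IsClosed A) (hy₀A : y₀ ∉ A)
    [Nonempty A] :
    topologicalKrullDim A + 1 ≤ topologicalKrullDim Y := by
  have hirr : IsIrreducible (Set.univ : Set Y) := by
    rw [← hy₀]; exact isIrreducible_singleton.closure
  let top : IrreducibleCloseds Y := ⟨Set.univ, hirr, isClosed_univ⟩
  let φ : WithTop (IrreducibleCloseds A) → IrreducibleCloseds Y := fun z =>
    match z with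
    | ⊤ => top
    | (z : IrreducibleCloseds A) => IrreducibleCloseds.map Subtype.val continuous_subtype_val z
  have hφ : StrictMono φ := by
    intro a b hab
    induction a using WithTop.recTopCoe with
    | top => exact absurd hab (not_top_lt)
    | coe a =>
      induction b using WithTop.recTopCoe with
      | top =>
        show IrreducibleCloseds.map Subtype.val continuous_subtype_val a < top
        refine lt_of_le_of_ne (fun x _ => Set.mem_univ x) ?_
        intro h
        have h1 : y₀ ∈ (IrreducibleCloseds.map Subtype.val continuous_subtype_val a : Set Y) := by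
          rw [h]; exact Set.mem_univ _
        rw [IrreducibleCloseds.coe_map] at h1
        have h2 : closure (Subtype.val '' (a : Set A)) ⊆ A :=
          closure_minimal (by rintro _ ⟨z, -, rfl⟩; exact z.2) hA
        exact hy₀A (h2 h1)
      | coe b =>
        exact IrreducibleCloseds.map_strictMono_of_isInducing IsInducing.subtypeVal
          (WithTop.coe_lt_coe.mp hab)
  haveI : Nonempty (IrreducibleCloseds A) := by
    obtain ⟨a⟩ := ‹Nonempty A›
    exact ⟨⟨closure {a}, isIrreducible_singleton.closure, isClosed_closure⟩⟩
  have := Order.krullDim_le_of_strictMono φ hφ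
  rw [Order.krullDim_WithTop] at this
  exact this

end top

end Groth.Agent.Helper16.FibCl
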