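import Mathlib
import Groth.Agent.Lib.Helper16.Sch.GrpIrr5
import Groth.Agent.Lib.Helper15.GeomFieldExt

set_option autoImplicit false
set_option linter.style.haveILetI false
set_option linter.unusedSectionVars false
universe u v
open CategoryTheory CategoryTheory.Limits AlgebraicGeometry MonoidalCategory CartesianMonoidalCategory
  MonObj GrpObj

namespace Groth.Agent.Helper16.GrpIrr

open scoped CategoryTheory.Obj

section BC

variable {S S' : Scheme.{u}} (c : S' ⟶ S) (G : Over S) [GrpObj G]

/-- the unit section of the base change is the base change of the unit section -/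
theorem isPullback_unit_baseChange :
    IsPullback η[(Over.pullback c).obj G].left c (pullback.fst G.hom c) η[G].left := by
  have h1 : η[(Over.pullback c).obj G].left ≫ pullback.snd G.hom c = 𝟙 S' :=
    Over.w η[(Over.pullback c).obj G]
  have h2 : η[G].left ≫ G.hom = 𝟙 S := Over.w η[G]
  refine IsPullback.of_right ?_ (unit_baseChange_fst c G) (IsPullback.of_hasPullback G.hom c).flip
  rw [h1, h2]
  exact IsPullback.id_horiz c

end BC

/-- an irreducible set through a point with a unique irreducible component is contained in that
component -/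
theorem subset_of_unique_irreducibleComponent {X : Type*} [TopologicalSpace X] (x : X)
    (h : ∀ Z₁ Z₂ : Set X, Z₁ ∈ irreducibleComponents X → Z₂ ∈ irreducibleComponents X →
      x ∈ Z₁ → x ∈ Z₂ → Z₁ = Z₂)
    (Z₀ : Set X) (hZ₀ : Z₀ ∈ irreducibleComponents X) (hx : x ∈ Z₀)
    (S : Set X) (hS : IsIrreducible S) (hxS : x ∈ S) : S ⊆ Z₀ := by
  obtain ⟨t, ht, hSt, hmax⟩ := exists_preirreducible S hS.isPreirreducible
  have ht' : t ∈ irreducibleComponents X := by
    refine ⟨⟨⟨x, hSt hxS⟩, ht⟩, ?_⟩
    intro b hb htb
    exact (hmax b hb.isPreirreducible htb).le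
  rw [h Z₀ t hZ₀ ht' hx (hSt hxS)]
  exact hSt

section Field

variable {k : Type u} [Field k] (G : Over (Spec (CommRingCat.of k))) [GrpObj G]

theorem fst_unit_baseChange {K' : Type u} [Field K']
    (c : Spec (CommRingCat.of K') ⟶ Spec (CommRingCat.of k)) :
    pullback.fst G.hom c
      (η[(Over.pullback c).obj G].left (IsLocalRing.closedPoint K')) =
      η[G].left (IsLocalRing.closedPoint k) := by
  rw [← Scheme.Hom.comp_apply, unit_baseChange_fst, Scheme.Hom.comp_apply]
  exact congrArg _ (Subsingleton.elim (α := PrimeSpectrum k) _ _)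

theorem eq_unit_of_fst_eq_unit {K' : Type u} [Field K']
    (c : Spec (CommRingCat.of K') ⟶ Spec (CommRingCat.of k))
    (u : ↥(pullback G.hom c))
    (hu : pullback.fst G.hom c u = η[G].left (IsLocalRing.closedPoint k)) :
    u = η[(Over.pullback c).obj G].left (IsLocalRing.closedPoint K') := by
  have sq := isPullback_unit_baseChange c G
  have h1 : u ∈ Set.range (pullback.fst (pullback.fst G.hom c) η[G].left) := by
    rw [Scheme.Pullback.range_fst]
    exact ⟨_, hu.symm⟩
  obtain ⟨w, rfl⟩ := h1
  have h2 : sq.isoPullback.hom ≫ pullback.fst (pullback.fst G.hom c) η[G].left =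
      η[(Over.pullback c).obj G].left := sq.isoPullback_hom_fst
  have h3 : w = sq.isoPullback.hom (sq.isoPullback.inv w) := by
    rw [← Scheme.Hom.comp_apply, Iso.inv_hom_id]; rfl
  rw [h3, ← Scheme.Hom.comp_apply, h2]
  exact congrArg _ (Subsingleton.elim (α := PrimeSpectrum K') _ _)

/-- the preimage of the identity component in the base change to the algebraic closure is the
identity component -/
theorem preimage_component_eq (Z₀ : Set G.left) (hZ₀ : Z₀ ∈ irreducibleComponents G.left)
    (he : η[G].left (IsLocalRing.closedPoint k) ∈ Z₀) :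
    (pullback.fst G.hom (Spec.map (CommRingCat.ofHom (algebraMap k (AlgebraicClosure k))))) ⁻¹' Z₀ =
      irreducibleComponent (η[(Over.pullback
        (Spec.map (CommRingCat.ofHom (algebraMap k (AlgebraicClosure k))))).obj G].left
          (IsLocalRing.closedPoint (AlgebraicClosure k))) := by
  obtain ⟨c, hc⟩ : ∃ c : Spec (CommRingCat.of (AlgebraicClosure k)) ⟶ Spec (CommRingCat.of k),
    c = Spec.map (CommRingCat.ofHom (algebraMap k (AlgebraicClosure k))) := ⟨_, rfl⟩
  rw [← hc]
  haveI : IsIntegralHom c := by
    rw [hc, IsIntegralHom.SpecMap_iff]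
    exact algebraMap_isIntegral_iff.mpr inferInstance
  have hπe := fst_unit_baseChange G c
  have hclosed : IsClosedMap (pullback.fst G.hom c) := (pullback.fst G.hom c).isClosedMap
  apply Set.Subset.antisymm
  · intro w hw
    have hZc : IsClosed Z₀ := isClosed_of_mem_irreducibleComponents _ hZ₀
    obtain ⟨ξ, hξ⟩ := QuasiSober.sober hZ₀.1 hZc
    have hξcl : closure {ξ} = Z₀ := hξ
    have hspec : ξ ⤳ pullback.fst G.hom c w := by
      rw [specializes_iff_mem_closure, hξcl]; exact hw
    obtain ⟨ζ, hζ, rfl⟩ := (Flat.generalizingMap (pullback.fst G.hom c)) hspec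
    have h1 : Z₀ ⊆ pullback.fst G.hom c '' closure {ζ} := by
      rw [← hξcl]
      exact closure_minimal (Set.singleton_subset_iff.mpr ⟨ζ, subset_closure rfl, rfl⟩)
        (hclosed _ isClosed_closure)
    obtain ⟨u, hu, hue⟩ := h1 he
    have hu' := eq_unit_of_fst_eq_unit G c u hue
    have hsub : closure {ζ} ⊆ irreducibleComponent ζ :=
      closure_minimal (Set.singleton_subset_iff.mpr mem_irreducibleComponent)
        isClosed_irreducibleComponent
    have heq : irreducibleComponent ζ = irreducibleComponent
        (η[(Over.pullback c).obj G].left (IsLocalRing.closedPoint (AlgebraicClosure k))) :=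
      irreducibleComponent_unit_unique ((Over.pullback c).obj G) _ _
        (irreducibleComponent_mem_irreducibleComponents _)
        (irreducibleComponent_mem_irreducibleComponents _) (hu' ▸ hsub hu)
        mem_irreducibleComponent
    rw [← heq]
    exact hsub (specializes_iff_mem_closure.mp hζ)
  · intro u hu
    have hS : IsIrreducible (pullback.fst G.hom c '' irreducibleComponent
        (η[(Over.pullback c).obj G].left (IsLocalRing.closedPoint (AlgebraicClosure k)))) :=
      isIrreducible_irreducibleComponent.image _ (Scheme.Hom.continuous _).continuousOn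
    exact subset_of_unique_irreducibleComponent _ (irreducibleComponent_unit_unique G) Z₀ hZ₀ he _ hS
      ⟨_, mem_irreducibleComponent, hπe⟩ ⟨u, hu, rfl⟩

/-- the identity component of a group scheme over a field is geometrically irreducible -/
theorem geometricallyIrreducible_component (Z : Scheme.{u}) (incl : Z ⟶ G.left)
    [IsClosedImmersion incl] [IrreducibleSpace Z]
    (hZ : Set.range ⇑incl ∈ irreducibleComponents ↥G.left)
    (he : η[G].left (IsLocalRing.closedPoint k) ∈ Set.range ⇑incl) :
    GeometricallyIrreducible (incl ≫ G.hom) := by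
  obtain ⟨c, hc⟩ : ∃ c : Spec (CommRingCat.of (AlgebraicClosure k)) ⟶ Spec (CommRingCat.of k),
    c = Spec.map (CommRingCat.ofHom (algebraMap k (AlgebraicClosure k))) := ⟨_, rfl⟩
  have hpre := preimage_component_eq G _ hZ he
  rw [← hc] at hpre
  have hr : Set.range (pullback.snd incl (pullback.fst G.hom c)) =
      (pullback.fst G.hom c) ⁻¹' Set.range incl := Scheme.Pullback.range_snd _ _
  haveI : IrreducibleSpace ↥(pullback incl (pullback.fst G.hom c)) := by
    haveI : IrreducibleSpace (Set.range (pullback.snd incl (pullback.fst G.hom c))) := by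
      rw [hr, hpre]; exact Subtype.irreducibleSpace isIrreducible_irreducibleComponent
    exact ((pullback.snd incl (pullback.fst G.hom c)).isEmbedding.toHomeomorph.irreducibleSpace_iff).2
      inferInstance
  haveI : GeometricallyIrreducible
      (pullback.snd incl (pullback.fst G.hom c) ≫ pullback.snd G.hom c) :=
    geometricallyIrreducible_of_isAlgClosed _
  have sq : IsPullback (pullback.fst incl (pullback.fst G.hom c))
      (pullback.snd incl (pullback.fst G.hom c) ≫ pullback.snd G.hom c) (incl ≫ G.hom) c :=
    (IsPullback.of_hasPullback incl (pullback.fst G.hom c)).paste_vert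
      (IsPullback.of_hasPullback G.hom c)
  subst hc
  exact Groth.Agent.Helper15.geometricallyIrreducible_of_fieldExtension (incl ≫ G.hom) _ _ sq

end Field

end Groth.Agent.Helper16.GrpIrr
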