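import Mathlib

set_option autoImplicit false
set_option linter.style.haveILetI false
set_option linter.unusedSectionVars false
universe u v
open CategoryTheory CategoryTheory.Limits AlgebraicGeometry MonoidalCategory CartesianMonoidalCategory
  MonObj GrpObj

namespace Groth.Agent.Helper16.GrpUV

section Cat

variable {C : Type u} [Category.{v} C] [CartesianMonoidalCategory C] (G : C) [GrpObj G]

/-- the shear map `(a, b) ↦ (a, a⁻¹ b)` -/
def shear : G ⊗ G ≅ G ⊗ G where
  hom := lift (fst G G) ((fst G G)⁻¹ * snd G G)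
  inv := lift (fst G G) (fst G G * snd G G)
  hom_inv_id := by
    apply CartesianMonoidalCategory.hom_ext
    · rw [Category.assoc, lift_fst, lift_fst, Category.id_comp]
    · rw [Category.assoc, lift_snd, MonObj.comp_mul, lift_fst, lift_snd,
        Category.id_comp, mul_inv_cancel_left]
  inv_hom_id := by
    apply CartesianMonoidalCategory.hom_ext
    · rw [Category.assoc, lift_fst, lift_fst, Category.id_comp]
    · rw [Category.assoc, lift_snd, MonObj.comp_mul, GrpObj.comp_inv, lift_fst, lift_snd,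
        Category.id_comp, inv_mul_cancel_left]

theorem shear_hom_fst : (shear G).hom ≫ fst G G = fst G G := by
  rw [shear, lift_fst]

theorem shear_inv_snd : (shear G).inv ≫ snd G G = μ[G] := by
  rw [shear, lift_snd, ← MonObj.mul_eq_mul]

/-- the map `(a, c) ↦ (a⁻¹ c, c)` -/
def theta : G ⊗ G ≅ G ⊗ G where
  hom := lift ((fst G G)⁻¹ * snd G G) (snd G G)
  inv := lift (snd G G * (fst G G)⁻¹) (snd G G)
  hom_inv_id := by
    apply CartesianMonoidalCategory.hom_ext
    · rw [Category.assoc, lift_fst, MonObj.comp_mul, GrpObj.comp_inv, lift_fst, lift_snd,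
        Category.id_comp, _root_.mul_inv_rev, _root_.inv_inv, mul_inv_cancel_left]
    · rw [Category.assoc, lift_snd, lift_snd, Category.id_comp]
  inv_hom_id := by
    apply CartesianMonoidalCategory.hom_ext
    · rw [Category.assoc, lift_fst, MonObj.comp_mul, GrpObj.comp_inv, lift_fst, lift_snd,
        Category.id_comp, _root_.mul_inv_rev, _root_.inv_inv, inv_mul_cancel_right]
    · rw [Category.assoc, lift_snd, lift_snd, Category.id_comp]

theorem theta_hom_snd : (theta G).hom ≫ snd G G = snd G G := by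
  rw [theta, lift_snd]

theorem theta_hom_fst : (theta G).hom ≫ fst G G = (shear G).hom ≫ snd G G := by
  rw [theta, lift_fst, shear, lift_snd]

theorem unitSec_snd : lift (toUnit G ≫ η[G]) (𝟙 G) ≫ snd G G = 𝟙 G := lift_snd _ _

end Cat

theorem exists_mem_inter {P : Type*} [TopologicalSpace P] (Z A₁ A₂ : Set P) (hA₂ : IsOpen A₂)
    (hZ : Z.Nonempty) (h1 : Z ⊆ closure (A₁ ∩ Z)) (h2 : Z ⊆ closure (A₂ ∩ Z)) :
    (A₁ ∩ A₂ ∩ Z).Nonempty := by
  obtain ⟨z, hz⟩ := hZ
  obtain ⟨z', hz'⟩ : (A₂ ∩ Z).Nonempty := closure_nonempty_iff.mp ⟨z, h2 hz⟩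
  obtain ⟨w, hw⟩ := mem_closure_iff.mp (h1 hz'.2) A₂ hA₂ hz'.1
  exact ⟨w, ⟨hw.2.1, hw.1⟩, hw.2.2⟩

section Sch

variable (K : Type u) [Field K] (G : Over (Spec (CommRingCat.of K)))

theorem subset_closure_fst_preimage (g : G.left) (W : G.left.Opens)
    (hW : Dense (W : Set G.left)) :
    (pullback.snd G.hom G.hom) ⁻¹' {g} ⊆
      closure ((pullback.fst G.hom G.hom) ⁻¹' (W : Set G.left) ∩
        (pullback.snd G.hom G.hom) ⁻¹' {g}) := by
  have hpb : IsPullback ((pullback.snd G.hom G.hom).fiberι g ≫ pullback.fst G.hom G.hom)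
      ((pullback.snd G.hom G.hom).fiberToSpecResidueField g) G.hom
      (G.left.fromSpecResidueField g ≫ G.hom) :=
    (IsPullback.of_hasPullback (pullback.snd G.hom G.hom) (G.left.fromSpecResidueField g)).paste_horiz
      (IsPullback.of_hasPullback G.hom G.hom)
  haveI : UniversallyOpen (G.left.fromSpecResidueField g ≫ G.hom) := inferInstance
  haveI : UniversallyOpen ((pullback.snd G.hom G.hom).fiberι g ≫ pullback.fst G.hom G.hom) :=
    MorphismProperty.of_isPullback hpb.flip inferInstance
  have hd : Dense (((pullback.snd G.hom G.hom).fiberι g ≫ pullback.fst G.hom G.hom) ⁻¹'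
      (W : Set G.left)) :=
    hW.preimage (Scheme.Hom.isOpenMap _)
  intro z hz
  rw [← Scheme.Hom.range_fiberι] at hz
  obtain ⟨t, rfl⟩ := hz
  have h1 := image_closure_subset_closure_image ((pullback.snd G.hom G.hom).fiberι g).continuous
    (Set.mem_image_of_mem _ (hd t))
  refine closure_mono ?_ h1
  rintro _ ⟨t', ht', rfl⟩
  refine ⟨?_, ?_⟩
  · simpa using ht'
  · rw [← Scheme.Hom.range_fiberι]
    exact ⟨t', rfl⟩

theorem main [GrpObj G] (U V : G.left.Opens) (hU : Dense (U : Set G.left))
    (hV : Dense (V : Set G.left)) :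
    μ[G].left '' ((fst G G).left ⁻¹' (U : Set G.left) ∩ (snd G G).left ⁻¹' (V : Set G.left)) =
      Set.univ := by
  rw [Set.eq_univ_iff_forall]
  intro g
  -- pointwise forms of the categorical identities
  have e1 : ∀ q, (fst G G).left ((shear G).hom.left q) = (fst G G).left q := fun q => by
    rw [← Scheme.Hom.comp_apply, ← Over.comp_left, shear_hom_fst]
  have e2 : ∀ q, (snd G G).left ((shear G).hom.left q) =
      (fst G G).left ((theta G).hom.left q) := fun q => by
    rw [← Scheme.Hom.comp_apply, ← Over.comp_left, ← Scheme.Hom.comp_apply, ← Over.comp_left,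
      theta_hom_fst]
  have e3 : ∀ q, μ[G].left ((shear G).hom.left q) = (snd G G).left q := fun q => by
    rw [← shear_inv_snd, ← Scheme.Hom.comp_apply, ← Over.comp_left, Iso.hom_inv_id_assoc]
  have e4 : ∀ q, (snd G G).left ((theta G).hom.left q) = (snd G G).left q := fun q => by
    rw [← Scheme.Hom.comp_apply, ← Over.comp_left, theta_hom_snd]
  have e5 : ∀ q, (snd G G).left ((theta G).inv.left q) = (snd G G).left q := fun q => by
    rw [← Scheme.Hom.comp_apply, ← Over.comp_left, theta, lift_snd]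
  have e6 : ∀ q, (theta G).hom.left ((theta G).inv.left q) = q := fun q => by
    rw [← Scheme.Hom.comp_apply, ← Over.comp_left, Iso.inv_hom_id]
    rfl
  have e7 : ∀ q, (theta G).inv.left ((theta G).hom.left q) = q := fun q => by
    rw [← Scheme.Hom.comp_apply, ← Over.comp_left, Iso.hom_inv_id]
    rfl
  have e8 : (snd G G).left ((lift (toUnit G ≫ η[G]) (𝟙 G)).left g) = g := by
    rw [← Scheme.Hom.comp_apply, ← Over.comp_left, unitSec_snd]
    rfl
  have hZ : ((snd G G).left ⁻¹' {g}).Nonempty := ⟨_, e8⟩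
  have h1 := subset_closure_fst_preimage K G g U hU
  have h2' := subset_closure_fst_preimage K G g V hV
  have h2 : (snd G G).left ⁻¹' {g} ⊆
      closure ((theta G).hom.left ⁻¹' ((fst G G).left ⁻¹' (V : Set G.left)) ∩
        (snd G G).left ⁻¹' {g}) := by
    intro z hz
    have hz' : (theta G).hom.left z ∈ (snd G G).left ⁻¹' {g} := by
      show (snd G G).left _ = g
      rw [e4]; exact hz
    have h3 := image_closure_subset_closure_image (theta G).inv.left.continuous
      (Set.mem_image_of_mem _ (h2' hz'))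
    rw [e7] at h3
    refine closure_mono ?_ h3
    rintro _ ⟨w, hw, rfl⟩
    refine ⟨?_, ?_⟩
    · rw [Set.mem_preimage, e6]; exact hw.1
    · show (snd G G).left _ = g
      rw [e5]; exact hw.2
  obtain ⟨q, ⟨hq1, hq2⟩, hq3⟩ := exists_mem_inter ((snd G G).left ⁻¹' {g})
    ((fst G G).left ⁻¹' (U : Set G.left))
    ((theta G).hom.left ⁻¹' ((fst G G).left ⁻¹' (V : Set G.left)))
    (((V.2.preimage (fst G G).left.continuous)).preimage (theta G).hom.left.continuous) hZ h1 h2
  refine ⟨(shear G).hom.left q, ⟨?_, ?_⟩, ?_⟩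
  · rw [Set.mem_preimage, e1]; exact hq1
  · rw [Set.mem_preimage, e2]; exact hq2
  · rw [e3]; exact hq3

end Sch

end Groth.Agent.Helper16.GrpUV
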