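import Mathlib
import Groth.Agent.Lib.Helper16.Sch.GrpUV

set_option autoImplicit false
set_option linter.style.haveILetI false
set_option linter.unusedSectionVars false
universe u v
open CategoryTheory CategoryTheory.Limits AlgebraicGeometry MonoidalCategory CartesianMonoidalCategory
  MonObj GrpObj

namespace Groth.Agent.Helper16.GrpUV

section Sch

variable (K : Type u) [Field K] (G : Over (Spec (CommRingCat.of K)))

theorem isCompact_inter_preimage (U V : G.left.Opens) (hU : IsAffineOpen U) (hV : IsAffineOpen V) :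
    IsCompact ((fst G G).left ⁻¹' (U : Set G.left) ∩ (snd G G).left ⁻¹' (V : Set G.left)) := by
  haveI : IsAffine U := hU
  haveI : IsAffine V := hV
  have h := Scheme.Pullback.range_map (U.ι ≫ G.hom) (V.ι ≫ G.hom) G.hom G.hom U.ι V.ι (𝟙 _)
    (by simp) (by simp)
  rw [Scheme.Opens.range_ι, Scheme.Opens.range_ι] at h
  show IsCompact ((pullback.fst G.hom G.hom) ⁻¹' (U : Set G.left) ∩
    (pullback.snd G.hom G.hom) ⁻¹' (V : Set G.left))
  rw [← h]
  exact isCompact_range (Scheme.Hom.continuous _)

theorem compactSpace_of_irreducibleSpace [GrpObj G] [IrreducibleSpace G.left] :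
    CompactSpace G.left := by
  obtain ⟨x⟩ : Nonempty G.left := inferInstance
  obtain ⟨_, ⟨U, hU, rfl⟩, hxU, -⟩ :=
    G.left.isBasis_affineOpens.exists_subset_of_mem_open (Set.mem_univ x) isOpen_univ
  have hd : Dense (U : Set G.left) := U.2.dense ⟨x, hxU⟩
  have h := main K G U U hd hd
  refine ⟨?_⟩
  rw [← h]
  exact (isCompact_inter_preimage K G U U hU hU).image μ[G].left.continuous

end Sch

end Groth.Agent.Helper16.GrpUV
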