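import Mathlib
import Groth.Agent.Lib.Helper16.Sch.GrpUV

set_option autoImplicit false
set_option linter.style.haveILetI false
set_option linter.unusedSectionVars false
universe u v
open CategoryTheory CategoryTheory.Limits AlgebraicGeometry MonoidalCategory CartesianMonoidalCategory
  MonObj GrpObj

namespace Groth.Agent.Helper16.GrpUV

section Cat

variable {C : Type u} [Category.{v} C] [CartesianMonoidalCategory C] (G : C) [GrpObj G]

theorem diag_theta : lift (𝟙 G) (𝟙 G) ≫ (theta G).hom = lift (toUnit G ≫ η[G]) (𝟙 G) := by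
  apply CartesianMonoidalCategory.hom_ext
  · rw [Category.assoc, theta, lift_fst, lift_fst, MonObj.comp_mul, GrpObj.comp_inv, lift_fst,
      lift_snd, ← Hom.one_def]
    exact inv_mul_cancel _
  · rw [Category.assoc, theta, lift_snd, lift_snd, lift_snd]

end Cat

section Sch

variable (K : Type u) [Field K] (G : Over (Spec (CommRingCat.of K)))

theorem mem_closure_fst_preimage (g : G.left) (W : Set G.left)
    (z : ↥(pullback G.hom G.hom)) (hz : pullback.snd G.hom G.hom z = g)
    (hzW : pullback.fst G.hom G.hom z ∈ closure W) :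
    z ∈ closure ((pullback.fst G.hom G.hom) ⁻¹' W ∩ (pullback.snd G.hom G.hom) ⁻¹' {g}) := by
  have hpb : IsPullback ((pullback.snd G.hom G.hom).fiberι g ≫ pullback.fst G.hom G.hom)
      ((pullback.snd G.hom G.hom).fiberToSpecResidueField g) G.hom
      (G.left.fromSpecResidueField g ≫ G.hom) :=
    (IsPullback.of_hasPullback (pullback.snd G.hom G.hom) (G.left.fromSpecResidueField g)).paste_horiz
      (IsPullback.of_hasPullback G.hom G.hom)
  haveI : UniversallyOpen (G.left.fromSpecResidueField g ≫ G.hom) := inferInstance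
  haveI : UniversallyOpen ((pullback.snd G.hom G.hom).fiberι g ≫ pullback.fst G.hom G.hom) :=
    MorphismProperty.of_isPullback hpb.flip inferInstance
  have hz' : z ∈ (pullback.snd G.hom G.hom) ⁻¹' {g} := hz
  rw [← Scheme.Hom.range_fiberι] at hz'
  obtain ⟨t, rfl⟩ := hz'
  have ht : t ∈ closure (((pullback.snd G.hom G.hom).fiberι g ≫ pullback.fst G.hom G.hom) ⁻¹' W) :=
    (Scheme.Hom.isOpenMap _).preimage_closure_subset_closure_preimage
      (by simpa using hzW)
  have h1 := image_closure_subset_closure_image ((pullback.snd G.hom G.hom).fiberι g).continuous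
    (Set.mem_image_of_mem _ ht)
  refine closure_mono ?_ h1
  rintro _ ⟨t', ht', rfl⟩
  refine ⟨?_, ?_⟩
  · simpa using ht'
  · rw [← Scheme.Hom.range_fiberι]
    exact ⟨t', rfl⟩

theorem isClosed_range_of_isOpen_range (H : Over (Spec (CommRingCat.of K))) [GrpObj H] [GrpObj G]
    (ψ : H ⟶ G) [IsMonHom ψ] (h : IsOpen (Set.range ψ.left)) : IsClosed (Set.range ψ.left) := by
  rw [← closure_subset_iff_isClosed]
  intro g hg
  -- pointwise identities
  have e1 : ∀ q, (fst G G).left ((shear G).hom.left q) = (fst G G).left q := fun q => by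
    rw [← Scheme.Hom.comp_apply, ← Over.comp_left, shear_hom_fst]
  have e2 : ∀ q, (snd G G).left ((shear G).hom.left q) =
      (fst G G).left ((theta G).hom.left q) := fun q => by
    rw [← Scheme.Hom.comp_apply, ← Over.comp_left, ← Scheme.Hom.comp_apply, ← Over.comp_left,
      theta_hom_fst]
  have e3 : ∀ q, μ[G].left ((shear G).hom.left q) = (snd G G).left q := fun q => by
    rw [← shear_inv_snd, ← Scheme.Hom.comp_apply, ← Over.comp_left, Iso.hom_inv_id_assoc]
  have e4 : (snd G G).left ((lift (𝟙 G) (𝟙 G)).left g) = g := by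
    rw [← Scheme.Hom.comp_apply, ← Over.comp_left, lift_snd]
    rfl
  have e5 : (fst G G).left ((lift (𝟙 G) (𝟙 G)).left g) = g := by
    rw [← Scheme.Hom.comp_apply, ← Over.comp_left, lift_fst]
    rfl
  have e6 : (fst G G).left ((theta G).hom.left ((lift (𝟙 G) (𝟙 G)).left g)) =
      ψ.left (η[H].left (G.hom g)) := by
    rw [← Scheme.Hom.comp_apply, ← Over.comp_left, ← Scheme.Hom.comp_apply, ← Over.comp_left,
      ← Category.assoc, diag_theta, lift_fst, ← IsMonHom.one_hom (f := ψ), ← Scheme.Hom.comp_apply,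
      ← Over.comp_left, ← Scheme.Hom.comp_apply]
    congr 2
  have hmul : ∀ p, (fst G G).left p ∈ Set.range ψ.left → (snd G G).left p ∈ Set.range ψ.left →
      μ[G].left p ∈ Set.range ψ.left := by
    intro p hp1 hp2
    have hr : p ∈ Set.range (ψ ⊗ₘ ψ).left := by
      rw [Over.tensorHom_left, Scheme.Pullback.range_map]
      exact ⟨hp1, hp2⟩
    obtain ⟨r, rfl⟩ := hr
    refine ⟨μ[H].left r, ?_⟩
    rw [← Scheme.Hom.comp_apply, ← Over.comp_left, IsMonHom.mul_hom, Over.comp_left,
      Scheme.Hom.comp_apply]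
  have hcl := mem_closure_fst_preimage K G g (Set.range ψ.left) ((lift (𝟙 G) (𝟙 G)).left g) e4
    (by rw [show pullback.fst G.hom G.hom = (fst G G).left from rfl, e5]; exact hg)
  have hA₂ : IsOpen ((theta G).hom.left ⁻¹' ((fst G G).left ⁻¹' Set.range ψ.left)) :=
    (h.preimage (fst G G).left.continuous).preimage (theta G).hom.left.continuous
  obtain ⟨q, hq2, hq1, hq3⟩ := mem_closure_iff.mp hcl _ hA₂ (by
    rw [Set.mem_preimage, Set.mem_preimage, e6]; exact ⟨_, rfl⟩)
  have := hmul ((shear G).hom.left q) (by rw [e1]; exact hq1) (by rw [e2]; exact hq2)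
  rw [e3] at this
  rw [← show (snd G G).left q = g from hq3]
  exact this

end Sch

end Groth.Agent.Helper16.GrpUV
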