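import Mathlib
import Groth.Agent.Lib.Helper16.Sch.GrpUV2

set_option autoImplicit false
set_option linter.style.haveILetI false
set_option linter.unusedSectionVars false
universe u v
open CategoryTheory CategoryTheory.Limits AlgebraicGeometry MonoidalCategory CartesianMonoidalCategory
  MonObj GrpObj

namespace Groth.Agent.Helper16.GrpUV

section Cat

variable {C : Type u} [Category.{v} C] [CartesianMonoidalCategory C] (G : C) [GrpObj G]

theorem theta_inv_fst : (theta G).inv ≫ fst G G = snd G G * (fst G G)⁻¹ := by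
  rw [theta, lift_fst]

theorem theta_inv_snd : (theta G).inv ≫ snd G G = snd G G := by
  rw [theta, lift_snd]

theorem theta_hom_fst' : (theta G).hom ≫ fst G G = (fst G G)⁻¹ * snd G G := by
  rw [theta, lift_fst]

end Cat

section Sch

variable (K : Type u) [Field K]

theorem mem_closure_fst_preimage' {X Y : Scheme.{u}} (f : X ⟶ Spec (CommRingCat.of K))
    (g : Y ⟶ Spec (CommRingCat.of K)) (y : Y) (W : Set X)
    (z : ↥(pullback f g)) (hz : pullback.snd f g z = y)
    (hzW : pullback.fst f g z ∈ closure W) :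
    z ∈ closure ((pullback.fst f g) ⁻¹' W ∩ (pullback.snd f g) ⁻¹' {y}) := by
  have hpb : IsPullback ((pullback.snd f g).fiberι y ≫ pullback.fst f g)
      ((pullback.snd f g).fiberToSpecResidueField y) f
      (Y.fromSpecResidueField y ≫ g) :=
    (IsPullback.of_hasPullback (pullback.snd f g) (Y.fromSpecResidueField y)).paste_horiz
      (IsPullback.of_hasPullback f g)
  haveI : UniversallyOpen (Y.fromSpecResidueField y ≫ g) := inferInstance
  haveI : UniversallyOpen ((pullback.snd f g).fiberι y ≫ pullback.fst f g) :=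
    MorphismProperty.of_isPullback hpb.flip inferInstance
  have hz' : z ∈ (pullback.snd f g) ⁻¹' {y} := hz
  rw [← Scheme.Hom.range_fiberι] at hz'
  obtain ⟨t, rfl⟩ := hz'
  have ht : t ∈ closure (((pullback.snd f g).fiberι y ≫ pullback.fst f g) ⁻¹' W) :=
    (Scheme.Hom.isOpenMap _).preimage_closure_subset_closure_preimage
      (by simpa using hzW)
  have h1 := image_closure_subset_closure_image ((pullback.snd f g).fiberι y).continuous
    (Set.mem_image_of_mem _ ht)
  refine closure_mono ?_ h1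
  rintro _ ⟨t', ht', rfl⟩
  refine ⟨?_, ?_⟩
  · simpa using ht'
  · rw [← Scheme.Hom.range_fiberι]
    exact ⟨t', rfl⟩

theorem mem_closure_snd_preimage' {X Y : Scheme.{u}} (f : X ⟶ Spec (CommRingCat.of K))
    (g : Y ⟶ Spec (CommRingCat.of K)) (x : X) (W : Set Y)
    (z : ↥(pullback f g)) (hz : pullback.fst f g z = x)
    (hzW : pullback.snd f g z ∈ closure W) :
    z ∈ closure ((pullback.snd f g) ⁻¹' W ∩ (pullback.fst f g) ⁻¹' {x}) := by
  have hpb : IsPullback ((pullback.fst f g).fiberι x ≫ pullback.snd f g)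
      ((pullback.fst f g).fiberToSpecResidueField x) g
      (X.fromSpecResidueField x ≫ f) :=
    (IsPullback.of_hasPullback (pullback.fst f g) (X.fromSpecResidueField x)).paste_horiz
      (IsPullback.of_hasPullback f g).flip
  haveI : UniversallyOpen (X.fromSpecResidueField x ≫ f) := inferInstance
  haveI : UniversallyOpen ((pullback.fst f g).fiberι x ≫ pullback.snd f g) :=
    MorphismProperty.of_isPullback hpb.flip inferInstance
  have hz' : z ∈ (pullback.fst f g) ⁻¹' {x} := hz
  rw [← Scheme.Hom.range_fiberι] at hz'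
  obtain ⟨t, rfl⟩ := hz'
  have ht : t ∈ closure (((pullback.fst f g).fiberι x ≫ pullback.snd f g) ⁻¹' W) :=
    (Scheme.Hom.isOpenMap _).preimage_closure_subset_closure_preimage
      (by simpa using hzW)
  have h1 := image_closure_subset_closure_image ((pullback.fst f g).fiberι x).continuous
    (Set.mem_image_of_mem _ ht)
  refine closure_mono ?_ h1
  rintro _ ⟨t', ht', rfl⟩
  refine ⟨?_, ?_⟩
  · simpa using ht'
  · rw [← Scheme.Hom.range_fiberι]
    exact ⟨t', rfl⟩

theorem closure_prod_subset {X Y : Scheme.{u}} (f : X ⟶ Spec (CommRingCat.of K))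
    (g : Y ⟶ Spec (CommRingCat.of K)) (T : Set X) (T' : Set Y) :
    (pullback.fst f g) ⁻¹' closure T ∩ (pullback.snd f g) ⁻¹' closure T' ⊆
      closure ((pullback.fst f g) ⁻¹' T ∩ (pullback.snd f g) ⁻¹' T') := by
  rintro z ⟨h1, h2⟩
  have h3 := mem_closure_snd_preimage' K f g (pullback.fst f g z) T' z rfl h2
  refine closure_minimal ?_ isClosed_closure h3
  rintro w ⟨hw1, hw2⟩
  have hw2' : pullback.fst f g w = pullback.fst f g z := hw2
  have h4 := mem_closure_fst_preimage' K f g (pullback.snd f g w) T w rfl (by rw [hw2']; exact h1)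
  refine closure_mono ?_ h4
  rintro v ⟨hv1, hv2⟩
  refine ⟨hv1, ?_⟩
  have hv2' : pullback.snd f g v = pullback.snd f g w := hv2
  rw [Set.mem_preimage, hv2']
  exact hw1

variable (G H : Over (Spec (CommRingCat.of K))) [GrpObj G] [GrpObj H] (ψ : H ⟶ G)

theorem map_mem_range (ν : G ⊗ G ⟶ G) (ν' : H ⊗ H ⟶ H) (hν : (ψ ⊗ₘ ψ) ≫ ν = ν' ≫ ψ)
    (p : ↥(G ⊗ G).left) (hp1 : (fst G G).left p ∈ Set.range ψ.left)
    (hp2 : (snd G G).left p ∈ Set.range ψ.left) : ν.left p ∈ Set.range ψ.left := by
  have hr : p ∈ Set.range (ψ ⊗ₘ ψ).left := by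
    rw [Over.tensorHom_left, Scheme.Pullback.range_map]
    exact ⟨hp1, hp2⟩
  obtain ⟨r, rfl⟩ := hr
  refine ⟨ν'.left r, ?_⟩
  rw [← Scheme.Hom.comp_apply, ← Over.comp_left, ← hν, Over.comp_left, Scheme.Hom.comp_apply]

theorem map_mem_closure_range (ν : G ⊗ G ⟶ G) (ν' : H ⊗ H ⟶ H)
    (hν : (ψ ⊗ₘ ψ) ≫ ν = ν' ≫ ψ)
    (p : ↥(G ⊗ G).left) (hp1 : (fst G G).left p ∈ closure (Set.range ψ.left))
    (hp2 : (snd G G).left p ∈ closure (Set.range ψ.left)) :
    ν.left p ∈ closure (Set.range ψ.left) := by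
  have h1 : p ∈ closure ((fst G G).left ⁻¹' Set.range ψ.left ∩
      (snd G G).left ⁻¹' Set.range ψ.left) :=
    closure_prod_subset K G.hom G.hom _ _ ⟨hp1, hp2⟩
  have h2 := image_closure_subset_closure_image ν.left.continuous (Set.mem_image_of_mem _ h1)
  refine closure_mono ?_ h2
  rintro _ ⟨q, ⟨hq1, hq2⟩, rfl⟩
  exact map_mem_range K G H ψ ν ν' hν q hq1 hq2

variable [IsMonHom ψ]

theorem hν₂ : (ψ ⊗ₘ ψ) ≫ ((fst G G)⁻¹ * snd G G) = ((fst H H)⁻¹ * snd H H) ≫ ψ := by
  rw [MonObj.comp_mul, GrpObj.comp_inv, tensorHom_fst, tensorHom_snd, MonObj.mul_comp,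
    GrpObj.inv_comp]

theorem hν₃ : (ψ ⊗ₘ ψ) ≫ (snd G G * (fst G G)⁻¹) = (snd H H * (fst H H)⁻¹) ≫ ψ := by
  rw [MonObj.comp_mul, GrpObj.comp_inv, tensorHom_fst, tensorHom_snd, MonObj.mul_comp,
    GrpObj.inv_comp]

theorem isClosed_range_of_isLocallyClosed_range (h : IsLocallyClosed (Set.range ψ.left)) :
    IsClosed (Set.range ψ.left) := by
  obtain ⟨O, Z₀, hO, hZ₀, hT⟩ := h
  have hTO : ∀ a, a ∈ O → a ∈ closure (Set.range ψ.left) → a ∈ Set.range ψ.left := by
    intro a ha1 ha2
    rw [hT]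
    refine ⟨ha1, ?_⟩
    have : closure (Set.range ψ.left) ⊆ Z₀ :=
      closure_minimal (by rw [hT]; exact Set.inter_subset_right) hZ₀
    exact this ha2
  have hTO' : Set.range ψ.left ⊆ O := by rw [hT]; exact Set.inter_subset_left
  rw [← closure_subset_iff_isClosed]
  intro g hg
  -- pointwise identities
  have e1 : ∀ q, (fst G G).left ((shear G).hom.left q) = (fst G G).left q := fun q => by
    rw [← Scheme.Hom.comp_apply, ← Over.comp_left, shear_hom_fst]
  have e2 : ∀ q, (snd G G).left ((shear G).hom.left q) =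
      (fst G G).left ((theta G).hom.left q) := fun q => by
    rw [← Scheme.Hom.comp_apply, ← Over.comp_left, ← Scheme.Hom.comp_apply, ← Over.comp_left,
      theta_hom_fst]
  have e3 : ∀ q, μ[G].left ((shear G).hom.left q) = (snd G G).left q := fun q => by
    rw [← shear_inv_snd, ← Scheme.Hom.comp_apply, ← Over.comp_left, Iso.hom_inv_id_assoc]
  have e4 : (snd G G).left ((lift (𝟙 G) (𝟙 G)).left g) = g := by
    rw [← Scheme.Hom.comp_apply, ← Over.comp_left, lift_snd]
    rfl
  have e5 : (fst G G).left ((lift (𝟙 G) (𝟙 G)).left g) = g := by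
    rw [← Scheme.Hom.comp_apply, ← Over.comp_left, lift_fst]
    rfl
  have e6 : ∀ q, (snd G G).left ((theta G).hom.left q) = (snd G G).left q := fun q => by
    rw [← Scheme.Hom.comp_apply, ← Over.comp_left, theta_hom_snd]
  have e7 : ∀ q, (snd G G).left ((theta G).inv.left q) = (snd G G).left q := fun q => by
    rw [← Scheme.Hom.comp_apply, ← Over.comp_left, theta_inv_snd]
  have e8 : ∀ q, (theta G).hom.left ((theta G).inv.left q) = q := fun q => by
    rw [← Scheme.Hom.comp_apply, ← Over.comp_left, Iso.inv_hom_id]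
    rfl
  have e9 : ∀ q, (fst G G).left ((theta G).hom.left q) =
      ((fst G G)⁻¹ * snd G G).left q := fun q => by
    rw [← Scheme.Hom.comp_apply, ← Over.comp_left, theta_hom_fst']
  have e10 : ∀ q, (fst G G).left ((theta G).inv.left q) =
      (snd G G * (fst G G)⁻¹).left q := fun q => by
    rw [← Scheme.Hom.comp_apply, ← Over.comp_left, theta_inv_fst]
  -- the set B
  have hB1 : ∀ w, (fst G G).left w ∈ closure (Set.range ψ.left) → (snd G G).left w = g →
      w ∈ closure ((fst G G).left ⁻¹' Set.range ψ.left ∩ (snd G G).left ⁻¹' {g}) :=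
    fun w hw1 hw2 => mem_closure_fst_preimage' K G.hom G.hom g _ w hw2 hw1
  have hΘB : ∀ w, (fst G G).left w ∈ closure (Set.range ψ.left) → (snd G G).left w = g →
      (fst G G).left ((theta G).hom.left w) ∈ closure (Set.range ψ.left) := by
    intro w hw1 hw2
    rw [e9]
    exact map_mem_closure_range K G H ψ _ _ (hν₂ K G H ψ) w hw1 (by rw [hw2]; exact hg)
  have hΘ'B : ∀ w, (fst G G).left w ∈ closure (Set.range ψ.left) → (snd G G).left w = g →
      (fst G G).left ((theta G).inv.left w) ∈ closure (Set.range ψ.left) := by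
    intro w hw1 hw2
    rw [e10]
    exact map_mem_closure_range K G H ψ _ _ (hν₃ K G H ψ) w hw1 (by rw [hw2]; exact hg)
  -- A₁ is nonempty
  obtain ⟨a₁, ha₁T, ha₁g⟩ : ((fst G G).left ⁻¹' Set.range ψ.left ∩
      (snd G G).left ⁻¹' {g}).Nonempty :=
    closure_nonempty_iff.mp ⟨_, hB1 ((lift (𝟙 G) (𝟙 G)).left g) (by rw [e5]; exact hg) e4⟩
  have ha₁g' : (snd G G).left a₁ = g := ha₁g
  -- the point z'
  have hz'1 : (fst G G).left ((theta G).inv.left a₁) ∈ closure (Set.range ψ.left) :=
    hΘ'B a₁ (subset_closure ha₁T) ha₁g'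
  have hz'2 : (snd G G).left ((theta G).inv.left a₁) = g := by rw [e7]; exact ha₁g'
  have hz'3 := hB1 _ hz'1 hz'2
  have hO' : IsOpen ((theta G).hom.left ⁻¹' ((fst G G).left ⁻¹' O)) :=
    (hO.preimage (fst G G).left.continuous).preimage (theta G).hom.left.continuous
  obtain ⟨w, hwO, hwT, hwg⟩ := mem_closure_iff.mp hz'3 _ hO' (by
    rw [Set.mem_preimage, Set.mem_preimage, e8]; exact hTO' ha₁T)
  have hwg' : (snd G G).left w = g := hwg
  have hw2 : (fst G G).left ((theta G).hom.left w) ∈ Set.range ψ.left :=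
    hTO _ hwO (hΘB w (subset_closure hwT) hwg')
  have := map_mem_range K G H ψ μ[G] μ[H] (IsMonHom.mul_hom (f := ψ)).symm
    ((shear G).hom.left w) (by rw [e1]; exact hwT) (by rw [e2]; exact hw2)
  rw [e3, hwg'] at this
  exact this

theorem isClosedImmersion_of_isImmersion [IsImmersion ψ.left] : IsClosedImmersion ψ.left :=
  .of_isPreimmersion _ (isClosed_range_of_isLocallyClosed_range K G H ψ
    (IsImmersion.isLocallyClosed_range))

end Sch

end Groth.Agent.Helper16.GrpUV
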