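import Mathlib
import Groth.Agent.Lib.Helper23.RegPull2
import Groth.Prelude.Def_CAlg

/-!
# Serre's condition `(R_k)` for a stalk in terms of generizations (helper16)
-/

set_option autoImplicit false
set_option linter.style.haveILetI false
set_option linter.unusedSectionVars false
universe u

open AlgebraicGeometry CategoryTheory Limits IsLocalRing

namespace Groth.Agent.Helper16.GeomRk

/-- the local ring at a generization is the localization of the local ring at the corresponding
prime. -/
theorem nonempty_ringEquiv_stalk_generization (F : Scheme.{u}) {z w : F} (h : w ⤳ z) :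
    haveI : (Ideal.comap (F.presheaf.stalkSpecializes h).hom
      (maximalIdeal (F.presheaf.stalk w))).IsPrime := Ideal.comap_isPrime _ _
    Nonempty (Localization.AtPrime (Ideal.comap (F.presheaf.stalkSpecializes h).hom
      (maximalIdeal (F.presheaf.stalk w))) ≃+* F.presheaf.stalk w) := by
  letI : Algebra (F.presheaf.stalk z) (F.presheaf.stalk w) :=
    (F.presheaf.stalkSpecializes h).hom.toAlgebra
  haveI : (Ideal.comap (F.presheaf.stalkSpecializes h).hom
    (maximalIdeal (F.presheaf.stalk w))).IsPrime := Ideal.comap_isPrime _ _
  haveI := Groth.Agent.Helper23.RegPull.isLocalization_stalkSpecializes F h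
  exact ⟨(IsLocalization.algEquiv (Ideal.comap (F.presheaf.stalkSpecializes h).hom
    (maximalIdeal (F.presheaf.stalk w))).primeCompl _ _).toRingEquiv⟩

/-- **`(R_k)` for a stalk in terms of generizations.** -/
theorem hasRk_stalk_iff (F : Scheme.{u}) (z : F) (r : ℕ) :
    LocCoh.HasRk r (F.presheaf.stalk z) ↔
      ∀ w : F, w ⤳ z → ringKrullDim (F.presheaf.stalk w) ≤ (r : WithBot ℕ∞) →
        IsRegularLocalRing (F.presheaf.stalk w) := by
  constructor
  · intro H w h hdim
    haveI : (Ideal.comap (F.presheaf.stalkSpecializes h).hom
      (maximalIdeal (F.presheaf.stalk w))).IsPrime := Ideal.comap_isPrime _ _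
    obtain ⟨e⟩ := nonempty_ringEquiv_stalk_generization F h
    have hht : (Ideal.comap (F.presheaf.stalkSpecializes h).hom
        (maximalIdeal (F.presheaf.stalk w))).height ≤ r := by
      have h1 := IsLocalization.AtPrime.ringKrullDim_eq_height
        (Ideal.comap (F.presheaf.stalkSpecializes h).hom (maximalIdeal (F.presheaf.stalk w)))
        (Localization.AtPrime (Ideal.comap (F.presheaf.stalkSpecializes h).hom
          (maximalIdeal (F.presheaf.stalk w))))
      rw [ringKrullDim_eq_of_ringEquiv e] at h1
      rw [h1] at hdim
      exact_mod_cast hdim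
    have := H _ hht
    exact IsRegularLocalRing.of_ringEquiv e
  · intro H P hP hht
    obtain ⟨w, h, hPw⟩ := Groth.Agent.Helper23.RegPull.exists_generization_of_isPrime F z P
    subst hPw
    obtain ⟨e⟩ := nonempty_ringEquiv_stalk_generization F h
    have h1 := IsLocalization.AtPrime.ringKrullDim_eq_height
      (Ideal.comap (F.presheaf.stalkSpecializes h).hom (maximalIdeal (F.presheaf.stalk w)))
      (Localization.AtPrime (Ideal.comap (F.presheaf.stalkSpecializes h).hom
        (maximalIdeal (F.presheaf.stalk w))))
    rw [ringKrullDim_eq_of_ringEquiv e] at h1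
    have hdim : ringKrullDim (F.presheaf.stalk w) ≤ (r : WithBot ℕ∞) := by
      rw [h1]
      exact_mod_cast hht
    have := H w h hdim
    exact IsRegularLocalRing.of_ringEquiv e.symm

end Groth.Agent.Helper16.GeomRk
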