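import Mathlib
import Groth.Agent.Lib.Helper16.Alg.GoingDownHt
import Groth.Agent.Lib.Helper16.Sch.GeomRk1

/-!
# Lifting generizations along flat morphisms with control of the codimension (helper16)
-/

set_option autoImplicit false
set_option linter.style.haveILetI false
set_option linter.unusedSectionVars false
universe u

open AlgebraicGeometry CategoryTheory Limits IsLocalRing

namespace Groth.Agent.Helper16.GenLift

/-- the point of `F` attached to the prime of the local ring at `z` defined by a generization. -/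
theorem fromSpecStalk_comap_stalkSpecializes (F : Scheme.{u}) {z ξ : F} (h : ξ ⤳ z) :
    (F.fromSpecStalk z) ((Spec.map (F.presheaf.stalkSpecializes h))
      (closedPoint (F.presheaf.stalk ξ))) = ξ := by
  have h5 : (Spec.map (F.presheaf.stalkSpecializes h) ≫ F.fromSpecStalk z)
      (closedPoint (F.presheaf.stalk ξ)) = ξ := by
    rw [Scheme.SpecMap_stalkSpecializes_fromSpecStalk h]
    exact Scheme.fromSpecStalk_closedPoint
  exact h5

/-- the dimension of the local ring at the point attached to a prime `P` of the local ring at `z`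
is the height of `P`. -/
theorem ringKrullDim_stalk_fromSpecStalk (F : Scheme.{u}) (z : F)
    (P : Spec (F.presheaf.stalk z)) :
    ringKrullDim (F.presheaf.stalk ((F.fromSpecStalk z) P)) = (P.asIdeal.height : WithBot ℕ∞) := by
  haveI := P.isPrime
  obtain ⟨ξ, h, hq⟩ := Groth.Agent.Helper23.RegPull.exists_generization_of_isPrime F z P.asIdeal
  have hP : P = (Spec.map (F.presheaf.stalkSpecializes h)) (closedPoint (F.presheaf.stalk ξ)) := by
    apply PrimeSpectrum.ext
    exact hq
  have hξ : (F.fromSpecStalk z) P = ξ := by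
    rw [hP]
    exact fromSpecStalk_comap_stalkSpecializes F h
  rw [hξ]
  haveI : (Ideal.comap (F.presheaf.stalkSpecializes h).hom
      (maximalIdeal (F.presheaf.stalk ξ))).IsPrime := Ideal.comap_isPrime _ _
  obtain ⟨e⟩ := Groth.Agent.Helper16.GeomRk.nonempty_ringEquiv_stalk_generization F h
  have h1 := IsLocalization.AtPrime.ringKrullDim_eq_height
    (Ideal.comap (F.presheaf.stalkSpecializes h).hom (maximalIdeal (F.presheaf.stalk ξ)))
    (Localization.AtPrime (Ideal.comap (F.presheaf.stalkSpecializes h).hom
      (maximalIdeal (F.presheaf.stalk ξ))))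
  rw [ringKrullDim_eq_of_ringEquiv e] at h1
  rw [h1]
  congr 2
  exact hq.symm

/-- **Lifting generizations along a flat morphism**: a generization `v` of `φ w'` lifts to a
generization `v'` of `w'` whose local ring has the same dimension as that of `v`. -/
theorem exists_generization_lift_of_flat {W' W : Scheme.{u}} (φ : W' ⟶ W) [Flat φ]
    [IsLocallyNoetherian W] [IsLocallyNoetherian W'] (w' : W') (v : W) (hv : v ⤳ φ w') :
    ∃ v' : W', v' ⤳ w' ∧ φ v' = v ∧
      ringKrullDim (W'.presheaf.stalk v') = ringKrullDim (W.presheaf.stalk v) := by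
  letI : Algebra (W.presheaf.stalk (φ w')) (W'.presheaf.stalk w') := (φ.stalkMap w').hom.toAlgebra
  haveI : IsLocalHom (algebraMap (W.presheaf.stalk (φ w')) (W'.presheaf.stalk w')) :=
    inferInstanceAs (IsLocalHom (φ.stalkMap w').hom)
  haveI : Module.Flat (W.presheaf.stalk (φ w')) (W'.presheaf.stalk w') := Flat.stalkMap φ w'
  obtain ⟨P, hP⟩ : v ∈ Set.range (W.fromSpecStalk (φ w')) := by
    rw [Scheme.range_fromSpecStalk]
    exact hv
  haveI := P.isPrime
  have hpQ : P.asIdeal ≤ (maximalIdeal (W'.presheaf.stalk w')).under (W.presheaf.stalk (φ w')) := by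
    have : (maximalIdeal (W'.presheaf.stalk w')).under (W.presheaf.stalk (φ w')) =
        maximalIdeal (W.presheaf.stalk (φ w')) :=
      IsLocalRing.maximalIdeal_comap (algebraMap (W.presheaf.stalk (φ w'))
        (W'.presheaf.stalk w'))
    rw [this]
    exact IsLocalRing.le_maximalIdeal P.isPrime.ne_top
  obtain ⟨q, hqprime, -, hqover, hqht⟩ :=
    Groth.Agent.Helper16.GoingDownHt.exists_prime_le_liesOver_height_eq P.asIdeal
      (maximalIdeal (W'.presheaf.stalk w')) hpQ
  let Q' : Spec (W'.presheaf.stalk w') := ⟨q, hqprime⟩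
  refine ⟨(W'.fromSpecStalk w') Q', ?_, ?_, ?_⟩
  · have : (W'.fromSpecStalk w') Q' ∈ Set.range (W'.fromSpecStalk w') := ⟨Q', rfl⟩
    rw [Scheme.range_fromSpecStalk] at this
    exact this
  · have h1 : (W'.fromSpecStalk w' ≫ φ) Q' = (Spec.map (φ.stalkMap w') ≫ W.fromSpecStalk (φ w')) Q' := by
      rw [Scheme.SpecMap_stalkMap_fromSpecStalk]
    rw [Scheme.Hom.comp_apply, Scheme.Hom.comp_apply] at h1
    rw [h1, ← hP]
    congr 1
    apply PrimeSpectrum.ext
    exact hqover
  · rw [ringKrullDim_stalk_fromSpecStalk, ← hP, ringKrullDim_stalk_fromSpecStalk]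
    exact_mod_cast hqht

end Groth.Agent.Helper16.GenLift
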