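import Mathlib
import Groth.Agent.Lib.Helper16.Sch.UnramLocus

set_option autoImplicit false
set_option linter.style.haveILetI false
universe u
open CategoryTheory CategoryTheory.Limits AlgebraicGeometry Opposite TopologicalSpace Topology

namespace Groth.Agent.Helper16.UnramLocus

theorem unrAt_of_formallyUnramified {X Y : Scheme.{u}} (f : X ⟶ Y) [FormallyUnramified f] (x : X) :
    UnrAt f x :=
  ⟨⊤, trivial, inferInstance⟩

theorem formallyUnramified_of_forall_unrAt {X Y : Scheme.{u}} (f : X ⟶ Y)
    (H : ∀ x, UnrAt f x) : FormallyUnramified f := by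
  choose U hxU hU using H
  rw [IsZariskiLocalAtSource.iff_of_iSup_eq_top (P := @FormallyUnramified) U]
  · exact hU
  · rw [eq_top_iff]
    rintro x -
    simp only [Opens.mem_iSup]
    exact ⟨x, hxU x⟩

theorem formallyUnramified_iff_forall_unrAt {X Y : Scheme.{u}} (f : X ⟶ Y) :
    FormallyUnramified f ↔ ∀ x, UnrAt f x :=
  ⟨fun _ x => unrAt_of_formallyUnramified f x, formallyUnramified_of_forall_unrAt f⟩

/-- Formal unramifiedness can be checked on the fibres over the points of a base. -/
theorem formallyUnramified_iff_fibres {X Y S : Scheme.{u}} (g : Y ⟶ S) (f : X ⟶ Y)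
    [LocallyOfFiniteType f] :
    FormallyUnramified f ↔ ∀ s : S, FormallyUnramified (pullback.snd f (g.fiberι s)) := by
  constructor
  · intro hf s
    exact MorphismProperty.pullback_snd (P := @FormallyUnramified) f (g.fiberι s) hf
  · intro H
    refine formallyUnramified_of_forall_unrAt f fun x => ?_
    have hy : f x ∈ Set.range (g.fiberι (g (f x))) := by
      rw [Scheme.Hom.range_fiberι]
      rfl
    obtain ⟨y', hy'⟩ := hy
    obtain ⟨p, hp1, hp2⟩ := Scheme.Pullback.exists_preimage_pullback (f := f)
      (g := g.fiberι (g (f x))) x y' hy'.symm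
    have := H (g (f x))
    have h1 := unrAt_of_formallyUnramified (pullback.snd f (g.fiberι (g (f x)))) p
    rw [unrAt_iff_of_isPullback (IsPullback.of_hasPullback f (g.fiberι (g (f x)))) p, hp1] at h1
    exact h1

end Groth.Agent.Helper16.UnramLocus
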