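import Mathlib
import Groth.Agent.Lib.Helper16.Sch.FTDim2

set_option autoImplicit false
universe u
open CategoryTheory CategoryTheory.Limits AlgebraicGeometry Opposite TopologicalSpace Topology

noncomputable section

namespace Groth.Agent.Helper16.FTDim

open Groth.Agent.Helper14

section top

/-- a proper closed subspace of an irreducible space has strictly smaller dimension. -/
theorem dim_add_one_le_of_isClosedEmbedding {A F : Type*} [TopologicalSpace A]
    [TopologicalSpace F] [IrreducibleSpace F] [Nonempty A] (i : A → F) (hi : IsClosedEmbedding i)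
    (hns : ¬ Function.Surjective i) :
    topologicalKrullDim A + 1 ≤ topologicalKrullDim F := by
  have hirr : IsIrreducible (Set.univ : Set F) := IrreducibleSpace.isIrreducible_univ F
  let top : IrreducibleCloseds F := ⟨Set.univ, hirr, isClosed_univ⟩
  let φ : WithTop (IrreducibleCloseds A) → IrreducibleCloseds F := fun z =>
    match z with
    | ⊤ => top
    | (z : IrreducibleCloseds A) => IrreducibleCloseds.map i hi.continuous z
  have hφ : StrictMono φ := by
    intro a b hab
    induction a using WithTop.recTopCoe with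
    | top => exact absurd hab (not_top_lt)
    | coe a =>
      induction b using WithTop.recTopCoe with
      | top =>
        show IrreducibleCloseds.map i hi.continuous a < top
        refine lt_of_le_of_ne (fun x _ => Set.mem_univ x) ?_
        intro h
        apply hns
        intro y
        have h1 : y ∈ (IrreducibleCloseds.map i hi.continuous a : Set F) := by
          rw [h]; exact Set.mem_univ _
        rw [IrreducibleCloseds.coe_map] at h1
        have h2 : closure (i '' (a : Set A)) ⊆ Set.range i :=
          closure_minimal (Set.image_subset_range _ _) hi.isClosed_range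
        exact h2 h1
      | coe b =>
        exact IrreducibleCloseds.map_strictMono_of_isInducing hi.isInducing
          (WithTop.coe_lt_coe.mp hab)
  have : Nonempty (IrreducibleCloseds A) := by
    obtain ⟨a⟩ := ‹Nonempty A›
    exact ⟨⟨closure {a}, isIrreducible_singleton.closure, isClosed_closure⟩⟩
  have := Order.krullDim_le_of_strictMono φ hφ
  rw [Order.krullDim_WithTop] at this
  exact this

/-- subset version. -/
theorem dim_add_one_le_of_ssubset {S : Type*} [TopologicalSpace S] {A F C : Set S}
    (hF : IsIrreducible F) (hC : IsClosed C) (hA : A = C ∩ F) (hne : A.Nonempty)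
    (hAF : ¬ F ⊆ C) :
    topologicalKrullDim ↥A + 1 ≤ topologicalKrullDim ↥F := by
  have : IrreducibleSpace ↥F :=
    { toPreirreducibleSpace := Subtype.preirreducibleSpace hF.isPreirreducible
      toNonempty := hF.nonempty.to_subtype }
  have : Nonempty ↥A := hne.to_subtype
  have hsub : A ⊆ F := by rw [hA]; exact Set.inter_subset_right
  refine dim_add_one_le_of_isClosedEmbedding (Set.inclusion hsub) ?_ ?_
  · refine ⟨IsEmbedding.inclusion hsub, ?_⟩
    rw [Set.range_inclusion]
    have : {x : ↥F | (x : S) ∈ A} = Subtype.val ⁻¹' C := by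
      ext x
      simp only [Set.mem_ofPred_eq, Set.mem_preimage, hA, Set.mem_inter_iff]
      exact ⟨fun h => h.1, fun h => ⟨h, x.2⟩⟩
    rw [this]
    exact hC.preimage continuous_subtype_val
  · intro hs
    apply hAF
    intro x hx
    obtain ⟨a, ha⟩ := hs ⟨x, hx⟩
    have : (a : S) = x := congrArg Subtype.val ha
    rw [← this]
    have h2 : (a : S) ∈ C ∩ F := hA ▸ a.2
    exact h2.1

/-- an irreducible closed subset of an irreducible space with the same finite dimension is the
whole space. -/
theorem eq_of_dim_eq {S : Type*} [TopologicalSpace S] {F C : Set S}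
    (hF : IsIrreducible F) (hC : IsClosed C) (hne : (C ∩ F).Nonempty) (n : ℕ)
    (hdim : topologicalKrullDim ↥F = n)
    (hle : (n : WithBot ℕ∞) ≤ topologicalKrullDim ↥(C ∩ F : Set S)) : F ⊆ C := by
  by_contra hcon
  have h := dim_add_one_le_of_ssubset hF hC rfl hne hcon
  rw [hdim] at h
  have h2 : ((n : WithBot ℕ∞)) + 1 ≤ n := (add_le_add_left hle 1).trans h
  have h3 : ((n + 1 : ℕ) : WithBot ℕ∞) ≤ (n : ℕ) := by exact_mod_cast h2
  have h4 : n + 1 ≤ n := by exact_mod_cast h3
  omega

end top

variable {X Y : Scheme.{u}}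

theorem exists_open_dim_le (f : X ⟶ Y) [IsNoetherian X] [IsNoetherian Y]
    [LocallyOfFiniteType f] (ξ : X) :
    ∃ V : Y.Opens, f ξ ∈ V ∧ ∀ y ∈ V,
      topologicalKrullDim ↥(closure ({ξ} : Set X) ∩ f ⁻¹' {y}) ≤ (td f ξ : WithBot ℕ∞) := by
  obtain ⟨V, hηV, H⟩ := exists_open_localDim_le f ξ
  refine ⟨V, hηV, fun y hy => ?_⟩
  rw [Groth.Agent.Helper9.TopDim.dim_eq_iSup_localDim]
  refine iSup_le ?_
  rintro ⟨x, hx1, hx2⟩
  have hx2' : f x = y := hx2
  subst hx2'
  exact H x (specializes_iff_mem_closure.mpr hx1) hy

theorem exists_open_subset_image (f : X ⟶ Y) [IsNoetherian X] [IsNoetherian Y]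
    [LocallyOfFiniteType f] (A : Set X) (hA : IsConstructible A) (ξ : X) (hξ : ξ ∈ A) :
    ∃ V : Set Y, IsOpen V ∧ f ξ ∈ V ∧ V ∩ closure {f ξ} ⊆ f '' A :=
  exists_open_of_mem_constructible (f ξ) (f.isConstructible_image hA) ⟨ξ, hξ, rfl⟩

end Groth.Agent.Helper16.FTDim
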