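import Mathlib
import Groth.Agent.Lib.Helper16.Sch.FTDim3

set_option autoImplicit false
universe u
open CategoryTheory CategoryTheory.Limits AlgebraicGeometry Opposite TopologicalSpace Topology

noncomputable section

namespace Groth.Agent.Helper16.FTDim

open Groth.Agent.Helper14

section top

theorem exists_subset_of_finite_biUnion {S : Type*} [TopologicalSpace S] {s : Set S}
    (hs : IsIrreducible s) {ι : Type*} {T : Set ι} (hT : T.Finite) (c : ι → Set S)
    (hc : ∀ i ∈ T, IsClosed (c i)) (h : s ⊆ ⋃ i ∈ T, c i) : ∃ i ∈ T, s ⊆ c i := by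
  classical
  obtain ⟨z, hz, hsz⟩ := (isIrreducible_iff_sUnion_isClosed.mp hs) (hT.toFinset.image c)
    (by
      intro z hz
      rw [Finset.mem_image] at hz
      obtain ⟨i, hi, rfl⟩ := hz
      exact hc i (hT.mem_toFinset.mp hi))
    (by
      intro x hx
      obtain ⟨i, hi, hxi⟩ := Set.mem_iUnion₂.mp (h hx)
      refine Set.mem_sUnion.mpr ⟨c i, ?_, hxi⟩
      rw [Finset.mem_coe, Finset.mem_image]
      exact ⟨i, hT.mem_toFinset.mpr hi, rfl⟩)
  rw [Finset.mem_image] at hz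
  obtain ⟨i, hi, rfl⟩ := hz
  exact ⟨i, hT.mem_toFinset.mp hi, hsz⟩

end top

variable {X Y : Scheme.{u}}

/-- the closed points of `closure {η}` whose fibre lies in `closure {ξ}`. -/
def goodPts (f : X ⟶ Y) (η : Y) (ξ : X) : Set Y :=
  {y | IsClosed ({y} : Set Y) ∧ y ∈ closure ({η} : Set Y) ∧ f ⁻¹' {y} ⊆ closure ({ξ} : Set X)}

theorem exists_dense_goodPts (f : X ⟶ Y) [IsNoetherian X] [JacobsonSpace Y]
    (hirr : ∀ y : Y, IsClosed ({y} : Set Y) → IsIrreducible (f ⁻¹' {y})) (η : Y) :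
    ∃ ξ : X, f ξ = η ∧ closure ({η} : Set Y) ⊆ closure (goodPts f η ξ) := by
  set W : Set Y := closure {η} with hW
  have hWirr : IsIrreducible W := isIrreducible_singleton.closure
  have hWcl : IsClosed W := isClosed_closure
  have hAcl : IsClosed (f ⁻¹' W) := hWcl.preimage f.continuous
  obtain ⟨S, hSf, hSc, hSi, hSU⟩ := NoetherianSpace.exists_finite_set_isClosed_irreducible hAcl
  set D : Set Y := W ∩ closedPoints Y with hD
  have hDcl : closure D = W := by
    rw [hD, JacobsonSpace.closure_inter_closedPoints_eq_closure hWcl.isLocallyClosed,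
      hWcl.closure_eq]
  let Dt : Set X → Set Y := fun t => {y | y ∈ D ∧ f ⁻¹' {y} ⊆ t}
  have hcover : D ⊆ ⋃ t ∈ S, Dt t := by
    intro y hy
    have h1 : f ⁻¹' {y} ⊆ ⋃ t ∈ S, t := by
      rw [← Set.sUnion_eq_biUnion, ← hSU]
      intro x hx
      have hx' : f x = y := hx
      show f x ∈ W
      rw [hx']
      exact hy.1
    obtain ⟨t, ht, hsub⟩ := exists_subset_of_finite_biUnion (hirr y hy.2) hSf (fun t => t)
      (fun t ht => hSc t ht) h1
    exact Set.mem_iUnion₂.mpr ⟨t, ht, hy, hsub⟩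
  have h2 : W ⊆ ⋃ t ∈ S, closure (Dt t) := by
    rw [← hSf.closure_biUnion, ← hDcl]
    exact closure_mono hcover
  obtain ⟨t, ht, hWt⟩ := exists_subset_of_finite_biUnion hWirr hSf (fun t => closure (Dt t))
    (fun _ _ => isClosed_closure) h2
  obtain ⟨ξ, hξ⟩ := QuasiSober.sober (hSi t ht) (hSc t ht)
  have hξt : closure ({ξ} : Set X) = t := hξ.def
  have hDt_sub : Dt t ⊆ closure ({f ξ} : Set Y) := by
    rintro y ⟨hyD, hyt⟩
    obtain ⟨x, hx⟩ := (hirr y hyD.2).nonempty
    have hx' : f x = y := hx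
    have h3 : ξ ⤳ x := specializes_iff_mem_closure.mpr (by rw [hξt]; exact hyt hx)
    have h4 : f ξ ⤳ f x := h3.map f.continuous
    rw [hx'] at h4
    exact h4.mem_closure
  have h5 : f ξ ⤳ η := by
    apply specializes_iff_mem_closure.mpr
    have : η ∈ W := subset_closure rfl
    exact (closure_minimal hDt_sub isClosed_closure) (hWt this)
  have h6 : η ⤳ f ξ := by
    apply specializes_iff_mem_closure.mpr
    have hξt' : ξ ∈ t := by rw [← hξt]; exact subset_closure rfl
    have : ξ ∈ f ⁻¹' W := by rw [hSU]; exact Set.mem_sUnion.mpr ⟨t, ht, hξt'⟩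
    exact this
  have h7 : f ξ = η := (h5.antisymm h6).eq
  refine ⟨ξ, h7, hWt.trans (closure_mono ?_)⟩
  rintro y ⟨hyD, hyt⟩
  exact ⟨hyD.2, hyD.1, by rw [hξt]; exact hyt⟩

theorem mem_closure_of_dense_goodPts (f : X ⟶ Y) [IsNoetherian X] [IsNoetherian Y]
    [LocallyOfFiniteType f] (η : Y) (ξ₀ : X)
    (hd : closure ({η} : Set Y) ⊆ closure (goodPts f η ξ₀)) (ξ : X) (hξ : f ξ = η) :
    ξ ∈ closure ({ξ₀} : Set X) := by
  by_contra hcon
  set A : Set X := closure {ξ} \ closure {ξ₀} with hA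
  have hAc : IsConstructible A :=
    (Groth.Agent.Helper4.Constr.isConstructible_of_isClosed isClosed_closure).sdiff
      (Groth.Agent.Helper4.Constr.isConstructible_of_isClosed isClosed_closure)
  obtain ⟨V, hVo, hηV, hVsub⟩ := exists_open_subset_image f A hAc ξ ⟨subset_closure rfl, hcon⟩
  rw [hξ] at hηV hVsub
  have h1 : η ∈ closure (goodPts f η ξ₀) := hd (subset_closure rfl)
  obtain ⟨y, hyV, hy⟩ := mem_closure_iff.mp h1 V hVo hηV
  obtain ⟨x, hxA, hx⟩ := hVsub ⟨hyV, hy.2.1⟩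
  exact hxA.2 (hy.2.2 hx)

end Groth.Agent.Helper16.FTDim
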