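import Mathlib
import Groth.Agent.Lib.Helper16.Sch.FTDim4

set_option autoImplicit false
universe u
open CategoryTheory CategoryTheory.Limits AlgebraicGeometry Opposite TopologicalSpace Topology

noncomputable section

namespace Groth.Agent.Helper16.FTDim

open Groth.Agent.Helper14

variable {X Y : Scheme.{u}}

theorem closure_image_closure (f : X ⟶ Y) (ξ : X) :
    closure (f '' closure ({ξ} : Set X)) = closure ({f ξ} : Set Y) := by
  apply le_antisymm
  · refine closure_minimal ?_ isClosed_closure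
    refine (image_closure_subset_closure_image f.continuous).trans ?_
    rw [Set.image_singleton]
  · exact closure_mono (by
      rintro _ rfl
      exact ⟨ξ, subset_closure rfl, rfl⟩)

section stepB

variable (f : X ⟶ Y) [LocallyOfFiniteType f] [IsNoetherian X] [IsNoetherian Y] (d : ℕ)
  (hirr : ∀ y : Y, IsClosed ({y} : Set Y) → IsIrreducible (f ⁻¹' {y}))
  (hdim : ∀ y : Y, IsClosed ({y} : Set Y) → topologicalKrullDim ↥(f ⁻¹' {y}) = d)
  (ξ₀ : X) (hd : closure ({f ξ₀} : Set Y) ⊆ closure (goodPts f (f ξ₀) ξ₀))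

include hirr hdim hd

theorem td_eq_of_dense_goodPts : td f ξ₀ = d := by
  obtain ⟨V, hηV, H⟩ := exists_open_dim_le f ξ₀
  have h1 : f ξ₀ ∈ closure (goodPts f (f ξ₀) ξ₀) := hd (subset_closure rfl)
  obtain ⟨y, hyV, hycl, -, hysub⟩ := mem_closure_iff.mp h1 V V.isOpen hηV
  have heq : closure ({ξ₀} : Set X) ∩ f ⁻¹' {y} = f ⁻¹' {y} := Set.inter_eq_right.mpr hysub
  have h2 := H y hyV
  rw [heq, hdim y hycl] at h2
  obtain ⟨x, hx⟩ := (hirr y hycl).nonempty
  have h3 := td_le_dim f ξ₀ x (specializes_iff_mem_closure.mpr (hysub hx)) y hx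
  rw [heq, hdim y hycl] at h3
  have h2' : d ≤ td f ξ₀ := by exact_mod_cast h2
  have h3' : td f ξ₀ ≤ d := by exact_mod_cast h3
  omega

theorem fibre_subset_of_dense_goodPts (y : Y) (hy : IsClosed ({y} : Set Y))
    (hne : (f ⁻¹' {y} ∩ closure ({ξ₀} : Set X)).Nonempty) :
    f ⁻¹' {y} ⊆ closure ({ξ₀} : Set X) := by
  obtain ⟨x, hx1, hx2⟩ := hne
  have htd := td_eq_of_dense_goodPts f d hirr hdim ξ₀ hd
  have h3 := td_le_dim f ξ₀ x (specializes_iff_mem_closure.mpr hx2) y hx1
  rw [htd] at h3
  exact eq_of_dim_eq (hirr y hy) isClosed_closure ⟨x, hx2, hx1⟩ d (hdim y hy) h3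

theorem dim_closure_of_dense_goodPts (k : Type u) [Field k] (qY : Y ⟶ Spec (CommRingCat.of k))
    [LocallyOfFiniteType qY] :
    topologicalKrullDim ↥(closure ({ξ₀} : Set X)) =
      (d : WithBot ℕ∞) + topologicalKrullDim ↥(closure ({f ξ₀} : Set Y)) := by
  have htd := td_eq_of_dense_goodPts f d hirr hdim ξ₀ hd
  rw [dim_closure k (f ≫ qY) ξ₀, dim_closure k qY (f ξ₀), td_comp, htd]
  push_cast
  rw [add_comm]

end stepB

section main

variable (k : Type u) [Field k] (qY : Y ⟶ Spec (CommRingCat.of k)) [LocallyOfFiniteType qY]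
  (f : X ⟶ Y) [LocallyOfFiniteType f] [IsNoetherian X] [IsNoetherian Y] (d : ℕ)
  (hirr : ∀ y : Y, IsClosed ({y} : Set Y) → IsIrreducible (f ⁻¹' {y}))
  (hdim : ∀ y : Y, IsClosed ({y} : Set Y) → topologicalKrullDim ↥(f ⁻¹' {y}) = d)

include qY hirr in
/-- the generic point of an irreducible component has dense good points. -/
theorem dense_goodPts_of_mem_irreducibleComponents (ξ : X)
    (hξ : closure ({ξ} : Set X) ∈ irreducibleComponents X) :
    closure ({f ξ} : Set Y) ⊆ closure (goodPts f (f ξ) ξ) := by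
  haveI : JacobsonSpace Y := LocallyOfFiniteType.jacobsonSpace qY
  obtain ⟨ξ₀, hξ₀, hd⟩ := exists_dense_goodPts f hirr (f ξ)
  have h1 : ξ ∈ closure ({ξ₀} : Set X) := mem_closure_of_dense_goodPts f (f ξ) ξ₀ hd ξ rfl
  have h2 : closure ({ξ} : Set X) ⊆ closure {ξ₀} :=
    closure_minimal (Set.singleton_subset_iff.mpr h1) isClosed_closure
  have h3 : closure ({ξ₀} : Set X) ⊆ closure {ξ} :=
    hξ.2 isIrreducible_singleton.closure h2
  have h4 : closure ({ξ₀} : Set X) = closure {ξ} := le_antisymm h3 h2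
  have h5 : goodPts f (f ξ) ξ₀ = goodPts f (f ξ) ξ := by
    unfold goodPts
    rw [h4]
  rw [← h5]
  exact hd

include qY hirr hdim in
theorem main [IrreducibleSpace Y] :
    (∃! Z : Set X, Z ∈ irreducibleComponents X ∧ Dense (f '' Z)) ∧
      ∀ Z ∈ irreducibleComponents X,
        (∀ y : Y, IsClosed ({y} : Set Y) → (f ⁻¹' {y} ∩ Z).Nonempty → f ⁻¹' {y} ⊆ Z) ∧
        topologicalKrullDim ↥Z = (d : WithBot ℕ∞) + topologicalKrullDim ↥(closure (f '' Z)) := by
  haveI : JacobsonSpace Y := LocallyOfFiniteType.jacobsonSpace qY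
  constructor
  · obtain ⟨ξ₀, hξ₀, hd⟩ := exists_dense_goodPts f hirr (genericPoint Y)
    have hcomp : closure ({ξ₀} : Set X) ∈ irreducibleComponents X := by
      refine ⟨isIrreducible_singleton.closure, ?_⟩
      intro s hs hle
      obtain ⟨ζ, hζ⟩ := QuasiSober.sober hs.closure isClosed_closure
      have hζs : closure ({ζ} : Set X) = closure s := hζ.def
      have h1 : ζ ⤳ ξ₀ := by
        apply specializes_iff_mem_closure.mpr
        rw [hζs]
        exact subset_closure (hle (subset_closure rfl))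
      have h2 : f ζ ⤳ genericPoint Y := by
        rw [← hξ₀]
        exact h1.map f.continuous
      have h3 : f ζ = genericPoint Y := (h2.antisymm (genericPoint_specializes _)).eq
      have h4 : ζ ∈ closure ({ξ₀} : Set X) :=
        mem_closure_of_dense_goodPts f _ ξ₀ hd ζ h3
      have h5 : closure s ⊆ closure ({ξ₀} : Set X) := by
        rw [← hζs]
        exact closure_minimal (Set.singleton_subset_iff.mpr h4) isClosed_closure
      exact subset_closure.trans h5
    refine ⟨closure {ξ₀}, ⟨hcomp, ?_⟩, ?_⟩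
    · rw [dense_iff_closure_eq, closure_image_closure, hξ₀]
      exact (genericPoint_spec Y).def
    · rintro Z' ⟨hZ'c, hZ'd⟩
      obtain ⟨ζ, hζ⟩ := QuasiSober.sober hZ'c.1 (isClosed_of_mem_irreducibleComponents Z' hZ'c)
      have hζZ : closure ({ζ} : Set X) = Z' := hζ.def
      have h1 : closure ({f ζ} : Set Y) = Set.univ := by
        rw [← closure_image_closure, hζZ]
        exact hZ'd.closure_eq
      have h2 : f ζ = genericPoint Y := by
        have hg : IsGenericPoint (f ζ) (Set.univ : Set Y) := h1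
        exact hg.eq (genericPoint_spec Y)
      have h4 : ζ ∈ closure ({ξ₀} : Set X) :=
        mem_closure_of_dense_goodPts f _ ξ₀ hd ζ h2
      have h5 : Z' ⊆ closure ({ξ₀} : Set X) := by
        rw [← hζZ]
        exact closure_minimal (Set.singleton_subset_iff.mpr h4) isClosed_closure
      exact le_antisymm h5 (hZ'c.2 isIrreducible_singleton.closure h5)
  · intro Z hZ
    obtain ⟨ξ, hξ⟩ := QuasiSober.sober hZ.1 (isClosed_of_mem_irreducibleComponents Z hZ)
    have hξZ : closure ({ξ} : Set X) = Z := hξ.def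
    subst hξZ
    have hd := dense_goodPts_of_mem_irreducibleComponents k qY f hirr ξ hZ
    refine ⟨fun y hy hne => fibre_subset_of_dense_goodPts f d hirr hdim ξ hd y hy hne, ?_⟩
    rw [closure_image_closure]
    exact dim_closure_of_dense_goodPts f d hirr hdim ξ hd k qY

end main

end Groth.Agent.Helper16.FTDim
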