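import Mathlib
import Groth.Agent.Lib.Helper16.Sch.FTDim6

set_option autoImplicit false
universe u
open CategoryTheory CategoryTheory.Limits AlgebraicGeometry Opposite TopologicalSpace Topology

noncomputable section

namespace Groth.Agent.Helper16.FTDim

variable {X Y : Scheme.{u}}

theorem dim_univ (S : Type*) [TopologicalSpace S] :
    topologicalKrullDim ↥(Set.univ : Set S) = topologicalKrullDim S :=
  IsHomeomorph.topologicalKrullDim_eq _ (Homeomorph.Set.univ S).isHomeomorph

theorem irreducibleSpace_of_isIrreducible_univ {S : Type*} [TopologicalSpace S]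
    (h : IsIrreducible (Set.univ : Set S)) : IrreducibleSpace S :=
  { toPreirreducibleSpace := ⟨h.isPreirreducible⟩
    toNonempty := by
      obtain ⟨x, -⟩ := h.nonempty
      exact ⟨x⟩ }

/-- irreducible components dominating with all closed fibres inside: the total space. -/
theorem main14369 (k : Type u) [Field k]
    (qX : X ⟶ Spec (CommRingCat.of k)) (qY : Y ⟶ Spec (CommRingCat.of k))
    [LocallyOfFiniteType qX] [QuasiCompact qX] [LocallyOfFiniteType qY] [QuasiCompact qY]
    (f : X ⟶ Y) (hf : f ≫ qY = qX) [IrreducibleSpace ↥Y] (hcl : IsClosedMap f.base) (d : ℕ)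
    (hirr : ∀ y : ↥Y, IsClosed ({y} : Set ↥Y) → IsIrreducible (f.base ⁻¹' {y}))
    (hdim : ∀ y : ↥Y, IsClosed ({y} : Set ↥Y) → topologicalKrullDim ↥(f.base ⁻¹' {y}) = d) :
    IrreducibleSpace ↥X ∧ topologicalKrullDim ↥X = d + topologicalKrullDim ↥Y := by
  obtain ⟨⟨Z₀, ⟨hZ₀c, hZ₀d⟩, -⟩, H⟩ := main14378 k qX qY f hf d hirr hdim
  have hZ₀cl : IsClosed Z₀ := isClosed_of_mem_irreducibleComponents Z₀ hZ₀c
  have himg : f.base '' Z₀ = Set.univ := by
    rw [← (hcl _ hZ₀cl).closure_eq]
    exact hZ₀d.closure_eq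
  have : JacobsonSpace X := LocallyOfFiniteType.jacobsonSpace qX
  have hsub : closedPoints X ⊆ Z₀ := by
    intro x hx
    have hx' : IsClosed ({x} : Set X) := hx
    have hy : IsClosed ({f.base x} : Set Y) := by
      have := hcl _ hx'
      rwa [Set.image_singleton] at this
    have hne : (f.base ⁻¹' {f.base x} ∩ Z₀).Nonempty := by
      have : f.base x ∈ f.base '' Z₀ := by rw [himg]; exact Set.mem_univ _
      obtain ⟨z, hz, hzx⟩ := this
      exact ⟨z, hzx, hz⟩
    exact (H Z₀ hZ₀c).1 (f.base x) hy hne rfl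
  have hZ₀ : Z₀ = Set.univ := by
    apply Set.eq_univ_of_univ_subset
    rw [← closure_closedPoints (X := X)]
    exact closure_minimal hsub hZ₀cl
  subst hZ₀
  refine ⟨irreducibleSpace_of_isIrreducible_univ hZ₀c.1, ?_⟩
  have h2 := (H _ hZ₀c).2
  rw [himg, closure_univ, dim_univ, dim_univ] at h2
  exact h2

end Groth.Agent.Helper16.FTDim

namespace Groth.Agent.Helper16.FTDim

variable {X Y : Scheme.{u}}

theorem withBot_add_left_cancel (d n : ℕ) (a : WithBot ℕ∞)
    (h : (d : WithBot ℕ∞) + a = (d : WithBot ℕ∞) + (n : WithBot ℕ∞)) : a = n := by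
  induction a using WithBot.recBotCoe with
  | bot =>
    exfalso
    rw [WithBot.add_bot] at h
    have h' : (⊥ : WithBot ℕ∞) = ((d + n : ℕ) : WithBot ℕ∞) := by rw [h]; push_cast; rfl
    exact WithBot.bot_ne_coe (a := ((d + n : ℕ) : ℕ∞)) h'
  | coe a =>
    induction a using ENat.recTopCoe with
    | top =>
      exfalso
      have h1 : (d : WithBot ℕ∞) + ((⊤ : ℕ∞) : WithBot ℕ∞) = ((⊤ : ℕ∞) : WithBot ℕ∞) := by
        rw [show (d : WithBot ℕ∞) = ((d : ℕ∞) : WithBot ℕ∞) from rfl, ← WithBot.coe_add, add_top]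
      rw [h1] at h
      have h' : ((⊤ : ℕ∞) : WithBot ℕ∞) = (((d + n : ℕ) : ℕ∞) : WithBot ℕ∞) := by
        rw [h]; push_cast; rfl
      have := WithBot.coe_injective h'
      exact ENat.top_ne_natCast _ this
    | coe m =>
      have h' : ((d + m : ℕ) : WithBot ℕ∞) = ((d + n : ℕ) : WithBot ℕ∞) := by
        push_cast
        exact h
      have : d + m = d + n := by exact_mod_cast h'
      have : m = n := by omega
      subst this
      rfl

theorem dim_eq_td_genericPoint (k : Type u) [Field k] (qY : Y ⟶ Spec (CommRingCat.of k))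
    [LocallyOfFiniteType qY] [IrreducibleSpace Y] :
    topologicalKrullDim Y = (td qY (genericPoint Y) : WithBot ℕ∞) := by
  rw [← dim_closure k qY (genericPoint Y), (genericPoint_spec Y).def, dim_univ]

theorem main14370 (k : Type u) [Field k]
    (qX : X ⟶ Spec (CommRingCat.of k)) (qY : Y ⟶ Spec (CommRingCat.of k))
    [LocallyOfFiniteType qX] [QuasiCompact qX] [LocallyOfFiniteType qY] [QuasiCompact qY]
    (f : X ⟶ Y) (hf : f ≫ qY = qX) [IrreducibleSpace ↥Y]
    (hpure : ∀ Z ∈ irreducibleComponents (↥X), topologicalKrullDim ↥Z = topologicalKrullDim ↥X)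
    (d : ℕ)
    (hirr : ∀ y : ↥Y, IsClosed ({y} : Set ↥Y) → IsIrreducible (f.base ⁻¹' {y}))
    (hdim : ∀ y : ↥Y, IsClosed ({y} : Set ↥Y) → topologicalKrullDim ↥(f.base ⁻¹' {y}) = d) :
    IrreducibleSpace ↥X ∧ topologicalKrullDim ↥X = d + topologicalKrullDim ↥Y := by
  obtain ⟨⟨Z₀, ⟨hZ₀c, hZ₀d⟩, huniq⟩, H⟩ := main14378 k qX qY f hf d hirr hdim
  have hY := dim_eq_td_genericPoint k qY
  set n := td qY (genericPoint Y) with hn
  have h0 := (H Z₀ hZ₀c).2
  rw [hZ₀d.closure_eq, dim_univ, hpure Z₀ hZ₀c] at h0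
  have hall : ∀ Z ∈ irreducibleComponents X, Z = Z₀ := by
    intro Z hZ
    apply huniq
    refine ⟨hZ, ?_⟩
    have h1 := (H Z hZ).2
    rw [hpure Z hZ, h0, hY] at h1
    have h2 := (withBot_add_left_cancel d n _ h1.symm)
    have hirrC : IsIrreducible (closure (f.base '' Z)) :=
      (hZ.1.image f.base f.continuous.continuousOn).closure
    have h3 : (Set.univ : Set Y) ⊆ closure (f.base '' Z) := by
      refine eq_of_dim_eq (IrreducibleSpace.isIrreducible_univ Y) isClosed_closure ?_ n ?_ ?_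
      · rw [Set.inter_univ]; exact hirrC.nonempty
      · rw [dim_univ, hY]
      · rw [Set.inter_univ, h2]
    rw [dense_iff_closure_eq]
    exact Set.eq_univ_of_univ_subset h3
  have hZ₀ : Z₀ = Set.univ := by
    rw [← sUnion_irreducibleComponents (X := X)]
    apply le_antisymm
    · exact Set.subset_sUnion_of_mem hZ₀c
    · apply Set.sUnion_subset
      intro Z hZ
      rw [hall Z hZ]
  subst hZ₀
  exact ⟨irreducibleSpace_of_isIrreducible_univ hZ₀c.1, h0⟩

end Groth.Agent.Helper16.FTDim
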