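import Mathlib
import Groth.Agent.Lib.Helper14.FibreDimBC
import Groth.Agent.Lib.Helper14.QuasiSection
import Groth.Agent.Lib.Helper21.FS6
import Groth.Agent.Lib.Helper4.Constr
import Groth.Agent.S0402

set_option autoImplicit false
set_option linter.style.haveILetI false
universe u
open CategoryTheory CategoryTheory.Limits AlgebraicGeometry Opposite TopologicalSpace Topology

noncomputable section

namespace Groth.Agent.Helper16.ConsFD

open Groth.Agent.Helper14 Groth.Agent.Helper21.FS

/-- A finitely presented algebra is the base change of a finitely presented algebra over a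
finite type `ℤ`-algebra. -/
theorem exists_model (R B : Type u) [CommRing R] [CommRing B] [Algebra R B]
    [Algebra.FinitePresentation R B] :
    ∃ (R₀ : Type u) (_ : CommRing R₀) (_ : Algebra R₀ R) (B₀ : Type u) (_ : CommRing B₀)
      (_ : Algebra R₀ B₀) (_ : Algebra B₀ B) (_ : Algebra R₀ B) (_ : IsScalarTower R₀ R B)
      (_ : IsScalarTower R₀ B₀ B),
      Algebra.FiniteType ℤ R₀ ∧ Algebra.FinitePresentation R₀ B₀ ∧
        Algebra.IsPushout R₀ R B₀ B := by
  classical
  let P := Algebra.Presentation.ofFinitePresentation R B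
  let A : Subalgebra ℤ R := Algebra.adjoin ℤ P.coeffs
  haveI : P.HasCoeffs A := ⟨fun x hx => ⟨⟨x, Algebra.subset_adjoin hx⟩, rfl⟩⟩
  haveI : Algebra.FiniteType ℤ A := Algebra.FiniteType.adjoin_of_finite P.finite_coeffs
  let S₁ := P.ModelOfHasCoeffs A
  letI : Algebra S₁ B := modelAlgebra P A
  haveI : IsScalarTower A S₁ B := model_isScalarTower P A
  haveI : Algebra.IsPushout A R S₁ B := model_isPushout P A
  refine ⟨A, inferInstance, inferInstance, S₁, inferInstance, inferInstance, inferInstance,
    inferInstance, inferInstance, inferInstance, inferInstance, ?_, inferInstance⟩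
  infer_instance

/-- The locus in `Spec B` where the local fibre dimension is at most `m` is constructible, for a
finitely presented `R`-algebra `B`. -/
theorem isConstructible_fibreDimAt_le_Spec (R B : Type u) [CommRing R] [CommRing B] [Algebra R B]
    [Algebra.FinitePresentation R B] (m : ℕ) :
    IsConstructible {x : Spec (.of B) |
      FlatMor.fibreDimAt (Spec.map (CommRingCat.ofHom (algebraMap R B))) x ≤ m} := by
  obtain ⟨R₀, _, _, B₀, _, _, _, _, _, _, hR₀, hB₀, hpo⟩ := exists_model R B
  have hpo' := (CommRingCat.isPushout_iff_isPushout (R := R₀) (R' := R) (S := B₀) (S' := B)).mpr hpo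
  have hsq := (isPullback_SpecMap_of_isPushout _ _ _ _ hpo').flip
  haveI : IsNoetherianRing R₀ := Algebra.FiniteType.isNoetherianRing ℤ R₀
  haveI : IsNoetherianRing B₀ := Algebra.FiniteType.isNoetherianRing R₀ B₀
  haveI : LocallyOfFiniteType (Spec.map (CommRingCat.ofHom (algebraMap R₀ B₀))) := by
    rw [HasRingHomProperty.Spec_iff (P := @LocallyOfFiniteType)]
    exact RingHom.finiteType_algebraMap.mpr inferInstance
  have hopen := Groth.Agent.S0402.result (Spec.map (CommRingCat.ofHom (algebraMap R₀ B₀))) m
  haveI : NoetherianSpace (Spec (.of B₀)) :=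
    inferInstanceAs (NoetherianSpace (PrimeSpectrum B₀))
  have hcons := Groth.Agent.Helper4.Constr.isConstructible_of_isOpen hopen
  have := (Spec.map (CommRingCat.ofHom (algebraMap B₀ B))).isConstructible_preimage hcons
  convert this using 1
  ext x
  simp only [Set.mem_setOf_eq, Set.mem_preimage]
  rw [FibreDimBC.fibreDimAt_eq hsq x]

end Groth.Agent.Helper16.ConsFD
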