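import Mathlib
import Groth.Agent.Lib.Helper16.Sch.ConsFD1

set_option autoImplicit false
set_option linter.style.haveILetI false
universe u
open CategoryTheory CategoryTheory.Limits AlgebraicGeometry Opposite TopologicalSpace Topology

noncomputable section

namespace Groth.Agent.Helper16.ConsFD

open Groth.Agent.Helper14

variable {X Y : Scheme.{u}}

/-- local fibre dimension is invariant under precomposition with an isomorphism -/
theorem fibreDimAt_iso_comp {X' : Scheme.{u}} (j : X' ⟶ X) [IsIso j] (f : X ⟶ Y)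
    [LocallyOfFiniteType f] (z : X') :
    FlatMor.fibreDimAt (j ≫ f) z = FlatMor.fibreDimAt f (j z) := by
  have hsq : IsPullback j (j ≫ f) f (𝟙 Y) :=
    IsPullback.of_horiz_isIso ⟨by simp⟩
  exact FibreDimBC.fibreDimAt_eq hsq z

/-- local fibre dimension is invariant under postcomposition with a monomorphism -/
theorem fibreDimAt_comp_mono {Y' : Scheme.{u}} (f : X ⟶ Y') (j : Y' ⟶ Y) [Mono j]
    [LocallyOfFiniteType (f ≫ j)] (z : X) :
    FlatMor.fibreDimAt f z = FlatMor.fibreDimAt (f ≫ j) z := by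
  have h1 : IsPullback (𝟙 Y') (𝟙 Y') j j := (IsKernelPair.id_of_mono j)
  have h2 : IsPullback (𝟙 X) f f (𝟙 Y') := IsPullback.of_horiz_isIso ⟨by simp⟩
  have hsq : IsPullback (𝟙 X) f (f ≫ j) j := by
    have := h2.paste_vert h1
    simpa using this
  have := FibreDimBC.fibreDimAt_eq hsq z
  simpa using this

/-- local fibre dimension along an affine open chart -/
theorem fibreDimAt_fromSpec (f : X ⟶ Y) [LocallyOfFiniteType f] {U : X.Opens}
    (hU : IsAffineOpen U) (z : Spec Γ(X, U)) :
    FlatMor.fibreDimAt (hU.fromSpec ≫ f) z = FlatMor.fibreDimAt f (hU.fromSpec z) := by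
  have h1 : hU.fromSpec ≫ f = hU.isoSpec.inv ≫ (U.ι ≫ f) := by
    rw [← Category.assoc, hU.isoSpec_inv_ι]
  have h2 := fibreDimAt_iso_comp hU.isoSpec.inv (U.ι ≫ f) z
  have h3 := QuasiSection.fibreDimAt_opens f U (hU.isoSpec.inv z)
  have h4 : (hU.isoSpec.inv z).1 = hU.fromSpec z := by
    rw [← hU.isoSpec_inv_ι, Scheme.Hom.comp_apply]
    rfl
  rw [h4] at h3
  rw [← h3, ← h2]
  congr 1
  
theorem isConstructible_fibreDimAt_le_SpecMap {R B : CommRingCat.{u}} (φ : R ⟶ B)
    (hφ : φ.hom.FinitePresentation) (m : ℕ) :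
    IsConstructible {x : Spec B | FlatMor.fibreDimAt (Spec.map φ) x ≤ m} := by
  letI := φ.hom.toAlgebra
  haveI : Algebra.FinitePresentation R B := hφ
  exact isConstructible_fibreDimAt_le_Spec R B m

/-- For a morphism locally of finite presentation, the locus of points of the source where the
local fibre dimension is at most `m` is locally constructible. -/
theorem isLocallyConstructible_fibreDimAt_le (f : X ⟶ Y) [LocallyOfFinitePresentation f] (m : ℕ) :
    IsLocallyConstructible {x : X | FlatMor.fibreDimAt f x ≤ m} := by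
  intro x
  obtain ⟨_, ⟨W, hW, rfl⟩, hxW, -⟩ := Y.isBasis_affineOpens.exists_subset_of_mem_open
    (Set.mem_univ (f x)) isOpen_univ
  have hW : IsAffineOpen W := hW
  obtain ⟨_, ⟨U, hU, rfl⟩, hxU, e⟩ := X.isBasis_affineOpens.exists_subset_of_mem_open
    (show x ∈ f ⁻¹ᵁ W from hxW) (f ⁻¹ᵁ W).isOpen
  have hU : IsAffineOpen U := hU
  have e : U ≤ f ⁻¹ᵁ W := e
  refine ⟨U, U.isOpen.mem_nhds hxU, U.isOpen, ?_⟩
  have hφ : (f.appLE W U e).hom.FinitePresentation :=
    HasRingHomProperty.appLE (P := @LocallyOfFinitePresentation) f inferInstance ⟨W, hW⟩ ⟨U, hU⟩ e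
  have hc := isConstructible_fibreDimAt_le_SpecMap (f.appLE W U e) hφ m
  have hpre := hc.preimage_of_isOpenEmbedding hU.isoSpec.hom.isOpenEmbedding
  refine (congrArg IsConstructible (Set.ext fun u => ?_)).mpr hpre
  show FlatMor.fibreDimAt f u.1 ≤ m ↔
    FlatMor.fibreDimAt (Spec.map (f.appLE W U e)) (hU.isoSpec.hom u) ≤ m
  have hsq := IsAffineOpen.SpecMap_appLE_fromSpec f hW hU e
  haveI : LocallyOfFiniteType (Spec.map (f.appLE W U e) ≫ hW.fromSpec) := by
    rw [hsq]; infer_instance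
  have h1 := fibreDimAt_comp_mono (Spec.map (f.appLE W U e)) hW.fromSpec (hU.isoSpec.hom u)
  have h2 := fibreDimAt_fromSpec f hU (hU.isoSpec.hom u)
  have h3 : hU.fromSpec (hU.isoSpec.hom u) = u.1 := by
    rw [← Scheme.Hom.comp_apply, hU.isoSpec_hom_fromSpec]
    rfl
  rw [h3] at h2
  rw [h1, ← h2]
  congr! 2
  exact hsq.symm

end Groth.Agent.Helper16.ConsFD
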