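import Mathlib
import Groth.Agent.Lib.Helper2.GenericFreeMain

set_option autoImplicit false
set_option linter.style.haveILetI false
universe u

namespace Groth.Agent.Helper16.GenSurj

open Groth.Agent.Helper2.GenericFree

/-- over a generically free algebra with `f` not nilpotent, primes away from `f` are contracted. -/
theorem comap_map_eq_of_gfree {A C : Type u} [CommRing A] [IsDomain A] [CommRing C] [Algebra A C]
    {f : A} (hf : GFree f C) (hfn : ¬ IsNilpotent (algebraMap A C f)) (p : Ideal A) [hp : p.IsPrime]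
    (hfp : f ∉ p) : (p.map (algebraMap A C)).comap (algebraMap A C) = p := by
  obtain ⟨ι, φ, hinj, hsurj⟩ := hf
  have hne : Nonempty ι := by
    by_contra hcon
    rw [not_nonempty_iff] at hcon
    obtain ⟨k, y, hy⟩ := hsurj 1
    have hy0 : y = 0 := Subsingleton.elim _ _
    rw [hy0, map_zero] at hy
    apply hfn
    refine ⟨k, ?_⟩
    rw [← map_pow, ← mul_one (algebraMap A C (f ^ k)), ← Algebra.smul_def]
    exact hy.symm
  obtain ⟨i₀⟩ := hne
  let N : Submodule A C :=
    { carrier := {c | ∃ k : ℕ, ∃ y : ι →₀ A, (∀ i, y i ∈ p) ∧ f ^ k • c = φ y}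
      add_mem' := by
        rintro c₁ c₂ ⟨k₁, y₁, h₁, e₁⟩ ⟨k₂, y₂, h₂, e₂⟩
        refine ⟨k₁ + k₂, f ^ k₂ • y₁ + f ^ k₁ • y₂, fun i => ?_, ?_⟩
        · simp only [Finsupp.coe_add, Finsupp.coe_smul, Pi.add_apply, Pi.smul_apply, smul_eq_mul]
          exact p.add_mem (p.mul_mem_left _ (h₁ i)) (p.mul_mem_left _ (h₂ i))
        · rw [map_add, map_smul, map_smul, ← e₁, ← e₂, smul_add, smul_smul, smul_smul,
            ← pow_add, ← pow_add, add_comm k₂ k₁]
      zero_mem' := ⟨0, 0, fun i => by simp, by simp⟩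
      smul_mem' := by
        rintro r c ⟨k, y, h, e⟩
        refine ⟨k, r • y, fun i => ?_, ?_⟩
        · simp only [Finsupp.coe_smul, Pi.smul_apply, smul_eq_mul]
          exact p.mul_mem_left _ (h i)
        · rw [map_smul, ← e, smul_comm] }
  have hN : p • (⊤ : Submodule A C) ≤ N := by
    rw [Submodule.smul_le]
    intro r hr c _
    obtain ⟨k, y, hy⟩ := hsurj c
    refine ⟨k, r • y, fun i => ?_, ?_⟩
    · simp only [Finsupp.coe_smul, Pi.smul_apply, smul_eq_mul]
      exact p.mul_mem_right _ hr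
    · rw [map_smul, hy, smul_comm]
  refine le_antisymm ?_ Ideal.le_comap_map
  intro r hr
  rw [Ideal.mem_comap] at hr
  have h1 : r • φ (Finsupp.single i₀ 1) ∈ p • (⊤ : Submodule A C) := by
    rw [Ideal.smul_top_eq_map, Submodule.restrictScalars_mem, Algebra.smul_def]
    exact Ideal.mul_mem_right _ _ hr
  obtain ⟨k, y, hy, e⟩ := hN h1
  have h2 : f ^ k • r • Finsupp.single i₀ (1 : A) - y = 0 := by
    apply hinj _ 0
    rw [pow_zero, one_smul, map_sub, map_smul, map_smul, e, sub_self]
  have h3 : f ^ k * r ∈ p := by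
    have := hy i₀
    rw [← sub_eq_zero.mp h2] at this
    simpa using this
  rcases hp.mem_or_mem h3 with h | h
  · exact absurd (hp.mem_of_pow_mem _ h) hfp
  · exact h

/-- finite type algebra over a domain with nonempty generic fibre: away from some `f ≠ 0`, every
prime is contracted. -/
theorem exists_forall_exists_comap_eq (A C : Type u) [CommRing A] [IsDomain A] [CommRing C]
    [Algebra A C] [Algebra.FiniteType A C]
    (hq : ∃ q : Ideal C, q.IsPrime ∧ q.comap (algebraMap A C) = ⊥) :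
    ∃ f : A, f ≠ 0 ∧ ∀ p : Ideal A, p.IsPrime → f ∉ p →
      ∃ q : Ideal C, q.IsPrime ∧ q.comap (algebraMap A C) = p := by
  obtain ⟨f, hf0, hf⟩ := exists_gfree (R := A) C C
  obtain ⟨q, hq, hqc⟩ := hq
  have hfn : ¬ IsNilpotent (algebraMap A C f) := by
    rintro ⟨k, hk⟩
    have h1 : algebraMap A C f ∈ q := hq.mem_of_pow_mem k (hk ▸ q.zero_mem)
    have h2 : f ∈ q.comap (algebraMap A C) := h1
    rw [hqc, Ideal.mem_bot] at h2
    exact hf0 h2
  refine ⟨f, hf0, fun p hp hfp => ?_⟩
  exact (Ideal.comap_map_eq_self_iff_of_isPrime p).mp (comap_map_eq_of_gfree hf hfn p hfp)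

end Groth.Agent.Helper16.GenSurj
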