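import Mathlib
import Groth.Agent.Lib.Helper16.Sch.GenSurj1

set_option autoImplicit false
set_option linter.style.haveILetI false
universe u

namespace Groth.Agent.Helper16.GenSurj

/-- finite type algebra over a ring with prime nilradical, with a prime over the nilradical: away
from some non-nilpotent `a`, every prime is contracted. -/
theorem exists_forall_exists_comap_eq_of_nilradical (R B : Type u) [CommRing R] [CommRing B]
    [Algebra R B] [Algebra.FiniteType R B] (hn : (nilradical R).IsPrime)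
    (hq : ∃ q : Ideal B, q.IsPrime ∧ q.comap (algebraMap R B) = nilradical R) :
    ∃ a : R, a ∉ nilradical R ∧ ∀ p : Ideal R, p.IsPrime → a ∉ p →
      ∃ q : Ideal B, q.IsPrime ∧ q.comap (algebraMap R B) = p := by
  set J : Ideal B := (nilradical R).map (algebraMap R B) with hJ
  haveI : IsDomain (R ⧸ nilradical R) := Ideal.Quotient.isDomain _
  haveI : Algebra.FiniteType R (B ⧸ J) :=
    Algebra.FiniteType.of_surjective (Ideal.Quotient.mkₐ R J) Ideal.Quotient.mk_surjective
  haveI : Algebra.FiniteType (R ⧸ nilradical R) (B ⧸ J) :=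
    Algebra.FiniteType.of_restrictScalars_finiteType R _ _
  obtain ⟨q, hq, hqc⟩ := hq
  have hJq : J ≤ q := by
    rw [hJ, Ideal.map_le_iff_le_comap, hqc]
  have hqbar : (q.map (Ideal.Quotient.mk J)).IsPrime :=
    Ideal.map_isPrime_of_surjective Ideal.Quotient.mk_surjective (by rwa [Ideal.mk_ker])
  have hqbarc : (q.map (Ideal.Quotient.mk J)).comap (algebraMap (R ⧸ nilradical R) (B ⧸ J)) = ⊥ := by
    ext r
    obtain ⟨r, rfl⟩ := Ideal.Quotient.mk_surjective r
    rw [Ideal.mem_comap, Ideal.Quotient.algebraMap_quotient_map_quotient,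
      Ideal.mem_quotient_iff_mem hJq, ← Ideal.mem_comap, hqc, Ideal.mem_bot,
      Ideal.Quotient.eq_zero_iff_mem]
  obtain ⟨f, hf0, hf⟩ := exists_forall_exists_comap_eq (R ⧸ nilradical R) (B ⧸ J)
    ⟨_, hqbar, hqbarc⟩
  obtain ⟨a, rfl⟩ := Ideal.Quotient.mk_surjective f
  refine ⟨a, fun h => hf0 (Ideal.Quotient.eq_zero_iff_mem.mpr h), fun p hp hap => ?_⟩
  have hnp : nilradical R ≤ p := nilradical_le_prime p
  have hpbar : (p.map (Ideal.Quotient.mk (nilradical R))).IsPrime :=
    Ideal.map_isPrime_of_surjective Ideal.Quotient.mk_surjective (by rwa [Ideal.mk_ker])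
  have hnot : Ideal.Quotient.mk (nilradical R) a ∉ p.map (Ideal.Quotient.mk (nilradical R)) := by
    rw [Ideal.mem_quotient_iff_mem hnp]; exact hap
  obtain ⟨q', hq', hq'c⟩ := hf _ hpbar hnot
  refine ⟨q'.comap (Ideal.Quotient.mk J), hq'.comap _, ?_⟩
  ext r
  rw [Ideal.mem_comap, Ideal.mem_comap, ← Ideal.Quotient.algebraMap_quotient_map_quotient,
    ← Ideal.mem_comap, hq'c, Ideal.mem_quotient_iff_mem hnp]

end Groth.Agent.Helper16.GenSurj
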