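import Mathlib
import Groth.Agent.Lib.Helper16.Sch.GenSurj2
import Groth.Agent.Lib.Helper16.Sch.GenPt4

set_option autoImplicit false
set_option linter.style.haveILetI false
universe u
open CategoryTheory CategoryTheory.Limits AlgebraicGeometry Opposite TopologicalSpace

noncomputable section

namespace Groth.Agent.Helper16.GenSurj

open Groth.Agent.Helper16.GenPt

/-- A morphism locally of finite type to an irreducible scheme whose image contains the generic
point has image containing a nonempty open. -/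
theorem exists_open_subset_range {X Y : Scheme.{u}} (f : X ⟶ Y) [IrreducibleSpace Y]
    [LocallyOfFiniteType f] (h : genericPoint Y ∈ Set.range f) :
    ∃ V : Y.Opens, (V : Set Y).Nonempty ∧ (V : Set Y) ⊆ Set.range f := by
  obtain ⟨x, hx⟩ := h
  obtain ⟨_, ⟨W, hW, rfl⟩, hηW, -⟩ := Y.isBasis_affineOpens.exists_subset_of_mem_open
    (Set.mem_univ (genericPoint Y)) isOpen_univ
  have hW : IsAffineOpen W := hW
  have hn := isPrime_nilradical_of_isAffineOpen W hW ⟨_, hηW⟩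
  have hη := fromSpec_nilradical_eq_genericPoint W hW hn
  have hxW : x ∈ f ⁻¹ᵁ W := by show f x ∈ W; rw [hx]; exact hηW
  obtain ⟨_, ⟨U, hU, rfl⟩, hxU, e⟩ := X.isBasis_affineOpens.exists_subset_of_mem_open
    hxW (f ⁻¹ᵁ W).isOpen
  have hU : IsAffineOpen U := hU
  have e : U ≤ f ⁻¹ᵁ W := e
  letI : Algebra Γ(Y, W) Γ(X, U) := (f.appLE W U e).hom.toAlgebra
  haveI : Algebra.FiniteType Γ(Y, W) Γ(X, U) := f.finiteType_appLE hW hU e
  have hsq := IsAffineOpen.SpecMap_appLE_fromSpec f hW hU e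
  have hq : ∃ q : Ideal Γ(X, U), q.IsPrime ∧ q.comap (algebraMap Γ(Y, W) Γ(X, U)) =
      nilradical Γ(Y, W) := by
    refine ⟨(hU.primeIdealOf ⟨x, hxU⟩).asIdeal, (hU.primeIdealOf ⟨x, hxU⟩).isPrime, ?_⟩
    have h1 : hW.fromSpec (Spec.map (f.appLE W U e) (hU.primeIdealOf ⟨x, hxU⟩)) =
        hW.fromSpec ⟨nilradical Γ(Y, W), hn⟩ := by
      rw [← Scheme.Hom.comp_apply, hsq, Scheme.Hom.comp_apply, hU.fromSpec_primeIdealOf ⟨x, hxU⟩,
        hη]
      exact hx
    have h2 := hW.fromSpec.isOpenEmbedding.injective h1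
    exact congrArg PrimeSpectrum.asIdeal h2
  obtain ⟨a, ha, H⟩ := exists_forall_exists_comap_eq_of_nilradical Γ(Y, W) Γ(X, U) hn hq
  refine ⟨Y.basicOpen a, ⟨genericPoint Y, ?_⟩, fun y hy => ?_⟩
  · rw [← hη]
    show _ ∈ hW.fromSpec ⁻¹ᵁ Y.basicOpen a
    rw [hW.fromSpec_preimage_basicOpen]
    exact ha
  · have hyW : y ∈ W := Y.basicOpen_le a hy
    have hy' : hW.fromSpec (hW.primeIdealOf ⟨y, hyW⟩) = y := hW.fromSpec_primeIdealOf ⟨y, hyW⟩
    have hnot : a ∉ (hW.primeIdealOf ⟨y, hyW⟩).asIdeal := by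
      have h2 : hW.primeIdealOf ⟨y, hyW⟩ ∈ hW.fromSpec ⁻¹ᵁ Y.basicOpen a := by
        show hW.fromSpec _ ∈ Y.basicOpen a
        rw [hy']; exact hy
      rw [hW.fromSpec_preimage_basicOpen] at h2
      exact h2
    obtain ⟨q', hq', hc⟩ := H _ (hW.primeIdealOf ⟨y, hyW⟩).isPrime hnot
    refine ⟨hU.fromSpec ⟨q', hq'⟩, ?_⟩
    rw [← Scheme.Hom.comp_apply, ← hsq, Scheme.Hom.comp_apply, ← hy']
    congr 1
    exact PrimeSpectrum.ext hc

end Groth.Agent.Helper16.GenSurj
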