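import Mathlib
import Groth.Agent.Lib.Helper16.Sch.GenSurj3

set_option autoImplicit false
set_option linter.style.haveILetI false
universe u
open CategoryTheory CategoryTheory.Limits AlgebraicGeometry Opposite TopologicalSpace

noncomputable section

namespace Groth.Agent.Helper16.GenSurj

open Groth.Agent.Helper16.GenPt

/-- the reduced induced closed subscheme on a closed subset -/
theorem exists_closedImmersion_range_eq {X : Scheme.{u}} (Z : Set X) (hc : IsClosed Z) :
    ∃ (T : Scheme.{u}) (i : T ⟶ X), IsClosedImmersion i ∧ Set.range i = Z := by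
  let I := Scheme.IdealSheafData.vanishingIdeal ⟨Z, hc⟩
  have hr : Set.range I.subschemeι = Z := by
    rw [Scheme.IdealSheafData.range_subschemeι, Scheme.IdealSheafData.coe_support_vanishingIdeal]
    rfl
  exact ⟨I.subscheme, I.subschemeι, inferInstance, hr⟩

/-- Points of a closed subset over a nonempty open are specializations of points of the closed
subset in the generic fibre. -/
theorem exists_open_forall_mem_closed_exists_specializes {X Y : Scheme.{u}} (f : X ⟶ Y)
    [IrreducibleSpace Y] [LocallyOfFiniteType f] [QuasiCompact f] (Z : Set X) (hZ : IsClosed Z) :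
    ∃ V : Y.Opens, (V : Set Y).Nonempty ∧
      ∀ x ∈ Z, f x ∈ V → ∃ x' ∈ Z, x' ⤳ x ∧ f x' = genericPoint Y := by
  obtain ⟨T, i, hi, hr⟩ := exists_closedImmersion_range_eq Z hZ
  obtain ⟨V, hV, H⟩ := exists_open_forall_exists_specializes (i ≫ f)
  refine ⟨V, hV, fun x hx hfx => ?_⟩
  rw [← hr] at hx
  obtain ⟨z, rfl⟩ := hx
  obtain ⟨z', hz', hfz'⟩ := H z (by rw [Scheme.Hom.comp_apply]; exact hfx)
  refine ⟨i z', ?_, hz'.map i.continuous, ?_⟩
  · rw [← hr]; exact ⟨z', rfl⟩
  · rw [← Scheme.Hom.comp_apply]; exact hfz'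

/-- A closed subset missing the generic fibre misses the fibres over a nonempty open. -/
theorem exists_open_forall_mem_closed_not_mem {X Y : Scheme.{u}} (f : X ⟶ Y)
    [IrreducibleSpace Y] [LocallyOfFiniteType f] [QuasiCompact f] (Z : Set X) (hZ : IsClosed Z)
    (h : ∀ x ∈ Z, f x ≠ genericPoint Y) :
    ∃ V : Y.Opens, (V : Set Y).Nonempty ∧ ∀ x ∈ Z, f x ∉ V := by
  obtain ⟨V, hV, H⟩ := exists_open_forall_mem_closed_exists_specializes f Z hZ
  refine ⟨V, hV, fun x hx hfx => ?_⟩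
  obtain ⟨x', hx', -, hfx'⟩ := H x hx hfx
  exact h x' hx' hfx'

/-- A locally closed subset meeting the generic fibre meets all fibres over a nonempty open. -/
theorem exists_open_forall_exists_mem_locallyClosed {X Y : Scheme.{u}} (f : X ⟶ Y)
    [IrreducibleSpace Y] [LocallyOfFiniteType f] (T : Set X) (hT : IsClosed T) (U : X.Opens)
    (h : ∃ x ∈ T, x ∈ U ∧ f x = genericPoint Y) :
    ∃ V : Y.Opens, (V : Set Y).Nonempty ∧ ∀ y ∈ V, ∃ x ∈ T, x ∈ U ∧ f x = y := by
  obtain ⟨T', i, hi, hr⟩ := exists_closedImmersion_range_eq T hT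
  obtain ⟨x, hxT, hxU, hfx⟩ := h
  rw [← hr] at hxT
  obtain ⟨z, rfl⟩ := hxT
  have hmem : genericPoint Y ∈ Set.range ((i ⁻¹ᵁ U).ι ≫ i ≫ f) :=
    ⟨⟨z, hxU⟩, by simpa [Scheme.Hom.comp_apply] using hfx⟩
  obtain ⟨V, hV, H⟩ := exists_open_subset_range ((i ⁻¹ᵁ U).ι ≫ i ≫ f) hmem
  refine ⟨V, hV, fun y hy => ?_⟩
  obtain ⟨w, hw⟩ := H hy
  refine ⟨i w.1, ?_, w.2, ?_⟩
  · rw [← hr]; exact ⟨_, rfl⟩
  · simpa [Scheme.Hom.comp_apply] using hw

end Groth.Agent.Helper16.GenSurj
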