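import Mathlib
import Groth.Agent.Lib.Helper14.FibreConst
import Groth.Agent.Lib.Helper16.Sch.GenSurj4
import Groth.Agent.S0402

set_option autoImplicit false
universe u
open CategoryTheory CategoryTheory.Limits AlgebraicGeometry Opposite TopologicalSpace

noncomputable section

namespace Groth.Agent.Helper16.GenDim

open Groth.Agent.Helper14

variable {X Y : Scheme.{u}}

theorem fibreDimAt_le_dim_fiber (f : X ⟶ Y) (x : X) (y : Y) (h : f x = y) :
    FlatMor.fibreDimAt f x ≤ topologicalKrullDim (f.fiber y) := by
  subst h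
  exact FibreGeneric.localDim_le_dim _

/-- the locus where the fibre dimension is at least `n` is closed (no Noetherian hypothesis). -/
theorem isClosed_le_fibreDimAt (f : X ⟶ Y) [LocallyOfFiniteType f] (n : ℕ) :
    IsClosed {x' : X | (n : WithBot ℕ∞) ≤ FlatMor.fibreDimAt f x'} := by
  cases n with
  | zero =>
    convert isClosed_univ
    ext x'
    simp only [Set.mem_setOf_eq, Set.mem_univ, iff_true]
    exact_mod_cast FibreGeneric.zero_le_localDim _
  | succ m =>
    have : {x' : X | ((m + 1 : ℕ) : WithBot ℕ∞) ≤ FlatMor.fibreDimAt f x'} =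
        {x' : X | FlatMor.fibreDimAt f x' ≤ m}ᶜ := by
      ext x'
      simp only [Set.mem_setOf_eq, Set.mem_compl_iff, not_le]
      have h0 : (0 : WithBot ℕ∞) ≤ FlatMor.fibreDimAt f x' := FibreGeneric.zero_le_localDim _
      generalize FlatMor.fibreDimAt f x' = v at h0 ⊢
      induction v using WithBot.recBotCoe with
      | bot => exact absurd h0 (by simp)
      | coe w =>
        induction w using ENat.recTopCoe with
        | top =>
          constructor
          · intro _
            exact WithBot.coe_lt_coe.mpr (ENat.coe_lt_top m)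
          · intro _
            exact WithBot.coe_le_coe.mpr le_top
        | coe k =>
          norm_cast
    rw [this]
    exact (Groth.Agent.S0402.result f m).isClosed_compl

/-- fibre dimension is constant near the generic point. -/
theorem main (f : X ⟶ Y) [IrreducibleSpace Y] [LocallyOfFiniteType f] [QuasiCompact f] (n : ℕ)
    (h : topologicalKrullDim (f.fiber (genericPoint Y)) = n) :
    ∃ V : Y.Opens, (V : Set Y).Nonempty ∧ ∀ y ∈ V, topologicalKrullDim (f.fiber y) = n := by
  have hZ : IsClosed {x : X | FlatMor.fibreDimAt f x ≤ n}ᶜ :=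
    (Groth.Agent.S0402.result f n).isClosed_compl
  obtain ⟨V₁, hV₁, H₁⟩ := GenSurj.exists_open_forall_mem_closed_not_mem f _ hZ (by
    intro x hx hfx
    apply hx
    show FlatMor.fibreDimAt f x ≤ n
    rw [← h]
    exact fibreDimAt_le_dim_fiber f x _ hfx)
  have hne : ∃ x : X, f x = genericPoint Y := by
    by_contra hcon
    push Not at hcon
    have := FibreConst.dim_fiber_eq_bot f (genericPoint Y) hcon
    rw [h] at this
    exact absurd this (by simp)
  obtain ⟨ζ, N, hfζ, hg, hdim, -⟩ := FibreConst.exists_isGen_dim_eq f (genericPoint Y) hne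
  have hNn : N = n := by
    rw [h] at hdim
    exact_mod_cast hdim.symm
  subst hNn
  have hB := isClosed_le_fibreDimAt f N
  obtain ⟨V₂, hV₂, H₂⟩ := GenSurj.exists_open_forall_exists_mem_locallyClosed f (closure {ζ})
    isClosed_closure ⊤ ⟨ζ, subset_closure rfl, trivial, hfζ⟩
  refine ⟨V₁ ⊓ V₂, ?_, ?_⟩
  · exact nonempty_preirreducible_inter V₁.isOpen V₂.isOpen hV₁ hV₂
  · rintro y ⟨hy1, hy2⟩
    apply le_antisymm
    · apply FibreConst.dim_fiber_le
      intro ζ' m hfζ' hg'
      rw [← hg'.fibreDimAt_eq]
      by_contra hcon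
      exact H₁ ζ' hcon (hfζ' ▸ hy1)
    · obtain ⟨x, hxT, -, hfx⟩ := H₂ y hy2
      have hsub : closure {ζ} ⊆ {x' : X | (N : WithBot ℕ∞) ≤ FlatMor.fibreDimAt f x'} := by
        rw [hB.closure_subset_iff]
        intro z hz
        rw [Set.mem_singleton_iff] at hz
        subst hz
        show (N : WithBot ℕ∞) ≤ FlatMor.fibreDimAt f z
        rw [hg.fibreDimAt_eq]
      exact (hsub hxT).trans (fibreDimAt_le_dim_fiber f x y hfx)

end Groth.Agent.Helper16.GenDim
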