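import Mathlib
import Groth.Agent.Lib.Helper16.Sch.ConsFD2
import Groth.Agent.Lib.Helper16.Sch.GenDim1

set_option autoImplicit false
set_option linter.style.haveILetI false
universe u
open CategoryTheory CategoryTheory.Limits AlgebraicGeometry Opposite TopologicalSpace Topology

noncomputable section

namespace Groth.Agent.Helper16.ConsFD

open Groth.Agent.Helper14

theorem isLocallyConstructible_compl {T : Type*} [TopologicalSpace T] {s : Set T}
    (hs : IsLocallyConstructible s) : IsLocallyConstructible sᶜ := by
  intro x
  obtain ⟨U, hU, hUo, hc⟩ := hs x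
  exact ⟨U, hU, hUo, by rw [Set.preimage_compl]; exact hc.compl⟩

variable {X Y : Scheme.{u}}

theorem dim_fiber_le_iff (f : X ⟶ Y) [LocallyOfFiniteType f] (y : Y) (d : WithBot ℕ∞) :
    topologicalKrullDim (f.fiber y) ≤ d ↔ ∀ x, f x = y → FlatMor.fibreDimAt f x ≤ d := by
  constructor
  · intro h x hx
    exact (GenDim.fibreDimAt_le_dim_fiber f x y hx).trans h
  · intro h
    apply FibreConst.dim_fiber_le
    intro ζ n hfζ hg
    rw [← hg.fibreDimAt_eq]
    exact h ζ hfζ

theorem isLocallyConstructible_dim_fiber_le (f : X ⟶ Y) [LocallyOfFinitePresentation f]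
    [QuasiCompact f] (m : ℕ) :
    IsLocallyConstructible {y : Y | topologicalKrullDim (f.fiber y) ≤ m} := by
  have h1 := isLocallyConstructible_fibreDimAt_le f m
  have h2 := f.isLocallyConstructible_image (isLocallyConstructible_compl h1)
  have h3 := isLocallyConstructible_compl h2
  convert h3 using 1
  ext y
  simp only [Set.mem_setOf_eq, Set.mem_compl_iff, Set.mem_image, not_exists, not_and,
    dim_fiber_le_iff]
  constructor
  · intro h x hx hfx
    exact hx (h x hfx)
  · intro h x hfx
    by_contra hcon
    exact h x hcon hfx

theorem isLocallyConstructible_dim_fiber_eq_bot (f : X ⟶ Y) [LocallyOfFinitePresentation f]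
    [QuasiCompact f] :
    IsLocallyConstructible {y : Y | topologicalKrullDim (f.fiber y) = ⊥} := by
  have h2 := f.isLocallyConstructible_image (IsLocallyConstructible.univ)
  have h3 := isLocallyConstructible_compl h2
  convert h3 using 1
  ext y
  simp only [Set.mem_setOf_eq, Set.image_univ, Set.mem_compl_iff, Set.mem_range, not_exists]
  constructor
  · intro h x hfx
    have := GenDim.fibreDimAt_le_dim_fiber f x y hfx
    rw [h] at this
    have h0 : (0 : WithBot ℕ∞) ≤ FlatMor.fibreDimAt f x := FibreGeneric.zero_le_localDim _
    exact absurd (h0.trans this) (by simp)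
  · intro h
    exact FibreConst.dim_fiber_eq_bot f y h

theorem dim_fiber_ne_top (f : X ⟶ Y) [LocallyOfFiniteType f] [QuasiCompact f] (y : Y) :
    topologicalKrullDim (f.fiber y) ≠ ((⊤ : ℕ∞) : WithBot ℕ∞) := by
  by_cases hne : ∃ x : X, f x = y
  · obtain ⟨ζ, N, -, -, hdim, -⟩ := FibreConst.exists_isGen_dim_eq f y hne
    rw [hdim]
    intro h
    have : ((N : ℕ∞) : WithBot ℕ∞) = ((⊤ : ℕ∞) : WithBot ℕ∞) := h
    rw [WithBot.coe_inj] at this
    exact ENat.coe_ne_top N this
  · push Not at hne
    rw [FibreConst.dim_fiber_eq_bot f y hne]
    exact WithBot.bot_ne_coe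

theorem lt_natCast_succ_iff (x : WithBot ℕ∞) (j : ℕ) :
    x < ((j + 1 : ℕ) : WithBot ℕ∞) ↔ x ≤ (j : WithBot ℕ∞) := by
  induction x using WithBot.recBotCoe with
  | bot => simp
  | coe w =>
    induction w using ENat.recTopCoe with
    | top =>
      constructor
      · intro h
        have h' : ((⊤ : ℕ∞) : WithBot ℕ∞) < (((j + 1 : ℕ) : ℕ∞) : WithBot ℕ∞) := h
        rw [WithBot.coe_lt_coe] at h'
        exact absurd h' (by simp)
      · intro h
        have h' : ((⊤ : ℕ∞) : WithBot ℕ∞) ≤ (((j : ℕ) : ℕ∞) : WithBot ℕ∞) := h
        rw [WithBot.coe_le_coe] at h'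
        exact absurd h' (by simp)
    | coe k =>
      norm_cast
      exact Nat.lt_succ_iff

/-- **S1333**: level sets of the fibre dimension are locally constructible. -/
theorem main (f : X ⟶ Y) [LocallyOfFinitePresentation f] [QuasiCompact f]
    (n : WithBot ℕ∞) :
    IsLocallyConstructible {y : Y | topologicalKrullDim (f.fiber y) = n} := by
  induction n using WithBot.recBotCoe with
  | bot => exact isLocallyConstructible_dim_fiber_eq_bot f
  | coe w =>
    induction w using ENat.recTopCoe with
    | top =>
      convert IsLocallyConstructible.empty using 1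
      ext y
      simp only [Set.mem_setOf_eq, Set.mem_empty_iff_false, iff_false]
      exact dim_fiber_ne_top f y
    | coe k =>
      cases k with
      | zero =>
        have h1 := isLocallyConstructible_dim_fiber_le f 0
        have h2 := isLocallyConstructible_compl (isLocallyConstructible_dim_fiber_eq_bot f)
        convert h1.inter h2 using 1
        ext y
        simp only [Set.mem_setOf_eq, Set.mem_inter_iff, Set.mem_compl_iff]
        generalize topologicalKrullDim (f.fiber y) = v
        induction v using WithBot.recBotCoe with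
        | bot => simp
        | coe w =>
          constructor
          · intro h
            rw [h]
            exact ⟨le_rfl, WithBot.coe_ne_bot⟩
          · rintro ⟨h, -⟩
            exact le_antisymm h (by exact_mod_cast bot_le (a := w))
      | succ j =>
        have h1 := isLocallyConstructible_dim_fiber_le f (j + 1)
        have h2 := isLocallyConstructible_compl (isLocallyConstructible_dim_fiber_le f j)
        convert h1.inter h2 using 1
        ext y
        simp only [Set.mem_setOf_eq, Set.mem_inter_iff, Set.mem_compl_iff]
        rw [← lt_natCast_succ_iff _ j, not_lt]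
        exact ⟨fun h => ⟨h.le, h.ge⟩, fun h => le_antisymm h.1 h.2⟩

end Groth.Agent.Helper16.ConsFD
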