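import Mathlib
import Groth.Agent.Lib.Helper14.PullbackPts

set_option autoImplicit false
set_option linter.style.haveILetI false
universe u
open CategoryTheory CategoryTheory.Limits AlgebraicGeometry Opposite TopologicalSpace Topology

noncomputable section

namespace Groth.Agent.Helper16.FibMap

variable {X Y S : Scheme.{u}}

/-- the morphism induced on fibres over `s` by `f : X ⟶ Y` over `S` -/
abbrev fibMap (f : X ⟶ Y) (g : Y ⟶ S) (s : S) :
    pullback (f ≫ g) (S.fromSpecResidueField s) ⟶ pullback g (S.fromSpecResidueField s) :=
  pullback.lift (pullback.fst (f ≫ g) (S.fromSpecResidueField s) ≫ f)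
    (pullback.snd (f ≫ g) (S.fromSpecResidueField s))
    ((Category.assoc _ _ _).trans pullback.condition)

theorem isPullback_fibMap (f : X ⟶ Y) (g : Y ⟶ S) (s : S) :
    IsPullback (pullback.fst (f ≫ g) (S.fromSpecResidueField s)) (fibMap f g s) f
      (pullback.fst g (S.fromSpecResidueField s)) := by
  have hbig : IsPullback (pullback.fst (f ≫ g) (S.fromSpecResidueField s))
      (fibMap f g s ≫ pullback.snd g (S.fromSpecResidueField s)) (f ≫ g)
      (S.fromSpecResidueField s) := by
    have : fibMap f g s ≫ pullback.snd g (S.fromSpecResidueField s) =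
        pullback.snd (f ≫ g) (S.fromSpecResidueField s) := pullback.lift_snd _ _ _
    rw [this]
    exact IsPullback.of_hasPullback _ _
  have hright : IsPullback (pullback.fst g (S.fromSpecResidueField s))
      (pullback.snd g (S.fromSpecResidueField s)) g (S.fromSpecResidueField s) :=
    IsPullback.of_hasPullback _ _
  exact IsPullback.of_bot hbig (pullback.lift_fst _ _ _).symm hright

/-- points of the fibre `pullback g (fromSpecResidueField s)` are the points of `Y` over `s` -/
theorem range_fst (g : Y ⟶ S) (s : S) :
    Set.range (pullback.fst g (S.fromSpecResidueField s)) = g ⁻¹' {s} :=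
  g.range_fiberι s

theorem surjective_fibMap_iff (f : X ⟶ Y) (g : Y ⟶ S) (s : S) :
    Function.Surjective (fibMap f g s).base ↔ ∀ y : Y, g y = s → y ∈ Set.range f := by
  constructor
  · intro h y hy
    have : y ∈ Set.range (pullback.fst g (S.fromSpecResidueField s)) := by
      rw [range_fst]; exact hy
    obtain ⟨y', rfl⟩ := this
    obtain ⟨x', rfl⟩ := h y'
    refine ⟨pullback.fst (f ≫ g) (S.fromSpecResidueField s) x', ?_⟩
    rw [← Scheme.Hom.comp_apply, ← Scheme.Hom.comp_apply, (isPullback_fibMap f g s).w]
  · intro h y'
    have hy : g (pullback.fst g (S.fromSpecResidueField s) y') = s := by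
      have : pullback.fst g (S.fromSpecResidueField s) y' ∈ g ⁻¹' {s} := by
        rw [← range_fst]; exact ⟨y', rfl⟩
      exact this
    obtain ⟨x, hx⟩ := h _ hy
    obtain ⟨x', -, hx'⟩ :=
      Groth.Agent.Helper14.exists_preimage_of_isPullback (isPullback_fibMap f g s) x y' hx
    exact ⟨x', hx'⟩

end Groth.Agent.Helper16.FibMap
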