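import Mathlib
import Groth.Agent.Lib.Helper16.Sch.FibMap1
import Groth.Agent.Lib.Helper16.Sch.ConsFD3
import Groth.Agent.Lib.Helper7.FinPres
import Groth.Agent.Lib.Helper15.FibDim0

set_option autoImplicit false
set_option linter.style.haveILetI false
universe u
open CategoryTheory CategoryTheory.Limits AlgebraicGeometry Opposite TopologicalSpace Topology

noncomputable section

namespace Groth.Agent.Helper16.FibMap

open Groth.Agent.Helper16.ConsFD

variable {X Y S : Scheme.{u}}

theorem lfp_of_comp (f : X ⟶ Y) (g : Y ⟶ S) [LocallyOfFinitePresentation g]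
    [LocallyOfFinitePresentation (f ≫ g)] : LocallyOfFinitePresentation f :=
  Groth.Agent.Helper7.locallyOfFinitePresentation_of_comp f g inferInstance inferInstance

/-- **S3443**: the locus where the fibre morphism is surjective is locally constructible. -/
theorem isLocallyConstructible_surjective (f : X ⟶ Y) (g : Y ⟶ S)
    [LocallyOfFinitePresentation g] [QuasiCompact g] [QuasiSeparated g]
    [LocallyOfFinitePresentation (f ≫ g)] [QuasiCompact (f ≫ g)] :
    IsLocallyConstructible {s : S | Function.Surjective (fibMap f g s).base} := by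
  haveI := lfp_of_comp f g
  haveI : QuasiCompact f := QuasiCompact.of_comp f g
  have h1 := f.isLocallyConstructible_image IsLocallyConstructible.univ
  have h2 := g.isLocallyConstructible_image (isLocallyConstructible_compl h1)
  have h3 := isLocallyConstructible_compl h2
  convert h3 using 1
  ext s
  simp only [Set.mem_setOf_eq, surjective_fibMap_iff, Set.image_univ, Set.mem_compl_iff,
    Set.mem_image, not_exists, not_and]
  constructor
  · intro h y hy hgy
    exact hy (h y hgy)
  · intro h y hgy
    by_contra hcon
    exact h y hcon hgy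

theorem locallyQuasiFinite_iff_fibreDimAt {X Y : Scheme.{u}} (h : X ⟶ Y) [LocallyOfFiniteType h] :
    LocallyQuasiFinite h ↔ ∀ x : X, FlatMor.fibreDimAt h x ≤ 0 := by
  constructor
  · intro hq x
    exact ((Groth.Agent.Helper15.FibDim.fibreDimAt_eq_zero_iff_quasiFiniteAt h x).mpr
      (h.quasiFiniteAt x)).le
  · intro hx
    apply Groth.Agent.Helper14.QuasiSection.locallyQuasiFinite_of_fibreDimAt_eq_zero
    intro x
    exact le_antisymm (hx x) (Groth.Agent.Helper14.FibreGeneric.zero_le_localDim _)

theorem locallyQuasiFinite_fibMap_iff (f : X ⟶ Y) (g : Y ⟶ S) [LocallyOfFiniteType f] (s : S) :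
    LocallyQuasiFinite (fibMap f g s) ↔ ∀ x : X, g (f x) = s → FlatMor.fibreDimAt f x ≤ 0 := by
  have hsq := isPullback_fibMap f g s
  haveI : LocallyOfFiniteType (fibMap f g s) :=
    Groth.Agent.Helper14.FibreDimBC.locallyOfFiniteType_of_isPullback hsq
  rw [locallyQuasiFinite_iff_fibreDimAt]
  constructor
  · intro h x hx
    have : x ∈ Set.range (pullback.fst (f ≫ g) (S.fromSpecResidueField s)) := by
      rw [range_fst]
      show (f ≫ g) x = s
      rw [Scheme.Hom.comp_apply]; exact hx
    obtain ⟨x', rfl⟩ := this
    rw [← Groth.Agent.Helper14.FibreDimBC.fibreDimAt_eq hsq x']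
    exact h x'
  · intro h x'
    rw [Groth.Agent.Helper14.FibreDimBC.fibreDimAt_eq hsq x']
    apply h
    have : pullback.fst (f ≫ g) (S.fromSpecResidueField s) x' ∈ (f ≫ g) ⁻¹' {s} := by
      rw [← range_fst]; exact ⟨x', rfl⟩
    have h2 : (f ≫ g) (pullback.fst (f ≫ g) (S.fromSpecResidueField s) x') = s := this
    rw [Scheme.Hom.comp_apply] at h2
    exact h2

/-- **S3445**: the locus where the fibre morphism is locally quasi-finite is locally
constructible. -/
theorem isLocallyConstructible_locallyQuasiFinite (f : X ⟶ Y) (g : Y ⟶ S)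
    [LocallyOfFinitePresentation g]
    [LocallyOfFinitePresentation (f ≫ g)] [QuasiCompact (f ≫ g)] :
    IsLocallyConstructible {s : S | LocallyQuasiFinite (fibMap f g s)} := by
  haveI := lfp_of_comp f g
  have h1 := isLocallyConstructible_fibreDimAt_le f 0
  have h2 := (f ≫ g).isLocallyConstructible_image (isLocallyConstructible_compl h1)
  have h3 := isLocallyConstructible_compl h2
  convert h3 using 1
  ext s
  simp only [Set.mem_setOf_eq, locallyQuasiFinite_fibMap_iff, Set.mem_compl_iff,
    Set.mem_image, not_exists, not_and, Scheme.Hom.comp_apply]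
  constructor
  · intro h x hx hgx
    exact hx (by exact_mod_cast h x hgx)
  · intro h x hgx
    by_contra hcon
    exact h x (by exact_mod_cast hcon) hgx

end Groth.Agent.Helper16.FibMap
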