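import Mathlib
import Groth.Prelude.Def_MoreMor

set_option autoImplicit false
set_option linter.style.haveILetI false
universe u
open CategoryTheory CategoryTheory.Limits AlgebraicGeometry Opposite TopologicalSpace Topology

namespace Groth.Agent.Helper16.LocalLift

/-- Ring-level lifting for a formally smooth ring map against a surjection with square-zero
kernel. -/
theorem ring_lift {B C R' R : Type u} [CommRing B] [CommRing C] [CommRing R'] [CommRing R]
    (γ : B →+* C) (hγ : γ.FormallySmooth) (φ : R' →+* R) (hφ : Function.Surjective φ)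
    (hker : RingHom.ker φ ^ 2 = ⊥) (α : C →+* R) (β : B →+* R') (h : φ.comp β = α.comp γ) :
    ∃ ψ : C →+* R', φ.comp ψ = α ∧ ψ.comp γ = β := by
  let := γ.toAlgebra
  let := β.toAlgebra
  let := (φ.comp β).toAlgebra
  have : Algebra.FormallySmooth B C := hγ
  let φ' : R' →ₐ[B] R := { φ with commutes' := fun _ => rfl }
  let α' : C →ₐ[B] R := { α with commutes' := fun b => (RingHom.congr_fun h b).symm }
  have hφ' : Function.Surjective φ' := hφ
  have hnil : IsNilpotent (RingHom.ker (φ' : R' →+* R)) := ⟨2, hker⟩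
  let ψ := Algebra.FormallySmooth.liftOfSurjective α' φ' hφ' hnil
  refine ⟨ψ.toRingHom, ?_, ?_⟩
  · ext x
    exact Algebra.FormallySmooth.liftOfSurjective_apply α' φ' hφ' hnil x
  · ext b
    exact ψ.commutes b

theorem spec_lift {B C R' R : CommRingCat.{u}} (γ : B ⟶ C) (hγ : γ.hom.FormallySmooth)
    (φ : R' ⟶ R) (hφ : Function.Surjective φ.hom) (hker : RingHom.ker φ.hom ^ 2 = ⊥)
    (a : Spec R ⟶ Spec C) (b : Spec R' ⟶ Spec B) (h : Spec.map φ ≫ b = a ≫ Spec.map γ) :
    ∃ l : Spec R' ⟶ Spec C, Spec.map φ ≫ l = a ∧ l ≫ Spec.map γ = b := by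
  obtain ⟨α, rfl⟩ := Spec.map_surjective a
  obtain ⟨β, rfl⟩ := Spec.map_surjective b
  rw [← Spec.map_comp, ← Spec.map_comp] at h
  have h' := Spec.map_injective h
  obtain ⟨ψ, h1, h2⟩ := ring_lift γ.hom hγ φ.hom hφ hker α.hom β.hom (by
    rw [← CommRingCat.hom_comp, ← CommRingCat.hom_comp, h'])
  refine ⟨Spec.map (CommRingCat.ofHom ψ), ?_, ?_⟩
  · rw [← Spec.map_comp]
    congr 1
    ext x
    exact RingHom.congr_fun h1 x
  · rw [← Spec.map_comp]
    congr 1
    ext x
    exact RingHom.congr_fun h2 x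

theorem specMap_surjective_of_ker_sq {R' R : CommRingCat.{u}} (φ : R' ⟶ R)
    (hφ : Function.Surjective φ.hom) (hker : RingHom.ker φ.hom ^ 2 = ⊥) :
    Function.Surjective (Spec.map φ) := by
  intro p
  have h1 : RingHom.ker φ.hom ≤ p.asIdeal := by
    apply Ideal.IsPrime.le_of_pow_le (n := 2)
    rw [hker]; exact bot_le
  have h2 : p ∈ Set.range (PrimeSpectrum.comap φ.hom) := by
    rw [range_comap_of_surjective _ _ hφ]
    exact h1
  obtain ⟨q, hq⟩ := h2
  exact ⟨q, hq⟩

/-- Local lift against `Spec R → Spec R'` when the top map factors through an affine open on which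
`f` is formally smooth. -/
theorem local_lift {X Y : Scheme.{u}} (f : X ⟶ Y) {V : X.Opens} {W : Y.Opens}
    (hV : IsAffineOpen V) (hW : IsAffineOpen W) (hVW : V ≤ f ⁻¹ᵁ W)
    (hfe : (f.appLE W V hVW).hom.FormallySmooth)
    {R' R : CommRingCat.{u}} (φ : R' ⟶ R) (hφ : Function.Surjective φ.hom)
    (hker : RingHom.ker φ.hom ^ 2 = ⊥)
    (a : Spec R ⟶ X) (b : Spec R' ⟶ Y) (h : Spec.map φ ≫ b = a ≫ f)
    (ha : Set.range a ⊆ V) :
    ∃ l : Spec R' ⟶ X, Spec.map φ ≫ l = a ∧ l ≫ f = b := by
  have hb : Set.range b ⊆ W := by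
    rintro _ ⟨y, rfl⟩
    obtain ⟨x, rfl⟩ := specMap_surjective_of_ker_sq φ hφ hker y
    have : b (Spec.map φ x) = f (a x) := by
      rw [← Scheme.Hom.comp_apply, h, Scheme.Hom.comp_apply]
    rw [this]
    exact hVW (ha ⟨x, rfl⟩)
  let a'' : Spec R ⟶ Spec Γ(X, V) := IsOpenImmersion.lift hV.fromSpec a (by
    rw [hV.range_fromSpec]; exact ha)
  let b'' : Spec R' ⟶ Spec Γ(Y, W) := IsOpenImmersion.lift hW.fromSpec b (by
    rw [hW.range_fromSpec]; exact hb)
  have ha'' : a'' ≫ hV.fromSpec = a := IsOpenImmersion.lift_fac _ _ _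
  have hb'' : b'' ≫ hW.fromSpec = b := IsOpenImmersion.lift_fac _ _ _
  have hsq : Spec.map φ ≫ b'' = a'' ≫ Spec.map (f.appLE W V hVW) := by
    rw [← cancel_mono hW.fromSpec, Category.assoc, hb'', Category.assoc,
      hW.SpecMap_appLE_fromSpec f hV hVW, ← Category.assoc, ha'', h]
  obtain ⟨l'', h1, h2⟩ := spec_lift (f.appLE W V hVW) hfe φ hφ hker a'' b'' hsq
  refine ⟨l'' ≫ hV.fromSpec, ?_, ?_⟩
  · rw [← Category.assoc, h1, ha'']
  · rw [Category.assoc, ← hW.SpecMap_appLE_fromSpec f hV hVW, ← Category.assoc, h2, hb'']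

/-- A morphism from the spectrum of a local ring lands in any open containing the image of the
closed point. -/
theorem range_subset_of_closedPoint_mem {X : Scheme.{u}} {R : CommRingCat.{u}} [IsLocalRing R]
    (a : Spec R ⟶ X) {V : X.Opens} (h : a (IsLocalRing.closedPoint R) ∈ V) :
    Set.range a ⊆ V := by
  rintro _ ⟨p, rfl⟩
  have h1 : a ⁻¹ᵁ V = ⊤ := Scheme.preimage_eq_top_of_closedPoint_mem a h
  have : p ∈ a ⁻¹ᵁ V := by rw [h1]; trivial
  exact this

/-- (⇒) of the local lifting criterion for smoothness at a point. -/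
theorem exists_lift_of_mem_smoothLocus {X Y : Scheme.{u}} (f : X ⟶ Y)
    [LocallyOfFinitePresentation f] (x : X) (hx : x ∈ f.smoothLocus)
    (B B' : Type u) [CommRing B] [CommRing B'] [IsLocalRing B] [IsLocalRing B'] (φ : B' →+* B)
    (hφ : Function.Surjective φ) (hker : RingHom.ker φ ^ 2 = ⊥)
    (α : Spec (CommRingCat.of B) ⟶ X) (β : Spec (CommRingCat.of B') ⟶ Y)
    (hα : α.base (IsLocalRing.closedPoint B) = x)
    (hsq : Spec.map (CommRingCat.ofHom φ) ≫ β = α ≫ f) :
    ∃ γ : Spec (CommRingCat.of B') ⟶ X, Spec.map (CommRingCat.ofHom φ) ≫ γ = α ∧ γ ≫ f = β := by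
  obtain ⟨U, hU, V, hV, hVU, hxV, H⟩ := exists_smooth_of_formallySmooth_stalk f x hx
  refine local_lift f hV hU hVU H.formallySmooth (CommRingCat.ofHom φ) hφ hker α β hsq ?_
  exact range_subset_of_closedPoint_mem (R := CommRingCat.of B) α (by rw [← hα] at hxV; exact hxV)

theorem isLocalHom_of_surjective_of_isNilpotent_ker {B' C : Type*} [CommRing B'] [CommRing C]
    (φ : B' →+* C) (hφ : Function.Surjective φ) (hker : IsNilpotent (RingHom.ker φ)) :
    IsLocalHom φ := by
  constructor
  intro a ha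
  rw [← IsNilpotent.isUnit_quotient_mk_iff hker]
  let e := RingHom.quotientKerEquivOfSurjective hφ
  have h1 : e.symm (φ a) = Ideal.Quotient.mk _ a := by
    rw [RingEquiv.symm_apply_eq]
    rfl
  rw [← h1]
  exact ha.map e.symm

/-- Ring-level criterion: a local algebra is formally smooth as soon as every square-zero
surjection onto it from a local algebra splits. -/
theorem formallySmooth_of_local_sections {R C : Type u} [CommRing R] [CommRing C] [Algebra R C]
    [IsLocalRing C]
    (H : ∀ (B' : Type u) [CommRing B'] [IsLocalRing B'] [Algebra R B'] (φ : B' →ₐ[R] C),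
      Function.Surjective φ → RingHom.ker φ.toRingHom ^ 2 = ⊥ →
        ∃ g : C →ₐ[R] B', φ.comp g = AlgHom.id R C) :
    Algebra.FormallySmooth R C := by
  let π : MvPolynomial C R →ₐ[R] C := MvPolynomial.aeval id
  have hπ : Function.Surjective π := fun c => ⟨MvPolynomial.X c, by simp [π]⟩
  have surj : Function.Surjective π.kerSquareLift :=
    Ideal.Quotient.lift_surjective_of_surjective _ _ hπ
  have sqz : RingHom.ker π.kerSquareLift.toRingHom ^ 2 = ⊥ := by
    rw [AlgHom.ker_kerSquareLift, Ideal.cotangentIdeal_square]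
  haveI : IsLocalHom π.kerSquareLift.toRingHom :=
    isLocalHom_of_surjective_of_isNilpotent_ker _ surj ⟨2, sqz⟩
  haveI : IsLocalRing (MvPolynomial C R ⧸ RingHom.ker π.toRingHom ^ 2) :=
    RingHom.domain_isLocalRing π.kerSquareLift.toRingHom
  obtain ⟨g, hg⟩ := H _ π.kerSquareLift surj sqz
  exact Algebra.FormallySmooth.of_split π g hg

/-- (⇐) of the local lifting criterion for smoothness at a point. -/
theorem mem_smoothLocus_of_local_lifts {X Y : Scheme.{u}} (f : X ⟶ Y)
    [LocallyOfFinitePresentation f] (x : X)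
    (H : ∀ (B B' : Type u) [CommRing B] [CommRing B'] [IsLocalRing B] [IsLocalRing B']
      (φ : B' →+* B), Function.Surjective φ → RingHom.ker φ ^ 2 = ⊥ →
      ∀ (α : Spec (CommRingCat.of B) ⟶ X) (β : Spec (CommRingCat.of B') ⟶ Y),
        α.base (IsLocalRing.closedPoint B) = x → Spec.map (CommRingCat.ofHom φ) ≫ β = α ≫ f →
        ∃ γ : Spec (CommRingCat.of B') ⟶ X,
          Spec.map (CommRingCat.ofHom φ) ≫ γ = α ∧ γ ≫ f = β) :
    x ∈ f.smoothLocus := by
  rw [Scheme.Hom.mem_smoothLocus]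
  algebraize [(f.stalkMap x).hom]
  show Algebra.FormallySmooth (Y.presheaf.stalk (f x)) (X.presheaf.stalk x)
  apply formallySmooth_of_local_sections
  intro B' _ _ _ φ hφ hker
  haveI : IsLocalHom φ.toRingHom :=
    isLocalHom_of_surjective_of_isNilpotent_ker _ hφ ⟨2, hker⟩
  -- the lifting problem
  let α : Spec (CommRingCat.of (X.presheaf.stalk x)) ⟶ X := X.fromSpecStalk x
  let β : Spec (CommRingCat.of B') ⟶ Y :=
    Spec.map (CommRingCat.ofHom (algebraMap (Y.presheaf.stalk (f x)) B')) ≫ Y.fromSpecStalk (f x)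
  have hα : α.base (IsLocalRing.closedPoint (X.presheaf.stalk x)) = x :=
    Scheme.fromSpecStalk_closedPoint
  have hsq : Spec.map (CommRingCat.ofHom φ.toRingHom) ≫ β = α ≫ f := by
    have h1 : CommRingCat.ofHom (algebraMap (Y.presheaf.stalk (f x)) B') ≫
        CommRingCat.ofHom φ.toRingHom = f.stalkMap x := by
      ext r
      exact φ.commutes r
    rw [← Scheme.SpecMap_stalkMap_fromSpecStalk, ← h1, Spec.map_comp, Category.assoc]
  obtain ⟨γ, hγ1, hγ2⟩ := H _ B' φ.toRingHom hφ hker α β hα hsq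
  -- the closed point goes to `x`
  have hcp : Spec.map (CommRingCat.ofHom φ.toRingHom) (IsLocalRing.closedPoint (X.presheaf.stalk x)) =
      IsLocalRing.closedPoint B' := IsLocalRing.comap_closedPoint φ.toRingHom
  have hγx : γ (IsLocalRing.closedPoint B') = x := by
    rw [← hcp, ← Scheme.Hom.comp_apply, hγ1]
    exact hα
  let g : X.presheaf.stalk x ⟶ CommRingCat.of B' :=
    X.presheaf.stalkSpecializes (specializes_of_eq hγx) ≫ Scheme.stalkClosedPointTo γ
  have hg : Spec.map g ≫ X.fromSpecStalk x = γ := by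
    rw [Spec.map_comp, Category.assoc, Scheme.SpecMap_stalkSpecializes_fromSpecStalk,
      Scheme.Spec_stalkClosedPointTo_fromSpecStalk]
  have hg1 : g ≫ CommRingCat.ofHom φ.toRingHom = 𝟙 _ := by
    apply Spec.map_injective
    rw [← cancel_mono (X.fromSpecStalk x), Spec.map_comp, Category.assoc, hg, hγ1, Spec.map_id]
    exact (Category.id_comp _).symm
  have hg2 : f.stalkMap x ≫ g = CommRingCat.ofHom (algebraMap (Y.presheaf.stalk (f x)) B') := by
    apply Spec.map_injective
    rw [← cancel_mono (Y.fromSpecStalk (f x)), Spec.map_comp, Category.assoc,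
      Scheme.SpecMap_stalkMap_fromSpecStalk, ← Category.assoc, hg, hγ2]
  refine ⟨{ g.hom with commutes' := fun r => ?_ }, ?_⟩
  · exact congr($(hg2).hom r)
  · ext c
    exact congr($(hg1).hom c)

end Groth.Agent.Helper16.LocalLift
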