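import Mathlib
import Groth.Agent.Lib.Helper16.Alg.QuotLevels
import Groth.Agent.Lib.Helper16.Sch.EtaleNhd
import Groth.Agent.Lib.Helper16.Sch.SmoothLocusBC2

set_option autoImplicit false
set_option linter.style.haveILetI false
universe u
open CategoryTheory CategoryTheory.Limits AlgebraicGeometry Opposite TopologicalSpace Topology
open IsLocalRing

namespace Groth.Agent.Helper16.QuotLevels

open Groth.Agent.Helper16.UnramLocus Groth.Agent.Helper16.SmoothLocusBC

variable {X Y : Scheme.{u}} (f : X ⟶ Y)

theorem res_surjective_of_hk [LocallyOfFiniteType f] (x : X)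
    (hunr : (f.stalkMap x).hom.FormallyUnramified)
    (hk : Function.Surjective (f.residueFieldMap x) ∨ IsSepClosed (Y.residueField (f.base x))) :
    ∀ b : X.presheaf.stalk x, ∃ a : Y.presheaf.stalk (f x),
      b - (f.stalkMap x).hom a ∈ maximalIdeal (X.presheaf.stalk x) := by
  have hsurj : Function.Surjective (ResidueField.map (f.stalkMap x).hom) := by
    rcases hk with hk | hk
    · exact hk
    · have hess := LocallyOfFiniteType.stalkMap f x
      algebraize [(f.stalkMap x).hom]
      haveI : IsLocalHom (algebraMap (Y.presheaf.stalk (f x)) (X.presheaf.stalk x)) :=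
        inferInstanceAs (IsLocalHom (f.stalkMap x).hom)
      haveI : IsSepClosed (ResidueField (Y.presheaf.stalk (f x))) := hk
      exact IsSepClosed.algebraMap_surjective (ResidueField (Y.presheaf.stalk (f x)))
        (ResidueField (X.presheaf.stalk x))
  intro b
  obtain ⟨r, hr⟩ := hsurj (residue _ b)
  obtain ⟨a, rfl⟩ := residue_surjective r
  refine ⟨a, ?_⟩
  rw [← Ideal.Quotient.eq, eq_comm]
  exact hr

/-- S2802. -/
theorem unrAt_iff_levels [LocallyOfFiniteType f] [IsLocallyNoetherian Y] (x : X)
    (hk : Function.Surjective (f.residueFieldMap x) ∨ IsSepClosed (Y.residueField (f.base x))) :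
    UnrAt f x ↔ ∀ n : ℕ, Function.Surjective
        ((Ideal.Quotient.mk (maximalIdeal (X.presheaf.stalk x) ^ n)).comp (f.stalkMap x).hom) := by
  haveI : IsLocallyNoetherian X := LocallyOfFiniteType.isLocallyNoetherian f
  have hess := LocallyOfFiniteType.stalkMap f x
  rw [unrAt_iff_stalkMap]
  constructor
  · intro hunr n
    have hres := res_surjective_of_hk f x hunr hk
    refine surjective_of_map_eq (f.stalkMap x).hom ?_ hres n
    algebraize [(f.stalkMap x).hom]
    haveI : IsLocalHom (algebraMap (Y.presheaf.stalk (f x)) (X.presheaf.stalk x)) :=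
      inferInstanceAs (IsLocalHom (f.stalkMap x).hom)
    exact Algebra.FormallyUnramified.map_maximalIdeal
  · intro H
    have hmax := map_eq_of_surjective (f.stalkMap x).hom (H 2)
    have hres := res_surjective_of_surjective (f.stalkMap x).hom (H 1)
    algebraize [(f.stalkMap x).hom]
    haveI : IsLocalHom (algebraMap (Y.presheaf.stalk (f x)) (X.presheaf.stalk x)) :=
      inferInstanceAs (IsLocalHom (f.stalkMap x).hom)
    show Algebra.FormallyUnramified (Y.presheaf.stalk (f x)) (X.presheaf.stalk x)
    haveI : Algebra.IsSeparable (ResidueField (Y.presheaf.stalk (f x)))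
        (ResidueField (X.presheaf.stalk x)) := by
      have hs : Function.Surjective (algebraMap (ResidueField (Y.presheaf.stalk (f x)))
          (ResidueField (X.presheaf.stalk x))) := by
        intro r
        obtain ⟨b, rfl⟩ := residue_surjective r
        obtain ⟨a, ha⟩ := hres b
        refine ⟨residue _ a, ?_⟩
        rw [eq_comm]
        exact Ideal.Quotient.eq.mpr ha
      exact ⟨fun r => by obtain ⟨a, rfl⟩ := hs r; exact isSeparable_algebraMap a⟩
    exact Algebra.FormallyUnramified.of_map_maximalIdeal hmax

open Groth.Agent.Helper16.SmoothFibreSch in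
/-- Flat at a point and unramified near the point implies smooth at the point. -/
theorem mem_smoothLocus_of_flat_of_unrAt [LocallyOfFinitePresentation f] (x : X)
    (hflat : (f.stalkMap x).hom.Flat) (hunr : UnrAt f x) : x ∈ f.smoothLocus := by
  rw [mem_smoothLocus_iff_flat_and_fiber]
  refine ⟨hflat, ?_⟩
  have H : IsPullback (f.fiberι (f x)) (f.fiberToSpecResidueField (f x)) f
      (Y.fromSpecResidueField (f x)) := IsPullback.of_hasPullback _ _
  have h1 : UnrAt (f.fiberToSpecResidueField (f x)) (f.asFiber x) := by
    rw [unrAt_iff_of_isPullback H, Scheme.Hom.fiberι_asFiber]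
    exact hunr
  obtain ⟨U, hzU, hU⟩ := h1
  haveI : Flat (U.ι ≫ f.fiberToSpecResidueField (f x)) := inferInstance
  haveI : Etale (U.ι ≫ f.fiberToSpecResidueField (f x)) := Etale.of_formallyUnramified_of_flat _
  exact (exists_smooth_nhd_iff _ _).mp ⟨U, hzU, inferInstance⟩

/-- S2734. -/
theorem exists_etale_nhd_iff_levels [LocallyOfFiniteType f] [IsLocallyNoetherian Y] (x : X)
    (hk : Function.Surjective (f.residueFieldMap x) ∨ IsAlgClosed (Y.residueField (f.base x))) :
    (∃ U : X.Opens, x ∈ U ∧ Etale (U.ι ≫ f)) ↔
      ∀ n : ℕ, Function.Surjective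
          ((Ideal.Quotient.mk (maximalIdeal (X.presheaf.stalk x) ^ n)).comp (f.stalkMap x).hom) ∧
        RingHom.ker ((Ideal.Quotient.mk (maximalIdeal (X.presheaf.stalk x) ^ n)).comp
          (f.stalkMap x).hom) = maximalIdeal (Y.presheaf.stalk (f.base x)) ^ n := by
  haveI : IsLocallyNoetherian X := LocallyOfFiniteType.isLocallyNoetherian f
  have hk' : Function.Surjective (f.residueFieldMap x) ∨
      IsSepClosed (Y.residueField (f.base x)) := by
    rcases hk with hk | hk
    · exact Or.inl hk
    · exact Or.inr inferInstance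
  rw [exists_etale_nhd_iff]
  constructor
  · rintro ⟨hsm, hunr⟩ n
    refine ⟨(unrAt_iff_levels f x hk').mp hunr n, ?_⟩
    refine ker_eq_of_flat (f.stalkMap x).hom
      (Groth.Agent.Helper16.SmoothFibreSch.flat_stalkMap_of_mem_smoothLocus f x hsm) ?_ n
    have h1 := (unrAt_iff_stalkMap.mp hunr)
    have hess := LocallyOfFiniteType.stalkMap f x
    algebraize [(f.stalkMap x).hom]
    haveI : IsLocalHom (algebraMap (Y.presheaf.stalk (f x)) (X.presheaf.stalk x)) :=
      inferInstanceAs (IsLocalHom (f.stalkMap x).hom)
    exact Algebra.FormallyUnramified.map_maximalIdeal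
  · intro H
    have hunr : UnrAt f x := (unrAt_iff_levels f x hk').mpr fun n => (H n).1
    refine ⟨mem_smoothLocus_of_flat_of_unrAt f x ?_ hunr, hunr⟩
    exact flat_of_levels (f.stalkMap x).hom (fun n => (H n).1) (fun n => (H n).2)

end Groth.Agent.Helper16.QuotLevels
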