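import Mathlib
import Groth.Agent.Lib.Helper16.Sch.EtaleNhd
import Groth.Agent.Lib.Helper16.Sch.UnrFib

set_option autoImplicit false
set_option linter.style.haveILetI false
universe u
open CategoryTheory CategoryTheory.Limits AlgebraicGeometry Opposite TopologicalSpace Topology

namespace Groth.Agent.Helper16.FlatLocImm

open Groth.Agent.Helper16.UnramLocus Groth.Agent.Helper16.SmoothLocusBC

variable {X Y : Scheme.{u}} (f : X ⟶ Y)

theorem etale_of_forall_etale_nhd (H : ∀ x : X, ∃ U : X.Opens, x ∈ U ∧ Etale (U.ι ≫ f)) :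
    Etale f := by
  choose U hxU hU using H
  rw [IsZariskiLocalAtSource.iff_of_iSup_eq_top (P := @Etale) U]
  · exact hU
  · rw [eq_top_iff]
    rintro x -
    simp only [Opens.mem_iSup]
    exact ⟨x, hxU x⟩

/-- S5064 (⇒) -/
theorem exists_family_of_etale [Etale f] :
    ∃ (ι : Type u) (Y' : ι → Scheme.{u}) (g : ∀ a, Y' a ⟶ Y) (U : ∀ a, (pullback f (g a)).Opens),
      (∀ a, Etale (g a)) ∧
      (∀ x : X, ∃ a, x ∈ (pullback.fst f (g a)).base '' (U a : Set ↥(pullback f (g a)))) ∧
        ∀ a, IsOpenImmersion ((U a).ι ≫ pullback.snd f (g a)) := by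
  refine ⟨PUnit, fun _ => X, fun _ => f, fun _ => (pullback.diagonal f).opensRange,
    fun _ => inferInstance, fun x => ⟨PUnit.unit, pullback.diagonal f x, ⟨x, rfl⟩, ?_⟩, fun _ => ?_⟩
  · rw [← Scheme.Hom.comp_apply, pullback.diagonal_fst]
    rfl
  · have h1 : (pullback.diagonal f).opensRange.ι ≫ pullback.snd f f =
        (pullback.diagonal f).isoOpensRange.inv := by
      rw [← cancel_epi (pullback.diagonal f).isoOpensRange.hom, ← Category.assoc,
        Scheme.Hom.isoOpensRange_hom_ι, pullback.diagonal_snd, Iso.hom_inv_id]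
    rw [h1]
    infer_instance

/-- S5064 (⇐) -/
theorem etale_of_family [LocallyOfFinitePresentation f]
    (H : ∃ (ι : Type u) (Y' : ι → Scheme.{u}) (g : ∀ a, Y' a ⟶ Y)
      (U : ∀ a, (pullback f (g a)).Opens),
      (∀ a, Flat (g a)) ∧
      (∀ x : X, ∃ a, x ∈ (pullback.fst f (g a)).base '' (U a : Set ↥(pullback f (g a)))) ∧
        ∀ a, IsOpenImmersion ((U a).ι ≫ pullback.snd f (g a))) : Etale f := by
  obtain ⟨ι, Y', g, U, hg, hcov, hU⟩ := H
  refine etale_of_forall_etale_nhd f fun x => ?_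
  obtain ⟨a, x', hx', rfl⟩ := hcov x
  haveI := hg a
  haveI := hU a
  exact exists_etale_nhd_of_isPullback_of_flat_stalk (IsPullback.of_hasPullback f (g a)) x'
    ⟨U a, hx', inferInstance⟩ (Flat.stalkMap (g a) _)

/-- S5063 (⇐) -/
theorem formallyUnramified_of_family [LocallyOfFiniteType f]
    (H : ∃ (ι : Type u) (Y' : ι → Scheme.{u}) (g : ∀ a, Y' a ⟶ Y)
      (U : ∀ a, (pullback f (g a)).Opens),
      (∀ x : X, ∃ a, x ∈ (pullback.fst f (g a)).base '' (U a : Set ↥(pullback f (g a)))) ∧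
        ∀ a, IsClosedImmersion ((U a).ι ≫ pullback.snd f (g a))) : FormallyUnramified f := by
  obtain ⟨ι, Y', g, U, hcov, hU⟩ := H
  refine formallyUnramified_of_forall_unrAt f fun x => ?_
  obtain ⟨a, x', hx', rfl⟩ := hcov x
  haveI := hU a
  rw [← unrAt_iff_of_isPullback (IsPullback.of_hasPullback f (g a)) x']
  exact ⟨U a, hx', inferInstance⟩

end Groth.Agent.Helper16.FlatLocImm
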