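import Mathlib
import Groth.Agent.Lib.Helper16.Sch.FlatLocImm

set_option autoImplicit false
set_option linter.style.haveILetI false
universe u
open CategoryTheory CategoryTheory.Limits AlgebraicGeometry Opposite TopologicalSpace Topology

namespace Groth.Agent.Helper16.FlatLocImm

open Groth.Agent.Helper16.UnramLocus Groth.Agent.Helper16.SmoothLocusBC

variable {X Y : Scheme.{u}} (f : X ⟶ Y)

set_option backward.defeqAttrib.useBackward true in
set_option backward.isDefEq.respectTransparency false in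
/-- Local structure of unramified morphisms: locally a closed immersion into an étale scheme. -/
theorem exists_closedImmersion_into_etale [LocallyOfFiniteType f] [FormallyUnramified f] (x : X) :
    ∃ (V : X.Opens) (Z : Scheme.{u}) (g : Z ⟶ Y) (j : V.toScheme ⟶ Z),
      x ∈ V ∧ Etale g ∧ IsClosedImmersion j ∧ j ≫ g = V.ι ≫ f := by
  obtain ⟨_, ⟨W, hW, rfl⟩, hxW, -⟩ :=
    Y.isBasis_affineOpens.exists_subset_of_mem_open (Set.mem_univ (f x)) isOpen_univ
  obtain ⟨_, ⟨V₀, hV₀, rfl⟩, hxV₀, hV₀W⟩ :=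
    X.isBasis_affineOpens.exists_subset_of_mem_open hxW (W.2.preimage f.continuous)
  have hft := f.finiteType_appLE hW hV₀ hV₀W
  have hfu := f.formallyUnramified_appLE hW hV₀ hV₀W
  algebraize [(f.appLE W V₀ hV₀W).hom]
  haveI : Algebra.IsUnramifiedAt Γ(Y, W) (hV₀.primeIdealOf ⟨x, hxV₀⟩).asIdeal := inferInstance
  obtain ⟨s, hsq, P, φ, hφ⟩ := Algebra.IsUnramifiedAt.exists_hasStandardEtaleSurjectionOn
    (R := Γ(Y, W)) (hV₀.primeIdealOf ⟨x, hxV₀⟩).asIdeal
  have hxs : x ∈ X.basicOpen s := by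
    rwa [← PrimeSpectrum.mem_basicOpen, IsAffineOpen.primeIdealOf,
      ← hV₀.fromSpec_preimage_basicOpen, Scheme.Hom.mem_preimage, ← Scheme.Hom.comp_apply,
      IsAffineOpen.isoSpec_hom, IsAffineOpen.toSpecΓ_fromSpec] at hsq
  have hV := hV₀.basicOpen s
  have hle : X.basicOpen s ≤ f ⁻¹ᵁ W := (X.basicOpen_le s).trans hV₀W
  have := hV₀.isLocalization_basicOpen s
  let e := IsLocalization.algEquiv (.powers s) (Localization.Away s) Γ(X, X.basicOpen s)
  let ψ : P.Ring →+* Γ(X, X.basicOpen s) := e.toRingEquiv.toRingHom.comp φ.toRingHom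
  have hψ : Function.Surjective ψ := e.surjective.comp hφ
  have hψalg : CommRingCat.ofHom (algebraMap Γ(Y, W) P.Ring) ≫ CommRingCat.ofHom ψ =
      f.appLE W (X.basicOpen s) hle := by
    ext r
    show e (φ (algebraMap Γ(Y, W) P.Ring r)) = _
    rw [φ.commutes, IsScalarTower.algebraMap_apply Γ(Y, W) Γ(X, V₀) (Localization.Away s),
      e.commutes]
    simp only [RingHom.algebraMap_toAlgebra, ← ConcreteCategory.comp_apply,
      Scheme.Hom.appLE_map]
  refine ⟨X.basicOpen s, Spec (.of P.Ring),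
    Spec.map (CommRingCat.ofHom (algebraMap Γ(Y, W) P.Ring)) ≫ hW.fromSpec,
    hV.isoSpec.hom ≫ Spec.map (CommRingCat.ofHom ψ), hxs, ?_, ?_, ?_⟩
  · haveI : Etale (Spec.map (CommRingCat.ofHom (algebraMap Γ(Y, W) P.Ring))) := by
      rw [HasRingHomProperty.Spec_iff (P := @Etale)]
      exact RingHom.etale_algebraMap.mpr inferInstance
    infer_instance
  · haveI : IsClosedImmersion (Spec.map (CommRingCat.ofHom ψ)) :=
      IsClosedImmersion.spec_of_surjective _ hψ
    infer_instance
  · rw [Category.assoc, ← Category.assoc (Spec.map _), ← Spec.map_comp, hψalg,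
      hW.SpecMap_appLE_fromSpec f hV hle, ← Category.assoc, IsAffineOpen.isoSpec_hom_fromSpec]

/-- The graph of a `Y`-morphism from an open of `X` into an étale `Y`-scheme is an open immersion
into the fibre product. -/
theorem isOpenImmersion_graph {Z : Scheme.{u}} (g : Z ⟶ Y) [Etale g] (V : X.Opens)
    (j : V.toScheme ⟶ Z) (w : V.ι ≫ f = j ≫ g) :
    IsOpenImmersion (pullback.lift V.ι j w) := by
  have h1 : pullback.lift V.ι j w ≫ pullback.fst f g = V.ι := pullback.lift_fst _ _ _
  haveI : Etale (pullback.lift V.ι j w ≫ pullback.fst f g) := by rw [h1]; infer_instance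
  haveI : Etale (pullback.lift V.ι j w) := Etale.of_comp _ (pullback.fst f g)
  haveI : Mono (pullback.lift V.ι j w) := by
    haveI : Mono (pullback.lift V.ι j w ≫ pullback.fst f g) := by rw [h1]; infer_instance
    exact mono_of_mono _ (pullback.fst f g)
  exact IsOpenImmersion.of_flat_of_mono _

/-- S5063 (⇒) -/
theorem exists_family_of_formallyUnramified [LocallyOfFiniteType f] [FormallyUnramified f] :
    ∃ (ι : Type u) (Y' : ι → Scheme.{u}) (g : ∀ a, Y' a ⟶ Y) (U : ∀ a, (pullback f (g a)).Opens),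
      (∀ a, Etale (g a)) ∧
      (∀ x : X, ∃ a, x ∈ (pullback.fst f (g a)).base '' (U a : Set ↥(pullback f (g a)))) ∧
        ∀ a, IsClosedImmersion ((U a).ι ≫ pullback.snd f (g a)) := by
  choose V Z g j hxV hg hj hw using exists_closedImmersion_into_etale f
  have hoi : ∀ x, IsOpenImmersion (pullback.lift (V x).ι (j x) (hw x).symm) := fun x =>
    haveI := hg x
    isOpenImmersion_graph f (g x) (V x) (j x) (hw x).symm
  refine ⟨X, Z, g, fun x => haveI := hoi x
    (pullback.lift (V x).ι (j x) (hw x).symm).opensRange, hg, fun x => ⟨x, ?_⟩, fun x => ?_⟩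
  · refine ⟨pullback.lift (V x).ι (j x) (hw x).symm ⟨x, hxV x⟩, ⟨_, rfl⟩, ?_⟩
    rw [← Scheme.Hom.comp_apply, pullback.lift_fst]
    rfl
  · haveI := hoi x
    haveI := hj x
    have h1 : (pullback.lift (V x).ι (j x) (hw x).symm).opensRange.ι ≫ pullback.snd f (g x) =
        (pullback.lift (V x).ι (j x) (hw x).symm).isoOpensRange.inv ≫ j x := by
      rw [← cancel_epi (pullback.lift (V x).ι (j x) (hw x).symm).isoOpensRange.hom,
        ← Category.assoc, Scheme.Hom.isoOpensRange_hom_ι, pullback.lift_snd,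
        Iso.hom_inv_id_assoc]
    rw [h1]
    infer_instance

end Groth.Agent.Helper16.FlatLocImm
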