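import Mathlib
import Groth.Agent.Lib.Helper16.Sch.UnrLocStr
import Groth.Agent.Lib.Helper16.Sch.QuotLevelsSch
import Groth.Agent.Lib.Helper16.Sch.LocalLift

set_option autoImplicit false
set_option linter.style.haveILetI false
universe u
open CategoryTheory CategoryTheory.Limits AlgebraicGeometry Opposite TopologicalSpace Topology

namespace Groth.Agent.Helper16.FlatLocImm

open Groth.Agent.Helper16.UnramLocus Groth.Agent.Helper16.SmoothLocusBC

/-- Flatness at a point in terms of the local scheme. -/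
theorem flat_stalkMap_iff {X Y : Scheme.{u}} (f : X ⟶ Y) (x : X) :
    (f.stalkMap x).hom.Flat ↔ Flat (X.fromSpecStalk x ≫ f) := by
  refine ⟨flat_fromSpecStalk_comp f x, fun h => ?_⟩
  rw [← Scheme.SpecMap_stalkMap_fromSpecStalk] at h
  have h1 : Flat (Spec.map (f.stalkMap x)) :=
    MorphismProperty.of_postcomp (W := @Flat) (W' := MorphismProperty.monomorphisms Scheme.{u})
      _ (Y.fromSpecStalk (f x)) (MorphismProperty.monomorphisms.infer_property _) h
  rwa [HasRingHomProperty.Spec_iff (P := @Flat)] at h1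

/-- The graph of a morphism into an étale scheme is an open immersion. -/
theorem isOpenImmersion_graph' {X Y Z V : Scheme.{u}} (f : X ⟶ Y) (g : Z ⟶ Y)
    [LocallyOfFiniteType g] [FormallyUnramified g]
    (i : V ⟶ X) [IsOpenImmersion i] (j : V ⟶ Z) (w : i ≫ f = j ≫ g) :
    IsOpenImmersion (pullback.lift i j w) := by
  have h1 : pullback.lift i j w ≫ pullback.fst f g = i := pullback.lift_fst _ _ _
  haveI : Etale (pullback.lift i j w ≫ pullback.fst f g) := by rw [h1]; infer_instance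
  haveI : LocallyOfFiniteType (pullback.fst f g) := MorphismProperty.pullback_fst _ _ ‹_›
  haveI : FormallyUnramified (pullback.fst f g) :=
    MorphismProperty.pullback_fst (P := @FormallyUnramified) _ _ ‹_›
  haveI : Etale (pullback.lift i j w) := Etale.of_comp _ (pullback.fst f g)
  haveI : Mono (pullback.lift i j w) := by
    haveI : Mono (pullback.lift i j w ≫ pullback.fst f g) := by rw [h1]; infer_instance
    exact mono_of_mono _ (pullback.fst f g)
  exact IsOpenImmersion.of_flat_of_mono _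

/-- If `φ ≫ e` is flat and `e` is unramified, then `φ` is flat. -/
theorem flat_of_comp_unramified {X Z S : Scheme.{u}} (φ : X ⟶ Z) (e : Z ⟶ S)
    [LocallyOfFiniteType e] [FormallyUnramified e] [Flat (φ ≫ e)] : Flat φ := by
  have w : 𝟙 X ≫ (φ ≫ e) = φ ≫ e := Category.id_comp _
  haveI := isOpenImmersion_graph' (φ ≫ e) e (𝟙 X) φ w
  have h1 : pullback.lift (𝟙 X) φ w ≫ pullback.snd (φ ≫ e) e = φ := pullback.lift_snd _ _ _
  haveI : Flat (pullback.snd (φ ≫ e) e) := MorphismProperty.pullback_snd _ _ ‹_›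
  rw [← h1]
  infer_instance

/-- If `φ ≫ j` is flat with `j` a closed immersion, then `φ` is flat and `j` is an isomorphism on
stalks at the points of the image of `φ`. -/
theorem flat_of_comp_closedImmersion {X V Z : Scheme.{u}} (φ : X ⟶ V) (j : V ⟶ Z)
    [IsClosedImmersion j] [Flat (φ ≫ j)] :
    Flat φ ∧ ∀ p : X, Function.Bijective (j.stalkMap (φ p)).hom := by
  have key : ∀ p : X, Function.Bijective (j.stalkMap (φ p)).hom := by
    intro p
    refine ⟨?_, j.stalkMap_surjective (φ p)⟩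
    have h1 : ((φ ≫ j).stalkMap p).hom.Flat := Flat.stalkMap (φ ≫ j) p
    have h2 : Function.Injective ((φ ≫ j).stalkMap p).hom := by
      algebraize [((φ ≫ j).stalkMap p).hom]
      haveI : IsLocalHom (algebraMap (Z.presheaf.stalk ((φ ≫ j) p)) (X.presheaf.stalk p)) :=
        inferInstanceAs (IsLocalHom ((φ ≫ j).stalkMap p).hom)
      haveI : Module.FaithfullyFlat (Z.presheaf.stalk ((φ ≫ j) p)) (X.presheaf.stalk p) :=
        Module.FaithfullyFlat.of_flat_of_isLocalHom
      exact FaithfulSMul.algebraMap_injective _ _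
    rw [Scheme.Hom.stalkMap_comp] at h2
    exact Function.Injective.of_comp (f := (φ.stalkMap p).hom) h2
  refine ⟨?_, key⟩
  rw [Flat.iff_flat_stalkMap]
  intro p
  have h1 : ((φ ≫ j).stalkMap p).hom.Flat := Flat.stalkMap (φ ≫ j) p
  rw [Scheme.Hom.stalkMap_comp] at h1
  haveI : IsIso (j.stalkMap (φ p)) := by
    rw [ConcreteCategory.isIso_iff_bijective]
    exact key p
  exact (RingHom.Flat.respectsIso.cancel_left_isIso (j.stalkMap (φ p)) (φ.stalkMap p)).mp h1

open Groth.Agent.Helper16.QuotLevels in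
/-- S2738 -/
theorem etale_nhd_and_flat_of_unramified_of_comp_flat {X Y S : Scheme.{u}} (h : Y ⟶ S)
    [LocallyOfFinitePresentation h] (g : X ⟶ Y) (x : X)
    (hu : ∃ V : Y.Opens, g.base x ∈ V ∧ FormallyUnramified (V.ι ≫ h))
    (hf : ((g ≫ h).stalkMap x).hom.Flat) :
    (∃ V : Y.Opens, g.base x ∈ V ∧ Etale (V.ι ≫ h)) ∧ (g.stalkMap x).hom.Flat := by
  obtain ⟨V₁, hyV₁, hV₁⟩ := hu
  let y₁ : V₁.toScheme := ⟨g x, hyV₁⟩
  obtain ⟨V, Z, e, j, hy₁V, he, hj, hw⟩ := exists_closedImmersion_into_etale (V₁.ι ≫ h) y₁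
  let ιV : V.toScheme ⟶ Y := V.ι ≫ V₁.ι
  have hξ : Flat (X.fromSpecStalk x ≫ g ≫ h) := flat_fromSpecStalk_comp (g ≫ h) x hf
  have hrange : Set.range (X.fromSpecStalk x ≫ g) ⊆ Set.range ιV := by
    have hopen : IsOpen (Set.range ιV) := ιV.isOpenEmbedding.isOpen_range
    let R : Y.Opens := ⟨Set.range ιV, hopen⟩
    have hmem : (X.fromSpecStalk x ≫ g) (IsLocalRing.closedPoint (X.presheaf.stalk x)) ∈ R := by
      rw [Scheme.Hom.comp_apply, Scheme.fromSpecStalk_closedPoint]
      exact ⟨⟨y₁, hy₁V⟩, rfl⟩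
    exact Groth.Agent.Helper16.LocalLift.range_subset_of_closedPoint_mem
      (R := X.presheaf.stalk x) (X.fromSpecStalk x ≫ g) hmem
  let φV := IsOpenImmersion.lift ιV (X.fromSpecStalk x ≫ g) hrange
  have hφV : φV ≫ ιV = X.fromSpecStalk x ≫ g := IsOpenImmersion.lift_fac _ _ _
  have hιVh : ιV ≫ h = j ≫ e := by rw [hw, Category.assoc]
  have hφe : (φV ≫ j) ≫ e = X.fromSpecStalk x ≫ g ≫ h := by
    rw [Category.assoc, ← hιVh, ← Category.assoc, hφV, Category.assoc]
  haveI : Flat ((φV ≫ j) ≫ e) := hφe ▸ hξ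
  haveI : Flat (φV ≫ j) := flat_of_comp_unramified (φV ≫ j) e
  obtain ⟨hφVflat, hbij⟩ := flat_of_comp_closedImmersion φV j
  constructor
  · rw [exists_etale_nhd_iff]
    refine ⟨mem_smoothLocus_of_flat_of_unrAt h (g x) ?_ ⟨V₁, hyV₁, hV₁⟩, ⟨V₁, hyV₁, hV₁⟩⟩
    have hy' : ιV (φV (IsLocalRing.closedPoint (X.presheaf.stalk x))) = g x := by
      rw [← Scheme.Hom.comp_apply, hφV, Scheme.Hom.comp_apply, Scheme.fromSpecStalk_closedPoint]
    have h1 : ((ιV ≫ h).stalkMap (φV (IsLocalRing.closedPoint (X.presheaf.stalk x)))).hom.Flat := by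
      rw [hιVh, Scheme.Hom.stalkMap_comp]
      exact RingHom.Flat.comp (Flat.stalkMap e _) (RingHom.Flat.of_bijective (hbij _))
    rw [Scheme.Hom.stalkMap_comp] at h1
    have h2 := (RingHom.Flat.respectsIso.cancel_right_isIso _
      (ιV.stalkMap (φV (IsLocalRing.closedPoint (X.presheaf.stalk x))))).mp h1
    exact hy' ▸ h2
  · rw [flat_stalkMap_iff, ← hφV]
    infer_instance

end Groth.Agent.Helper16.FlatLocImm
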