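import Mathlib
import Groth.Agent.Lib.Helper16.Sch.UnrCompFlat
import Groth.Agent.Lib.Helper16.Alg.FlatLocalDescent

set_option autoImplicit false
set_option linter.style.haveILetI false
universe u
open CategoryTheory CategoryTheory.Limits AlgebraicGeometry Opposite TopologicalSpace Topology

namespace Groth.Agent.Helper16.FlatPt

open Groth.Agent.Helper16.SmoothLocusBC Groth.Agent.Helper16.FlatLocImm

variable {X S X' S' : Scheme.{u}} {f : X ⟶ S} {g : S' ⟶ S} {g' : X' ⟶ X} {f' : X' ⟶ S'}

/-- a flat preimmersion induces bijections on stalks. -/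
theorem stalkMap_bijective_of_flat_of_isPreimmersion {P Q : Scheme.{u}} (i : P ⟶ Q) [Flat i]
    [IsPreimmersion i] (z : P) : Function.Bijective (i.stalkMap z).hom := by
  refine ⟨?_, i.stalkMap_surjective z⟩
  have h1 : (i.stalkMap z).hom.Flat := Flat.stalkMap i z
  algebraize [(i.stalkMap z).hom]
  haveI : IsLocalHom (algebraMap (Q.presheaf.stalk (i z)) (P.presheaf.stalk z)) :=
    inferInstanceAs (IsLocalHom (i.stalkMap z).hom)
  haveI : Module.FaithfullyFlat (Q.presheaf.stalk (i z)) (P.presheaf.stalk z) :=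
    Module.FaithfullyFlat.of_flat_of_isLocalHom
  exact FaithfulSMul.algebraMap_injective _ _

/-- flatness at a point is preserved by base change. -/
theorem stalkFlat_baseChange (hsq : IsPullback g' f' f g) (x : X) (h : (f.stalkMap x).hom.Flat)
    (x' : X') (hx : g' x' = x) : (f'.stalkMap x').hom.Flat := by
  let j := X.fromSpecStalk x
  haveI hj : Flat (j ≫ f) := (flat_stalkMap_iff f x).mp h
  haveI : Flat j := flat_fromSpecStalk X x
  have hP : IsPullback (pullback.fst j g') (pullback.snd j g' ≫ f') (j ≫ f) g :=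
    ((IsPullback.of_hasPullback j g').flip.paste_horiz hsq.flip).flip
  haveI : Flat (pullback.snd j g' ≫ f') := MorphismProperty.of_isPullback hP hj
  haveI : Flat (pullback.snd j g') := MorphismProperty.pullback_snd _ _ inferInstance
  haveI : IsPreimmersion (pullback.snd j g') := inferInstance
  obtain ⟨z, -, hz⟩ := Scheme.Pullback.exists_preimage_pullback (f := j) (g := g')
    (IsLocalRing.closedPoint _) x' (by rw [Scheme.fromSpecStalk_closedPoint, hx])
  subst hz
  have h1 : ((pullback.snd j g' ≫ f').stalkMap z).hom.Flat := Flat.stalkMap _ z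
  rw [Scheme.Hom.stalkMap_comp] at h1
  haveI : IsIso ((pullback.snd j g').stalkMap z) := by
    rw [ConcreteCategory.isIso_iff_bijective]
    exact stalkMap_bijective_of_flat_of_isPreimmersion _ z
  exact (RingHom.Flat.respectsIso.cancel_right_isIso (f'.stalkMap ((pullback.snd j g') z))
    ((pullback.snd j g').stalkMap z)).mp h1

/-- flatness at a point descends along flat base change. -/
theorem stalkFlat_descent (hsq : IsPullback g' f' f g) [Flat g] (x' : X')
    (h : (f'.stalkMap x').hom.Flat) : (f.stalkMap (g' x')).hom.Flat := by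
  haveI : Flat g' := MorphismProperty.of_isPullback hsq.flip inferInstance
  have h1 : ((f' ≫ g).stalkMap x').hom.Flat := by
    rw [Scheme.Hom.stalkMap_comp]
    exact RingHom.Flat.comp (Flat.stalkMap g (f' x')) h
  have h2 : ((g' ≫ f).stalkMap x').hom.Flat := by
    rw [hsq.w]
    exact h1
  rw [Scheme.Hom.stalkMap_comp] at h2
  have h3 : (g'.stalkMap x').hom.Flat := Flat.stalkMap g' x'
  letI := (f.stalkMap (g' x')).hom.toAlgebra
  letI := (g'.stalkMap x').hom.toAlgebra
  letI : Algebra (S.presheaf.stalk (f (g' x'))) (X'.presheaf.stalk x') :=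
    ((g'.stalkMap x').hom.comp (f.stalkMap (g' x')).hom).toAlgebra
  haveI : IsScalarTower (S.presheaf.stalk (f (g' x'))) (X.presheaf.stalk (g' x'))
      (X'.presheaf.stalk x') := IsScalarTower.of_algebraMap_eq (fun _ => rfl)
  haveI : Module.Flat (X.presheaf.stalk (g' x')) (X'.presheaf.stalk x') := h3
  haveI : IsLocalHom (algebraMap (X.presheaf.stalk (g' x')) (X'.presheaf.stalk x')) :=
    inferInstanceAs (IsLocalHom (g'.stalkMap x').hom)
  haveI : Module.FaithfullyFlat (X.presheaf.stalk (g' x')) (X'.presheaf.stalk x') :=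
    Module.FaithfullyFlat.of_flat_of_isLocalHom
  haveI : Module.Flat (S.presheaf.stalk (f (g' x'))) (X'.presheaf.stalk x') := h2
  exact Groth.Agent.Helper16.FlatLocalDescent.flat_of_faithfullyFlat_of_flat
    (S.presheaf.stalk (f (g' x'))) (X.presheaf.stalk (g' x')) (X'.presheaf.stalk x')

theorem stalkFlat_iff (hsq : IsPullback g' f' f g) [Flat g] (x' : X') :
    (f'.stalkMap x').hom.Flat ↔ (f.stalkMap (g' x')).hom.Flat :=
  ⟨stalkFlat_descent hsq x', fun h => stalkFlat_baseChange hsq _ h x' rfl⟩

end Groth.Agent.Helper16.FlatPt
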