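import Mathlib
import Groth.Prelude
import Groth.Agent.Lib.Helper28.AlgGrpShear
import Groth.Agent.Lib.Helper16.Sch.FlatPt

set_option autoImplicit false
set_option linter.style.haveILetI false
universe u
open CategoryTheory CategoryTheory.Limits AlgebraicGeometry Opposite TopologicalSpace Topology
  MonoidalCategory CartesianMonoidalCategory MonObj GrpObj

noncomputable section

namespace Groth.Agent.Helper16.OrbitFlat

open Groth.Agent.Helper28.AlgGrpShear

variable {S : Scheme.{u}} {G X : Over S} [GrpObj G]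

/-- left translation of `G` on itself -/
def selfAct (G : Over S) [GrpObj G] : AlgGrp.Action G G where
  act := μ[G]
  one_act := MonObj.one_mul G
  mul_act := MonObj.mul_assoc G

/-- `(g₂, g₁) ↦ (g₂ g₁⁻¹, g₁)` -/
def Ψ (G : Over S) [GrpObj G] : G ⊗ G ⟶ G ⊗ G :=
  lift (fst G G * (snd G G)⁻¹) (snd G G)

theorem Ψ_snd : Ψ G ≫ snd G G = snd G G := by simp [Ψ]

theorem Ψ_mul : Ψ G ≫ μ[G] = fst G G := by
  unfold Ψ
  rw [← Hom.mul_def, inv_mul_cancel_right]

theorem horbmul (a : AlgGrp.Action G X) (x : 𝟙_ (Over S) ⟶ X) :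
    (G ◁ a.orbitMap x) ≫ a.act = μ[G] ≫ a.orbitMap x := by
  have e1 : (G ◁ a.orbitMap x) = lift (fst G G) (snd G G ≫ a.orbitMap x) := by
    apply CartesianMonoidalCategory.hom_ext <;> simp
  rw [e1, AlgGrp.Action.comp_orbitMap, AlgGrp.Action.comp_orbitMap]
  rw [← act_mul]
  congr 2
  show (fst G G) * (snd G G) = μ[G]
  show lift (fst G G) (snd G G) ≫ μ[G] = μ[G]
  rw [lift_fst_snd, Category.id_comp]

theorem isPullback_snd_left (a : AlgGrp.Action G X) (x : 𝟙_ (Over S) ⟶ X) :
    IsPullback (snd G G).left (G ◁ a.orbitMap x).left (a.orbitMap x).left (snd G X).left :=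
  (isPullback_snd G (a.orbitMap x)).map (Over.forget _)

theorem isPullback_mul_left (a : AlgGrp.Action G X) (x : 𝟙_ (Over S) ⟶ X) :
    IsPullback μ[G].left (G ◁ a.orbitMap x).left (a.orbitMap x).left a.act.left :=
  (isPullback_act (selfAct G) a (a.orbitMap x) (horbmul a x)).map (Over.forget _)

theorem flat_snd_left (G X : Over S) [Flat G.hom] : Flat (snd G X).left := by
  show Flat (pullback.snd G.hom X.hom)
  infer_instance

theorem flat_act_left [Flat G.hom] (a : AlgGrp.Action G X) : Flat a.act.left := by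
  rw [act_left a]
  haveI := flat_snd_left G X
  haveI : IsIso (shear a).hom.left :=
    inferInstanceAs (IsIso ((Over.forget _).map (shear a).hom))
  infer_instance

/-- exists a point of `G ⊗ G` with prescribed `snd` and `μ`. -/
theorem exists_point [Subsingleton S] (g₁ g₂ : G.left) :
    ∃ w : (G ⊗ G).left, (snd G G).left w = g₁ ∧ μ[G].left w = g₂ := by
  obtain ⟨z, hz1, hz2⟩ := Scheme.Pullback.exists_preimage_pullback (f := G.hom) (g := G.hom) g₂ g₁
    (Subsingleton.elim _ _)
  refine ⟨(Ψ G).left z, ?_, ?_⟩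
  · show (Ψ G ≫ snd G G).left z = _
    rw [Ψ_snd]
    exact hz2
  · show (Ψ G ≫ μ[G]).left z = _
    rw [Ψ_mul]
    exact hz1

/-- flatness of an orbit map at one point implies flatness everywhere (over a one-point base). -/
theorem flat_orbitMap [Subsingleton S] [Flat G.hom] (a : AlgGrp.Action G X) (x : 𝟙_ (Over S) ⟶ X)
    (h : ∃ g : G.left, ((a.orbitMap x).left.stalkMap g).hom.Flat) : Flat (a.orbitMap x).left := by
  obtain ⟨g₁, hg₁⟩ := h
  rw [Flat.iff_flat_stalkMap]
  intro g₂
  obtain ⟨w, hw1, hw2⟩ := exists_point g₁ g₂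
  haveI := flat_snd_left G X
  haveI := flat_act_left a
  subst hw1 hw2
  have h1 := (FlatPt.stalkFlat_iff (isPullback_snd_left a x) w).mpr hg₁
  exact (FlatPt.stalkFlat_iff (isPullback_mul_left a x) w).mp h1

theorem subsingleton_spec (A : Type u) [CommRing A] [IsArtinianRing A] [IsLocalRing A] :
    Subsingleton ↥(Spec (CommRingCat.of A)) :=
  Ring.KrullDimLE.subsingleton_primeSpectrum A

theorem main5347 (A : Type u) [CommRing A] [IsArtinianRing A] [IsLocalRing A]
    (G X : Over (Spec (CommRingCat.of A))) [GrpObj G] [Flat G.hom]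
    (a : AlgGrp.Action G X) (s₀ : 𝟙_ (Over (Spec (CommRingCat.of A))) ⟶ X)
    (h : ∃ g : G.left, ((a.orbitMap s₀).left.stalkMap g).hom.Flat) :
    Flat (a.orbitMap s₀).left := by
  haveI := subsingleton_spec A
  exact flat_orbitMap a s₀ h

/-- a homomorphism is the orbit map of the unit for the induced translation action. -/
theorem orbitMap_restrict {G H : Over S} [GrpObj G] [GrpObj H] (u : G ⟶ H) [IsMonHom u] :
    ((selfAct H).restrict u).orbitMap η[H] = u := by
  unfold AlgGrp.Action.orbitMap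
  rw [AlgGrp.Action.lift_restrict_act]
  show lift (𝟙 G ≫ u) (toUnit G ≫ η[H]) ≫ μ[H] = u
  rw [Category.id_comp, ← Hom.mul_def, ← Hom.one_def]
  exact _root_.mul_one u

theorem main5336 (A : Type u) [CommRing A] [IsArtinianRing A] [IsLocalRing A]
    (G H : Over (Spec (CommRingCat.of A))) [GrpObj G] [GrpObj H]
    [Flat G.hom] (u : G ⟶ H) [IsMonHom u]
    (h : ∃ x : G.left, (u.left.stalkMap x).hom.Flat) : Flat u.left := by
  haveI := subsingleton_spec A
  have e := orbitMap_restrict u
  have := flat_orbitMap ((selfAct H).restrict u) η[H] (by rw [e]; exact h)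
  rwa [e] at this

end Groth.Agent.Helper16.OrbitFlat
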