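import Mathlib
import Groth.Prelude
import Groth.Agent.Lib.Helper16.Sch.OrbitFlat
import Groth.Agent.Lib.Helper16.Sch.FibMap2
import Groth.Agent.Lib.Helper16.Sch.UnrFib
import Groth.Agent.Lib.Helper16.Sch.GenDim1
import Groth.Agent.Lib.Helper14.FibreDimBC
import Groth.Agent.Lib.Helper14.QuasiSection

set_option autoImplicit false
set_option linter.style.haveILetI false
universe u
open CategoryTheory CategoryTheory.Limits AlgebraicGeometry Opposite TopologicalSpace Topology
  MonoidalCategory CartesianMonoidalCategory MonObj GrpObj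

noncomputable section

namespace Groth.Agent.Helper16.GrpHomFib

open Groth.Agent.Helper14 Groth.Agent.Helper16 Groth.Agent.Helper16.OrbitFlat
  Groth.Agent.Helper16.UnramLocus

section OnePoint

variable {T : Scheme.{u}} [Subsingleton T] {G H : Over T} [GrpObj G] [GrpObj H]
  (v : G ⟶ H) [IsMonHom v]

/-- over a one-point base, the fibre dimension of a homomorphism is constant. -/
theorem fibreDimAt_const_hom [LocallyOfFiniteType v.left] (z₁ z₂ : G.left) :
    FlatMor.fibreDimAt v.left z₁ = FlatMor.fibreDimAt v.left z₂ := by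
  have e := orbitMap_restrict v
  obtain ⟨w, rfl, rfl⟩ := exists_point z₁ z₂
  haveI : LocallyOfFiniteType (((selfAct H).restrict v).orbitMap η[H]).left := by
    rw [e]; infer_instance
  have h1 := FibreDimBC.fibreDimAt_eq (isPullback_snd_left ((selfAct H).restrict v) η[H]) w
  have h2 := FibreDimBC.fibreDimAt_eq (isPullback_mul_left ((selfAct H).restrict v) η[H]) w
  rw [e] at h1 h2
  exact h1.symm.trans h2

/-- over a one-point base, the unramified locus of a homomorphism is everything or nothing. -/
theorem unrAt_const_hom [LocallyOfFiniteType v.left] (z₁ z₂ : G.left) :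
    UnrAt v.left z₁ ↔ UnrAt v.left z₂ := by
  have e := orbitMap_restrict v
  obtain ⟨w, rfl, rfl⟩ := exists_point z₁ z₂
  haveI : LocallyOfFiniteType (((selfAct H).restrict v).orbitMap η[H]).left := by
    rw [e]; infer_instance
  have h1 := unrAt_iff_of_isPullback (isPullback_snd_left ((selfAct H).restrict v) η[H]) w
  have h2 := unrAt_iff_of_isPullback (isPullback_mul_left ((selfAct H).restrict v) η[H]) w
  rw [e] at h1 h2
  exact h1.symm.trans h2

end OnePoint

variable {S : Scheme.{u}} {G H : Over S} [GrpObj G] [GrpObj H] (u : G ⟶ H) [IsMonHom u]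

omit [GrpObj G] [GrpObj H] [IsMonHom u] in
theorem us_fst (s : S) :
    ((Over.pullback (S.fromSpecResidueField s)).map u).left ≫
        pullback.fst H.hom (S.fromSpecResidueField s) =
      pullback.fst G.hom (S.fromSpecResidueField s) ≫ u.left :=
  pullback.lift_fst _ _ _

omit [GrpObj G] [GrpObj H] [IsMonHom u] in
theorem us_snd (s : S) :
    ((Over.pullback (S.fromSpecResidueField s)).map u).left ≫
        pullback.snd H.hom (S.fromSpecResidueField s) =
      pullback.snd G.hom (S.fromSpecResidueField s) :=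
  pullback.lift_snd _ _ _

omit [GrpObj G] [GrpObj H] [IsMonHom u] in
theorem isPullback_us (s : S) :
    IsPullback (pullback.fst G.hom (S.fromSpecResidueField s))
      ((Over.pullback (S.fromSpecResidueField s)).map u).left u.left
      (pullback.fst H.hom (S.fromSpecResidueField s)) := by
  have hbig : IsPullback (pullback.fst G.hom (S.fromSpecResidueField s))
      (((Over.pullback (S.fromSpecResidueField s)).map u).left ≫
        pullback.snd H.hom (S.fromSpecResidueField s)) (u.left ≫ H.hom)
      (S.fromSpecResidueField s) := by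
    rw [us_snd, Over.w u]
    exact IsPullback.of_hasPullback _ _
  exact IsPullback.of_bot hbig (us_fst u s).symm (IsPullback.of_hasPullback _ _)

instance subsingleton_specResidueField (s : S) : Subsingleton ↥(Spec (S.residueField s)) :=
  inferInstanceAs (Subsingleton (PrimeSpectrum (S.residueField s)))

omit [GrpObj G] in
theorem exists_fst_eq (x : G.left) (s : S) (hx : G.hom x = s) :
    ∃ z : ↥(pullback G.hom (S.fromSpecResidueField s)),
      pullback.fst G.hom (S.fromSpecResidueField s) z = x := by
  have : x ∈ Set.range (pullback.fst G.hom (S.fromSpecResidueField s)) := by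
    rw [FibMap.range_fst]; exact hx
  exact this

omit [GrpObj G] in
theorem fst_mem (s : S) (z : ↥(pullback G.hom (S.fromSpecResidueField s))) :
    G.hom (pullback.fst G.hom (S.fromSpecResidueField s) z) = s := by
  have : pullback.fst G.hom (S.fromSpecResidueField s) z ∈ G.hom ⁻¹' {s} := by
    rw [← FibMap.range_fst]; exact ⟨z, rfl⟩
  exact this

omit [GrpObj G] [GrpObj H] [IsMonHom u] in
theorem lft_us [LocallyOfFiniteType u.left] (s : S) :
    LocallyOfFiniteType ((Over.pullback (S.fromSpecResidueField s)).map u).left :=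
  MorphismProperty.of_isPullback (isPullback_us u s) ‹_›

omit [GrpObj G] [GrpObj H] [IsMonHom u] in
theorem fibreDimAt_us [LocallyOfFiniteType u.left] (s : S)
    (z : ↥(pullback G.hom (S.fromSpecResidueField s))) :
    FlatMor.fibreDimAt ((Over.pullback (S.fromSpecResidueField s)).map u).left z =
      FlatMor.fibreDimAt u.left (pullback.fst G.hom (S.fromSpecResidueField s) z) :=
  FibreDimBC.fibreDimAt_eq (isPullback_us u s) z

omit [GrpObj G] [GrpObj H] [IsMonHom u] in
theorem unrAt_us [LocallyOfFiniteType u.left] (s : S)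
    (z : ↥(pullback G.hom (S.fromSpecResidueField s))) :
    UnrAt ((Over.pullback (S.fromSpecResidueField s)).map u).left z ↔
      UnrAt u.left (pullback.fst G.hom (S.fromSpecResidueField s) z) :=
  unrAt_iff_of_isPullback (isPullback_us u s) z

/-- the fibre dimension of a homomorphism is constant along the fibres of `G ⟶ S`. -/
theorem fibreDimAt_const_fibre [LocallyOfFiniteType u.left] (x₁ x₂ : G.left) (s : S)
    (h₁ : G.hom x₁ = s) (h₂ : G.hom x₂ = s) :
    FlatMor.fibreDimAt u.left x₁ = FlatMor.fibreDimAt u.left x₂ := by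
  obtain ⟨z₁, rfl⟩ := exists_fst_eq x₁ s h₁
  obtain ⟨z₂, rfl⟩ := exists_fst_eq x₂ s h₂
  haveI := lft_us u s
  have h3 := fibreDimAt_const_hom (T := Spec (S.residueField s))
    (G := (Over.pullback (S.fromSpecResidueField s)).obj G)
    (H := (Over.pullback (S.fromSpecResidueField s)).obj H)
    ((Over.pullback (S.fromSpecResidueField s)).map u) z₁ z₂
  rw [← fibreDimAt_us u s z₁, ← fibreDimAt_us u s z₂]
  exact h3

theorem unrAt_const_fibre [LocallyOfFiniteType u.left] (x₁ x₂ : G.left) (s : S)
    (h₁ : G.hom x₁ = s) (h₂ : G.hom x₂ = s) : UnrAt u.left x₁ ↔ UnrAt u.left x₂ := by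
  obtain ⟨z₁, rfl⟩ := exists_fst_eq x₁ s h₁
  obtain ⟨z₂, rfl⟩ := exists_fst_eq x₂ s h₂
  haveI := lft_us u s
  have h3 := unrAt_const_hom (T := Spec (S.residueField s))
    (G := (Over.pullback (S.fromSpecResidueField s)).obj G)
    (H := (Over.pullback (S.fromSpecResidueField s)).obj H)
    ((Over.pullback (S.fromSpecResidueField s)).map u) z₁ z₂
  rw [← unrAt_us u s z₁, ← unrAt_us u s z₂]
  exact h3

/-- the unit section. -/
def e (G : Over S) [GrpObj G] : S ⟶ G.left := η[G].left

theorem e_apply (G : Over S) [GrpObj G] (s : S) : G.hom (e G s) = s := by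
  rw [← Scheme.Hom.comp_apply]
  have : e G ≫ G.hom = 𝟙 S := Over.w η[G]
  rw [this]
  rfl

theorem lqf_us_iff [LocallyOfFiniteType u.left] (s : S) :
    LocallyQuasiFinite ((Over.pullback (S.fromSpecResidueField s)).map u).left ↔
      FlatMor.fibreDimAt u.left (e G s) ≤ 0 := by
  haveI := lft_us u s
  rw [FibMap.locallyQuasiFinite_iff_fibreDimAt]
  constructor
  · intro h
    obtain ⟨z, hz⟩ := exists_fst_eq (e G s) s (e_apply G s)
    rw [← hz, ← fibreDimAt_us u s z]
    exact h z
  · intro h z
    rw [fibreDimAt_us u s z, fibreDimAt_const_fibre u _ (e G s) s (fst_mem s z) (e_apply G s)]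
    exact h

theorem le_zero_iff_not_one_le (d : WithBot ℕ∞) : d ≤ 0 ↔ ¬ (1 ≤ d) := by
  rw [not_le, Groth.Agent.Helper9.TopDim.lt_one_iff_le_zero]

omit [GrpObj G] [GrpObj H] [IsMonHom u] in
theorem isOpen_fibreDimAt_le_zero [LocallyOfFiniteType u.left] :
    IsOpen {x : G.left | FlatMor.fibreDimAt u.left x ≤ 0} := by
  have h := (GenDim.isClosed_le_fibreDimAt u.left 1).isOpen_compl
  convert h using 1
  ext x
  simp only [Set.mem_setOf_eq, Set.mem_compl_iff]
  rw [le_zero_iff_not_one_le]
  rfl

omit [GrpObj G] [GrpObj H] [IsMonHom u] in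
theorem lqf_nhd_iff [LocallyOfFiniteType u.left] (x : G.left) :
    (∃ W : G.left.Opens, x ∈ W ∧ LocallyQuasiFinite (W.ι ≫ u.left)) ↔
      FlatMor.fibreDimAt u.left x ≤ 0 := by
  constructor
  · rintro ⟨W, hxW, hW⟩
    have h1 := (FibMap.locallyQuasiFinite_iff_fibreDimAt (W.ι ≫ u.left)).mp hW ⟨x, hxW⟩
    rwa [QuasiSection.fibreDimAt_opens u.left W ⟨x, hxW⟩] at h1
  · intro h
    let W : G.left.Opens := ⟨_, isOpen_fibreDimAt_le_zero u⟩
    refine ⟨W, h, ?_⟩
    rw [FibMap.locallyQuasiFinite_iff_fibreDimAt]
    intro w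
    rw [QuasiSection.fibreDimAt_opens u.left W w]
    exact w.2

theorem main5315 [LocallyOfFiniteType u.left] :
    IsOpen {s : S | LocallyQuasiFinite ((Over.pullback (S.fromSpecResidueField s)).map u).left} ∧
    {x : G.left | ∃ W : G.left.Opens, x ∈ W ∧ LocallyQuasiFinite (W.ι ≫ u.left)} =
      G.hom.base ⁻¹' {s : S |
        LocallyQuasiFinite ((Over.pullback (S.fromSpecResidueField s)).map u).left} := by
  constructor
  · have h := (isOpen_fibreDimAt_le_zero u).preimage (e G).continuous
    convert h using 1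
    ext s
    exact lqf_us_iff u s
  · ext x
    simp only [Set.mem_setOf_eq, Set.mem_preimage]
    rw [lqf_nhd_iff, lqf_us_iff]
    rw [fibreDimAt_const_fibre u x (e G (G.hom x)) (G.hom x) rfl (e_apply G _)]

theorem unr_us_iff [LocallyOfFiniteType u.left] (s : S) :
    FormallyUnramified ((Over.pullback (S.fromSpecResidueField s)).map u).left ↔
      UnrAt u.left (e G s) := by
  rw [formallyUnramified_iff_forall_unrAt]
  constructor
  · intro h
    obtain ⟨z, hz⟩ := exists_fst_eq (e G s) s (e_apply G s)
    rw [← hz, ← unrAt_us u s z]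
    exact h z
  · intro h z
    rw [unrAt_us u s z, unrAt_const_fibre u _ (e G s) s (fst_mem s z) (e_apply G s)]
    exact h

omit [GrpObj G] [GrpObj H] [IsMonHom u] in
theorem isOpen_unrAt : IsOpen {x : G.left | UnrAt u.left x} := by
  rw [isOpen_iff_forall_mem_open]
  rintro x ⟨W, hxW, hW⟩
  exact ⟨W, fun y hy => ⟨W, hy, hW⟩, W.isOpen, hxW⟩

theorem main5316 [LocallyOfFiniteType u.left] :
    IsOpen {s : S | FormallyUnramified ((Over.pullback (S.fromSpecResidueField s)).map u).left} ∧
    {x : G.left | ∃ W : G.left.Opens, x ∈ W ∧ FormallyUnramified (W.ι ≫ u.left)} =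
      G.hom.base ⁻¹' {s : S |
        FormallyUnramified ((Over.pullback (S.fromSpecResidueField s)).map u).left} := by
  constructor
  · have h := (isOpen_unrAt u).preimage (e G).continuous
    convert h using 1
    ext s
    exact unr_us_iff u s
  · ext x
    simp only [Set.mem_setOf_eq, Set.mem_preimage]
    rw [unr_us_iff]
    exact unrAt_const_fibre u x (e G (G.hom x)) (G.hom x) rfl (e_apply G _)

end Groth.Agent.Helper16.GrpHomFib
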