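import Mathlib
import Groth.Prelude
import Groth.Agent.Lib.Helper28.AlgGrpShear
import Groth.Agent.Lib.Helper14.PullbackPts

set_option autoImplicit false
set_option linter.style.haveILetI false
universe u
open CategoryTheory CategoryTheory.Limits AlgebraicGeometry Opposite TopologicalSpace Topology
  MonoidalCategory CartesianMonoidalCategory MonObj GrpObj

noncomputable section

namespace Groth.Agent.Helper16.ImmSub

open Groth.Agent.Helper14 Groth.Agent.Helper28.AlgGrpShear

variable {k : Type u} [Field k] {G H : Over (Spec (CommRingCat.of k))} [GrpObj G] [GrpObj H]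
  (u : H ⟶ G) [IsMonHom u]

omit [GrpObj G] [GrpObj H] in
theorem isOpenMap_fst (G H : Over (Spec (CommRingCat.of k))) : IsOpenMap (fst G H).left.base := by
  haveI : UniversallyOpen (fst G H).left := by
    show UniversallyOpen (pullback.fst G.hom H.hom)
    infer_instance
  exact (fst G H).left.isOpenMap

omit [GrpObj G] [GrpObj H] in
theorem isOpenMap_snd (G H : Over (Spec (CommRingCat.of k))) : IsOpenMap (snd G H).left.base := by
  haveI : UniversallyOpen (snd G H).left := by
    show UniversallyOpen (pullback.snd G.hom H.hom)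
    infer_instance
  exact (snd G H).left.isOpenMap

/-- `(g, h) ↦ g u(h)` -/
def m : G ⊗ H ⟶ G := fst G H * (snd G H ≫ u)

theorem whisker_m : (u ▷ H) ≫ m u = μ[H] ≫ u := by
  unfold m
  rw [MonObj.comp_mul, whiskerRight_fst, ← Category.assoc, whiskerRight_snd]
  have : (μ[H] : H ⊗ H ⟶ H) = fst H H * snd H H := by
    rw [Hom.mul_def, lift_fst_snd, Category.id_comp]
  rw [this, MonObj.mul_comp]

theorem m_mem_range (w : (G ⊗ H).left) (hw : (fst G H).left w ∈ Set.range u.left) :
    (m u).left w ∈ Set.range u.left := by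
  obtain ⟨h, hh⟩ := hw
  have hsq : IsPullback (fst H H).left (u ▷ H).left u.left (fst G H).left :=
    (isPullback_fst u H).map (Over.forget _)
  obtain ⟨w', -, hw'⟩ := exists_preimage_of_isPullback hsq h w hh
  refine ⟨μ[H].left w', ?_⟩
  have e : ((u ▷ H) ≫ m u).left w' = (μ[H] ≫ u).left w' := by rw [whisker_m]
  rw [← hw']
  exact e.symm

theorem m_mem_closure (w : (G ⊗ H).left)
    (hw : (fst G H).left w ∈ closure (Set.range u.left)) :
    (m u).left w ∈ closure (Set.range u.left) := by
  have h1 : (fst G H).left.base ⁻¹' Set.range u.left ⊆ (m u).left.base ⁻¹' Set.range u.left :=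
    fun w hw => m_mem_range u w hw
  have h2 : (fst G H).left.base ⁻¹' closure (Set.range u.left) ⊆
      (m u).left.base ⁻¹' closure (Set.range u.left) := by
    rw [(isOpenMap_fst G H).preimage_closure_eq_closure_preimage (fst G H).left.continuous]
    exact (closure_mono h1).trans
      ((m u).left.continuous.closure_preimage_subset _)
  exact h2 hw

theorem inv_comm : ι[H] ≫ u = u ≫ ι[G] := by
  have h1 : (𝟙 H)⁻¹ ≫ u = (𝟙 H ≫ u)⁻¹ := GrpObj.inv_comp (𝟙 H) u
  rw [Hom.inv_def, Hom.inv_def, Category.id_comp, Category.id_comp] at h1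
  exact h1

theorem inv_mem_closure (z : G.left) (hz : z ∈ closure (Set.range u.left)) :
    ι[G].left z ∈ closure (Set.range u.left) := by
  have h1 : Set.range u.left ⊆ ι[G].left.base ⁻¹' Set.range u.left := by
    rintro _ ⟨h, rfl⟩
    refine ⟨ι[H].left h, ?_⟩
    have e : (ι[H] ≫ u).left h = (u ≫ ι[G]).left h := by rw [inv_comm]
    exact e
  exact (closure_mono h1).trans (ι[G].left.continuous.closure_preimage_subset _) hz

theorem unit_mem_range (t : (𝟙_ (Over (Spec (CommRingCat.of k)))).left) :
    η[G].left t ∈ Set.range u.left := by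
  refine ⟨η[H].left t, ?_⟩
  have e : (η[H] ≫ u).left t = η[G].left t := by rw [IsMonHom.one_hom]
  exact e

theorem isClosed_range_of_isLocallyClosed (hR : IsLocallyClosed (Set.range u.left)) :
    IsClosed (Set.range u.left) := by
  have hbd : IsClosed (closure (Set.range u.left) \ Set.range u.left) := by
    have := hR.isOpen_coborder
    rw [coborder] at this
    exact isOpen_compl_iff.mp this
  by_contra hncl
  have hne : (closure (Set.range u.left) \ Set.range u.left).Nonempty := by
    rw [Set.nonempty_iff_ne_empty]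
    intro h
    apply hncl
    rw [Set.sdiff_eq_empty] at h
    have : closure (Set.range u.left) = Set.range u.left := Set.Subset.antisymm h subset_closure
    rw [← this]
    exact isClosed_closure
  obtain ⟨z, hzZ, hzR⟩ := hne
  -- the residue field point
  let K := G.left.residueField z
  let zK : Spec K ⟶ G.left := G.left.fromSpecResidueField z
  let T₀ : Over (Spec (CommRingCat.of k)) := Over.mk (zK ≫ G.hom)
  let zt : T₀ ⟶ G := Over.homMk zK rfl
  have hzt : ∀ t : T₀.left, zt.left t = z := fun t => Scheme.fromSpecResidueField_apply z t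
  let t₀ : T₀.left := IsLocalRing.closedPoint K
  let τ' : T₀ ⊗ H ⟶ G := (fst T₀ H ≫ zt) * (snd T₀ H ≫ u)
  let τ'' : T₀ ⊗ G ⟶ G := (fst T₀ G ≫ zt) * snd T₀ G
  have hτ' : τ' = lift (fst T₀ H ≫ zt) (snd T₀ H) ≫ m u := by
    simp only [τ', m, MonObj.comp_mul, lift_fst]
    rw [← Category.assoc, lift_snd]
  have hττ : (T₀ ◁ u) ≫ τ'' = τ' := by
    simp only [τ', τ'', MonObj.comp_mul, whiskerLeft_snd]
    rw [← Category.assoc, whiskerLeft_fst]
  -- Claim 1
  have claim1 : ∀ q : (T₀ ⊗ H).left, τ'.left q ∈ closure (Set.range u.left) := by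
    intro q
    have e : (fst G H).left ((lift (fst T₀ H ≫ zt) (snd T₀ H)).left q) =
        zt.left ((fst T₀ H).left q) := by
      show (lift (fst T₀ H ≫ zt) (snd T₀ H) ≫ fst G H).left q = _
      rw [lift_fst]
      rfl
    have hq := m_mem_closure u ((lift (fst T₀ H ≫ zt) (snd T₀ H)).left q)
      (by rw [e, hzt]; exact hzZ)
    rw [hτ']
    exact hq
  by_cases hA : ∃ q : (T₀ ⊗ H).left, τ'.left q ∈ Set.range u.left
  · -- Case A
    obtain ⟨q, h₁, hh₁⟩ := hA
    obtain ⟨z₁, hz₁a, hz₁b⟩ := Scheme.Pullback.exists_preimage_pullback (f := τ'.left)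
      (g := u.left) q h₁ hh₁.symm
    let T : Over (Spec (CommRingCat.of k)) :=
      Over.mk (pullback.fst τ'.left u.left ≫ (T₀ ⊗ H).hom)
    let qT : T ⟶ T₀ ⊗ H := Over.homMk (pullback.fst τ'.left u.left) rfl
    let gam : T ⟶ H := Over.homMk (pullback.snd τ'.left u.left) (by
      show pullback.snd τ'.left u.left ≫ H.hom = pullback.fst τ'.left u.left ≫ (T₀ ⊗ H).hom
      rw [← Over.w u, ← Over.w τ', ← pullback.condition_assoc])
    have e₁ : qT ≫ τ' = gam ≫ u := by
      apply Over.OverMorphism.ext
      simp only [Over.comp_left, qT, gam, Over.homMk_left]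
      exact pullback.condition
    have key : qT ≫ fst T₀ H ≫ zt = (gam * (qT ≫ snd T₀ H)⁻¹) ≫ u := by
      rw [MonObj.mul_comp, GrpObj.inv_comp, ← e₁]
      show _ = qT ≫ ((fst T₀ H ≫ zt) * (snd T₀ H ≫ u)) * _
      rw [MonObj.comp_mul, Category.assoc, mul_inv_cancel_right]
    apply hzR
    refine ⟨(gam * (qT ≫ snd T₀ H)⁻¹).left z₁, ?_⟩
    have h3 : (qT ≫ fst T₀ H ≫ zt).left z₁ = ((gam * (qT ≫ snd T₀ H)⁻¹) ≫ u).left z₁ := by
      rw [key]
    have h4 : (qT ≫ fst T₀ H ≫ zt).left z₁ = z := hzt _
    rw [← h4, h3]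
    rfl
  · -- Case B
    push Not at hA
    have hB : ∀ w : (T₀ ⊗ G).left, (snd T₀ G).left w ∈ Set.range u.left →
        τ''.left w ∈ closure (Set.range u.left) \ Set.range u.left := by
      rintro w ⟨h, hh⟩
      have hsq : IsPullback (snd T₀ H).left (T₀ ◁ u).left u.left (snd T₀ G).left :=
        (isPullback_snd T₀ u).map (Over.forget _)
      obtain ⟨q, -, hq⟩ := exists_preimage_of_isPullback hsq h w hh
      have e : τ''.left w = τ'.left q := by
        rw [← hq, ← hττ]
        rfl
      rw [e]
      exact ⟨claim1 q, hA q⟩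
    have hB' : ∀ w : (T₀ ⊗ G).left, (snd T₀ G).left w ∈ closure (Set.range u.left) →
        τ''.left w ∈ closure (Set.range u.left) \ Set.range u.left := by
      have h1 : (snd T₀ G).left.base ⁻¹' Set.range u.left ⊆
          τ''.left.base ⁻¹' (closure (Set.range u.left) \ Set.range u.left) := hB
      have h2 : (snd T₀ G).left.base ⁻¹' closure (Set.range u.left) ⊆
          τ''.left.base ⁻¹' (closure (Set.range u.left) \ Set.range u.left) := by
        rw [(isOpenMap_snd T₀ G).preimage_closure_eq_closure_preimage (snd T₀ G).left.continuous]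
        exact closure_minimal h1 (hbd.preimage τ''.left.continuous)
      exact h2
    let w₀ : (T₀ ⊗ G).left := (lift (𝟙 T₀) zt⁻¹).left t₀
    have hw₀ : (snd T₀ G).left w₀ = ι[G].left z := by
      show (lift (𝟙 T₀) zt⁻¹ ≫ snd T₀ G).left t₀ = _
      rw [lift_snd, Hom.inv_def]
      show ι[G].left (zt.left t₀) = _
      rw [hzt]
    have h5 := hB' w₀ (by rw [hw₀]; exact inv_mem_closure u z hzZ)
    apply h5.2
    have e : τ''.left w₀ = (1 : T₀ ⟶ G).left t₀ := by
      show (lift (𝟙 T₀) zt⁻¹ ≫ τ'').left t₀ = _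
      simp only [τ'', MonObj.comp_mul, lift_snd]
      rw [← Category.assoc, lift_fst, Category.id_comp, mul_inv_cancel]
    rw [e, Hom.one_def]
    exact unit_mem_range u _

end Groth.Agent.Helper16.ImmSub

namespace Groth.Agent.Helper16.ImmSub

open Groth.Agent.Helper14

theorem isPullback_map {S T : Scheme.{u}} {G H : Over S} (u : H ⟶ G) (c : T ⟶ S) :
    IsPullback (pullback.fst H.hom c) ((Over.pullback c).map u).left u.left
      (pullback.fst G.hom c) := by
  have e1 : ((Over.pullback c).map u).left ≫ pullback.fst G.hom c = pullback.fst H.hom c ≫ u.left :=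
    pullback.lift_fst _ _ _
  have e2 : ((Over.pullback c).map u).left ≫ pullback.snd G.hom c = pullback.snd H.hom c :=
    pullback.lift_snd _ _ _
  have hbig : IsPullback (pullback.fst H.hom c)
      (((Over.pullback c).map u).left ≫ pullback.snd G.hom c) (u.left ≫ G.hom) c := by
    rw [e2, Over.w u]
    exact IsPullback.of_hasPullback _ _
  exact IsPullback.of_bot hbig e1.symm (IsPullback.of_hasPullback _ _)

theorem main5384 (A : Type u) [CommRing A] [IsArtinianRing A] [IsLocalRing A]
    (G H : Over (Spec (CommRingCat.of A))) [GrpObj G] [GrpObj H]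
    (u : H ⟶ G) [IsMonHom u] [IsImmersion u.left] : IsClosedImmersion u.left := by
  apply IsClosedImmersion.of_isPreimmersion
  let c : Spec (CommRingCat.of (IsLocalRing.ResidueField A)) ⟶ Spec (CommRingCat.of A) :=
    Spec.map (CommRingCat.ofHom (IsLocalRing.residue A))
  haveI : IsClosedImmersion c :=
    IsClosedImmersion.spec_of_surjective _ IsLocalRing.residue_surjective
  haveI : Subsingleton ↥(Spec (CommRingCat.of A)) := Ring.KrullDimLE.subsingleton_primeSpectrum A
  haveI : Surjective c := ⟨fun y => ⟨IsLocalRing.closedPoint _, Subsingleton.elim _ _⟩⟩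
  have hsq := isPullback_map u c
  haveI : IsImmersion ((Over.pullback c).map u).left := MorphismProperty.of_isPullback hsq ‹_›
  have hcl : IsClosed (Set.range ((Over.pullback c).map u).left) :=
    isClosed_range_of_isLocallyClosed (k := IsLocalRing.ResidueField A) ((Over.pullback c).map u)
      IsImmersion.isLocallyClosed_range
  rw [range_snd_of_isPullback hsq] at hcl
  haveI : Surjective (pullback.fst G.hom c) := inferInstance
  have h2 : Set.range u.left = pullback.fst G.hom c '' (pullback.fst G.hom c ⁻¹' Set.range u.left) :=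
    (Set.image_preimage_eq _ (pullback.fst G.hom c).surjective).symm
  rw [h2]
  exact (pullback.fst G.hom c).isClosedEmbedding.isClosedMap _ hcl

end Groth.Agent.Helper16.ImmSub
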