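import Mathlib
import Groth.Agent.Lib.Helper16.Sch.FTDim7

set_option autoImplicit false
universe u
open CategoryTheory CategoryTheory.Limits AlgebraicGeometry Opposite TopologicalSpace Topology

noncomputable section

namespace Groth.Agent.Helper16.FTDim

variable {X Y : Scheme.{u}}

theorem isIrreducible_preimage_of_fiber (f : X ⟶ Y) (y : Y) [IrreducibleSpace ↥(f.fiber y)] :
    IsIrreducible (f.base ⁻¹' {y}) := by
  have h := (IrreducibleSpace.isIrreducible_univ ↥(f.fiber y)).image (f.fiberι y)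
    (f.fiberι y).continuous.continuousOn
  rw [Set.image_univ, f.range_fiberι y] at h
  exact h

theorem dim_fiber_eq (f : X ⟶ Y) (y : Y) :
    topologicalKrullDim ↥(f.fiber y) = topologicalKrullDim ↥(f.base ⁻¹' {y}) :=
  IsHomeomorph.topologicalKrullDim_eq _ (f.fiberHomeo y).isHomeomorph

theorem main10914 (k : Type u) [Field k]
    (pX : X ⟶ Spec (CommRingCat.of k)) (pY : Y ⟶ Spec (CommRingCat.of k)) [IsProper pX] [IsProper pY]
    (f : X ⟶ Y) (hf : f ≫ pY = pX)
    [IrreducibleSpace ↥Y] (m : ℕ)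
    (hirr : ∀ y : ↥Y, IsClosed ({y} : Set ↥Y) → IrreducibleSpace ↥(f.fiber y))
    (hdim : ∀ y : ↥Y, IsClosed ({y} : Set ↥Y) → topologicalKrullDim ↥(f.fiber y) = m) :
    IrreducibleSpace ↥X ∧ topologicalKrullDim ↥X = topologicalKrullDim ↥Y + m := by
  have : IsProper (f ≫ pY) := hf ▸ inferInstance
  have : IsProper f := IsProper.of_comp f pY
  have h := main14369 k pX pY f hf f.isClosedMap m
    (fun y hy => by
      have := hirr y hy
      exact isIrreducible_preimage_of_fiber f y)
    (fun y hy => by rw [← dim_fiber_eq, hdim y hy])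
  refine ⟨h.1, ?_⟩
  rw [h.2, add_comm]

end Groth.Agent.Helper16.FTDim
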