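import Mathlib
import Groth.Agent.Lib.Helper16.Sch.FTDim8
import Groth.Agent.Lib.Helper14.DimFormulaSch

set_option autoImplicit false
universe u
open CategoryTheory CategoryTheory.Limits AlgebraicGeometry Opposite TopologicalSpace Topology

noncomputable section

namespace Groth.Agent.Helper16.FTDim

open Groth.Agent.Helper14

variable {X Y : Scheme.{u}}

/-- a dominant morphism of finite type to an irreducible Noetherian scheme hits the generic
point. -/
theorem exists_map_eq_genericPoint (f : X ⟶ Y) [IsNoetherian X] [IsNoetherian Y]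
    [LocallyOfFiniteType f] [IrreducibleSpace Y] (hf : DenseRange f) :
    ∃ ξ : X, f ξ = genericPoint Y := by
  by_contra hcon
  push Not at hcon
  have hc : IsConstructible (f '' Set.univ) := f.isConstructible_image IsConstructible.univ
  have hη : genericPoint Y ∉ f '' Set.univ := by
    rintro ⟨ξ, -, h⟩
    exact hcon ξ h
  obtain ⟨U, hU, hηU, hsub⟩ := exists_open_of_not_mem_constructible _ hc hη
  obtain ⟨x, hxU⟩ := hf.exists_mem_open hU ⟨_, hηU⟩
  refine hsub ⟨hxU, ?_⟩ ⟨x, trivial, rfl⟩
  rw [(genericPoint_spec Y).def]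
  trivial

theorem main14514 (k : Type u) [Field k]
    (qX : X ⟶ Spec (CommRingCat.of k)) (qY : Y ⟶ Spec (CommRingCat.of k))
    [LocallyOfFiniteType qX] [QuasiCompact qX] [LocallyOfFiniteType qY] [QuasiCompact qY]
    [IrreducibleSpace Y] (f : X ⟶ Y) (hf : f ≫ qY = qX) [IsDominant f] :
    ∃ Z : Set X, IsClosed Z ∧ IsIrreducible Z ∧ topologicalKrullDim ↥Z = topologicalKrullDim Y ∧
      Dense (f '' Z) := by
  subst hf
  have : IsNoetherian X := isNoetherian_of_finiteType k (f ≫ qY)
  have : IsNoetherian Y := isNoetherian_of_finiteType k qY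
  have : LocallyOfFiniteType f := locallyOfFiniteType_of_comp f qY
  obtain ⟨ξ, hξ⟩ := exists_map_eq_genericPoint f f.denseRange
  obtain ⟨x, hx, h0⟩ := DimFormulaSch.exists_trdeg_eq_zero f ξ
  rw [hξ] at hx
  refine ⟨closure {x}, isClosed_closure, isIrreducible_singleton.closure, ?_, ?_⟩
  · rw [dim_closure k (f ≫ qY) x, td_comp, td_eq f x 0 (by rw [h0]; rfl), add_zero, hx,
      dim_eq_td_genericPoint k qY]
  · rw [dense_iff_closure_eq, closure_image_closure, hx]
    exact (genericPoint_spec Y).def

theorem main7798 (k : Type u) [Field k]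
    (p : X ⟶ Spec (CommRingCat.of k)) (q : Y ⟶ Spec (CommRingCat.of k)) [IsProper p]
    [IsSeparated q] [LocallyOfFiniteType q] [QuasiCompact q]
    [IrreducibleSpace X] [IrreducibleSpace Y] (hdim : topologicalKrullDim Y ≤ topologicalKrullDim X)
    (f : X ⟶ Y) (hf : f ≫ q = p) (y : Y) (hy : topologicalKrullDim ↥(f.fiber y) = 0) :
    Surjective f ∧ topologicalKrullDim X = topologicalKrullDim Y := by
  subst hf
  have : IsNoetherian X := isNoetherian_of_finiteType k (f ≫ q)
  have : IsNoetherian Y := isNoetherian_of_finiteType k q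
  have : LocallyOfFiniteType f := locallyOfFiniteType_of_comp f q
  have : IsProper f := IsProper.of_comp f q
  set ξ := genericPoint X with hξ
  -- the fibre is nonempty
  have hne : Nonempty ↥(f.fiber y) := by
    by_contra hcon
    rw [not_nonempty_iff] at hcon
    have : topologicalKrullDim ↥(f.fiber y) = ⊥ := by
      unfold topologicalKrullDim
      haveI : IsEmpty (IrreducibleCloseds ↥(f.fiber y)) :=
        ⟨fun Z => by obtain ⟨a, _⟩ := Z.isIrreducible.nonempty; exact hcon.elim a⟩
      exact Order.krullDim_eq_bot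
    rw [hy] at this
    exact absurd this (by simp)
  obtain ⟨z⟩ := hne
  set x := f.fiberι y z with hx
  have hxy : f x = y := (f.fiberHomeo y z).2
  have h1 := td_le_dim f ξ x (genericPoint_specializes x) y hxy
  have h2 : closure ({ξ} : Set X) ∩ f ⁻¹' {y} = f ⁻¹' {y} := by
    rw [(genericPoint_spec X).def, Set.univ_inter]
  rw [h2, ← dim_fiber_eq, hy] at h1
  have h3 : td f ξ = 0 := by
    have : td f ξ ≤ 0 := by exact_mod_cast h1
    omega
  have hX : topologicalKrullDim X = topologicalKrullDim ↥(closure ({f ξ} : Set Y)) := by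
    rw [dim_closure k q (f ξ), ← dim_univ X, ← (genericPoint_spec X).def,
      dim_closure k (f ≫ q) ξ, td_comp, h3, add_zero]
  have hY := dim_eq_td_genericPoint k q
  have h4 : (Set.univ : Set Y) ⊆ closure {f ξ} := by
    refine eq_of_dim_eq (IrreducibleSpace.isIrreducible_univ Y) isClosed_closure ?_
      (td q (genericPoint Y)) ?_ ?_
    · rw [Set.inter_univ]; exact ⟨f ξ, subset_closure rfl⟩
    · rw [dim_univ, hY]
    · rw [Set.inter_univ, ← hX, ← hY]
      exact hdim
  have h5 : closure ({f ξ} : Set Y) = Set.univ := Set.eq_univ_of_univ_subset h4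
  refine ⟨⟨fun y' => ?_⟩, ?_⟩
  · have hcl : IsClosed (Set.range f) := f.isClosedMap.isClosed_range
    have : closure ({f ξ} : Set Y) ⊆ Set.range f :=
      closure_minimal (Set.singleton_subset_iff.mpr ⟨ξ, rfl⟩) hcl
    rw [h5] at this
    exact this (Set.mem_univ y')
  · rw [hX, h5, dim_univ]

end Groth.Agent.Helper16.FTDim
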