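import Mathlib
import Groth.Agent.Lib.Helper16.Sch.FTDim9
import Groth.Agent.Lib.Helper16.Sch.GenDim1

set_option autoImplicit false
universe u
open CategoryTheory CategoryTheory.Limits AlgebraicGeometry Opposite TopologicalSpace Topology

noncomputable section

namespace Groth.Agent.Helper16.FTDim

open Groth.Agent.Helper14

section top

variable {S : Type*} [TopologicalSpace S]

theorem dim_mono {A B : Set S} (h : A ⊆ B) : topologicalKrullDim ↥A ≤ topologicalKrullDim ↥B :=
  (IsEmbedding.inclusion h).isInducing.topologicalKrullDim_le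

theorem dim_subset_le (A : Set S) : topologicalKrullDim ↥A ≤ topologicalKrullDim S :=
  IsInducing.subtypeVal.topologicalKrullDim_le

/-- the dimension of a closed subset of a sober space is bounded by the dimensions of the
closures of its points. -/
theorem dim_le_of_forall_closure [QuasiSober S] (A : Set S) (hA : IsClosed A) (N : WithBot ℕ∞)
    (h : ∀ z ∈ A, topologicalKrullDim ↥(closure ({z} : Set S)) ≤ N) :
    topologicalKrullDim ↥A ≤ N := by
  apply Groth.Agent.Helper9.TopDim.dim_le_of_forall_height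
  intro Z
  refine (Groth.Agent.Helper9.TopDim.height_le_dim_of_closed (Z : Set ↥A) Z.isClosed Z
    subset_rfl).trans ?_
  -- the image of `Z` in `S`
  have hZirr : IsIrreducible (Subtype.val '' (Z : Set ↥A)) :=
    Z.isIrreducible.image _ continuous_subtype_val.continuousOn
  have hZcl : IsClosed (Subtype.val '' (Z : Set ↥A)) :=
    hA.isClosedEmbedding_subtypeVal.isClosedMap _ Z.isClosed
  obtain ⟨z, hz⟩ := QuasiSober.sober hZirr hZcl
  have hzZ : closure ({z} : Set S) = Subtype.val '' (Z : Set ↥A) := hz.def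
  have hzA : z ∈ A := by
    have : z ∈ Subtype.val '' (Z : Set ↥A) := by rw [← hzZ]; exact subset_closure rfl
    obtain ⟨w, -, rfl⟩ := this
    exact w.2
  refine le_trans ?_ (h z hzA)
  refine Groth.Agent.Helper9.TopDim.dim_le_of_range_subset
    (f := fun w : ↥(Z : Set ↥A) => ((w : ↥A) : S))
    (g := (Subtype.val : ↥(closure ({z} : Set S)) → S))
    (Groth.Agent.Helper9.TopDim.isInducing_val_val _) IsInducing.subtypeVal ?_
  rw [Groth.Agent.Helper9.TopDim.range_val_val, Subtype.range_coe, hzZ]

theorem add_le_iff (a : WithBot ℕ∞) (j r : ℕ) :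
    a + (j : WithBot ℕ∞) ≤ ((r + j : ℕ) : WithBot ℕ∞) ↔ a ≤ (r : WithBot ℕ∞) := by
  induction a using WithBot.recBotCoe with
  | bot => simp
  | coe a =>
    induction a using ENat.recTopCoe with
    | top =>
      have h1 : ((⊤ : ℕ∞) : WithBot ℕ∞) + (j : WithBot ℕ∞) = ((⊤ : ℕ∞) : WithBot ℕ∞) := by
        rw [show (j : WithBot ℕ∞) = ((j : ℕ∞) : WithBot ℕ∞) from rfl, ← WithBot.coe_add, top_add]
      rw [h1]
      constructor
      · intro h
        have : (⊤ : ℕ∞) ≤ ((r + j : ℕ) : ℕ∞) := by exact_mod_cast h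
        exact absurd this (by simp)
      · intro h
        have : (⊤ : ℕ∞) ≤ ((r : ℕ) : ℕ∞) := by exact_mod_cast h
        exact absurd this (by simp)
    | coe m =>
      constructor
      · intro h
        have : m + j ≤ r + j := by exact_mod_cast h
        have : m ≤ r := by omega
        exact_mod_cast this
      · intro h
        have : m ≤ r := by exact_mod_cast h
        have : m + j ≤ r + j := by omega
        exact_mod_cast this

theorem dim_add_le_of_forall_closure [QuasiSober S] (A : Set S) (hA : IsClosed A) (j n : ℕ)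
    (h : ∀ z ∈ A, topologicalKrullDim ↥(closure ({z} : Set S)) + (j : WithBot ℕ∞) ≤ n) :
    topologicalKrullDim ↥A + (j : WithBot ℕ∞) ≤ n := by
  by_cases hne : A.Nonempty
  · obtain ⟨z₀, hz₀⟩ := hne
    have hjn : j ≤ n := by
      have h1 := h z₀ hz₀
      have h2 : (0 : WithBot ℕ∞) ≤ topologicalKrullDim ↥(closure ({z₀} : Set S)) := by
        haveI : Nonempty ↥(closure ({z₀} : Set S)) := ⟨⟨z₀, subset_closure rfl⟩⟩
        exact Groth.Agent.Helper9.TopDim.dim_nonneg_of_nonempty
      have h3 : (0 : WithBot ℕ∞) + (j : WithBot ℕ∞) ≤ n := (add_le_add_left h2 _).trans h1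
      rw [zero_add] at h3
      exact_mod_cast h3
    obtain ⟨r, rfl⟩ : ∃ r, n = r + j := ⟨n - j, by omega⟩
    rw [add_le_iff _ j r]
    apply dim_le_of_forall_closure A hA
    intro z hz
    rw [← add_le_iff _ j r]
    exact h z hz
  · rw [Set.not_nonempty_iff_eq_empty] at hne
    subst hne
    have : topologicalKrullDim ↥(∅ : Set S) = ⊥ := by
      unfold topologicalKrullDim
      haveI : IsEmpty (IrreducibleCloseds ↥(∅ : Set S)) :=
        ⟨fun Z => by obtain ⟨a, _⟩ := Z.isIrreducible.nonempty; exact a.2.elim⟩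
      exact Order.krullDim_eq_bot
    rw [this, WithBot.bot_add]
    exact bot_le

theorem closure_image_closure_top {T : Type*} [TopologicalSpace T] (f : S → T)
    (hf : Continuous f) (ξ : S) :
    closure (f '' closure ({ξ} : Set S)) = closure ({f ξ} : Set T) := by
  apply le_antisymm
  · refine closure_minimal ?_ isClosed_closure
    refine (image_closure_subset_closure_image hf).trans ?_
    rw [Set.image_singleton]
  · exact closure_mono (by
      rintro _ rfl
      exact ⟨ξ, subset_closure rfl, rfl⟩)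

theorem closure_image_subset_iUnion {T : Type*} [TopologicalSpace T] [NoetherianSpace S]
    [QuasiSober S] (f : S → T) (hf : Continuous f) (F : Set S) (hF : IsClosed F) :
    closure (f '' F) ⊆ ⋃ c ∈ F, closure {f c} := by
  obtain ⟨𝒮, hSf, hSc, hSi, hSU⟩ := NoetherianSpace.exists_finite_set_isClosed_irreducible hF
  have hcl : IsClosed (⋃ t ∈ 𝒮, closure (f '' t)) :=
    hSf.isClosed_biUnion fun _ _ => isClosed_closure
  have h1 : f '' F ⊆ ⋃ t ∈ 𝒮, closure (f '' t) := by
    rintro _ ⟨x, hx, rfl⟩
    rw [hSU] at hx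
    obtain ⟨t, ht, hxt⟩ := Set.mem_sUnion.mp hx
    exact Set.mem_iUnion₂.mpr ⟨t, ht, subset_closure ⟨x, hxt, rfl⟩⟩
  intro y hy
  obtain ⟨t, ht, hyt⟩ := Set.mem_iUnion₂.mp (closure_minimal h1 hcl hy)
  obtain ⟨c, hc⟩ := QuasiSober.sober (hSi t ht) (hSc t ht)
  have hct : closure ({c} : Set S) = t := hc.def
  refine Set.mem_iUnion₂.mpr ⟨c, ?_, ?_⟩
  · rw [hSU]
    refine Set.mem_sUnion.mpr ⟨t, ht, ?_⟩
    rw [← hct]
    exact subset_closure rfl
  · rw [← closure_image_closure_top f hf c, hct]
    exact hyt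

end top

end Groth.Agent.Helper16.FTDim
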