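import Mathlib
import Groth.Agent.Lib.Helper16.Sch.FTDim10

set_option autoImplicit false
universe u
open CategoryTheory CategoryTheory.Limits AlgebraicGeometry Opposite TopologicalSpace Topology

noncomputable section

namespace Groth.Agent.Helper16.FTDim

open Groth.Agent.Helper14

variable {C X : Scheme.{u}}

theorem main14480 (k : Type u) [Field k]
    (q : X ⟶ Spec (CommRingCat.of k)) (π : C ⟶ X)
    [LocallyOfFiniteType q] [CompactSpace X] [LocallyOfFiniteType π] [CompactSpace C] (n : ℕ) :
    topologicalKrullDim C ≤ n ↔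
      ∀ j : ℕ, topologicalKrullDim (closure {x : X | (j : WithBot ℕ∞) ≤ topologicalKrullDim (π.fiber x)}) +
        (j : WithBot ℕ∞) ≤ n := by
  have : IsLocallyNoetherian X := LocallyOfFiniteType.isLocallyNoetherian q
  have : IsNoetherian X := {}
  have : IsLocallyNoetherian C := LocallyOfFiniteType.isLocallyNoetherian π
  have : IsNoetherian C := {}
  constructor
  · intro hC j
    apply dim_add_le_of_forall_closure _ isClosed_closure
    intro z hz
    -- the closed locus of large local fibre dimension
    set F : Set C := {c | (j : WithBot ℕ∞) ≤ FlatMor.fibreDimAt π c} with hF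
    have hFcl : IsClosed F := GenDim.isClosed_le_fibreDimAt π j
    have hB : {x : X | (j : WithBot ℕ∞) ≤ topologicalKrullDim (π.fiber x)} ⊆ π '' F := by
      intro x hx
      have hx' : (j : WithBot ℕ∞) ≤ topologicalKrullDim (π.fiber x) := hx
      have hne : ∃ c : C, π c = x := by
        by_contra hcon
        push Not at hcon
        rw [FibreConst.dim_fiber_eq_bot π x hcon] at hx'
        exact absurd hx' (by simp)
      obtain ⟨ζ, N, hζ, hg, hdim, -⟩ := FibreConst.exists_isGen_dim_eq π x hne
      refine ⟨ζ, ?_, hζ⟩
      show (j : WithBot ℕ∞) ≤ FlatMor.fibreDimAt π ζ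
      rw [hg.fibreDimAt_eq, ← hdim]
      exact hx'
    have hz' : z ∈ ⋃ c ∈ F, closure ({π c} : Set X) :=
      closure_image_subset_iUnion π π.continuous F hFcl (closure_mono hB hz)
    obtain ⟨c, hcF, hzc⟩ := Set.mem_iUnion₂.mp hz'
    obtain ⟨ζ, m, -, hζc, hg, hfd⟩ := FibreConst.exists_isGen π c
    have hjm : j ≤ m := by
      have h1 : (j : WithBot ℕ∞) ≤ FlatMor.fibreDimAt π c := hcF
      rw [hfd] at h1
      exact_mod_cast h1
    have htd : td π ζ = m := td_eq π ζ m hg.2
    have h1 : topologicalKrullDim ↥(closure ({ζ} : Set C)) ≤ n := (dim_subset_le _).trans hC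
    rw [dim_closure k (π ≫ q) ζ, td_comp, htd, hζc] at h1
    have h2 : topologicalKrullDim ↥(closure ({z} : Set X)) ≤ (td q (π c) : WithBot ℕ∞) := by
      rw [← dim_closure k q (π c)]
      exact dim_mono (closure_minimal (Set.singleton_subset_iff.mpr hzc) isClosed_closure)
    refine (add_le_add_left h2 _).trans ?_
    have h3 : td q (π c) + m ≤ n := by exact_mod_cast h1
    have h4 : td q (π c) + j ≤ n := by omega
    exact_mod_cast h4
  · intro H
    rw [← dim_univ C]
    apply dim_le_of_forall_closure _ isClosed_univ
    intro c _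
    set j := td π c with hj
    have hmem : π c ∈ {x : X | (j : WithBot ℕ∞) ≤ topologicalKrullDim (π.fiber x)} := by
      show (j : WithBot ℕ∞) ≤ topologicalKrullDim (π.fiber (π c))
      rw [dim_fiber_eq]
      refine (td_le_dim π c c specializes_rfl (π c) rfl).trans ?_
      exact dim_mono Set.inter_subset_right
    have h1 : topologicalKrullDim ↥(closure ({π c} : Set X)) ≤
        topologicalKrullDim ↥(closure {x : X | (j : WithBot ℕ∞) ≤ topologicalKrullDim (π.fiber x)}) :=
      dim_mono (closure_mono (Set.singleton_subset_iff.mpr hmem))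
    rw [dim_closure k (π ≫ q) c, td_comp]
    rw [dim_closure k q (π c)] at h1
    push_cast
    exact (add_le_add_left h1 _).trans (H j)

end Groth.Agent.Helper16.FTDim
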