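import Mathlib
import Groth.Agent.Lib.Helper16.Sch.FTDim11
import Groth.Agent.Lib.Helper14.FlatRelDim
import Groth.Agent.Lib.Helper14.LocQuotLemmas
import Groth.Agent.Lib.Helper14.UOpenAtDim
import Groth.Agent.Lib.Helper14.FibreMax

set_option autoImplicit false
universe u
open CategoryTheory CategoryTheory.Limits AlgebraicGeometry Opposite TopologicalSpace Topology

noncomputable section

namespace Groth.Agent.Helper16.FTFlat

open Groth.Agent.Helper14 Groth.Agent.Helper16.FTDim

variable {X Y : Scheme.{u}}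

section field

variable (k : Type u) [Field k] (q : X ⟶ Spec (CommRingCat.of k)) [LocallyOfFiniteType q]

theorem isDimFun_td : Cyc.IsDimFun X (fun x => (td q x : ℤ)) :=
  DimClosure.isDimFun_trdegFun k q

/-- every point has a maximal generization computing the dimension of its local ring. -/
theorem exists_maximal_td_eq (x : X) :
    ∃ ξ : X, (∀ ξ' : X, ξ' ⤳ ξ → ξ' = ξ) ∧ ξ ⤳ x ∧ ∃ m : ℕ,
      ringKrullDim (X.presheaf.stalk x) = (m : WithBot ℕ∞) ∧ td q ξ = td q x + m := by
  haveI : IsLocallyNoetherian X := LocallyOfFiniteType.isLocallyNoetherian q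
  obtain ⟨ξ, hmax, h, hdim⟩ := LocQuotLemmas.exists_maximal_locQuot_eq x
  obtain ⟨m, hm, hδ⟩ := LocQuotLemmas.delta_eq_add_locQuot _ (isDimFun_td k q) ξ x h
  refine ⟨ξ, hmax, h, m, ?_, ?_⟩
  · rw [← hdim, hm]
  · exact_mod_cast hδ

/-- the residue transcendence degree of a generization is bounded by the local ring. -/
theorem td_le_of_specializes (ξ x : X) (h : ξ ⤳ x) :
    (td q ξ : WithBot ℕ∞) ≤ (td q x : WithBot ℕ∞) + ringKrullDim (X.presheaf.stalk x) := by
  haveI : IsLocallyNoetherian X := LocallyOfFiniteType.isLocallyNoetherian q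
  obtain ⟨m, hm, hδ⟩ := LocQuotLemmas.delta_eq_add_locQuot _ (isDimFun_td k q) ξ x h
  have h1 : ringKrullDim (Cyc.LocQuot x ξ h) ≤ ringKrullDim (X.presheaf.stalk x) :=
    ringKrullDim_quotient_le _
  have h2 : td q ξ = td q x + m := by exact_mod_cast hδ
  rw [h2]
  push_cast
  rw [hm] at h1
  exact add_le_add_right h1 _

include k q in
/-- the local ring at a maximal point has dimension zero. -/
theorem ringKrullDim_stalk_of_maximal (ξ : X) (hmax : ∀ ξ' : X, ξ' ⤳ ξ → ξ' = ξ) :
    ringKrullDim (X.presheaf.stalk ξ) = 0 := by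
  obtain ⟨ξ', -, h, m, hm, htd⟩ := exists_maximal_td_eq k q ξ
  have := hmax ξ' h
  subst this
  have : m = 0 := by omega
  subst this
  rw [hm]
  rfl

/-- `dim O_{X,x} + trdeg κ(x)/k`, the local dimension, as the dimension of a component. -/
theorem exists_component_dim_eq (x : X) :
    ∃ Z ∈ irreducibleComponents X, x ∈ Z ∧ ∃ m : ℕ,
      ringKrullDim (X.presheaf.stalk x) = (m : WithBot ℕ∞) ∧
      topologicalKrullDim ↥Z = ((td q x + m : ℕ) : WithBot ℕ∞) := by
  obtain ⟨ξ, hmax, h, m, hm, htd⟩ := exists_maximal_td_eq k q x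
  refine ⟨closure {ξ}, UOpenAtDim.mem_genericPoints_of_maximal ξ hmax, h.mem_closure, m, hm, ?_⟩
  rw [dim_closure k q ξ, htd]

end field

end Groth.Agent.Helper16.FTFlat
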