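import Mathlib
import Groth.Agent.Lib.Helper16.Sch.FTDim7
import Groth.Agent.Lib.Helper14.EquidimAt

set_option autoImplicit false
universe u
open CategoryTheory CategoryTheory.Limits AlgebraicGeometry Opposite TopologicalSpace

noncomputable section

namespace Groth.Agent.Helper16.FTMisc

open Groth.Agent.Helper14 Groth.Agent.Helper16.FTDim

variable {X Y : Scheme.{u}}

theorem td_opens (f : X ⟶ Y) (U : X.Opens) (z : U) :
    td (U.ι ≫ f) z = td f (U.ι z) := by
  unfold td
  rw [EquidimAt.trdeg_opens]

theorem irreducibleSpace_opens [IrreducibleSpace X] (U : X.Opens) (hU : (U : Set X).Nonempty) :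
    IrreducibleSpace (U : Scheme.{u}) := by
  have h2 : IsIrreducible (U : Set X) :=
    ⟨hU, (IrreducibleSpace.isIrreducible_univ X).2.open_subset U.2 (Set.subset_univ _)⟩
  exact Subtype.irreducibleSpace h2

theorem genericPoint_opens [IrreducibleSpace X] (U : X.Opens) (hU : (U : Set X).Nonempty)
    [IrreducibleSpace (U : Scheme.{u})] :
    U.ι (genericPoint (U : Scheme.{u})) = genericPoint X := by
  have h := (genericPoint_spec (U : Scheme.{u})).image U.ι.continuous
  rw [Set.image_univ, Scheme.Opens.range_ι] at h
  have h3 : closure (U : Set X) = Set.univ := (U.2.dense hU).closure_eq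
  rw [h3] at h
  exact h.eq (genericPoint_spec X)

theorem main1618 (k : Type u) [Field k] (q : X ⟶ Spec (CommRingCat.of k))
    [LocallyOfFiniteType q] [IrreducibleSpace X]
    (U : X.Opens) (hU : (U : Set X).Nonempty) :
    topologicalKrullDim U = topologicalKrullDim X := by
  haveI : IrreducibleSpace (U : Scheme.{u}) := irreducibleSpace_opens U hU
  rw [dim_eq_td_genericPoint k q]
  have := dim_eq_td_genericPoint k (U.ι ≫ q)
  rw [td_opens, genericPoint_opens U hU] at this
  exact this

end Groth.Agent.Helper16.FTMisc
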