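import Mathlib
import Groth.Agent.Lib.Helper16.Sch.FTMisc1
import Groth.Agent.Lib.Helper16.Sch.FTDim10
import Groth.Agent.Lib.Helper16.Sch.FTDim8
import Groth.Agent.Lib.Helper16.Sch.FTDim6
import Groth.Agent.Lib.Helper16.Sch.FTFlat1
import Groth.Agent.Lib.Helper14.FibreConst

set_option autoImplicit false
set_option linter.style.haveILetI false
universe u
open CategoryTheory CategoryTheory.Limits AlgebraicGeometry Opposite TopologicalSpace

noncomputable section

namespace Groth.Agent.Helper16.FTMisc

open Groth.Agent.Helper14 Groth.Agent.Helper16.FTDim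

variable {X Y : Scheme.{u}}

theorem td_le_dim_univ (k : Type u) [Field k] (q : Y ⟶ Spec (CommRingCat.of k))
    [LocallyOfFiniteType q] (y : Y) : (td q y : WithBot ℕ∞) ≤ topologicalKrullDim Y := by
  rw [← dim_closure k q y]
  exact dim_subset_le _

theorem dim_le_of_forall_td (k : Type u) [Field k] (q : Y ⟶ Spec (CommRingCat.of k))
    [LocallyOfFiniteType q] (N : WithBot ℕ∞) (h : ∀ y : Y, (td q y : WithBot ℕ∞) ≤ N) :
    topologicalKrullDim Y ≤ N := by
  rw [← dim_univ]
  apply dim_le_of_forall_closure _ isClosed_univ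
  intro z _
  rw [dim_closure k q z]
  exact h z

theorem dim_eq_bot_of_isEmpty (T : Type*) [TopologicalSpace T] [IsEmpty T] :
    topologicalKrullDim T = ⊥ := by
  unfold topologicalKrullDim
  haveI : IsEmpty (IrreducibleCloseds T) :=
    ⟨fun Z => by obtain ⟨a, _⟩ := Z.isIrreducible.nonempty; exact isEmptyElim a⟩
  exact Order.krullDim_eq_bot

theorem main10841 (k : Type u) [Field k]
    (p : X ⟶ Spec (CommRingCat.of k)) (q : Y ⟶ Spec (CommRingCat.of k))
    [LocallyOfFiniteType p] [LocallyOfFiniteType q]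
    [IrreducibleSpace ↥X] (f : Y ⟶ X) (hf : f ≫ p = q)
    (hη : genericPoint ↥X ∈ Set.range f.base) :
    topologicalKrullDim ↥X ≤ topologicalKrullDim ↥Y := by
  subst hf
  haveI : LocallyOfFiniteType f := locallyOfFiniteType_of_comp f p
  obtain ⟨y, hy⟩ := hη
  have hy' : f y = genericPoint X := hy
  rw [dim_eq_td_genericPoint k p, ← hy']
  refine le_trans ?_ (td_le_dim_univ k (f ≫ p) y)
  rw [td_comp]
  exact_mod_cast Nat.le_add_right _ _

/-- generic fibre dimension bound gives a lower bound for the dimension of the source. -/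
theorem add_le_td_of_le_dim_fibre (k : Type u) [Field k] (q : Y ⟶ Spec (CommRingCat.of k))
    [LocallyOfFiniteType q] (f : X ⟶ Y) [LocallyOfFiniteType f] [QuasiCompact f] (r : ℕ)
    (hfib : ∀ η : Y, (∀ y : Y, y ⤳ η → y = η) →
      (r : WithBot ℕ∞) ≤ topologicalKrullDim (f.base ⁻¹' {η})) (y : Y) :
    ((td q y + r : ℕ) : WithBot ℕ∞) ≤ topologicalKrullDim X := by
  obtain ⟨η, hmax, hηy, m, -, htd⟩ := FTFlat.exists_maximal_td_eq k q y
  have h1 := hfib η hmax
  rw [← dim_fiber_eq] at h1
  have hne : ∃ x : X, f x = η := by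
    by_contra hcon
    push Not at hcon
    rw [FibreConst.dim_fiber_eq_bot f η hcon] at h1
    exact absurd h1 (by simp)
  obtain ⟨ζ, N, hfζ, hg, hdim, -⟩ := FibreConst.exists_isGen_dim_eq f η hne
  rw [hdim] at h1
  have hrN : r ≤ N := by exact_mod_cast h1
  have h2 : td f ζ = N := td_eq f ζ N hg.2
  have h3 := td_le_dim_univ k (f ≫ q) ζ
  rw [td_comp, hfζ] at h3
  refine le_trans ?_ h3
  exact_mod_cast (by omega : td q y + r ≤ td q η + td f ζ)

theorem main10885 (k : Type u) [Field k] (q : Y ⟶ Spec (CommRingCat.of k))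
    [LocallyOfFiniteType q] (f : X ⟶ Y) [LocallyOfFiniteType f] [QuasiCompact f] (r : ℕ)
    (hfib : ∀ η : Y, (∀ y : Y, y ⤳ η → y = η) →
      (r : WithBot ℕ∞) ≤ topologicalKrullDim (f.base ⁻¹' {η})) :
    (r : WithBot ℕ∞) + topologicalKrullDim Y ≤ topologicalKrullDim X := by
  have key := add_le_td_of_le_dim_fibre k q f r hfib
  rw [add_comm]
  generalize hD : topologicalKrullDim X = D at key ⊢
  induction D using WithBot.recBotCoe with
  | bot =>
    by_cases hY : Nonempty Y
    · obtain ⟨y⟩ := hY
      exact absurd (key y) (by simp)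
    · rw [not_nonempty_iff] at hY
      rw [dim_eq_bot_of_isEmpty Y]
      simp
  | coe D =>
    induction D using ENat.recTopCoe with
    | top => exact le_top
    | coe n =>
      rw [← dim_univ]
      apply dim_add_le_of_forall_closure _ isClosed_univ r n
      intro z _
      rw [dim_closure k q z]
      exact_mod_cast key z


theorem main10884 (k : Type u) [Field k] (q : Y ⟶ Spec (CommRingCat.of k))
    [LocallyOfFiniteType q] [QuasiCompact q]
    (f : X ⟶ Y) [LocallyOfFiniteType f] [QuasiCompact f] (hdom : DenseRange f.base) (r : ℕ)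
    (hfib : ∀ y : Y, (f.base ⁻¹' {y}).Nonempty → topologicalKrullDim (f.base ⁻¹' {y}) = r) :
    topologicalKrullDim X = (r : WithBot ℕ∞) + topologicalKrullDim Y := by
  apply le_antisymm
  · apply dim_le_of_forall_td k (f ≫ q)
    intro x
    rw [td_comp]
    push_cast
    rw [add_comm]
    refine add_le_add ?_ (td_le_dim_univ k q (f x))
    have h1 := td_le_dim f x x specializes_rfl (f x) rfl
    have h2 : topologicalKrullDim ↥(closure ({x} : Set X) ∩ f ⁻¹' {f x}) ≤
        topologicalKrullDim ↥(f.base ⁻¹' {f x}) := dim_mono Set.inter_subset_right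
    rw [hfib (f x) ⟨x, rfl⟩] at h2
    exact h1.trans h2
  · apply main10885 k q f r
    intro η hmax
    haveI : IsNoetherian X := isNoetherian_of_finiteType k (f ≫ q)
    have h1 := closure_image_subset_iUnion f f.continuous Set.univ isClosed_univ
    rw [Set.image_univ, hdom.closure_range] at h1
    have h2 := h1 (Set.mem_univ η)
    simp only [Set.mem_iUnion, Set.mem_univ, exists_const] at h2
    obtain ⟨c, hc⟩ := h2
    have hsp : f c ⤳ η := specializes_iff_mem_closure.mpr hc
    have hfc : f c = η := hmax _ hsp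
    rw [hfib η ⟨c, hfc⟩]

end Groth.Agent.Helper16.FTMisc
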