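import Mathlib
import Groth.Agent.Lib.Helper16.Sch.FTFlat1

set_option autoImplicit false
universe u
open CategoryTheory CategoryTheory.Limits AlgebraicGeometry Opposite TopologicalSpace Topology

noncomputable section

namespace Groth.Agent.Helper16.FTFlat

open Groth.Agent.Helper14 Groth.Agent.Helper16.FTDim

variable {X Y : Scheme.{u}}

/-- for a flat morphism, at a maximal point of a fibre the local rings of source and target have
the same dimension. -/
theorem stalk_dim_eq_of_maximal_of_flat (f : X ⟶ Y) [LocallyOfFiniteType f] [Flat f]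
    [IsLocallyNoetherian X] [IsLocallyNoetherian Y] (x : X)
    (hmax : ∀ x₁ : X, f x₁ = f x → x₁ ⤳ x → x₁ = x) :
    ringKrullDim (X.presheaf.stalk x) = ringKrullDim (Y.presheaf.stalk (f x)) := by
  have hι : f.fiberι (f x) (f.asFiber x) = x := f.fiberι_asFiber x
  have h := FlatRelDim.stalk_dim_flat f (f x) (f.asFiber x)
  have e1 : ringKrullDim (X.presheaf.stalk (f.fiberι (f x) (f.asFiber x))) =
      ringKrullDim (X.presheaf.stalk x) :=
    congrArg (fun a => ringKrullDim (X.presheaf.stalk a)) hι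
  have e2 : ringKrullDim (Y.presheaf.stalk (f (f.fiberι (f x) (f.asFiber x)))) =
      ringKrullDim (Y.presheaf.stalk (f x)) :=
    congrArg (fun a => ringKrullDim (Y.presheaf.stalk (f a))) hι
  rw [e1, e2] at h
  have hz : ∀ ζ' : f.fiber (f x), ζ' ⤳ f.asFiber x → ζ' = f.asFiber x := by
    apply FibreMax.maximal_of_fiberι
    rw [hι]
    exact hmax
  let κ := Y.residueField (f x)
  let g : f.fiber (f x) ⟶ Spec (CommRingCat.of κ) := f.fiberToSpecResidueField (f x)
  haveI : LocallyOfFiniteType g := by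
    show LocallyOfFiniteType (f.fiberToSpecResidueField (f x))
    exact MorphismProperty.pullback_snd _ _ inferInstance
  have h0 := ringKrullDim_stalk_of_maximal κ g (f.asFiber x) hz
  rw [h0, add_zero] at h
  exact h

/-- **dimension of components through a maximal point of a fibre of a flat morphism**. -/
theorem exists_components_dim_eq (k : Type u) [Field k] (qY : Y ⟶ Spec (CommRingCat.of k))
    [LocallyOfFiniteType qY] (f : X ⟶ Y) [LocallyOfFiniteType f] [Flat f] (x : X)
    (hmax : ∀ x₁ : X, f x₁ = f x → x₁ ⤳ x → x₁ = x) :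
    ∃ ZX ∈ irreducibleComponents X, x ∈ ZX ∧ ∃ ZY ∈ irreducibleComponents Y, f x ∈ ZY ∧
      topologicalKrullDim ↥ZX = topologicalKrullDim ↥ZY + (td f x : WithBot ℕ∞) := by
  haveI : IsLocallyNoetherian Y := LocallyOfFiniteType.isLocallyNoetherian qY
  haveI : IsLocallyNoetherian X := LocallyOfFiniteType.isLocallyNoetherian f
  obtain ⟨ZX, hZX, hxZX, m₁, hm₁, hdX⟩ := exists_component_dim_eq k (f ≫ qY) x
  obtain ⟨ZY, hZY, hyZY, m₂, hm₂, hdY⟩ := exists_component_dim_eq k qY (f x)
  refine ⟨ZX, hZX, hxZX, ZY, hZY, hyZY, ?_⟩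
  have hfl := stalk_dim_eq_of_maximal_of_flat f x hmax
  rw [hm₁, hm₂] at hfl
  have hmm : m₁ = m₂ := by exact_mod_cast hfl
  rw [hdX, hdY, td_comp, hmm]
  push_cast
  ring

end Groth.Agent.Helper16.FTFlat
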