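import Mathlib
import Groth.Agent.Lib.Helper16.Sch.FTFlat2
import Groth.Agent.Lib.Helper14.FibreConst

set_option autoImplicit false
universe u
open CategoryTheory CategoryTheory.Limits AlgebraicGeometry Opposite TopologicalSpace Topology

noncomputable section

namespace Groth.Agent.Helper16.FTFlat

open Groth.Agent.Helper14 Groth.Agent.Helper16.FTDim

variable {X Y : Scheme.{u}}

theorem main14404 (k : Type u) [Field k]
    (qX : X ⟶ Spec (CommRingCat.of k)) (qY : Y ⟶ Spec (CommRingCat.of k))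
    [LocallyOfFiniteType qX] [LocallyOfFiniteType qY]
    [IrreducibleSpace X] [IrreducibleSpace Y] (f : X ⟶ Y) (hf : f ≫ qY = qX) [Flat f] :
    topologicalKrullDim Y ≤ topologicalKrullDim X ∧
      ∀ (y : Y), ∀ Z ∈ irreducibleComponents (f.fiber y : Type u),
        topologicalKrullDim Z + topologicalKrullDim Y = topologicalKrullDim X := by
  subst hf
  have : LocallyOfFiniteType f := locallyOfFiniteType_of_comp f qY
  have key : ∀ x : X, (∀ x₁ : X, f x₁ = f x → x₁ ⤳ x → x₁ = x) →
      topologicalKrullDim X = topologicalKrullDim Y + (td f x : WithBot ℕ∞) := by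
    intro x hmax
    obtain ⟨ZX, hZX, -, ZY, hZY, -, hd⟩ := exists_components_dim_eq k qY f x hmax
    rw [irreducibleComponents_eq_singleton, Set.mem_singleton_iff] at hZX hZY
    subst hZX hZY
    rw [dim_univ, dim_univ] at hd
    exact hd
  constructor
  · obtain ⟨x₀⟩ := (inferInstance : Nonempty X)
    obtain ⟨ζ, n, -, -, hg, -⟩ := FibreConst.exists_isGen f x₀
    rw [key ζ hg.1]
    exact le_add_of_nonneg_right (by exact_mod_cast (Nat.zero_le _))
  · intro y Z hZ
    obtain ⟨z, n, hfz, hmax, hn, hdim⟩ := FibreMax.exists_of_mem_irreducibleComponents f y Z hZ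
    rw [key z hmax, hdim, td_eq f z n hn, add_comm]

end Groth.Agent.Helper16.FTFlat

namespace Groth.Agent.Helper16.FTFlat

open Groth.Agent.Helper14 Groth.Agent.Helper16.FTDim

variable {X Y : Scheme.{u}}

theorem maximal_of_mem_irreducibleComponents {T : Type*} [TopologicalSpace T] [T0Space T]
    (ξ : T) (hξ : closure ({ξ} : Set T) ∈ irreducibleComponents T) (x₁ : T) (h : x₁ ⤳ ξ) :
    x₁ = ξ := by
  have h1 : closure ({ξ} : Set T) ⊆ closure {x₁} :=
    closure_minimal (Set.singleton_subset_iff.mpr h.mem_closure) isClosed_closure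
  have h2 : closure ({x₁} : Set T) ⊆ closure {ξ} := hξ.2 isIrreducible_singleton.closure h1
  have h3 : ξ ⤳ x₁ := specializes_iff_mem_closure.mpr (h2 (subset_closure rfl))
  exact (h.antisymm h3).eq

theorem main_equidim (k : Type u) [Field k]
    (qX : X ⟶ Spec (CommRingCat.of k)) (qY : Y ⟶ Spec (CommRingCat.of k))
    [LocallyOfFiniteType qX] [LocallyOfFiniteType qY]
    (f : X ⟶ Y) (hf : f ≫ qY = qX) [Flat f] (d n : ℕ)
    (hY : ∀ Z ∈ irreducibleComponents (Y : Type u), topologicalKrullDim Z = (d : WithBot ℕ∞)) :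
    (∀ Z ∈ irreducibleComponents (X : Type u), topologicalKrullDim Z = ((d + n : ℕ) : WithBot ℕ∞)) ↔
      ∀ (y : Y), ∀ Z ∈ irreducibleComponents (f.fiber y : Type u),
        topologicalKrullDim Z = (n : WithBot ℕ∞) := by
  subst hf
  have : LocallyOfFiniteType f := locallyOfFiniteType_of_comp f qY
  constructor
  · intro hX y Z' hZ'
    obtain ⟨x, m, hfx, hmax, hm, hdim⟩ := FibreMax.exists_of_mem_irreducibleComponents f y Z' hZ'
    obtain ⟨ZX, hZX, -, ZY, hZY, -, hd⟩ := exists_components_dim_eq k qY f x hmax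
    rw [hX ZX hZX, hY ZY hZY, td_eq f x m hm] at hd
    have h1 : d + n = d + m := by exact_mod_cast hd
    have h2 : m = n := by omega
    rw [hdim, h2]
  · intro hfib Z hZ
    obtain ⟨ξ, hξ⟩ := QuasiSober.sober hZ.1 (isClosed_of_mem_irreducibleComponents Z hZ)
    have hξZ : closure ({ξ} : Set X) = Z := hξ.def
    subst hξZ
    have hmax : ∀ x₁ : X, f x₁ = f ξ → x₁ ⤳ ξ → x₁ = ξ :=
      fun x₁ _ h => maximal_of_mem_irreducibleComponents ξ hZ x₁ h
    obtain ⟨Z', hZ', hdim'⟩ := FibreMax.exists_irreducibleComponent_of_maximal f (f ξ) ξ rfl hmax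
      (td f ξ) (td_spec f ξ)
    rw [hfib (f ξ) Z' hZ'] at hdim'
    have hm : n = td f ξ := by exact_mod_cast hdim'
    obtain ⟨ZX, hZX, hξZX, ZY, hZY, -, hd⟩ := exists_components_dim_eq k qY f ξ hmax
    have h1 : closure ({ξ} : Set X) ⊆ ZX :=
      closure_minimal (Set.singleton_subset_iff.mpr hξZX)
        (isClosed_of_mem_irreducibleComponents ZX hZX)
    have h2 : ZX = closure ({ξ} : Set X) := le_antisymm (hZ.2 hZX.1 h1) h1
    subst h2
    rw [hd, hY ZY hZY, ← hm]
    push_cast
    rfl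

theorem main11322 (k : Type u) [Field k]
    (qX : X ⟶ Spec (CommRingCat.of k)) (qY : Y ⟶ Spec (CommRingCat.of k))
    [LocallyOfFiniteType qX] [LocallyOfFiniteType qY]
    [IrreducibleSpace ↥Y] (f : X ⟶ Y) (hf : f ≫ qY = qX) [Flat f] (n : ℕ) :
    (∀ Z : Set ↥X, Z ∈ irreducibleComponents ↥X →
        topologicalKrullDim ↥Z = topologicalKrullDim ↥Y + (n : WithBot ℕ∞)) ↔
      ∀ (y : Y) (Z : Set ↥(f.fiber y)), Z ∈ irreducibleComponents ↥(f.fiber y) →
        topologicalKrullDim ↥Z = (n : WithBot ℕ∞) := by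
  have hY := dim_eq_td_genericPoint k qY
  have hcomp : ∀ Z ∈ irreducibleComponents (Y : Type u),
      topologicalKrullDim Z = (td qY (genericPoint Y) : WithBot ℕ∞) := by
    intro Z hZ
    rw [irreducibleComponents_eq_singleton, Set.mem_singleton_iff] at hZ
    subst hZ
    rw [dim_univ, hY]
  have h := main_equidim k qX qY f hf (td qY (genericPoint Y)) n hcomp
  rw [hY]
  push_cast at h
  exact h

end Groth.Agent.Helper16.FTFlat
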