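import Mathlib
import Groth.Agent.Lib.Helper16.Sch.FTFlat3
import Groth.Agent.Lib.Helper14.FibreDimBC
import Groth.Agent.Lib.Helper14.FieldBCComp

set_option autoImplicit false
universe u
open CategoryTheory CategoryTheory.Limits AlgebraicGeometry Opposite TopologicalSpace Topology

noncomputable section

namespace Groth.Agent.Helper16.FTFlat

open Groth.Agent.Helper14 Groth.Agent.Helper16.FTDim

variable {X Y Y' : Scheme.{u}}

/-- dimension of a subset of a subspace, computed in the ambient space. -/
theorem dim_val_image {S : Type*} [TopologicalSpace S] {A : Set S} (W : Set ↥A) :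
    topologicalKrullDim ↥W = topologicalKrullDim ↥(Subtype.val '' W : Set S) := by
  apply le_antisymm
  · refine Groth.Agent.Helper9.TopDim.dim_le_of_range_subset
      (Groth.Agent.Helper9.TopDim.isInducing_val_val W) IsInducing.subtypeVal ?_
    rw [Groth.Agent.Helper9.TopDim.range_val_val, Subtype.range_coe]
  · refine Groth.Agent.Helper9.TopDim.dim_le_of_range_subset
      IsInducing.subtypeVal (Groth.Agent.Helper9.TopDim.isInducing_val_val W) ?_
    rw [Groth.Agent.Helper9.TopDim.range_val_val, Subtype.range_coe]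

theorem main10941 (k : Type u) [Field k]
    (qX : X ⟶ Spec (CommRingCat.of k)) (qY : Y ⟶ Spec (CommRingCat.of k))
    (qY' : Y' ⟶ Spec (CommRingCat.of k))
    [LocallyOfFiniteType qX] [LocallyOfFiniteType qY] [LocallyOfFiniteType qY']
    [IrreducibleSpace ↥Y] (f : X ⟶ Y) (hf : f ≫ qY = qX) [Flat f] (n : ℕ)
    (hX : ∀ Z : Set ↥X, Z ∈ irreducibleComponents ↥X →
      topologicalKrullDim ↥Z = topologicalKrullDim ↥Y + (n : WithBot ℕ∞))
    (g : Y' ⟶ Y)
    (V : Set ↥Y') (hV : IsClosed V) (hVirr : IsIrreducible V)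
    (A : Set ↥(pullback f g)) (hA : A = (pullback.snd f g).base ⁻¹' V)
    (W : Set ↥A) (hW : W ∈ irreducibleComponents ↥A) :
    topologicalKrullDim ↥W = topologicalKrullDim ↥V + (n : WithBot ℕ∞) := by
  have hfib := (main11322 k qX qY f hf n).mp hX
  subst hf
  have : LocallyOfFiniteType f := locallyOfFiniteType_of_comp f qY
  set f' := pullback.snd f g with hf'
  have hsq : IsPullback (pullback.fst f g) f' f g := IsPullback.of_hasPullback f g
  have hAcl : IsClosed A := by rw [hA]; exact hV.preimage f'.continuous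
  have hAmem : ∀ z : ↥(pullback f g), z ∈ A ↔ f' z ∈ V := by
    intro z; rw [hA]; rfl
  haveI : QuasiSober ↥A := hAcl.isClosedEmbedding_subtypeVal.quasiSober
  obtain ⟨w₀, hw₀, hw₀max⟩ := FieldBCComp.exists_maximal_of_mem_irreducibleComponents W hW
  set w : ↥(pullback f g) := w₀.1 with hw
  have hwA : w ∈ A := w₀.2
  -- the image of `W` is the closure of `w`
  have himg : Subtype.val '' W = closure ({w} : Set ↥(pullback f g)) := by
    rw [← hw₀.def, ← hAcl.isClosedEmbedding_subtypeVal.closure_image_eq, Set.image_singleton]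
  -- `w` is maximal in `A`
  have hwmax : ∀ z : ↥(pullback f g), z ∈ A → z ⤳ w → z = w := by
    intro z hz hzw
    have h1 : (⟨z, hz⟩ : ↥A) ⤳ w₀ := (subtype_specializes_iff _ _).mpr hzw
    exact congrArg Subtype.val (hw₀max _ h1)
  -- the generic point of `V`
  obtain ⟨v, hv⟩ := QuasiSober.sober hVirr hV
  have hvV : closure ({v} : Set Y') = V := hv.def
  have h1 : v ⤳ f' w := by
    apply specializes_iff_mem_closure.mpr
    rw [hvV]
    exact (hAmem w).mp hwA
  obtain ⟨w', hw'w, hw'v⟩ := (Flat.generalizingMap (f := f')) h1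
  have hw'A : w' ∈ A := by
    rw [hAmem]
    rw [hw'v, ← hvV]
    exact subset_closure rfl
  have hw'eq := hwmax w' hw'A hw'w
  rw [hw'eq] at hw'v
  -- `w` is maximal in its fibre
  have hmaxfib : ∀ w₁ : ↥(pullback f g), f' w₁ = f' w → w₁ ⤳ w → w₁ = w := by
    intro w₁ h2 h3
    refine hwmax w₁ ?_ h3
    rw [hAmem, h2]
    exact (hAmem w).mp hwA
  have htd1 := FibreDimBC.trdeg_eq_of_maximal hsq w hmaxfib
  have hmax' := FibreDimBC.maximal_map hsq w hmaxfib
  obtain ⟨Z, hZ, hdimZ⟩ := FibreMax.exists_irreducibleComponent_of_maximal f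
    (f (pullback.fst f g w)) (pullback.fst f g w) rfl hmax' (td f (pullback.fst f g w))
    (td_spec f _)
  rw [hfib _ Z hZ] at hdimZ
  have hn : n = td f (pullback.fst f g w) := by exact_mod_cast hdimZ
  have htd2 : td f' w = n := by
    apply td_eq
    rw [htd1, td_spec f, hn]
  rw [dim_val_image W, himg, dim_closure k (f' ≫ qY') w, td_comp, htd2, hw'v, ← hvV,
    dim_closure k qY' v]
  push_cast
  rfl

end Groth.Agent.Helper16.FTFlat
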