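import Mathlib
import Groth.Agent.Lib.Helper16.Sch.FTMisc2
import Groth.Agent.Lib.Helper16.Sch.FTFlat4
import Groth.Agent.Lib.Helper14.ConstrNhds

set_option autoImplicit false
set_option linter.style.haveILetI false
universe u
open CategoryTheory CategoryTheory.Limits AlgebraicGeometry Opposite TopologicalSpace Topology

noncomputable section

namespace Groth.Agent.Helper16.FTSub

open Groth.Agent.Helper14 Groth.Agent.Helper16 Groth.Agent.Helper16.FTDim
open Groth.Agent.Helper16.FTFlat Groth.Agent.Helper16.FTMisc

variable {X : Scheme.{u}} (k : Type u) [Field k] (q : X ⟶ Spec (CommRingCat.of k))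
  [LocallyOfFiniteType q]

theorem val_image_closure {S : Type*} [TopologicalSpace S] (A : Set S) (y : S) (hy : y ∈ A) :
    (Subtype.val '' (closure ({⟨y, hy⟩} : Set ↥A)) : Set S) = A ∩ closure {y} := by
  ext z
  constructor
  · rintro ⟨w, hw, rfl⟩
    refine ⟨w.2, ?_⟩
    have := closure_subtype.mp hw
    rwa [Set.image_singleton] at this
  · rintro ⟨hzA, hz⟩
    refine ⟨⟨z, hzA⟩, ?_, rfl⟩
    rw [closure_subtype, Set.image_singleton]
    exact hz

/-- the dimension of the trace on an open neighbourhood of the closure of a point. -/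
theorem dim_inter_closure (U : X.Opens) (y : X) (hy : y ∈ U) :
    topologicalKrullDim ↥((U : Set X) ∩ closure ({y} : Set X)) = (td q y : WithBot ℕ∞) := by
  have h1 := dim_closure k (U.ι ≫ q) (⟨y, hy⟩ : U)
  rw [td_opens] at h1
  rw [← val_image_closure (U : Set X) y hy, ← dim_val_image]
  exact h1

/-- a point of a locally constructible subset has transcendence degree at most the dimension
of the subset. -/
theorem td_le_dim_of_isLocallyConstructible (Z : Set X) (hZ : IsLocallyConstructible Z) (z : X)
    (hz : z ∈ Z) : (td q z : WithBot ℕ∞) ≤ topologicalKrullDim ↥Z := by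
  haveI : IsLocallyNoetherian X := LocallyOfFiniteType.isLocallyNoetherian q
  have hs : IsLocallyConstructible (Z ∪ (closure ({z} : Set X))ᶜ) := by
    refine hZ.union ?_
    have := ConstrNhds.isLocallyConstructible_of_isOpen_inter_isClosed (X := X)
      (A := (closure ({z} : Set X))ᶜ) (B := Set.univ) isClosed_closure.isOpen_compl isClosed_univ
    rwa [Set.inter_univ] at this
  have hn := ConstrNhds.mem_nhds_of_isLocallyConstructible hs z (fun η hη => by
    by_cases h : η ∈ closure ({z} : Set X)
    · have h1 : z ⤳ η := specializes_iff_mem_closure.mpr h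
      have h2 : η = z := (hη.antisymm h1).eq
      left
      rw [h2]
      exact hz
    · right
      exact h)
  obtain ⟨U, hUs, hUo, hzU⟩ := mem_nhds_iff.mp hn
  have hsub : U ∩ closure ({z} : Set X) ⊆ Z := by
    rintro w ⟨hwU, hwc⟩
    rcases hUs hwU with h | h
    · exact h
    · exact absurd hwc h
  rw [← dim_inter_closure k q ⟨U, hUo⟩ z hzU]
  exact dim_mono hsub

theorem isLocallyConstructible_of_isLocallyClosed [IsLocallyNoetherian X] (Z : Set X)
    (hZ : IsLocallyClosed Z) : IsLocallyConstructible Z := by
  obtain ⟨U, C, hU, hC, rfl⟩ := hZ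
  exact ConstrNhds.isLocallyConstructible_of_isOpen_inter_isClosed hU hC

theorem td_le_dim_of_isLocallyClosed (Z : Set X) (hZ : IsLocallyClosed Z) (z : X)
    (hz : z ∈ Z) : (td q z : WithBot ℕ∞) ≤ topologicalKrullDim ↥Z := by
  haveI : IsLocallyNoetherian X := LocallyOfFiniteType.isLocallyNoetherian q
  exact td_le_dim_of_isLocallyConstructible k q Z (isLocallyConstructible_of_isLocallyClosed Z hZ)
    z hz

/-- the dimension of a locally closed subset is bounded by the transcendence degrees of its
points. -/
theorem dim_le_of_forall_td_of_isLocallyClosed (Z : Set X) (hZ : IsLocallyClosed Z)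
    (N : WithBot ℕ∞) (h : ∀ z ∈ Z, (td q z : WithBot ℕ∞) ≤ N) :
    topologicalKrullDim ↥Z ≤ N := by
  obtain ⟨U, C, hU, hC, rfl⟩ := hZ
  let U' : X.Opens := ⟨U, hU⟩
  let A : Set ↥U' := Subtype.val ⁻¹' C
  have hA : IsClosed A := hC.preimage continuous_subtype_val
  have himg : (Subtype.val '' A : Set X) = U ∩ C := by
    show Subtype.val '' (Subtype.val ⁻¹' C : Set ↥U) = U ∩ C
    rw [Subtype.image_preimage_coe]
  rw [← himg, ← dim_val_image]
  haveI : QuasiSober ↥U' := hU.isOpenEmbedding_subtypeVal.quasiSober
  refine dim_le_of_forall_closure (S := ↥U') A hA N (fun z hzA => ?_)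
  have h1 := dim_closure k (U'.ι ≫ q) z
  rw [td_opens] at h1
  refine le_trans (le_of_eq h1) ?_
  exact h _ ⟨z.2, hzA⟩

end Groth.Agent.Helper16.FTSub
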