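import Mathlib
import Groth.Agent.Lib.Helper16.Sch.FTDim1
import Groth.Agent.Lib.Helper14.PointwiseDim
import Groth.Agent.Lib.Helper14.FibreMax
import Groth.Agent.Lib.Helper14.DimFormulaSch
import Groth.Agent.Lib.Helper14.LocalDimSch
import Groth.Agent.Lib.Helper14.SectionComp

set_option autoImplicit false
set_option linter.style.haveILetI false
universe u
open CategoryTheory CategoryTheory.Limits AlgebraicGeometry Opposite TopologicalSpace Topology

noncomputable section

namespace Groth.Agent.Helper16.DimOneBase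

open Groth.Agent.Helper14 Groth.Agent.Helper16 Groth.Agent.Helper16.FTDim

variable {X Y : Scheme.{u}}

/-- the image of the generic point under a dominant morphism. -/
theorem map_genericPoint_of_denseRange [IrreducibleSpace X] [IrreducibleSpace Y] (f : X ⟶ Y)
    (hf : DenseRange f.base) : f (genericPoint X) = genericPoint Y := by
  have h := (genericPoint_spec X).image f.continuous
  rw [Set.image_univ, hf.closure_range] at h
  exact h.eq (genericPoint_spec Y)

/-- the local ring of the closure of `ξ` at a proper specialization has positive dimension. -/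
theorem one_le_dim_locQuot (x ξ : X) (h : ξ ⤳ x) (hne : x ≠ ξ) :
    (1 : WithBot ℕ∞) ≤ ringKrullDim (Cyc.LocQuot x ξ h) := by
  obtain ⟨U, hU, hxU, -⟩ := exists_isAffineOpen_mem_and_subset (x := x)
    (U := (⊤ : X.Opens)) trivial
  have hξU : ξ ∈ U := h.mem_open U.isOpen hxU
  rw [LocQuotDim.ringKrullDim_locQuot hU x ξ hxU hξU h]
  set q := hU.primeIdealOf ⟨x, hxU⟩ with hq
  set q₀ := hU.primeIdealOf ⟨ξ, hξU⟩ with hq₀
  have hle : q₀ ≤ q := by
    rw [← ResFieldBridge.specializes_fromSpec_iff hU, hU.fromSpec_primeIdealOf ⟨ξ, hξU⟩,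
      hU.fromSpec_primeIdealOf ⟨x, hxU⟩]
    exact h
  have hne' : q₀ ≠ q := by
    intro heq
    apply hne
    have h1 := hU.fromSpec_primeIdealOf ⟨x, hxU⟩
    have h2 := hU.fromSpec_primeIdealOf ⟨ξ, hξU⟩
    rw [← hq] at h1
    rw [← hq₀, heq] at h2
    exact h1.symm.trans h2
  have hlt : q₀.asIdeal < q.asIdeal := lt_of_le_of_ne hle (fun h => hne' (PrimeSpectrum.ext h))
  haveI : q₀.asIdeal.IsPrime := q₀.isPrime
  haveI hP : (q.asIdeal.map (Ideal.Quotient.mk q₀.asIdeal)).IsPrime :=
    Ideal.map_isPrime_of_surjective Ideal.Quotient.mk_surjective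
      (by rw [Ideal.mk_ker]; exact hle)
  have hnz : q.asIdeal.map (Ideal.Quotient.mk q₀.asIdeal) ≠ ⊥ := by
    intro hbot
    obtain ⟨a, haq, haq₀⟩ := Set.exists_of_ssubset hlt
    have : Ideal.Quotient.mk q₀.asIdeal a ∈ q.asIdeal.map (Ideal.Quotient.mk q₀.asIdeal) :=
      Ideal.mem_map_of_mem _ haq
    rw [hbot, Ideal.mem_bot, Ideal.Quotient.eq_zero_iff_mem] at this
    exact haq₀ this
  have h1 : (1 : ℕ∞) ≤ (q.asIdeal.map (Ideal.Quotient.mk q₀.asIdeal)).height := by
    rw [Order.one_le_iff_ne_zero]
    intro h0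
    rw [Ideal.height_eq_zero_iff, IsDomain.minimalPrimes_eq_singleton_bot,
      Set.mem_singleton_iff] at h0
    exact hnz h0
  exact_mod_cast h1


theorem dim_locQuot_le_dim (y η : Y) (h : η ⤳ y) :
    ringKrullDim (Cyc.LocQuot y η h) ≤ topologicalKrullDim Y := by
  refine (ringKrullDim_quotient_le _).trans ?_
  rw [LocalDimSch.dim_eq_iSup_stalk]
  exact le_iSup (fun y : Y => ringKrullDim (Y.presheaf.stalk y)) y

theorem main4702 (f : X ⟶ Y) [IsLocallyNoetherian Y]
    [IrreducibleSpace Y] [IrreducibleSpace X] (hY : topologicalKrullDim Y = 1)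
    [LocallyOfFiniteType f] (hf : DenseRange f.base) (y : Y)
    (Z : Set ↥(f.fiber y)) (hZ : Z ∈ irreducibleComponents ↥(f.fiber y)) :
    topologicalKrullDim Z = topologicalKrullDim ↥(f.fiber (genericPoint Y)) := by
  have hgen := map_genericPoint_of_denseRange f hf
  have hE := DimFormulaSch.dim_genericFibre_eq f (td f (genericPoint X)) (td_spec f _)
  rw [hgen] at hE
  rw [hE]
  obtain ⟨z, n, hfz, hmax, hn, hdim⟩ := FibreMax.exists_of_mem_irreducibleComponents f y Z hZ
  rw [hdim]
  have hsp : genericPoint X ⤳ z := genericPoint_specializes z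
  -- lower bound
  have h1 := SectionComp.fibreDimAt_le_of_specializes f (genericPoint X) z hsp
  have h2 := EquidimAt.trdeg_le_fibreDimAt f (genericPoint X) (genericPoint X) specializes_rfl
    (td f (genericPoint X)) (td_spec f _)
  rw [FibreMax.fibreDimAt_eq_of_maximal f z hmax n hn] at h1
  have hge : td f (genericPoint X) ≤ n := by exact_mod_cast h2.trans h1
  -- upper bound
  have hle : n ≤ td f (genericPoint X) := by
    by_cases hzξ : z = genericPoint X
    · subst hzξ
      have : td f (genericPoint X) = n := td_eq f _ n hn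
      omega
    · have key := (PointwiseDim.formula_aux f z (genericPoint X) hsp n (td f (genericPoint X)) hn
        (td_spec f _)).1
      have ha := one_le_dim_locQuot z (genericPoint X) hsp hzξ
      have hb := dim_locQuot_le_dim (f z) (f (genericPoint X)) (hsp.map f.continuous)
      rw [hY] at hb
      have h3 : (1 : WithBot ℕ∞) + (n : WithBot ℕ∞) ≤
          1 + ((td f (genericPoint X) : ℕ) : WithBot ℕ∞) :=
        (add_le_add_left ha _).trans (key.trans (add_le_add_left hb _))
      have h4 : ((1 + n : ℕ) : WithBot ℕ∞) ≤ ((1 + td f (genericPoint X) : ℕ) : WithBot ℕ∞) := by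
        push_cast
        exact h3
      have h5 : 1 + n ≤ 1 + td f (genericPoint X) := by exact_mod_cast h4
      omega
  have : n = td f (genericPoint X) := le_antisymm hle hge
  rw [this]

end Groth.Agent.Helper16.DimOneBase
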