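import Mathlib
import Groth.Agent.Lib.Helper16.Sch.FTFlat1
import Groth.Agent.Lib.Helper14.LocQuotLemmas
import Groth.Agent.Lib.Helper14.LocQuotDim
import Groth.Agent.Lib.Helper14.ResFieldBridge

set_option autoImplicit false
set_option linter.style.haveILetI false
universe u
open CategoryTheory CategoryTheory.Limits AlgebraicGeometry Opposite TopologicalSpace

noncomputable section

namespace Groth.Agent.Helper16.PITSch

open Groth.Agent.Helper14 Groth.Agent.Helper16.FTDim

variable {X : Scheme.{u}}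

/-- membership in a basic open in terms of the prime of an affine chart. -/
theorem mem_basicOpen_iff {U : X.Opens} (hU : IsAffineOpen U) (f : Γ(X, U)) (z : X) (hz : z ∈ U) :
    z ∈ X.basicOpen f ↔ f ∉ (hU.primeIdealOf ⟨z, hz⟩).asIdeal := by
  have h1 : hU.fromSpec (hU.primeIdealOf ⟨z, hz⟩) = z := hU.fromSpec_primeIdealOf ⟨z, hz⟩
  have h3 : ((hU.fromSpec ⁻¹ᵁ X.basicOpen f : (Spec Γ(X, U)).Opens) : Set (Spec Γ(X, U))) =
      ((PrimeSpectrum.basicOpen f : Opens (PrimeSpectrum Γ(X, U))) : Set (PrimeSpectrum Γ(X, U))) :=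
    congrArg (fun V : (Spec Γ(X, U)).Opens => (V : Set (Spec Γ(X, U))))
      (hU.fromSpec_preimage_basicOpen f)
  have h2 : hU.primeIdealOf ⟨z, hz⟩ ∈
      ((hU.fromSpec ⁻¹ᵁ X.basicOpen f : (Spec Γ(X, U)).Opens) : Set (Spec Γ(X, U))) ↔
      f ∉ (hU.primeIdealOf ⟨z, hz⟩).asIdeal := by
    rw [h3]
    exact PrimeSpectrum.mem_basicOpen _ _
  rw [← h2]
  show z ∈ X.basicOpen f ↔ hU.fromSpec (hU.primeIdealOf ⟨z, hz⟩) ∈ X.basicOpen f
  rw [h1]

/-- **Krull's height theorem** on a scheme locally of finite type over a field: a maximal point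
`ζ` of `closure {ξ} ∩ V(s)` has transcendence degree at least `td ξ - |s|`. -/
theorem td_le_td_add_card (k : Type u) [Field k] (q : X ⟶ Spec (CommRingCat.of k))
    [LocallyOfFiniteType q] {U : X.Opens} (hU : IsAffineOpen U) (s : Finset Γ(X, U))
    (ξ ζ : X) (hζU : ζ ∈ U) (h : ξ ⤳ ζ)
    (hζs : ∀ f ∈ s, ζ ∉ X.basicOpen f)
    (hmax : ∀ z : X, ξ ⤳ z → z ⤳ ζ → (∀ f ∈ s, z ∉ X.basicOpen f) → z = ζ) :
    td q ξ ≤ td q ζ + s.card := by
  classical
  haveI : IsLocallyNoetherian X := LocallyOfFiniteType.isLocallyNoetherian q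
  have hξU : ξ ∈ U := h.mem_open U.isOpen hζU
  haveI : IsNoetherianRing Γ(X, U) := IsLocallyNoetherian.component_noetherian ⟨U, hU⟩
  obtain ⟨m, hm, hδ⟩ := LocQuotLemmas.delta_eq_add_locQuot _ (FTFlat.isDimFun_td k q) ξ ζ h
  have htd : td q ξ = td q ζ + m := by exact_mod_cast hδ
  rw [LocQuotDim.ringKrullDim_locQuot hU ζ ξ hζU hξU h] at hm
  set qζ := hU.primeIdealOf ⟨ζ, hζU⟩ with hqζ
  set qξ := hU.primeIdealOf ⟨ξ, hξU⟩ with hqξ
  have e1 : hU.fromSpec qξ = ξ := hU.fromSpec_primeIdealOf ⟨ξ, hξU⟩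
  have e2 : hU.fromSpec qζ = ζ := hU.fromSpec_primeIdealOf ⟨ζ, hζU⟩
  have hle : qξ ≤ qζ := by
    rw [← ResFieldBridge.specializes_fromSpec_iff hU, e1, e2]
    exact h
  haveI : qξ.asIdeal.IsPrime := qξ.isPrime
  let mk := Ideal.Quotient.mk qξ.asIdeal
  have hker : RingHom.ker mk ≤ qζ.asIdeal := by rw [Ideal.mk_ker]; exact hle
  haveI hP : (qζ.asIdeal.map mk).IsPrime :=
    Ideal.map_isPrime_of_surjective Ideal.Quotient.mk_surjective hker
  have hmin : qζ.asIdeal.map mk ∈ (Ideal.span ((s.image mk : Finset _) : Set _)).minimalPrimes := by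
    refine ⟨⟨hP, ?_⟩, ?_⟩
    · rw [Ideal.span_le]
      intro b hb
      rw [Finset.coe_image] at hb
      obtain ⟨f, hf, rfl⟩ := hb
      apply Ideal.mem_map_of_mem
      have := hζs f hf
      rw [mem_basicOpen_iff hU f ζ hζU, not_not] at this
      exact this
    · rintro P' ⟨hP'prime, hP'⟩ hP'le
      haveI := hP'prime
      let Q' : PrimeSpectrum Γ(X, U) := ⟨P'.comap mk, Ideal.comap_isPrime mk P'⟩
      have hQ'ζ : Q' ≤ qζ := by
        show P'.comap mk ≤ qζ.asIdeal
        have := Ideal.comap_mono (f := mk) hP'le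
        rw [Ideal.comap_map_of_surjective mk Ideal.Quotient.mk_surjective,
          ← RingHom.ker_eq_comap_bot, sup_eq_left.mpr hker] at this
        exact this
      have hξQ' : qξ ≤ Q' := by
        show qξ.asIdeal ≤ P'.comap mk
        intro a ha
        show mk a ∈ P'
        rw [(Ideal.Quotient.eq_zero_iff_mem).mpr ha]
        exact P'.zero_mem
      have hz : hU.fromSpec Q' = ζ := by
        apply hmax
        · have := (ResFieldBridge.specializes_fromSpec_iff hU qξ Q').mpr hξQ'
          rwa [e1] at this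
        · have := (ResFieldBridge.specializes_fromSpec_iff hU Q' qζ).mpr hQ'ζ
          rwa [e2] at this
        · intro f hf
          have hmem : hU.fromSpec Q' ∈ U := by
            have : hU.fromSpec Q' ∈ Set.range hU.fromSpec := ⟨Q', rfl⟩
            rw [hU.range_fromSpec] at this
            exact this
          rw [mem_basicOpen_iff hU f _ hmem, not_not]
          have hQ'eq : hU.primeIdealOf ⟨hU.fromSpec Q', hmem⟩ = Q' := by
            apply hU.fromSpec.isOpenEmbedding.injective
            rw [hU.fromSpec_primeIdealOf]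
          rw [hQ'eq]
          show mk f ∈ P'
          apply hP'
          apply Ideal.subset_span
          rw [Finset.coe_image]
          exact ⟨f, hf, rfl⟩
      have hQ'eq : Q' = qζ := by
        apply hU.fromSpec.isOpenEmbedding.injective
        rw [hz, e2]
      have : qζ.asIdeal.map mk = P' := by
        rw [← hQ'eq]
        exact Ideal.map_comap_of_surjective mk Ideal.Quotient.mk_surjective P'
      rw [this]
  have hht := Ideal.height_le_card_of_mem_minimalPrimes_span_finset hmin
  have hcard : ((s.image mk).card : ℕ∞) ≤ s.card := by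
    exact_mod_cast Finset.card_image_le
  have hm' : (m : ℕ∞) ≤ s.card := by
    have h1 : ((qζ.asIdeal.map mk).height : WithBot ℕ∞) = (m : WithBot ℕ∞) := hm
    have h2 : (qζ.asIdeal.map mk).height = (m : ℕ∞) := by exact_mod_cast h1
    rw [← h2]
    exact hht.trans hcard
  have : m ≤ s.card := by exact_mod_cast hm'
  omega

end Groth.Agent.Helper16.PITSch
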