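import Mathlib
import Groth.Agent.Lib.Helper16.Sch.PITSch1
import Groth.Agent.Lib.Helper16.Sch.FTMisc2
import Groth.Agent.Lib.Helper16.Sch.DimOneBase
import Groth.Agent.Lib.Helper14.UOpenAtDim

set_option autoImplicit false
set_option linter.style.haveILetI false
universe u
open CategoryTheory CategoryTheory.Limits AlgebraicGeometry Opposite TopologicalSpace

noncomputable section

namespace Groth.Agent.Helper16.PITSch

open Groth.Agent.Helper14 Groth.Agent.Helper16.FTDim

variable {X : Scheme.{u}}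

/-- in a quasi-sober `T0` space, every point of a closed set has a generization in that set
which is maximal there. -/
theorem exists_maximal_generization_mem {T : Type*} [TopologicalSpace T] [QuasiSober T] [T0Space T]
    (F : Set T) (hF : IsClosed F) (y : T) (hy : y ∈ F) :
    ∃ ζ ∈ F, ζ ⤳ y ∧ ∀ z ∈ F, z ⤳ ζ → z = ζ := by
  let yF : F := ⟨y, hy⟩
  haveI : QuasiSober F := hF.isClosedEmbedding_subtypeVal.quasiSober
  obtain ⟨g, hg⟩ := QuasiSober.sober (isIrreducible_irreducibleComponent (x := yF))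
    isClosed_irreducibleComponent
  have hgy : g ⤳ yF := hg.specializes mem_irreducibleComponent
  refine ⟨g.1, g.2, hgy.map continuous_subtype_val, ?_⟩
  intro z hz hzg
  let zF : F := ⟨z, hz⟩
  have hzg' : zF ⤳ g := Topology.IsInducing.subtypeVal.specializes_iff.mp hzg
  have hsub : irreducibleComponent yF ⊆ closure {zF} := by
    rw [← hg.def]
    exact closure_minimal (Set.singleton_subset_iff.mpr hzg'.mem_closure) isClosed_closure
  have heq : closure {zF} = irreducibleComponent yF :=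
    eq_irreducibleComponent isIrreducible_singleton.closure.isPreirreducible hsub
  have hzgen : IsGenericPoint zF (irreducibleComponent yF) := heq
  have : zF = g := hzgen.eq hg
  exact congrArg Subtype.val this

/-- in a locally Noetherian scheme, a closed set containing a maximal point has nonempty
interior. -/
theorem interior_nonempty_of_maximal_mem [IsLocallyNoetherian X] (Y : Set X) (hY : IsClosed Y)
    (ξ : X) (hmax : ∀ ξ' : X, ξ' ⤳ ξ → ξ' = ξ) (hξ : ξ ∈ Y) : (interior Y).Nonempty := by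
  obtain ⟨U, hU, hξU, -⟩ := exists_isAffineOpen_mem_and_subset (x := ξ)
    (U := (⊤ : X.Opens)) trivial
  haveI : IsNoetherianRing Γ(X, U) := IsLocallyNoetherian.component_noetherian ⟨U, hU⟩
  haveI : NoetherianSpace U := noetherianSpace_of_isAffineOpen U hU
  let ξU : U := ⟨ξ, hξU⟩
  have hmaxU : ∀ g' : U, g' ⤳ ξU → g' = ξU := by
    intro g' hg'
    apply Subtype.ext
    exact hmax g'.1 (hg'.map continuous_subtype_val)
  have hcomp : closure {ξU} ∈ irreducibleComponents U :=
    @UOpenAtDim.mem_genericPoints_of_maximal U _ (U.2.isOpenEmbedding_subtypeVal.quasiSober)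
      ξU hmaxU
  obtain ⟨o, ho, hone, hoZ⟩ :=
    NoetherianSpace.exists_isOpen_nonempty_subset_irreducibleComponent _ hcomp
  obtain ⟨z, hz⟩ := hone
  refine ⟨z.1, ?_⟩
  rw [mem_interior]
  refine ⟨Subtype.val '' o, ?_, U.2.isOpenMap_subtype_val o ho, ⟨z, hz, rfl⟩⟩
  rintro _ ⟨w, hw, rfl⟩
  have h1 : ξU ⤳ w := specializes_iff_mem_closure.mpr (hoZ hw)
  have h2 : ξ ⤳ w.1 := h1.map continuous_subtype_val
  exact h2.mem_closed hY hξ

theorem basicOpen_res_top (f : Γ(X, ⊤)) (U : X.Opens) :
    X.basicOpen (X.presheaf.map (homOfLE (le_top : U ≤ ⊤)).op f) = U ⊓ X.basicOpen f :=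
  Scheme.basicOpen_res _ _ _

/-- Krull's principal ideal theorem for a global function on a scheme locally of finite type
over a field. -/
theorem exists_td_succ_eq (k : Type u) [Field k] (q : X ⟶ Spec (CommRingCat.of k))
    [LocallyOfFiniteType q] (f : Γ(X, ⊤)) (ξ y : X) (h : ξ ⤳ y)
    (hξ : ξ ∈ X.basicOpen f) (hy : y ∉ X.basicOpen f) :
    ∃ ζ : X, ξ ⤳ ζ ∧ ζ ⤳ y ∧ ζ ∉ X.basicOpen f ∧ td q ζ + 1 = td q ξ := by
  haveI : IsLocallyNoetherian X := LocallyOfFiniteType.isLocallyNoetherian q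
  -- a maximal point of `closure {ξ} ∩ V(f)` above `y`
  let F : Set X := closure {ξ} ∩ (X.basicOpen f : Set X)ᶜ
  have hF : IsClosed F := isClosed_closure.inter (X.basicOpen f).2.isClosed_compl
  have hyF : y ∈ F := ⟨h.mem_closure, hy⟩
  obtain ⟨ζ, hζF, hζy, hζmax⟩ := exists_maximal_generization_mem F hF y hyF
  have hξζ : ξ ⤳ ζ := specializes_iff_mem_closure.mpr hζF.1
  refine ⟨ζ, hξζ, hζy, hζF.2, ?_⟩
  obtain ⟨U, hU, hζU, -⟩ := exists_isAffineOpen_mem_and_subset (x := ζ)
    (U := (⊤ : X.Opens)) trivial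
  let fU : Γ(X, U) := X.presheaf.map (homOfLE (le_top : U ≤ ⊤)).op f
  have hfU : ∀ z : X, z ∈ U → (z ∈ X.basicOpen fU ↔ z ∈ X.basicOpen f) := by
    intro z hz
    rw [basicOpen_res_top]
    exact ⟨fun h => h.2, fun h => ⟨hz, h⟩⟩
  have key := td_le_td_add_card k q hU {fU} ξ ζ hζU hξζ
    (by
      intro g hg
      rw [Finset.mem_singleton] at hg
      subst hg
      rw [hfU ζ hζU]
      exact hζF.2)
    (by
      intro z hξz hzζ hzf
      apply hζmax z ⟨hξz.mem_closure, ?_⟩ hzζ
      have hzU : z ∈ U := hzζ.mem_open U.2 hζU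
      have := hzf fU (Finset.mem_singleton_self _)
      rwa [hfU z hzU] at this)
  rw [Finset.card_singleton] at key
  -- strictness
  have hne : ζ ≠ ξ := by
    rintro rfl
    exact hζF.2 hξ
  obtain ⟨m, hm, hδ⟩ := LocQuotLemmas.delta_eq_add_locQuot _ (FTFlat.isDimFun_td k q) ξ ζ hξζ
  have htd : td q ξ = td q ζ + m := by exact_mod_cast hδ
  have h1 := DimOneBase.one_le_dim_locQuot ζ ξ hξζ hne
  rw [hm] at h1
  have : 1 ≤ m := by exact_mod_cast h1
  omega

end Groth.Agent.Helper16.PITSch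

namespace Groth.Agent.Helper16.PITSch

open Groth.Agent.Helper14 Groth.Agent.Helper16.FTDim Groth.Agent.Helper16.FTMisc

variable {X : Scheme.{u}}

theorem maximal_of_isGenericPoint_component {T : Type*} [TopologicalSpace T] [T0Space T]
    (Z : Set T) (hZ : Z ∈ irreducibleComponents T) (ξ : T) (hξ : IsGenericPoint ξ Z) :
    ∀ ξ' : T, ξ' ⤳ ξ → ξ' = ξ := by
  intro ξ' h
  have hsub : Z ⊆ closure {ξ'} := by
    rw [← hξ.def]
    exact closure_minimal (Set.singleton_subset_iff.mpr h.mem_closure) isClosed_closure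
  have heq : closure {ξ'} = Z :=
    le_antisymm (hZ.2 isIrreducible_singleton.closure hsub) hsub
  exact IsGenericPoint.eq heq hξ

theorem main4714 (k : Type u) [Field k] (p : X ⟶ Spec (CommRingCat.of k))
    [LocallyOfFiniteType p] (f : Γ(X, ⊤)) (hY : interior (X.zeroLocus (U := ⊤) {f}) = ∅) :
    topologicalKrullDim (X.zeroLocus (U := ⊤) {f}) + 1 ≤ topologicalKrullDim X ∧
      ((∃ Z ∈ irreducibleComponents (X : Type u), topologicalKrullDim Z = topologicalKrullDim X) →
        (∀ Z ∈ irreducibleComponents (X : Type u), topologicalKrullDim Z = topologicalKrullDim X →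
          (Z ∩ X.zeroLocus (U := ⊤) {f}).Nonempty) →
        topologicalKrullDim (X.zeroLocus (U := ⊤) {f}) + 1 = topologicalKrullDim X) := by
  haveI : IsLocallyNoetherian X := LocallyOfFiniteType.isLocallyNoetherian p
  set Y : Set X := X.zeroLocus (U := ⊤) {f} with hYdef
  have hYc : IsClosed Y := X.zeroLocus_isClosed _
  have hmem : ∀ x : X, x ∈ Y ↔ x ∉ X.basicOpen f := by
    intro x
    rw [hYdef, Scheme.mem_zeroLocus_iff]
    simp
  have hmaxnot : ∀ ξ : X, (∀ ξ' : X, ξ' ⤳ ξ → ξ' = ξ) → ξ ∉ Y := by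
    intro ξ hmax hξ
    have := interior_nonempty_of_maximal_mem Y hYc ξ hmax hξ
    rw [hY] at this
    exact Set.not_nonempty_empty this
  have key1 : ∀ y ∈ Y, ((td p y + 1 : ℕ) : WithBot ℕ∞) ≤ topologicalKrullDim X := by
    intro y hy
    obtain ⟨ξ, hmax, hξy, -, -, -⟩ := FTFlat.exists_maximal_td_eq k p y
    have hne : y ≠ ξ := by
      rintro rfl
      exact hmaxnot y hmax hy
    obtain ⟨m, hm, hδ⟩ := LocQuotLemmas.delta_eq_add_locQuot _ (FTFlat.isDimFun_td k p) ξ y hξy
    have htd : td p ξ = td p y + m := by exact_mod_cast hδ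
    have h1 := DimOneBase.one_le_dim_locQuot y ξ hξy hne
    rw [hm] at h1
    have h2 : 1 ≤ m := by exact_mod_cast h1
    refine le_trans ?_ (td_le_dim_univ k p ξ)
    exact_mod_cast (by omega : td p y + 1 ≤ td p ξ)
  have part1 : topologicalKrullDim ↥Y + 1 ≤ topologicalKrullDim X := by
    generalize hD : topologicalKrullDim X = D at key1 ⊢
    induction D using WithBot.recBotCoe with
    | bot =>
      haveI : IsEmpty ↥Y := ⟨fun y => absurd (key1 y.1 y.2) (by simp)⟩
      rw [dim_eq_bot_of_isEmpty]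
      simp
    | coe D =>
      induction D using ENat.recTopCoe with
      | top => exact le_top
      | coe n =>
        have := dim_add_le_of_forall_closure Y hYc 1 n (by
          intro z hz
          rw [dim_closure k p z]
          exact_mod_cast key1 z hz)
        exact_mod_cast this
  refine ⟨part1, ?_⟩
  rintro ⟨Z, hZ, hdimZ⟩ hmeet
  apply le_antisymm part1
  obtain ⟨y, hyZ, hyY⟩ := hmeet Z hZ hdimZ
  have hZc : IsClosed Z := isClosed_of_mem_irreducibleComponents _ hZ
  obtain ⟨ξ, hξ⟩ := QuasiSober.sober hZ.1 hZc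
  have hξmax := maximal_of_isGenericPoint_component Z hZ ξ hξ
  have hξY : ξ ∉ Y := hmaxnot ξ hξmax
  have hξy : ξ ⤳ y := hξ.specializes hyZ
  obtain ⟨ζ, hξζ, hζy, hζf, htd⟩ := exists_td_succ_eq k p f ξ y hξy
    (by rw [hmem, not_not] at hξY; exact hξY) ((hmem y).mp hyY)
  have hζY : ζ ∈ Y := (hmem ζ).mpr hζf
  have hsub : closure ({ζ} : Set X) ⊆ Y := closure_minimal (Set.singleton_subset_iff.mpr hζY) hYc
  have h1 : ((td p ζ : ℕ) : WithBot ℕ∞) ≤ topologicalKrullDim ↥Y := by
    rw [← dim_closure k p ζ]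
    exact dim_mono hsub
  rw [← hdimZ, ← hξ.def, dim_closure k p ξ, ← htd]
  push_cast
  exact add_le_add_left h1 1

end Groth.Agent.Helper16.PITSch
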