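import Mathlib
import Groth.Agent.Lib.Helper16.Sch.FTFlat1
import Groth.Agent.Lib.Helper16.Sch.PITSch2
import Groth.Agent.Lib.Helper14.SectionComp
import Groth.Agent.Lib.Helper14.FibreMax
import Groth.Agent.Lib.Helper14.ValRingFibre
import Groth.Agent.Lib.Helper14.FibreComp

set_option autoImplicit false
set_option linter.style.haveILetI false
universe u
open CategoryTheory CategoryTheory.Limits AlgebraicGeometry Opposite TopologicalSpace Topology

noncomputable section

namespace Groth.Agent.Helper16.M14887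

open Groth.Agent.Helper14 Groth.Agent.Helper16 Groth.Agent.Helper16.FTDim
open Groth.Agent.Helper16.FTFlat

variable {X Y : Scheme.{u}}

/-- the relative transcendence degree of a point of a fibre, computed in the fibre. -/
theorem td_fiberι (f : X ⟶ Y) (y : Y) (z : f.fiber y) :
    td f (f.fiberι y z) = td (f.fiberToSpecResidueField y) z := by
  unfold td
  rw [FibreComp.trdeg_fibre f y z]

/-- in a fibre of a morphism locally of finite type, the relative transcendence degree drops
strictly along a nontrivial specialization. -/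
theorem td_lt_of_specializes_of_ne (f : X ⟶ Y) [LocallyOfFiniteType f] (ξ z : X) (h : ξ ⤳ z)
    (hf : f ξ = f z) (hne : ξ ≠ z) : td f z < td f ξ := by
  haveI : LocallyOfFiniteType (f.fiberToSpecResidueField (f z)) :=
    MorphismProperty.pullback_snd _ _ inferInstance
  set a := f.asFiber z with ha
  set ζ := (f.fiberHomeo (f z)).symm ⟨ξ, hf⟩ with hζ
  have hιa : f.fiberι (f z) a = z := f.fiberι_asFiber z
  have hιζ : f.fiberι (f z) ζ = ξ := f.fiberι_fiberHomeo_symm _ _
  have hind := (f.fiberι (f z)).isEmbedding.isInducing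
  have hζa : ζ ⤳ a := by
    rw [← hind.specializes_iff, hιa, hιζ]
    exact h
  have hζne : ζ ≠ a := by
    intro heq
    apply hne
    have := congrArg (f.fiberι (f z)) heq
    rw [hιζ, hιa] at this
    exact this
  have hδ := isDimFun_td ((Y.residueField (f z) : Type u)) (f.fiberToSpecResidueField (f z))
  have h1 : ((td (f.fiberToSpecResidueField (f z)) a : ℕ) : ℤ) <
      ((td (f.fiberToSpecResidueField (f z)) ζ : ℕ) : ℤ) := (hδ ζ a hζa hζne).1
  have h2 : td (f.fiberToSpecResidueField (f z)) a < td (f.fiberToSpecResidueField (f z)) ζ := by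
    exact_mod_cast h1
  rw [← td_fiberι, ← td_fiberι, hιa, hιζ] at h2
  exact h2

theorem main14887 (R : Type u) [CommRing R] [IsDomain R] [ValuationRing R]
    (φ : X ⟶ Spec (CommRingCat.of R)) [LocallyOfFiniteType φ]
    (x x' : X) (hgen : x' ⤳ x) (hx : ∀ y : X, y ⤳ x → φ y = φ x → y = x) :
    ∀ y : X, y ⤳ x' → φ y = φ x' → y = x' := by
  intro y hyx' hφy
  by_contra hne
  obtain ⟨y₁, -, hy₁y, hy₁max⟩ :=
    PITSch.exists_maximal_generization_mem (Set.univ : Set X) isClosed_univ y trivial
  have hmax₁ : ∀ w : X, φ w = φ y₁ → w ⤳ y₁ → w = y₁ := fun w _ hw => hy₁max w trivial hw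
  -- valuation inequalities
  have v1 := ValRingFibre.trdeg_le_of_specializes_Spec φ x' x hgen
  have v2 := ValRingFibre.trdeg_le_of_specializes_Spec φ y₁ y hy₁y
  rw [td_spec φ x', td_spec φ x] at v1
  rw [td_spec φ y₁, td_spec φ y] at v2
  have v1' : td φ x ≤ td φ x' := by exact_mod_cast v1
  have v2' : td φ y ≤ td φ y₁ := by exact_mod_cast v2
  -- Chevalley
  have c1 := SectionComp.fibreDimAt_le_of_specializes φ y₁ x ((hy₁y.trans hyx').trans hgen)
  rw [FibreMax.fibreDimAt_eq_of_maximal φ y₁ hmax₁ (td φ y₁) (td_spec φ y₁),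
    FibreMax.fibreDimAt_eq_of_maximal φ x (fun w hw hwx => hx w hwx hw) (td φ x) (td_spec φ x)]
    at c1
  have c1' : td φ y₁ ≤ td φ x := by exact_mod_cast c1
  have hlt := td_lt_of_specializes_of_ne φ y x' hyx' hφy hne
  omega

end Groth.Agent.Helper16.M14887
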