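import Mathlib
import Groth.Agent.Lib.Helper16.Sch.FTSub
import Groth.Agent.Lib.Helper16.Sch.FTMisc2
import Groth.Agent.Lib.Helper16.Sch.ConsFD3
import Groth.Agent.Lib.Helper16.Sch.PIns

set_option autoImplicit false
set_option linter.style.haveILetI false
universe u
open CategoryTheory CategoryTheory.Limits AlgebraicGeometry Opposite TopologicalSpace Topology

noncomputable section

namespace Groth.Agent.Helper16.WellInt

open Groth.Agent.Helper14 Groth.Agent.Helper16 Groth.Agent.Helper16.FTDim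

/-- a point in the closure of a locally constructible set, maximal for generization among its
points, lies in the set. -/
theorem mem_of_mem_closure_of_maximal {T : Scheme.{u}} (A : Set T) (hA : IsLocallyConstructible A)
    (s : T) (hs : s ∈ closure A) (hmax : ∀ s' ∈ A, s' ⤳ s → s' = s) : s ∈ A := by
  by_contra hsA
  have hn := ConstrNhds.mem_nhds_of_isLocallyConstructible
    (ConsFD.isLocallyConstructible_compl hA) s (fun η hη hηA => by
      rw [hmax η hηA hη] at hηA
      exact hsA hηA)
  obtain ⟨U, hUs, hUo, hsU⟩ := mem_nhds_iff.mp hn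
  obtain ⟨a, haU, haA⟩ := mem_closure_iff.mp hs U hUo hsU
  exact hUs haU haA

theorem withBot_cancel (N : ℕ) (a b : WithBot ℕ∞)
    (h : (N : WithBot ℕ∞) + a ≤ (N : WithBot ℕ∞) + b) : a ≤ b := by
  induction a using WithBot.recBotCoe with
  | bot => exact bot_le
  | coe a =>
    induction b using WithBot.recBotCoe with
    | bot =>
      rw [WithBot.add_bot] at h
      exact absurd h (by
        have : ((N : WithBot ℕ∞) + (a : WithBot ℕ∞)) = (((N : ℕ∞) + a : ℕ∞) : WithBot ℕ∞) := by
          push_cast; rfl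
        rw [this]
        simp)
    | coe b =>
      have h' : (((N : ℕ∞) + a : ℕ∞) : WithBot ℕ∞) ≤ (((N : ℕ∞) + b : ℕ∞) : WithBot ℕ∞) := by
        push_cast
        exact h
      rw [WithBot.coe_le_coe] at h' ⊢
      exact (ENat.add_le_add_iff_left (ENat.coe_ne_top N)).mp h'

variable (k : Type u) [Field k] {X S : Scheme.{u}} (q : S ⟶ Spec (CommRingCat.of k))
  (f : X ⟶ S) [LocallyOfFiniteType q] [LocallyOfFiniteType f]

/-- the excess set `Y ×_S Z ∖ Δ`. -/
def E (Y Z : Set X) : Set ↥(pullback f f) :=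
  {p | pullback.fst f f p ∈ Y ∧ pullback.snd f f p ∈ Z ∧ p ∉ Set.range (pullback.diagonal f)}

omit [LocallyOfFiniteType f] in
theorem isLocallyClosed_E [IsSeparated f] (Y Z : Set X) (hY : IsClosed Y) (hZ : IsClosed Z) :
    IsLocallyClosed (E f Y Z) := by
  have h1 : IsClosed (pullback.fst f f ⁻¹' Y ∩ pullback.snd f f ⁻¹' Z) :=
    (hY.preimage (pullback.fst f f).continuous).inter (hZ.preimage (pullback.snd f f).continuous)
  have h2 : IsOpen (Set.range (pullback.diagonal f))ᶜ :=
    (pullback.diagonal f).isClosedEmbedding.isClosed_range.isOpen_compl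
  have : E f Y Z = (pullback.fst f f ⁻¹' Y ∩ pullback.snd f f ⁻¹' Z) ∩
      (Set.range (pullback.diagonal f))ᶜ := by
    ext p
    simp only [E, Set.mem_ofPred_eq, Set.mem_inter_iff, Set.mem_preimage, Set.mem_compl_iff]
    tauto
  rw [this]
  exact h1.isLocallyClosed.inter h2.isLocallyClosed

/-- structure morphism of `X ×_S X`. -/
abbrev qP : pullback f f ⟶ Spec (CommRingCat.of k) := pullback.fst f f ≫ f ≫ q

theorem td_fst_le (p : ↥(pullback f f)) : td (f ≫ q) (pullback.fst f f p) ≤ td (qP k q f) p := by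
  have := td_comp (pullback.fst f f) (f ≫ q) p
  show _ ≤ td (pullback.fst f f ≫ f ≫ q) p
  omega

theorem td_snd_le (p : ↥(pullback f f)) : td (f ≫ q) (pullback.snd f f p) ≤ td (qP k q f) p := by
  have := td_comp (pullback.snd f f) (f ≫ q) p
  have h2 : td (pullback.snd f f ≫ f ≫ q) p = td (qP k q f) p := by
    have : ∀ (m : pullback f f ⟶ Spec (CommRingCat.of k)), m = qP k q f →
        td m p = td (qP k q f) p := by
      rintro m rfl; rfl
    apply this
    show pullback.snd f f ≫ f ≫ q = pullback.fst f f ≫ f ≫ q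
    rw [← Category.assoc, ← pullback.condition, Category.assoc]
  omega

theorem td_le_dim_E [IsSeparated f] (Y Z : Set X) (hY : IsClosed Y) (hZ : IsClosed Z)
    (p : ↥(pullback f f)) (hp : p ∈ E f Y Z) :
    (td (qP k q f) p : WithBot ℕ∞) ≤ topologicalKrullDim ↥(E f Y Z) :=
  FTSub.td_le_dim_of_isLocallyClosed k (qP k q f) _ (isLocallyClosed_E f Y Z hY hZ) p hp

omit [LocallyOfFiniteType f] in
theorem fst_diag (x : X) : pullback.fst f f (pullback.diagonal f x) = x := by
  rw [← Scheme.Hom.comp_apply, pullback.diagonal_fst]; rfl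

omit [LocallyOfFiniteType f] in
theorem snd_diag (x : X) : pullback.snd f f (pullback.diagonal f x) = x := by
  rw [← Scheme.Hom.comp_apply, pullback.diagonal_snd]; rfl

include k q in
theorem main14484 [QuasiCompact f] [IsSeparated f]
    (Y Z : Set X) (hYc : IsClosed Y) (hYi : IsIrreducible Y) (hZc : IsClosed Z)
    (hWI : topologicalKrullDim ↥(E f Y Z) + topologicalKrullDim S ≤
      topologicalKrullDim Y + topologicalKrullDim Z)
    (hZS : topologicalKrullDim Z < topologicalKrullDim S)
    (hYZ : ¬ Y ⊆ Z) :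
    ¬ (f '' Y ⊆ closure (f '' Y ∩ f '' Z)) ∧ ¬ (f '' Y ⊆ f '' Z) := by
  haveI : IsLocallyNoetherian S := LocallyOfFiniteType.isLocallyNoetherian q
  haveI : IsLocallyNoetherian X := LocallyOfFiniteType.isLocallyNoetherian (f ≫ q)
  obtain ⟨η, hη⟩ := QuasiSober.sober hYi hYc
  have hηY : closure ({η} : Set X) = Y := hη.def
  have hdimY : topologicalKrullDim ↥Y = (td (f ≫ q) η : WithBot ℕ∞) := by
    rw [← hηY]; exact dim_closure k (f ≫ q) η
  have part1 : ¬ (f '' Y ⊆ closure (f '' Y ∩ f '' Z)) := by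
    intro hsub
    have hηmem : η ∈ Y := by rw [← hηY]; exact subset_closure rfl
    have hA : IsLocallyConstructible (f '' Y ∩ f '' Z) :=
      (f.isLocallyConstructible_image
        (FTSub.isLocallyConstructible_of_isLocallyClosed Y hYc.isLocallyClosed)).inter
      (f.isLocallyConstructible_image
        (FTSub.isLocallyConstructible_of_isLocallyClosed Z hZc.isLocallyClosed))
    have hs := mem_of_mem_closure_of_maximal _ hA (f η) (hsub ⟨η, hηmem, rfl⟩) (by
      rintro s' ⟨⟨y, hy, rfl⟩, -⟩ hs'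
      have h1 : η ⤳ y := by
        rw [specializes_iff_mem_closure, hηY]; exact hy
      exact (hs'.antisymm (h1.map f.continuous)).eq)
    obtain ⟨z, hzZ, hz⟩ := hs.2
    obtain ⟨p, hp1, hp2⟩ := Scheme.Pullback.exists_preimage_pullback η z hz.symm
    by_cases hp : p ∈ Set.range (pullback.diagonal f)
    · obtain ⟨x, rfl⟩ := hp
      rw [fst_diag] at hp1
      rw [snd_diag] at hp2
      apply hYZ
      rw [← hηY]
      apply closure_minimal _ hZc
      rw [Set.singleton_subset_iff, ← hp1, hp2]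
      exact hzZ
    · have hpE : p ∈ E f Y Z := ⟨by rw [hp1]; exact hηmem, by rw [hp2]; exact hzZ, hp⟩
      have h1 := td_le_dim_E k q f Y Z hYc hZc p hpE
      have h2 := td_fst_le k q f p
      rw [hp1] at h2
      have h3 : (td (f ≫ q) η : WithBot ℕ∞) ≤ topologicalKrullDim ↥(E f Y Z) := by
        refine le_trans ?_ h1
        exact_mod_cast h2
      rw [hdimY] at hWI
      have h4 := (add_le_add_left h3 _).trans hWI
      exact absurd (withBot_cancel _ _ _ h4) (not_le.mpr hZS)
  refine ⟨part1, fun h => part1 ?_⟩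
  rw [Set.inter_eq_left.mpr h]
  exact subset_closure

include k q in
theorem main14483 [QuasiCompact f] [IsSeparated f]
    (Y : Set X) (hYc : IsClosed Y) (hYi : IsIrreducible Y)
    (hWI : topologicalKrullDim ↥(E f Y Y) + topologicalKrullDim S ≤
      topologicalKrullDim Y + topologicalKrullDim Y)
    (hYS : topologicalKrullDim Y < topologicalKrullDim S) :
    ∃ V : Set X, IsOpen V ∧ (V ∩ Y).Nonempty ∧ Set.InjOn f (V ∩ Y) ∧
      ∀ x ∈ V ∩ Y, (f.residueFieldMap x).hom.IsPurelyInseparable := by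
  haveI : IsLocallyNoetherian S := LocallyOfFiniteType.isLocallyNoetherian q
  haveI : IsLocallyNoetherian X := LocallyOfFiniteType.isLocallyNoetherian (f ≫ q)
  haveI : IsLocallyNoetherian (pullback f f) := LocallyOfFiniteType.isLocallyNoetherian (qP k q f)
  obtain ⟨η, hη⟩ := QuasiSober.sober hYi hYc
  have hηY : closure ({η} : Set X) = Y := hη.def
  have hηmem : η ∈ Y := by rw [← hηY]; exact subset_closure rfl
  have hdimY : topologicalKrullDim ↥Y = (td (f ≫ q) η : WithBot ℕ∞) := by
    rw [← hηY]; exact dim_closure k (f ≫ q) η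
  have hclaim : ∀ p ∈ E f Y Y, ¬ (pullback.fst f f p ⤳ η) := by
    intro p hp hsp
    have h0 : η ⤳ pullback.fst f f p := by
      rw [specializes_iff_mem_closure, hηY]; exact hp.1
    have hp1 : pullback.fst f f p = η := (hsp.antisymm h0).eq
    have h1 := td_le_dim_E k q f Y Y hYc hYc p hp
    have h2 := td_fst_le k q f p
    rw [hp1] at h2
    have h3 : (td (f ≫ q) η : WithBot ℕ∞) ≤ topologicalKrullDim ↥(E f Y Y) := by
      refine le_trans ?_ h1
      exact_mod_cast h2
    rw [hdimY] at hWI hYS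
    have h4 := (add_le_add_left h3 _).trans hWI
    exact absurd (withBot_cancel _ _ _ h4) (not_le.mpr hYS)
  have hB : IsLocallyConstructible (pullback.fst f f '' E f Y Y) :=
    (pullback.fst f f).isLocallyConstructible_image
      (FTSub.isLocallyConstructible_of_isLocallyClosed _ (isLocallyClosed_E f Y Y hYc hYc))
  have hn := ConstrNhds.mem_nhds_of_isLocallyConstructible
    (ConsFD.isLocallyConstructible_compl hB) η (by
      rintro η' hη' ⟨p, hp, rfl⟩
      exact hclaim p hp hη')
  obtain ⟨V, hVs, hVo, hηV⟩ := mem_nhds_iff.mp hn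
  refine ⟨V, hVo, ⟨η, hηV, hηmem⟩, ?_, ?_⟩
  · rintro x₁ ⟨hx₁V, hx₁Y⟩ x₂ ⟨hx₂V, hx₂Y⟩ he
    by_contra hne
    obtain ⟨p, hp1, hp2⟩ := Scheme.Pullback.exists_preimage_pullback x₁ x₂ he
    have hpE : p ∈ E f Y Y := by
      refine ⟨by rw [hp1]; exact hx₁Y, by rw [hp2]; exact hx₂Y, ?_⟩
      rintro ⟨x, rfl⟩
      rw [fst_diag] at hp1
      rw [snd_diag] at hp2
      exact hne (hp1.symm.trans hp2)
    exact hVs hx₁V ⟨p, hpE, hp1⟩
  · rintro x ⟨hxV, hxY⟩
    apply PIns.isPurelyInseparable_of_diag
    intro z hz1 hz2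
    by_contra hz
    have hzE : z ∈ E f Y Y := ⟨by rw [hz1]; exact hxY, by rw [hz2]; exact hxY, hz⟩
    exact hVs hxV ⟨z, hzE, hz1⟩

end Groth.Agent.Helper16.WellInt
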