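import Mathlib
import Groth.Agent.Lib.Helper16.Sch.GenSm1

set_option autoImplicit false
set_option linter.style.haveILetI false
universe u
open CategoryTheory CategoryTheory.Limits AlgebraicGeometry Opposite TopologicalSpace

noncomputable section

namespace Groth.Agent.Helper16.GenGS

open Groth.Agent.Helper16.GenSm

/-- an open subscheme of a geometrically reduced scheme is geometrically reduced -/
theorem geometricallyReduced_ι_comp {F S : Scheme.{u}} (q : F ⟶ S) [GeometricallyReduced q]
    (O : F.Opens) : GeometricallyReduced (O.ι ≫ q) := by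
  rw [geometricallyReduced_iff]
  intro L _ c Z fst snd H
  let u : Z ⟶ pullback q c := pullback.lift (fst ≫ O.ι) snd (by rw [Category.assoc, H.w])
  have hbot : IsPullback (pullback.fst q c) (pullback.snd q c) q c := .of_hasPullback _ _
  have H' : IsPullback fst (u ≫ pullback.snd q c) (O.ι ≫ q) c := by
    have : u ≫ pullback.snd q c = snd := pullback.lift_snd _ _ _
    rw [this]; exact H
  have htop : IsPullback fst u O.ι (pullback.fst q c) :=
    IsPullback.of_bot H' (pullback.lift_fst _ _ _).symm hbot
  haveI : IsOpenImmersion u := MorphismProperty.of_isPullback htop inferInstance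
  haveI : IsReduced (pullback q c) :=
    GeometricallyReduced.geometrically_isReduced c _ _ hbot
  exact isReduced_of_isOpenImmersion u

/-- The smooth locus of a geometrically reduced scheme locally of finite presentation over a field
is dense. -/
theorem dense_smoothLocus_of_geometricallyReduced (K : Type u) [Field K]
    {F : Scheme.{u}} (q : F ⟶ Spec (.of K)) [LocallyOfFinitePresentation q]
    [GeometricallyReduced q] : Dense (q.smoothLocus : Set F) := by
  rw [dense_iff_inter_open]
  intro O hO hne
  let O' : F.Opens := ⟨O, hO⟩
  haveI : GeometricallyReduced (O'.ι ≫ q) := geometricallyReduced_ι_comp q O'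
  haveI : Nonempty O'.toScheme := by
    obtain ⟨x, hx⟩ := hne
    exact ⟨⟨x, hx⟩⟩
  obtain ⟨z, hz⟩ := smoothLocus_nonempty_of_geometricallyReduced K (O'.ι ≫ q)
  have h1 : z ∈ O'.ι ⁻¹ᵁ q.smoothLocus := by
    rw [Scheme.Hom.preimage_smoothLocus_eq]; exact hz
  exact ⟨z.1, z.2, h1⟩

end Groth.Agent.Helper16.GenGS
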