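import Mathlib
import Groth.Agent.S0389

set_option autoImplicit false
set_option linter.style.haveILetI false
universe u
open TensorProduct

noncomputable section

namespace Groth.Agent.Helper16.GenGS

theorem flat_fp_baseChange (A Af B' S : Type u) [CommRing A] [CommRing Af] [Algebra A Af]
    [CommRing B'] [Algebra A B']
    [CommRing S] [Algebra A S] [Algebra Af S] [IsScalarTower A Af S]
    [Module.Flat Af (Af ⊗[A] B')] [Algebra.FinitePresentation Af (Af ⊗[A] B')] :
    Module.Flat S (S ⊗[A] B') ∧ Algebra.FinitePresentation S (S ⊗[A] B') := by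
  let e1 : S ⊗[Af] (Af ⊗[A] B') ≃ₐ[S] S ⊗[A] B' :=
    Algebra.TensorProduct.cancelBaseChange _ _ S S _
  constructor
  · exact Module.Flat.of_linearEquiv e1.toLinearEquiv.symm
  · exact Algebra.FinitePresentation.equiv e1

theorem flat_fp_cancel (R A B S : Type u) [CommRing R] [CommRing A] [Algebra R A]
    [CommRing B] [Algebra R B]
    [CommRing S] [Algebra R S] [Algebra A S] [IsScalarTower R A S]
    (h : Module.Flat S (S ⊗[A] (A ⊗[R] B)) ∧ Algebra.FinitePresentation S (S ⊗[A] (A ⊗[R] B))) :
    Module.Flat S (S ⊗[R] B) ∧ Algebra.FinitePresentation S (S ⊗[R] B) := by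
  let e2 : S ⊗[A] (A ⊗[R] B) ≃ₐ[S] S ⊗[R] B :=
    Algebra.TensorProduct.cancelBaseChange R _ S S B
  haveI := h.1
  haveI := h.2
  constructor
  · exact Module.Flat.of_linearEquiv e2.toLinearEquiv.symm
  · exact Algebra.FinitePresentation.equiv e2

/-- generic flatness and finite presentation over a ring with prime nilradical, in base-change form -/
theorem exists_flat_fp (R B : Type u) [CommRing R] [CommRing B] [Algebra R B]
    [Algebra.FiniteType R B] (hn : (nilradical R).IsPrime) :
    ∃ a : R, a ∉ nilradical R ∧ ∀ (S : Type u) [CommRing S] [Algebra R S] [IsReduced S],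
      IsUnit (algebraMap R S a) →
        Module.Flat S (S ⊗[R] B) ∧ Algebra.FinitePresentation S (S ⊗[R] B) := by
  haveI := hn
  haveI : IsDomain (R ⧸ nilradical R) := Ideal.Quotient.isDomain _
  obtain ⟨f, hf0, -, hfree, hfp, -⟩ := Groth.Agent.S0389.main (R := R ⧸ nilradical R)
    (S := (R ⧸ nilradical R) ⊗[R] B) (M := (R ⧸ nilradical R) ⊗[R] B)
  obtain ⟨a, rfl⟩ := Ideal.Quotient.mk_surjective f
  refine ⟨a, ?_, ?_⟩
  · intro ha
    exact hf0 (Ideal.Quotient.eq_zero_iff_mem.mpr ha)
  intro S _ _ _ hu
  let φA : (R ⧸ nilradical R) →+* S := Ideal.Quotient.lift (nilradical R) (algebraMap R S)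
    (fun x hx => (IsNilpotent.map (mem_nilradical.mp hx) (algebraMap R S)).eq_zero)
  letI : Algebra (R ⧸ nilradical R) S := φA.toAlgebra
  haveI : IsScalarTower R (R ⧸ nilradical R) S := IsScalarTower.of_algebraMap_eq' (by
    ext x
    rfl)
  have hu' : IsUnit (φA (Ideal.Quotient.mk (nilradical R) a)) := hu
  let φf : Localization.Away (Ideal.Quotient.mk (nilradical R) a) →+* S :=
    IsLocalization.Away.lift (Ideal.Quotient.mk (nilradical R) a) (g := φA) hu'
  letI : Algebra (Localization.Away (Ideal.Quotient.mk (nilradical R) a)) S := φf.toAlgebra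
  haveI : IsScalarTower (R ⧸ nilradical R)
      (Localization.Away (Ideal.Quotient.mk (nilradical R) a)) S :=
    IsScalarTower.of_algebraMap_eq' (by
      ext x
      exact (IsLocalization.Away.lift_eq (Ideal.Quotient.mk (nilradical R) a) hu' x).symm)
  haveI := hfree
  haveI := hfp
  exact flat_fp_cancel R (R ⧸ nilradical R) B S
    (flat_fp_baseChange (R ⧸ nilradical R)
      (Localization.Away (Ideal.Quotient.mk (nilradical R) a)) _ S)

end Groth.Agent.Helper16.GenGS
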