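import Mathlib

set_option autoImplicit false
set_option linter.style.haveILetI false
universe u
open CategoryTheory CategoryTheory.Limits AlgebraicGeometry Opposite TopologicalSpace TensorProduct

noncomputable section

namespace Groth.Agent.Helper16.GenGS

variable {X Y Z : Scheme.{u}} {S₀ : Type u} [CommRing S₀]

lemma piece_eq' (fst : Z ⟶ X) (snd : Z ⟶ Spec (.of S₀)) (U₀ : X.Opens) :
    fst ⁻¹ᵁ U₀ = fst ⁻¹ᵁ U₀ ⊓ snd ⁻¹ᵁ ⊤ := by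
  rw [Scheme.Hom.preimage_top, inf_top_eq]

theorem isAffineOpen_piece' (f : X ⟶ Y) (c : Spec (.of S₀) ⟶ Y) (fst : Z ⟶ X)
    (snd : Z ⟶ Spec (.of S₀)) (H : IsPullback fst snd f c)
    (W : Y.Opens) (hW : IsAffineOpen W) (hc : ⊤ ≤ c ⁻¹ᵁ W) (U₀ : X.Opens) (hU₀ : IsAffineOpen U₀)
    (e : U₀ ≤ f ⁻¹ᵁ W) : IsAffineOpen (fst ⁻¹ᵁ U₀) := by
  have : IsAffine _ := hW
  have : IsAffine _ := hU₀
  have : IsAffine ((⊤ : (Spec (.of S₀)).Opens) : Scheme) := (isAffineOpen_top _)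
  exact .of_isIso (Scheme.Hom.isPullback_resLE H hc e (piece_eq' fst snd U₀)).isoPullback.hom

/-- the ring of sections of a base change to an affine scheme over a chart is the tensor product,
as an algebra over the new base -/
theorem exists_piece_algEquiv (f : X ⟶ Y) (c : Spec (.of S₀) ⟶ Y) (fst : Z ⟶ X)
    (snd : Z ⟶ Spec (.of S₀)) (H : IsPullback fst snd f c)
    (W : Y.Opens) (hW : IsAffineOpen W) (hc : ⊤ ≤ c ⁻¹ᵁ W) (U₀ : X.Opens) (hU₀ : IsAffineOpen U₀)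
    (e : U₀ ≤ f ⁻¹ᵁ W) :
    letI := (f.appLE W U₀ e).hom.toAlgebra
    letI := (c.appLE W ⊤ hc).hom.toAlgebra
    letI := (snd.appLE ⊤ (fst ⁻¹ᵁ U₀) le_top).hom.toAlgebra
    Nonempty ((Γ(Spec (.of S₀), ⊤) ⊗[Γ(Y, W)] Γ(X, U₀)) ≃ₐ[Γ(Spec (.of S₀), ⊤)]
      Γ(Z, fst ⁻¹ᵁ U₀)) := by
  have hUY := piece_eq' fst snd U₀
  have hpo := (isIso_pushoutSection_iff H hc e hUY).mp
    (isIso_pushoutSection_of_isAffineOpen H hc e hUY hW (isAffineOpen_top _) hU₀)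
  letI aRB := (f.appLE W U₀ e).hom.toAlgebra
  letI aRL := (c.appLE W ⊤ hc).hom.toAlgebra
  letI aBP := (fst.appLE U₀ (fst ⁻¹ᵁ U₀) le_rfl).hom.toAlgebra
  letI aLP := (snd.appLE ⊤ (fst ⁻¹ᵁ U₀) le_top).hom.toAlgebra
  letI aRP : Algebra Γ(Y, W) Γ(Z, fst ⁻¹ᵁ U₀) :=
    ((algebraMap Γ(X, U₀) Γ(Z, fst ⁻¹ᵁ U₀)).comp (algebraMap Γ(Y, W) Γ(X, U₀))).toAlgebra
  haveI : IsScalarTower Γ(Y, W) Γ(X, U₀) Γ(Z, fst ⁻¹ᵁ U₀) :=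
    IsScalarTower.of_algebraMap_eq' rfl
  haveI : IsScalarTower Γ(Y, W) Γ(Spec (.of S₀), ⊤) Γ(Z, fst ⁻¹ᵁ U₀) :=
    IsScalarTower.of_algebraMap_eq' (by
      have := congrArg CommRingCat.Hom.hom hpo.w
      exact this)
  haveI : Algebra.IsPushout Γ(Y, W) Γ(Spec (.of S₀), ⊤) Γ(X, U₀) Γ(Z, fst ⁻¹ᵁ U₀) :=
    CommRingCat.isPushout_iff_isPushout.mp hpo.flip
  exact ⟨Algebra.IsPushout.equiv Γ(Y, W) Γ(Spec (.of S₀), ⊤) Γ(X, U₀) Γ(Z, fst ⁻¹ᵁ U₀)⟩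

theorem flat_fp_piece (f : X ⟶ Y) (c : Spec (.of S₀) ⟶ Y) (fst : Z ⟶ X)
    (snd : Z ⟶ Spec (.of S₀)) (H : IsPullback fst snd f c)
    (W : Y.Opens) (hW : IsAffineOpen W) (hc : ⊤ ≤ c ⁻¹ᵁ W) (U₀ : X.Opens) (hU₀ : IsAffineOpen U₀)
    (e : U₀ ≤ f ⁻¹ᵁ W)
    (h : letI := (f.appLE W U₀ e).hom.toAlgebra
      letI := (c.appLE W ⊤ hc).hom.toAlgebra
      Module.Flat Γ(Spec (.of S₀), ⊤) (Γ(Spec (.of S₀), ⊤) ⊗[Γ(Y, W)] Γ(X, U₀)) ∧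
        Algebra.FinitePresentation Γ(Spec (.of S₀), ⊤)
          (Γ(Spec (.of S₀), ⊤) ⊗[Γ(Y, W)] Γ(X, U₀))) :
    (snd.appLE ⊤ (fst ⁻¹ᵁ U₀) le_top).hom.Flat ∧
      (snd.appLE ⊤ (fst ⁻¹ᵁ U₀) le_top).hom.FinitePresentation := by
  obtain ⟨E⟩ := exists_piece_algEquiv f c fst snd H W hW hc U₀ hU₀ e
  letI := (f.appLE W U₀ e).hom.toAlgebra
  letI := (c.appLE W ⊤ hc).hom.toAlgebra
  letI := (snd.appLE ⊤ (fst ⁻¹ᵁ U₀) le_top).hom.toAlgebra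
  haveI := h.1
  haveI := h.2
  constructor
  · exact Module.Flat.of_linearEquiv E.toLinearEquiv.symm
  · exact Algebra.FinitePresentation.equiv E

end Groth.Agent.Helper16.GenGS
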