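import Mathlib
import Groth.Agent.Lib.Helper16.Sch.GenGS6

set_option autoImplicit false
set_option linter.style.haveILetI false
universe u
open CategoryTheory CategoryTheory.Limits AlgebraicGeometry Opposite TopologicalSpace TensorProduct

noncomputable section

namespace Groth.Agent.Helper16.GenGS

variable {X Y Z : Scheme.{u}} {S₀ : Type u} [CommRing S₀]

theorem flat_lfp_of_pieces {ι : Type*} (f : X ⟶ Y) (c : Spec (.of S₀) ⟶ Y) (fst : Z ⟶ X)
    (snd : Z ⟶ Spec (.of S₀)) (H : IsPullback fst snd f c)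
    (W : Y.Opens) (hW : IsAffineOpen W) (hc : ⊤ ≤ c ⁻¹ᵁ W) (U : ι → X.Opens)
    (hU : ∀ j, IsAffineOpen (U j)) (hle : ∀ j, U j ≤ f ⁻¹ᵁ W) (hcov : f ⁻¹ᵁ W ≤ ⨆ j, U j)
    (h : ∀ j, letI := (f.appLE W (U j) (hle j)).hom.toAlgebra
      letI := (c.appLE W ⊤ hc).hom.toAlgebra
      Module.Flat Γ(Spec (.of S₀), ⊤) (Γ(Spec (.of S₀), ⊤) ⊗[Γ(Y, W)] Γ(X, U j)) ∧
        Algebra.FinitePresentation Γ(Spec (.of S₀), ⊤)
          (Γ(Spec (.of S₀), ⊤) ⊗[Γ(Y, W)] Γ(X, U j))) :
    Flat snd ∧ LocallyOfFinitePresentation snd := by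
  have hsup : ⨆ j, ((⟨fst ⁻¹ᵁ U j, isAffineOpen_piece' f c fst snd H W hW hc (U j) (hU j) (hle j)⟩ :
      Z.affineOpens) : Z.Opens) = ⊤ := by
    rw [eq_top_iff]
    intro z _
    have hz : fst z ∈ f ⁻¹ᵁ W := by
      show f (fst z) ∈ W
      have : f (fst z) = c (snd z) := by
        rw [← Scheme.Hom.comp_apply, ← Scheme.Hom.comp_apply, H.w]
      rw [this]
      exact hc (Set.mem_univ (snd z))
    have := hcov hz
    simp only [Opens.mem_iSup] at this ⊢
    obtain ⟨j, hj⟩ := this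
    exact ⟨j, hj⟩
  have key := fun j => flat_fp_piece f c fst snd H W hW hc (U j) (hU j) (hle j) (h j)
  constructor
  · rw [HasRingHomProperty.iff_of_iSup_eq_top (P := @Flat) _ hsup]
    intro j
    exact (key j).1
  · rw [HasRingHomProperty.iff_of_iSup_eq_top (P := @LocallyOfFinitePresentation) _ hsup]
    intro j
    exact (key j).2

end Groth.Agent.Helper16.GenGS
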