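import Mathlib
import Groth.Agent.Lib.Helper16.Sch.GenGS7

set_option autoImplicit false
set_option linter.style.haveILetI false
universe u
open CategoryTheory CategoryTheory.Limits AlgebraicGeometry Opposite TopologicalSpace TensorProduct

noncomputable section

namespace Groth.Agent.Helper16.GenRFS

variable {X Y : Scheme.{u}}

/-- a section is a unit if its basic open is everything -/
theorem isUnit_of_le_basicOpen {U : X.Opens} (r : Γ(X, U)) (h : U ≤ X.basicOpen r) : IsUnit r := by
  apply X.toRingedSpace.isUnit_of_isUnit_germ U r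
  intro x hx
  exact (X.toRingedSpace.mem_basicOpen r x hx).mp (h hx)

/-- a target-local property holds over a union of opens as soon as it holds over each of them -/
theorem restrict_iSup_of_forall {P : MorphismProperty Scheme.{u}} [IsZariskiLocalAtTarget P]
    (f : X ⟶ Y) {ι : Type*} (V : ι → Y.Opens) (H : ∀ i, P (f ∣_ V i)) : P (f ∣_ ⨆ i, V i) := by
  refine IsZariskiLocalAtTarget.of_iSup_eq_top (f := f ∣_ ⨆ i, V i)
    (fun i => (⨆ i, V i).ι ⁻¹ᵁ V i) ?_ (fun i => ?_)
  · rw [eq_top_iff]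
    rintro ⟨x, hx⟩ -
    simp only [Opens.mem_iSup] at hx ⊢
    obtain ⟨i, hi⟩ := hx
    exact ⟨i, hi⟩
  · have e : (⨆ i, V i).ι ''ᵁ ((⨆ i, V i).ι ⁻¹ᵁ V i) = V i := by
      rw [Scheme.Hom.image_preimage_eq_opensRange_inf, Scheme.Opens.opensRange_ι]
      exact inf_eq_right.mpr (le_iSup V i)
    exact (P.arrow_mk_iso_iff (morphismRestrictRestrict f _ _ ≪≫ morphismRestrictEq f e)).mpr (H i)

/-- transfer a base-change stable property from the pullback along `fromSpec` of an affine open to
the restriction -/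
theorem restrict_of_pullback_fromSpec {P : MorphismProperty Scheme.{u}}
    [P.IsStableUnderBaseChange] (f : X ⟶ Y) (V : Y.Opens) (hV : IsAffineOpen V)
    (h : P (pullback.snd f hV.fromSpec)) : P (f ∣_ V) := by
  have H := IsPullback.of_hasPullback f hV.fromSpec
  have big : IsPullback (f ⁻¹ᵁ V).ι (f ∣_ V) f (hV.isoSpec.hom ≫ hV.fromSpec) := by
    have : hV.isoSpec.hom ≫ hV.fromSpec = V.ι := by
      rw [← hV.isoSpec_inv_ι, Iso.hom_inv_id_assoc]
    rw [this]
    exact (isPullback_morphismRestrict f V).flip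
  let q : (f ⁻¹ᵁ V).toScheme ⟶ pullback f hV.fromSpec :=
    H.lift (f ⁻¹ᵁ V).ι (f ∣_ V ≫ hV.isoSpec.hom) (by rw [Category.assoc, big.w])
  have hq1 : q ≫ pullback.fst f hV.fromSpec = (f ⁻¹ᵁ V).ι := H.lift_fst _ _ _
  have hq2 : q ≫ pullback.snd f hV.fromSpec = f ∣_ V ≫ hV.isoSpec.hom := H.lift_snd _ _ _
  have sq : IsPullback q (f ∣_ V) (pullback.snd f hV.fromSpec) hV.isoSpec.hom :=
    IsPullback.of_right (by rw [hq1]; exact big) hq2 H
  exact MorphismProperty.of_isPullback sq h

end Groth.Agent.Helper16.GenRFS
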