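import Mathlib
import Groth.Agent.Lib.Helper16.Sch.GenRFS1
import Groth.Agent.Lib.Helper16.Alg.GenRF6

set_option autoImplicit false
set_option linter.style.haveILetI false
universe u
open CategoryTheory CategoryTheory.Limits AlgebraicGeometry Opposite TopologicalSpace TensorProduct

noncomputable section

namespace Groth.Agent.Helper16.GenRFS

open Groth.Agent.Helper16.GenGS Groth.Agent.Helper16.GenRF

variable {X Y : Scheme.{u}}

/-- generic flatness, local form: inside any nonempty open of a reduced base there is a nonempty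
open over which a finite type morphism is flat and of finite presentation -/
theorem exists_nonempty_flat_lfp (f : X ⟶ Y) [IsReduced Y] [LocallyOfFiniteType f]
    [QuasiCompact f] (W₀ : Y.Opens) (hW₀ : (W₀ : Set Y).Nonempty) :
    ∃ V : Y.Opens, V ≤ W₀ ∧ (V : Set Y).Nonempty ∧ Flat (f ∣_ V) ∧
      LocallyOfFinitePresentation (f ∣_ V) := by
  obtain ⟨y₀, hy₀⟩ := hW₀
  obtain ⟨_, ⟨W, hW, rfl⟩, hy₀W, hWW₀⟩ := Y.isBasis_affineOpens.exists_subset_of_mem_open
    hy₀ W₀.isOpen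
  have hW : IsAffineOpen W := hW
  haveI : Nonempty W := ⟨⟨y₀, hy₀W⟩⟩
  have hcomp : IsCompact ((f ⁻¹ᵁ W : X.Opens) : Set X) :=
    QuasiCompact.isCompact_preimage (f := f) _ W.isOpen hW.isCompact
  obtain ⟨s, hs, hsU⟩ := isCompact_iff_finite_and_eq_biUnion_affineOpens.mp hcomp
  haveI : Fintype s := hs.fintype
  classical
  have hle : ∀ U₀ : s, (U₀.1 : X.Opens) ≤ f ⁻¹ᵁ W := fun U₀ => by
    rw [hsU]; exact le_iSup₂ (f := fun (i : X.affineOpens) (_ : i ∈ s) => (i : X.Opens)) U₀.1 U₀.2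
  letI : ∀ U₀ : s, Algebra Γ(Y, W) Γ(X, U₀.1.1) := fun U₀ =>
    (f.appLE W U₀.1.1 (hle U₀)).hom.toAlgebra
  haveI : ∀ U₀ : s, Algebra.FiniteType Γ(Y, W) Γ(X, U₀.1.1) := fun U₀ =>
    f.finiteType_appLE hW U₀.1.2 (hle U₀)
  obtain ⟨a, ha, Ha⟩ := exists_flat_fp_of_reduced_finset (Finset.univ : Finset s) Γ(Y, W)
    (fun U₀ : s => Γ(X, U₀.1.1))
  have hV : IsAffineOpen (Y.basicOpen a) := hW.basicOpen a
  have hVW : Y.basicOpen a ≤ W := Y.basicOpen_le a
  refine ⟨Y.basicOpen a, hVW.trans hWW₀, ?_, ?_⟩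
  · by_contra hemp
    rw [Set.not_nonempty_iff_eq_empty] at hemp
    have h3 : Y.basicOpen a = ⊥ := by
      ext1
      exact hemp
    have h4 := hW.fromSpec_preimage_basicOpen a
    rw [h3] at h4
    exact ha ((PrimeSpectrum.basicOpen_eq_bot_iff a).mp h4.symm)
  · have hc : ⊤ ≤ hV.fromSpec ⁻¹ᵁ W := by
      intro z _
      show hV.fromSpec z ∈ W
      apply hVW
      rw [← SetLike.mem_coe, ← hV.range_fromSpec]
      exact ⟨z, rfl⟩
    have hcov : f ⁻¹ᵁ W ≤ ⨆ U₀ : s, (U₀.1 : X.Opens) := by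
      rw [hsU]
      intro x hx
      simp only [Opens.mem_iSup] at hx ⊢
      obtain ⟨U₀, hU₀s, hxU₀⟩ := hx
      exact ⟨⟨U₀, hU₀s⟩, hxU₀⟩
    have hfl := flat_lfp_of_pieces f hV.fromSpec _ _ (IsPullback.of_hasPullback f hV.fromSpec)
      W hW hc (fun U₀ : s => (U₀.1 : X.Opens)) (fun U₀ => U₀.1.2) hle hcov (fun U₀ => by
        letI := (hV.fromSpec.appLE W ⊤ hc).hom.toAlgebra
        refine Ha _ ?_ U₀ (Finset.mem_univ _)
        apply isUnit_of_le_basicOpen
        show ⊤ ≤ (Spec _).basicOpen ((hV.fromSpec.appLE W ⊤ hc).hom a)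
        erw [Scheme.basicOpen_appLE]
        intro z _
        refine ⟨trivial, ?_⟩
        show hV.fromSpec z ∈ Y.basicOpen a
        rw [← SetLike.mem_coe, ← hV.range_fromSpec]
        exact ⟨z, rfl⟩)
    exact ⟨restrict_of_pullback_fromSpec (P := @Flat) f _ hV hfl.1,
      restrict_of_pullback_fromSpec (P := @LocallyOfFinitePresentation) f _ hV hfl.2⟩

/-- generic flatness over a reduced base -/
theorem main (f : X ⟶ Y) [IsReduced Y] [LocallyOfFiniteType f] [QuasiCompact f] :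
    ∃ U : Y.Opens, Dense (U : Set Y) ∧ Flat (f ∣_ U) ∧ LocallyOfFinitePresentation (f ∣_ U) := by
  let ι := {V : Y.Opens // Flat (f ∣_ V) ∧ LocallyOfFinitePresentation (f ∣_ V)}
  refine ⟨⨆ V : ι, V.1, ?_, ?_, ?_⟩
  · rw [dense_iff_inter_open]
    intro W₀ hW₀o hW₀
    obtain ⟨V, hVW₀, ⟨y, hy⟩, hfl⟩ := exists_nonempty_flat_lfp f ⟨W₀, hW₀o⟩ hW₀
    refine ⟨y, hVW₀ hy, ?_⟩
    rw [SetLike.mem_coe, Opens.mem_iSup]
    exact ⟨⟨V, hfl⟩, hy⟩
  · exact restrict_iSup_of_forall (P := @Flat) f (fun V : ι => V.1) (fun V => V.2.1)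
  · exact restrict_iSup_of_forall (P := @LocallyOfFinitePresentation) f (fun V : ι => V.1)
      (fun V => V.2.2)

end Groth.Agent.Helper16.GenRFS
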