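import Mathlib
import Groth.Prelude
import Groth.Agent.Lib.Helper28.AlgGrpShear
import Groth.Agent.Lib.Helper18.OrbitLC
import Groth.Agent.Lib.Helper14.FibreDimBC
import Groth.Agent.Lib.Helper16.Sch.FTSub
import Groth.Agent.Lib.Helper16.Sch.FTMisc2
import Groth.Agent.Lib.Helper16.Sch.ConsFD3
import Groth.Agent.Lib.Helper16.Sch.PITSch2
import Groth.Agent.Lib.Helper16.Sch.M14887
import Groth.Agent.Lib.Helper16.Sch.WellInt
import Groth.Agent.Lib.Helper23.WeilDim

set_option autoImplicit false
set_option linter.style.haveILetI false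
universe u
open CategoryTheory CategoryTheory.Limits AlgebraicGeometry Opposite TopologicalSpace Topology
  MonoidalCategory CartesianMonoidalCategory MonObj GrpObj

noncomputable section

namespace Groth.Agent.Helper16.Orbit

open Groth.Agent.Helper14 Groth.Agent.Helper16 Groth.Agent.Helper16.FTDim
open Groth.Agent.Helper28.AlgGrpShear

variable {k : Type u} [Field k]
variable {G X : Over (Spec (CommRingCat.of k))} [GrpObj G]

/-- left translation of `G` on itself -/
def selfAct (G : Over (Spec (CommRingCat.of k))) [GrpObj G] : AlgGrp.Action G G where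
  act := μ[G]
  one_act := MonObj.one_mul G
  mul_act := MonObj.mul_assoc G

/-- `(g₂, g₁) ↦ (g₂ g₁⁻¹, g₁)` -/
def Ψ (G : Over (Spec (CommRingCat.of k))) [GrpObj G] : G ⊗ G ⟶ G ⊗ G :=
  lift (fst G G * (snd G G)⁻¹) (snd G G)

theorem Ψ_snd : Ψ G ≫ snd G G = snd G G := by simp [Ψ]

theorem Ψ_mul : Ψ G ≫ μ[G] = fst G G := by
  unfold Ψ
  rw [← Hom.mul_def, inv_mul_cancel_right]

theorem lft_left (a : AlgGrp.Action G X) [LocallyOfFiniteType G.hom]
    (x : 𝟙_ (Over (Spec (CommRingCat.of k))) ⟶ X) :
    LocallyOfFiniteType (a.orbitMap x).left := by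
  haveI : LocallyOfFiniteType ((a.orbitMap x).left ≫ X.hom) := by rw [Over.w]; infer_instance
  exact locallyOfFiniteType_of_comp (a.orbitMap x).left X.hom

/-- the fibre dimension of the orbit map is constant. -/
theorem fibreDimAt_const (a : AlgGrp.Action G X) [LocallyOfFiniteType G.hom]
    (x : 𝟙_ (Over (Spec (CommRingCat.of k))) ⟶ X) (g₁ g₂ : G.left) :
    FlatMor.fibreDimAt (a.orbitMap x).left g₁ = FlatMor.fibreDimAt (a.orbitMap x).left g₂ := by
  haveI := lft_left a x
  have P1 : IsPullback (snd G G).left (G ◁ a.orbitMap x).left (a.orbitMap x).left (snd G X).left :=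
    (isPullback_snd G (a.orbitMap x)).map (Over.forget _)
  have P2 : IsPullback μ[G].left (G ◁ a.orbitMap x).left (a.orbitMap x).left a.act.left :=
    (isPullback_act (selfAct G) a (a.orbitMap x)
      (Groth.Agent.Helper18.OrbitLC.horbmul a x)).map (Over.forget _)
  have key : ∀ w : (G ⊗ G).left, FlatMor.fibreDimAt (a.orbitMap x).left ((snd G G).left w) =
      FlatMor.fibreDimAt (a.orbitMap x).left (μ[G].left w) := by
    intro w
    rw [← FibreDimBC.fibreDimAt_eq P1 w]
    exact FibreDimBC.fibreDimAt_eq P2 w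
  -- a point over `(g₂, g₁)`
  obtain ⟨z, hz1, hz2⟩ := Scheme.Pullback.exists_preimage_pullback (f := G.hom) (g := G.hom) g₂ g₁
    (Subsingleton.elim (α := PrimeSpectrum k) _ _)
  have e1 : (snd G G).left ((Ψ G).left z) = g₁ := by
    show (Ψ G ≫ snd G G).left z = _
    rw [Ψ_snd]
    exact hz2
  have e2 : μ[G].left ((Ψ G).left z) = g₂ := by
    show (Ψ G ≫ μ[G]).left z = _
    rw [Ψ_mul]
    exact hz1
  rw [← e1, ← e2]
  exact key _

/-- the unit point of `G`. -/
def ept (G : Over (Spec (CommRingCat.of k))) [GrpObj G] : G.left :=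
  η[G].left (show PrimeSpectrum k from ⊥)

theorem unit_orbit (a : AlgGrp.Action G X) (x : 𝟙_ (Over (Spec (CommRingCat.of k))) ⟶ X) :
    η[G] ≫ a.orbitMap x = x := by
  rw [AlgGrp.Action.comp_orbitMap]
  have h1 : toUnit (𝟙_ (Over (Spec (CommRingCat.of k)))) ≫ x = x := by
    rw [toUnit_unique (toUnit (𝟙_ (Over (Spec (CommRingCat.of k))))) (𝟙 _), Category.id_comp]
  rw [h1]
  have h2 : η[G] = (1 : 𝟙_ (Over (Spec (CommRingCat.of k))) ⟶ G) := by
    rw [Hom.one_def, toUnit_unique (toUnit (𝟙_ (Over (Spec (CommRingCat.of k))))) (𝟙 _),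
      Category.id_comp]
  rw [h2]
  exact AlgGrp.Action.lift_one_act a x

theorem orbit_ept (a : AlgGrp.Action G X) (x : 𝟙_ (Over (Spec (CommRingCat.of k))) ⟶ X) :
    (a.orbitMap x).left (ept G) = x.left (show PrimeSpectrum k from ⊥) := by
  show (η[G] ≫ a.orbitMap x).left _ = _
  rw [unit_orbit]

theorem exists_nat_fibreDim (a : AlgGrp.Action G X) [LocallyOfFiniteType G.hom]
    (x : 𝟙_ (Over (Spec (CommRingCat.of k))) ⟶ X) :
    ∃ d : ℕ, ∀ g : G.left, FlatMor.fibreDimAt (a.orbitMap x).left g = (d : WithBot ℕ∞) := by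
  haveI := lft_left a x
  obtain ⟨z, n, -, -, -, -, h⟩ :=
    EquidimAt.exists_maximal_trdeg_eq_fibreDimAt (a.orbitMap x).left (ept G)
  exact ⟨n, fun g => (fibreDimAt_const a x g (ept G)).trans h⟩

theorem dim_stabilizer (a : AlgGrp.Action G X) [LocallyOfFiniteType G.hom]
    (x : 𝟙_ (Over (Spec (CommRingCat.of k))) ⟶ X) (d : ℕ)
    (hd : ∀ g : G.left, FlatMor.fibreDimAt (a.orbitMap x).left g = (d : WithBot ℕ∞)) :
    topologicalKrullDim ↥(pullback (a.orbitMap x).left x.left) = (d : WithBot ℕ∞) := by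
  haveI := lft_left a x
  set ps := pullback.snd (a.orbitMap x).left x.left with hps
  haveI : LocallyOfFiniteType ps := MorphismProperty.pullback_snd _ _ inferInstance
  have hsq := IsPullback.of_hasPullback (a.orbitMap x).left x.left
  have hfd : ∀ p, FlatMor.fibreDimAt ps p = (d : WithBot ℕ∞) :=
    fun p => (FibreDimBC.fibreDimAt_eq hsq p).trans (hd _)
  let y : ↥(𝟙_ (Over (Spec (CommRingCat.of k)))).left := (show PrimeSpectrum k from ⊥)
  have hy : ∀ p, ps p = y := fun p => Subsingleton.elim (α := PrimeSpectrum k) _ _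
  have hdim : topologicalKrullDim ↥(pullback (a.orbitMap x).left x.left) =
      topologicalKrullDim ↥(ps.fiber y) := by
    rw [FTDim.dim_fiber_eq, ← dim_univ]
    have : (Set.univ : Set ↥(pullback (a.orbitMap x).left x.left)) = ps.base ⁻¹' {y} := by
      ext p
      simp only [Set.mem_univ, Set.mem_preimage, Set.mem_singleton_iff, true_iff]
      exact hy p
    rw [this]
  rw [hdim]
  apply le_antisymm
  · exact (ConsFD.dim_fiber_le_iff ps y d).mpr (fun p _ => (hfd p).le)
  · obtain ⟨p₀, -, -⟩ := Scheme.Pullback.exists_preimage_pullback (f := (a.orbitMap x).left)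
      (g := x.left) (ept G) (show PrimeSpectrum k from ⊥) (orbit_ept a x)
    rw [← hfd p₀]
    exact GenDim.fibreDimAt_le_dim_fiber ps p₀ y (hy p₀)

theorem withBot_add_le_of_forall {α : Type*} (P : α → Prop) (t : α → ℕ) (D N : WithBot ℕ∞) (d : ℕ)
    (hne : ∃ y, P y) (hN : ∀ y, P y → ((t y + d : ℕ) : WithBot ℕ∞) ≤ N)
    (hD : ∀ M : WithBot ℕ∞, (∀ y, P y → (t y : WithBot ℕ∞) ≤ M) → D ≤ M) :
    D + (d : WithBot ℕ∞) ≤ N := by
  obtain ⟨y₀, hy₀⟩ := hne
  induction N using WithBot.recBotCoe with
  | bot => exact absurd (hN y₀ hy₀) (by simp)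
  | coe N =>
    induction N using ENat.recTopCoe with
    | top => exact le_top
    | coe n =>
      have h0 : ∀ y, P y → t y + d ≤ n := fun y hy => by exact_mod_cast hN y hy
      have hdn : d ≤ n := (Nat.le_add_left d (t y₀)).trans (h0 y₀ hy₀)
      have h1 : D ≤ ((n - d : ℕ) : WithBot ℕ∞) := by
        apply hD
        intro y hy
        have := h0 y hy
        exact_mod_cast (by omega : t y ≤ n - d)
      calc D + (d : WithBot ℕ∞) ≤ ((n - d : ℕ) : WithBot ℕ∞) + (d : WithBot ℕ∞) :=
            add_le_add_left h1 _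
        _ = ((n : ℕ) : WithBot ℕ∞) := by
            have : n - d + d = n := by omega
            exact_mod_cast this

theorem dim_eq (a : AlgGrp.Action G X) [LocallyOfFiniteType G.hom] [QuasiCompact G.hom]
    [LocallyOfFiniteType X.hom] [QuasiCompact X.hom]
    (x : 𝟙_ (Over (Spec (CommRingCat.of k))) ⟶ X) (d : ℕ)
    (hd : ∀ g : G.left, FlatMor.fibreDimAt (a.orbitMap x).left g = (d : WithBot ℕ∞)) :
    topologicalKrullDim ↥G.left =
      topologicalKrullDim ↥(Set.range (a.orbitMap x).left.base) + (d : WithBot ℕ∞) := by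
  haveI := lft_left a x
  have hw : (a.orbitMap x).left ≫ X.hom = G.hom := Over.w _
  have hO : IsLocallyClosed (Set.range (a.orbitMap x).left.base) :=
    Groth.Agent.Helper18.OrbitLC.main k G X a x
  have htd : ∀ g : G.left, td G.hom g = td X.hom ((a.orbitMap x).left g) + td (a.orbitMap x).left g := by
    intro g
    rw [← hw]
    exact td_comp _ _ g
  apply le_antisymm
  · apply FTMisc.dim_le_of_forall_td k G.hom
    intro g
    have h2 : (td X.hom ((a.orbitMap x).left g) : WithBot ℕ∞) ≤
        topologicalKrullDim ↥(Set.range (a.orbitMap x).left.base) :=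
      FTSub.td_le_dim_of_isLocallyClosed k X.hom _ hO _ ⟨g, rfl⟩
    have h3 : (td (a.orbitMap x).left g : WithBot ℕ∞) ≤ d := by
      rw [← hd g]
      exact EquidimAt.trdeg_le_fibreDimAt (a.orbitMap x).left g g specializes_rfl _
        (td_spec (a.orbitMap x).left g)
    rw [htd g]
    push_cast
    exact add_le_add h2 h3
  · apply withBot_add_le_of_forall (fun y => y ∈ Set.range (a.orbitMap x).left.base) (td X.hom)
    · exact ⟨_, ept G, rfl⟩
    · rintro y ⟨g, rfl⟩
      obtain ⟨z, m, -, hz, -, hm, hfd⟩ :=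
        EquidimAt.exists_maximal_trdeg_eq_fibreDimAt (a.orbitMap x).left g
      have hmd : m = d := by
        rw [hd g] at hfd
        exact_mod_cast hfd.symm
      have h1 := htd z
      rw [td_eq _ z m hm, hmd, hz] at h1
      have h2 := FTMisc.td_le_dim_univ k G.hom z
      rw [h1] at h2
      exact h2
    · intro M hM
      exact FTSub.dim_le_of_forall_td_of_isLocallyClosed k X.hom _ hO M hM

theorem main16130 (a : AlgGrp.Action G X) [LocallyOfFiniteType G.hom] [QuasiCompact G.hom]
    [LocallyOfFiniteType X.hom] [QuasiCompact X.hom]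
    (x : 𝟙_ (Over (Spec (CommRingCat.of k))) ⟶ X) :
    topologicalKrullDim ↥G.left =
      topologicalKrullDim ↥(Set.range (a.orbitMap x).left.base) +
        topologicalKrullDim ↥(Limits.pullback (a.orbitMap x).left x.left) := by
  obtain ⟨d, hd⟩ := exists_nat_fibreDim a x
  rw [dim_stabilizer a x d hd]
  exact dim_eq a x d hd

theorem withBot_lt_of_add_one_le (D N : WithBot ℕ∞) (h : D + 1 ≤ N) (hN : N ≠ ⊤) (hN0 : 0 ≤ N) :
    D < N := by
  induction N using WithBot.recBotCoe with
  | bot => exact absurd hN0 (by simp)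
  | coe N =>
    induction N using ENat.recTopCoe with
    | top => exact absurd rfl hN
    | coe n =>
      induction D using WithBot.recBotCoe with
      | bot => exact WithBot.bot_lt_coe _
      | coe D =>
        induction D using ENat.recTopCoe with
        | top =>
          exfalso
          have h1 : ((⊤ : ℕ∞) : WithBot ℕ∞) + 1 = ((⊤ : ℕ∞) : WithBot ℕ∞) := by
            rw [show (1 : WithBot ℕ∞) = ((1 : ℕ∞) : WithBot ℕ∞) from rfl, ← WithBot.coe_add, top_add]
          rw [h1] at h
          have h2 : ((⊤ : ℕ∞)) ≤ ((n : ℕ∞)) := by exact_mod_cast h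
          simp at h2
        | coe m =>
          have h1 : m + 1 ≤ n := by exact_mod_cast h
          exact_mod_cast (by omega : m < n)

/-- the boundary of a locally closed subset has smaller dimension. -/
theorem dim_boundary_lt {P : Scheme.{u}} (q : P ⟶ Spec (CommRingCat.of k)) [LocallyOfFiniteType q]
    [QuasiCompact q] (O : Set P) (hO : IsLocallyClosed O) (hne : O.Nonempty) :
    topologicalKrullDim ↥(closure O \ O) < topologicalKrullDim ↥O := by
  haveI : IsLocallyNoetherian P := LocallyOfFiniteType.isLocallyNoetherian q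
  haveI : CompactSpace P := QuasiCompact.compactSpace_of_compactSpace q
  have hbd : IsClosed (closure O \ O) := by
    have := hO.isOpen_coborder
    rw [coborder] at this
    exact isOpen_compl_iff.mp this
  have hN0 : 0 ≤ topologicalKrullDim ↥O := by
    haveI : Nonempty ↥O := hne.to_subtype
    exact Groth.Agent.Helper9.TopDim.dim_nonneg_of_nonempty
  have hNtop : topologicalKrullDim ↥O ≠ ⊤ := by
    intro h
    have h1 : topologicalKrullDim ↥O ≤ topologicalKrullDim P := dim_subset_le O
    rw [h, top_le_iff] at h1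
    exact Groth.Agent.Helper23.WeilDim.krullDim_ne_top q h1
  by_cases hB : (closure O \ O).Nonempty
  · apply withBot_lt_of_add_one_le _ _ _ hNtop hN0
    apply withBot_add_le_of_forall (fun y => y ∈ closure O \ O) (td q) _ _ 1 hB
    · rintro z ⟨hz, hzO⟩
      obtain ⟨ζ, hζcl, hζz, hmax⟩ :=
        PITSch.exists_maximal_generization_mem (closure O) isClosed_closure z hz
      have hζO : ζ ∈ O :=
        WellInt.mem_of_mem_closure_of_maximal O
          (FTSub.isLocallyConstructible_of_isLocallyClosed O hO) ζ hζcl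
          (fun s' hs' h => hmax s' (subset_closure hs') h)
      have hne' : ζ ≠ z := fun h => hzO (h ▸ hζO)
      have h1 : td q z < td q ζ :=
        M14887.td_lt_of_specializes_of_ne q ζ z hζz (Subsingleton.elim (α := PrimeSpectrum k) _ _) hne'
      have h2 := FTSub.td_le_dim_of_isLocallyClosed k q O hO ζ hζO
      refine le_trans ?_ h2
      exact_mod_cast (by omega : td q z + 1 ≤ td q ζ)
    · intro M hM
      exact FTSub.dim_le_of_forall_td_of_isLocallyClosed k q _ hbd.isLocallyClosed M hM
  · rw [Set.not_nonempty_iff_eq_empty] at hB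
    rw [hB]
    haveI : IsEmpty ↥(∅ : Set P) := Set.isEmpty_coe_sort.mpr rfl
    rw [FTMisc.dim_eq_bot_of_isEmpty]
    exact lt_of_lt_of_le (WithBot.bot_lt_coe _) hN0

theorem main16131 (a : AlgGrp.Action G X) [LocallyOfFiniteType G.hom] [QuasiCompact G.hom]
    [LocallyOfFiniteType X.hom] [QuasiCompact X.hom]
    (x : 𝟙_ (Over (Spec (CommRingCat.of k))) ⟶ X) :
    topologicalKrullDim ↥(closure (Set.range (a.orbitMap x).left.base) \
        Set.range (a.orbitMap x).left.base) <
      topologicalKrullDim ↥(Set.range (a.orbitMap x).left.base) :=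
  dim_boundary_lt X.hom _ (Groth.Agent.Helper18.OrbitLC.main k G X a x) ⟨_, ept G, rfl⟩

end Groth.Agent.Helper16.Orbit
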