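import Mathlib
import Groth.Prelude
import Groth.Agent.Lib.Helper16.Sch.Orbit1
import Groth.Agent.Lib.Helper16.Sch.GrpHomFib
import Groth.Agent.Lib.Helper16.Sch.ImmSub
import Groth.Agent.Lib.Helper18.SchImgGrp3

set_option autoImplicit false
set_option linter.style.haveILetI false
universe u
open CategoryTheory CategoryTheory.Limits AlgebraicGeometry Opposite TopologicalSpace Topology
  MonoidalCategory CartesianMonoidalCategory MonObj GrpObj

noncomputable section

namespace Groth.Agent.Helper16.HomDim

open Groth.Agent.Helper14 Groth.Agent.Helper16 Groth.Agent.Helper16.FTDim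

/-- over a field: a morphism of locally finite type schemes with locally closed range and
constant fibre dimension `d` satisfies `dim G = dim (range) + d`. -/
theorem dim_eq_of_const {k : Type u} [Field k] {G H : Scheme.{u}}
    (p : G ⟶ Spec (CommRingCat.of k)) (q : H ⟶ Spec (CommRingCat.of k))
    [LocallyOfFiniteType p] [LocallyOfFiniteType q] (v : G ⟶ H) (hw : v ≫ q = p)
    (hO : IsLocallyClosed (Set.range v.base)) (g₀ : G) (d : ℕ)
    (hd : ∀ g : G, FlatMor.fibreDimAt v g = (d : WithBot ℕ∞)) :
    topologicalKrullDim ↥G =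
      topologicalKrullDim ↥(Set.range v.base) + (d : WithBot ℕ∞) := by
  haveI : LocallyOfFiniteType (v ≫ q) := by rw [hw]; infer_instance
  haveI : LocallyOfFiniteType v := locallyOfFiniteType_of_comp v q
  have htd : ∀ g : G, td p g = td q (v g) + td v g := by
    intro g
    subst hw
    exact td_comp _ _ g
  apply le_antisymm
  · apply FTMisc.dim_le_of_forall_td k p
    intro g
    have h2 : (td q (v g) : WithBot ℕ∞) ≤ topologicalKrullDim ↥(Set.range v.base) :=
      FTSub.td_le_dim_of_isLocallyClosed k q _ hO _ ⟨g, rfl⟩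
    have h3 : (td v g : WithBot ℕ∞) ≤ d := by
      rw [← hd g]
      exact EquidimAt.trdeg_le_fibreDimAt v g g specializes_rfl _ (td_spec v g)
    rw [htd g]
    push_cast
    exact add_le_add h2 h3
  · apply Orbit.withBot_add_le_of_forall (fun y => y ∈ Set.range v.base) (td q)
    · exact ⟨_, g₀, rfl⟩
    · rintro y ⟨g, rfl⟩
      obtain ⟨z, m, -, hz, -, hm, hfd⟩ := EquidimAt.exists_maximal_trdeg_eq_fibreDimAt v g
      have hmd : m = d := by
        rw [hd g] at hfd
        exact_mod_cast hfd.symm
      have h1 := htd z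
      rw [td_eq _ z m hm, hmd, hz] at h1
      have h2 := FTMisc.td_le_dim_univ k p z
      rw [h1] at h2
      exact h2
    · intro M hM
      exact FTSub.dim_le_of_forall_td_of_isLocallyClosed k q _ hO M hM

/-- over a field, a quasi-compact homomorphism of group schemes has closed range. -/
theorem isClosed_range_field (k : Type u) [Field k] (G H : Over (Spec (CommRingCat.of k)))
    [GrpObj G] [GrpObj H] (v : G ⟶ H) [IsMonHom v] [QuasiCompact v.left] :
    IsClosed (Set.range v.left.base) := by
  obtain ⟨H', _, i, f', -, -, hfi, hi, -, -, hsurj⟩ :=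
    Groth.Agent.Helper18.SchImgGrp.main3 k G H v
  have h1 : Set.range v.left.base = Set.range i.left.base := by
    rw [← hfi, Over.comp_left]
    ext y
    constructor
    · rintro ⟨x, rfl⟩
      exact ⟨f'.left x, rfl⟩
    · rintro ⟨z, rfl⟩
      obtain ⟨x, rfl⟩ := f'.left.surjective z
      exact ⟨x, rfl⟩
  rw [h1]
  exact i.left.isClosedEmbedding.isClosed_range


section
variable {S : Scheme.{u}} [Subsingleton S] {G H : Over S} [GrpObj G] [GrpObj H] (u : G ⟶ H)
  [IsMonHom u]

theorem dim_ker [LocallyOfFiniteType u.left] (s : S) (d : ℕ)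
    (hd : ∀ g : G.left, FlatMor.fibreDimAt u.left g = (d : WithBot ℕ∞)) :
    topologicalKrullDim ↥(pullback u.left (η[H] : 𝟙_ (Over S) ⟶ H).left) = (d : WithBot ℕ∞) := by
  set ps := pullback.snd u.left (η[H] : 𝟙_ (Over S) ⟶ H).left with hps
  haveI : LocallyOfFiniteType ps := MorphismProperty.pullback_snd _ _ inferInstance
  have hsq := IsPullback.of_hasPullback u.left (η[H] : 𝟙_ (Over S) ⟶ H).left
  have hfd : ∀ p, FlatMor.fibreDimAt ps p = (d : WithBot ℕ∞) :=
    fun p => (FibreDimBC.fibreDimAt_eq hsq p).trans (hd _)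
  let y : ↥(𝟙_ (Over S)).left := s
  have hy : ∀ p, ps p = y := fun p => Subsingleton.elim (α := S) _ _
  have hdim : topologicalKrullDim ↥(pullback u.left (η[H] : 𝟙_ (Over S) ⟶ H).left) =
      topologicalKrullDim ↥(ps.fiber y) := by
    rw [FTDim.dim_fiber_eq, ← dim_univ]
    have : (Set.univ : Set ↥(pullback u.left (η[H] : 𝟙_ (Over S) ⟶ H).left)) = ps.base ⁻¹' {y} := by
      ext p
      simp only [Set.mem_univ, Set.mem_preimage, Set.mem_singleton_iff, true_iff]
      exact hy p
    rw [this]
  rw [hdim]
  apply le_antisymm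
  · exact (ConsFD.dim_fiber_le_iff ps y d).mpr (fun p _ => (hfd p).le)
  · have h0 : u.left (η[G].left s) = (η[H] : 𝟙_ (Over S) ⟶ H).left s := by
      rw [← IsMonHom.one_hom (f := u), Over.comp_left]
      rfl
    obtain ⟨p₀, -, -⟩ := Scheme.Pullback.exists_preimage_pullback (f := u.left)
      (g := (η[H] : 𝟙_ (Over S) ⟶ H).left) (η[G].left s) s h0
    rw [← hfd p₀]
    exact GenDim.fibreDimAt_le_dim_fiber ps p₀ y (hy p₀)

end

open Groth.Agent.Helper16.ImmSub in
theorem main3016 (A : Type u) [CommRing A] [IsArtinianRing A] [IsLocalRing A]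
    (G H : Over (Spec (CommRingCat.of A))) [GrpObj G] [GrpObj H] [LocallyOfFiniteType G.hom]
    [LocallyOfFiniteType H.hom] (u : G ⟶ H) [IsMonHom u] [QuasiCompact u.left] :
    IsClosed (Set.range u.left.base) ∧
    topologicalKrullDim G.left =
      topologicalKrullDim (Set.range u.left.base) +
        topologicalKrullDim
          ↥(Limits.pullback u.left (η[H] : 𝟙_ (Over (Spec (CommRingCat.of A))) ⟶ H).left) := by
  let c : Spec (CommRingCat.of (IsLocalRing.ResidueField A)) ⟶ Spec (CommRingCat.of A) :=
    Spec.map (CommRingCat.ofHom (IsLocalRing.residue A))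
  haveI : IsClosedImmersion c :=
    IsClosedImmersion.spec_of_surjective _ IsLocalRing.residue_surjective
  haveI : Subsingleton ↥(Spec (CommRingCat.of A)) := Ring.KrullDimLE.subsingleton_primeSpectrum A
  haveI : Surjective c := ⟨fun y => ⟨IsLocalRing.closedPoint _, Subsingleton.elim _ _⟩⟩
  have hsq := isPullback_map u c
  haveI : QuasiCompact ((Over.pullback c).map u).left := MorphismProperty.of_isPullback hsq ‹_›
  have hcl : IsClosed (Set.range ((Over.pullback c).map u).left) :=
    isClosed_range_field (IsLocalRing.ResidueField A) _ _ ((Over.pullback c).map u)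
  have hclk := hcl
  rw [range_snd_of_isPullback hsq] at hcl
  haveI : Surjective (pullback.fst H.hom c) := inferInstance
  haveI : Surjective (pullback.fst G.hom c) := inferInstance
  have h2 : Set.range u.left = pullback.fst H.hom c '' (pullback.fst H.hom c ⁻¹' Set.range u.left) :=
    (Set.image_preimage_eq _ (pullback.fst H.hom c).surjective).symm
  have hclA : IsClosed (Set.range u.left.base) := by
    rw [h2]
    exact (pullback.fst H.hom c).isClosedEmbedding.isClosedMap _ hcl
  refine ⟨hclA, ?_⟩
  -- the constant fibre dimension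
  haveI : LocallyOfFiniteType (u.left ≫ H.hom) := by rw [Over.w]; infer_instance
  haveI : LocallyOfFiniteType u.left := locallyOfFiniteType_of_comp u.left H.hom
  let s : ↥(Spec (CommRingCat.of A)) := IsLocalRing.closedPoint A
  obtain ⟨z, d, -, -, -, -, h⟩ :=
    EquidimAt.exists_maximal_trdeg_eq_fibreDimAt u.left (η[G].left s)
  have hd : ∀ g : G.left, FlatMor.fibreDimAt u.left g = (d : WithBot ℕ∞) :=
    fun g => (GrpHomFib.fibreDimAt_const_hom u g (η[G].left s)).trans h
  rw [dim_ker u s d hd]
  -- pass to the residue field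
  have hdk : ∀ g, FlatMor.fibreDimAt ((Over.pullback c).map u).left g = (d : WithBot ℕ∞) :=
    fun g => (FibreDimBC.fibreDimAt_eq hsq g).trans (hd _)
  haveI : LocallyOfFiniteType ((Over.pullback c).obj G).hom := by
    show LocallyOfFiniteType (pullback.snd G.hom c)
    infer_instance
  haveI : LocallyOfFiniteType ((Over.pullback c).obj H).hom := by
    show LocallyOfFiniteType (pullback.snd H.hom c)
    infer_instance
  obtain ⟨g₀, -⟩ := (pullback.fst G.hom c).surjective (η[G].left s)
  have hk := dim_eq_of_const (k := IsLocalRing.ResidueField A) ((Over.pullback c).obj G).hom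
    ((Over.pullback c).obj H).hom ((Over.pullback c).map u).left (Over.w _)
    hclk.isLocallyClosed g₀ d hdk
  -- transfer
  have hG : IsHomeomorph (pullback.fst G.hom c) :=
    (isHomeomorph_iff_isEmbedding_surjective).mpr
      ⟨(pullback.fst G.hom c).isClosedEmbedding.isEmbedding, (pullback.fst G.hom c).surjective⟩
  have e1 := IsHomeomorph.topologicalKrullDim_eq _ hG
  have hH : IsHomeomorph (pullback.fst H.hom c) :=
    (isHomeomorph_iff_isEmbedding_surjective).mpr
      ⟨(pullback.fst H.hom c).isClosedEmbedding.isEmbedding, (pullback.fst H.hom c).surjective⟩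
  have e2 : topologicalKrullDim ↥(Set.range ((Over.pullback c).map u).left.base) =
      topologicalKrullDim ↥(Set.range u.left.base) := by
    rw [range_snd_of_isPullback hsq]
    conv_rhs => rw [h2]
    exact IsHomeomorph.topologicalKrullDim_eq _
      ((hH.homeomorph _).image (pullback.fst H.hom c ⁻¹' Set.range u.left)).isHomeomorph
  rw [← e1, ← e2]
  exact hk

end Groth.Agent.Helper16.HomDim
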