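import Mathlib
import Groth.Agent.Lib.Helper16.Sch.GenGS1
import Groth.Agent.Lib.Helper16.Sch.SmoothFibreSch

set_option autoImplicit false
set_option linter.style.haveILetI false
universe u
open CategoryTheory CategoryTheory.Limits AlgebraicGeometry Opposite TopologicalSpace

noncomputable section

namespace Groth.Agent.Helper16.GenGS

open Groth.Agent.Helper16.SmoothFibreSch

variable {X Y : Scheme.{u}}

instance lfp_fiberToSpecResidueField (g : X ⟶ Y) [LocallyOfFinitePresentation g] (y : Y) :
    LocallyOfFinitePresentation (g.fiberToSpecResidueField y) :=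
  MorphismProperty.pullback_snd (P := @LocallyOfFinitePresentation) _ _ inferInstance

/-- for a flat morphism locally of finite presentation, the smooth locus restricts on each fibre
to the smooth locus of the fibre -/
theorem mem_fiberι_preimage_smoothLocus_iff (g : X ⟶ Y) [Flat g] [LocallyOfFinitePresentation g]
    (y : Y) (z : g.fiber y) :
    g.fiberι y z ∈ g.smoothLocus ↔ z ∈ (g.fiberToSpecResidueField y).smoothLocus := by
  have hy : g (g.fiberι y z) = y := by
    have : g.fiberι y z ∈ Set.range (g.fiberι y) := ⟨z, rfl⟩
    rw [g.range_fiberι y] at this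
    exact this
  obtain ⟨x, hx⟩ : ∃ x, x = g.fiberι y z := ⟨_, rfl⟩
  rw [← hx] at hy ⊢
  subst hy
  have hz : z = g.asFiber x := by
    apply (g.fiberι (g x)).isEmbedding.injective
    rw [g.fiberι_asFiber x]
    exact hx.symm
  rw [hz, mem_smoothLocus_iff_flat_and_fiber g x]
  constructor
  · intro h; exact h.2
  · intro h; exact ⟨Flat.stalkMap g x, h⟩

theorem fiberι_preimage_smoothLocus (g : X ⟶ Y) [Flat g] [LocallyOfFinitePresentation g]
    (y : Y) : g.fiberι y ⁻¹ᵁ g.smoothLocus = (g.fiberToSpecResidueField y).smoothLocus := by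
  ext z
  exact mem_fiberι_preimage_smoothLocus_iff g y z

end Groth.Agent.Helper16.GenGS
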