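import Mathlib
import Groth.Agent.Lib.Helper2.GenericFreeMain

set_option autoImplicit false
set_option linter.style.haveILetI false
universe u

namespace Groth.Agent.Helper16.GenNzd

open Groth.Agent.Helper2.GenericFree TensorProduct
open scoped nonZeroDivisors

/-- An injective endomorphism with projective cokernel stays injective after any base change. -/
theorem lTensor_injective_of_projective {A M N : Type*} [CommRing A] [AddCommGroup M] [Module A M]
    [AddCommGroup N] [Module A N] [Module.Projective A N] (G : M →ₗ[A] M) (π : M →ₗ[A] N)
    (hG : Function.Injective G) (hπ : Function.Surjective π) (hex : Function.Exact G π)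
    (L : Type*) [AddCommGroup L] [Module A L] : Function.Injective (LinearMap.lTensor L G) := by
  obtain ⟨s, hs⟩ := Module.projective_lifting_property π LinearMap.id hπ
  have h1 : ∃ l : N →ₗ[A] M, π ∘ₗ l = LinearMap.id := ⟨s, hs⟩
  obtain ⟨ρ, hρ⟩ := ((hex.split_tfae hG hπ).out 0 1).mp h1
  intro x y hxy
  have := congrArg (LinearMap.lTensor L ρ) hxy
  rwa [← LinearMap.comp_apply, ← LinearMap.comp_apply, ← LinearMap.lTensor_comp, hρ,
    LinearMap.lTensor_id, LinearMap.id_apply, LinearMap.id_apply] at this

theorem free_tensor {R M : Type u} [CommRing R] [AddCommGroup M] [Module R M] {f : R}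
    (h : GFree f M) : Module.Free (Localization.Away f) (Localization.Away f ⊗[R] M) := by
  haveI := h.free_localizedModule
  exact Module.Free.of_equiv (IsLocalizedModule.isBaseChange (Submonoid.powers f)
    (Localization.Away f) (LocalizedModule.mkLinearMap (Submonoid.powers f) M)).equiv.symm

end Groth.Agent.Helper16.GenNzd
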