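import Mathlib
import Groth.Agent.Lib.Helper16.Sch.GenNzd1

set_option autoImplicit false
set_option linter.style.haveILetI false
universe u

namespace Groth.Agent.Helper16.GenNzd

open Groth.Agent.Helper2.GenericFree TensorProduct
open scoped nonZeroDivisors

attribute [local instance] Algebra.TensorProduct.rightAlgebra

/-- if `g` is a nonzerodivisor generically, elements killed by `g` are torsion. -/
theorem exists_smul_eq_zero_of_mul_eq_zero {A K B : Type u} [CommRing A] [IsDomain A] [Field K]
    [Algebra A K] [IsFractionRing A K] [CommRing B] [Algebra A B] (g : B)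
    (h : ∀ t : K ⊗[A] B, (1 ⊗ₜ g) * t = 0 → t = 0) (b : B) (hb : g * b = 0) :
    ∃ r : A, r ≠ 0 ∧ r • b = 0 := by
  haveI : IsLocalization (Algebra.algebraMapSubmonoid B A⁰) (K ⊗[A] B) := inferInstance
  have h1 : algebraMap B (K ⊗[A] B) b = 0 := by
    apply h
    show ((1 : K) ⊗ₜ[A] g) * ((1 : K) ⊗ₜ[A] b) = 0
    rw [Algebra.TensorProduct.tmul_mul_tmul, hb, tmul_zero]
  rw [IsLocalization.map_eq_zero_iff (Algebra.algebraMapSubmonoid B A⁰)] at h1
  obtain ⟨⟨_, r, hr, rfl⟩, hm⟩ := h1
  exact ⟨r, nonZeroDivisors.ne_zero hr, by rw [Algebra.smul_def]; exact hm⟩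

theorem nzd_localized {A K B : Type u} [CommRing A] [IsDomain A] [Field K]
    [Algebra A K] [IsFractionRing A K] [CommRing B] [Algebra A B] [Algebra.FiniteType A B] (g : B)
    (h : ∀ t : K ⊗[A] B, (1 ⊗ₜ g) * t = 0 → t = 0) :
    ∃ a : A, a ≠ 0 ∧ ∀ (L : Type u) [AddCommGroup L] [Module (Localization.Away a) L],
      Function.Injective (LinearMap.lTensor L
        (LinearMap.baseChange (Localization.Away a) (LinearMap.mulLeft A g))) := by
  let C := B ⧸ Ideal.span {g}
  haveI : Algebra.FiniteType A C :=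
    Algebra.FiniteType.of_surjective (Ideal.Quotient.mkₐ A (Ideal.span {g}))
      Ideal.Quotient.mk_surjective
  obtain ⟨a₁, ha₁, h₁⟩ := exists_gfree (R := A) B B
  obtain ⟨a₂, ha₂, h₂⟩ := exists_gfree (R := A) C C
  have hB : GFree (a₁ * a₂) B := h₁.mul ha₂
  have hC : GFree (a₁ * a₂) C := h₂.mul' ha₁
  refine ⟨a₁ * a₂, mul_ne_zero ha₁ ha₂, ?_⟩
  set a := a₁ * a₂ with ha
  intro L _ _
  let μ : B →ₗ[A] B := LinearMap.mulLeft A g
  let π : B →ₗ[A] C := (Ideal.Quotient.mkₐ A (Ideal.span {g})).toLinearMap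
  have hπ : Function.Surjective π := Ideal.Quotient.mk_surjective
  have hex : Function.Exact μ π := by
    intro b
    constructor
    · intro hb
      have : b ∈ Ideal.span {g} := Ideal.Quotient.eq_zero_iff_mem.mp hb
      obtain ⟨c, rfl⟩ := Ideal.mem_span_singleton'.mp this
      exact ⟨c, mul_comm g c⟩
    · rintro ⟨c, rfl⟩
      exact Ideal.Quotient.eq_zero_iff_mem.mpr
        (Ideal.mul_mem_right _ _ (Ideal.mem_span_singleton_self g))
  haveI : Module.Free (Localization.Away a) (Localization.Away a ⊗[A] C) := free_tensor hC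
  let G := LinearMap.baseChange (Localization.Away a) μ
  let π' := LinearMap.baseChange (Localization.Away a) π
  have hπ' : Function.Surjective π' := LinearMap.lTensor_surjective _ hπ
  have hex' : Function.Exact G π' := lTensor_exact _ hex hπ
  have hG : Function.Injective G := by
    rw [injective_iff_map_eq_zero]
    intro m hm
    obtain ⟨⟨b, s⟩, hs⟩ := IsLocalizedModule.surj (Submonoid.powers a)
      (TensorProduct.mk A (Localization.Away a) B 1) m
    have h3 : G (s • m) = 0 := by
      rw [Submonoid.smul_def, ← algebraMap_smul (Localization.Away a), map_smul, hm, smul_zero]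
    rw [hs] at h3
    have h4 : (TensorProduct.mk A (Localization.Away a) B 1) (g * b) = 0 := h3
    rw [IsLocalizedModule.eq_zero_iff (Submonoid.powers a)] at h4
    obtain ⟨s', hs'⟩ := h4
    have h5 : g * (s' • b) = 0 := by rw [mul_smul_comm]; exact hs'
    obtain ⟨r, hr0, hr⟩ := exists_smul_eq_zero_of_mul_eq_zero g h _ h5
    obtain ⟨k, hk⟩ := hB.pow_smul_eq_zero_of_torsion _ r hr0 hr
    have h6 : (TensorProduct.mk A (Localization.Away a) B 1) b = 0 := by
      rw [IsLocalizedModule.eq_zero_iff (Submonoid.powers a)]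
      refine ⟨⟨a ^ k, k, rfl⟩ * s', ?_⟩
      rw [mul_smul]; exact hk
    rw [h6] at hs
    exact IsLocalizedModule.smul_injective (TensorProduct.mk A (Localization.Away a) B 1) s
      (by simpa using hs)
  exact lTensor_injective_of_projective G π' hG hπ' hex' L

end Groth.Agent.Helper16.GenNzd
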