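import Mathlib
import Groth.Agent.Lib.Helper16.Sch.GenNzd2

set_option autoImplicit false
set_option linter.style.haveILetI false
universe u

namespace Groth.Agent.Helper16.GenNzd

open Groth.Agent.Helper2.GenericFree TensorProduct
open scoped nonZeroDivisors

/-- If `1 ⊗ g` is a nonzerodivisor on the generic fibre, it is a nonzerodivisor on the fibres over
a nonempty open. -/
theorem nzd_spread {A K B : Type u} [CommRing A] [IsDomain A] [Field K]
    [Algebra A K] [IsFractionRing A K] [CommRing B] [Algebra A B] [Algebra.FiniteType A B] (g : B)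
    (h : ∀ t : K ⊗[A] B, (1 ⊗ₜ g) * t = 0 → t = 0) :
    ∃ a : A, a ≠ 0 ∧ ∀ (L : Type u) [Field L] [Algebra A L], algebraMap A L a ≠ 0 →
      ∀ t : L ⊗[A] B, (1 ⊗ₜ g) * t = 0 → t = 0 := by
  obtain ⟨a, ha0, H⟩ := nzd_localized g h
  refine ⟨a, ha0, ?_⟩
  intro L _ _ haL t ht
  let ψ : Localization.Away a →ₐ[A] L :=
    IsLocalization.liftAlgHom (M := Submonoid.powers a) (f := Algebra.ofId A L)
      (by rintro ⟨_, k, rfl⟩; simpa using (pow_ne_zero k haL).isUnit)
  letI : Algebra (Localization.Away a) L := ψ.toRingHom.toAlgebra
  haveI : IsScalarTower A (Localization.Away a) L :=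
    IsScalarTower.of_algebraMap_eq' (by
      ext r
      exact (ψ.commutes r).symm)
  let e := Algebra.TensorProduct.cancelBaseChange A (Localization.Away a) L L B
  let G := LinearMap.baseChange (Localization.Away a) (LinearMap.mulLeft A g)
  have key : ∀ t' : L ⊗[Localization.Away a] (Localization.Away a ⊗[A] B),
      e (LinearMap.lTensor L G t') = (1 ⊗ₜ g) * e t' := by
    intro t'
    induction t' using TensorProduct.induction_on with
    | zero => simp
    | tmul l m =>
      induction m using TensorProduct.induction_on with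
      | zero => simp
      | tmul x b =>
        simp only [LinearMap.lTensor_tmul, G, LinearMap.baseChange_tmul, LinearMap.mulLeft_apply, e,
          Algebra.TensorProduct.cancelBaseChange_tmul, Algebra.TensorProduct.tmul_mul_tmul, one_mul]
      | add m₁ m₂ h₁ h₂ =>
        rw [tmul_add, map_add, map_add, h₁, h₂, map_add, mul_add]
    | add t₁ t₂ h₁ h₂ => rw [map_add, map_add, h₁, h₂, map_add, mul_add]
  have h1 : LinearMap.lTensor L G (e.symm t) = 0 := by
    apply e.injective
    rw [key, AlgEquiv.apply_symm_apply, ht, map_zero]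
  have h2 : e.symm t = 0 := H L (by rw [h1, map_zero])
  have := congrArg e h2
  rwa [AlgEquiv.apply_symm_apply, map_zero] at this

end Groth.Agent.Helper16.GenNzd
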