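import Mathlib
import Groth.Agent.Lib.Helper16.Sch.GenNzd3

set_option autoImplicit false
set_option linter.style.haveILetI false
universe u

namespace Groth.Agent.Helper16.GenNzd

open TensorProduct
open scoped nonZeroDivisors

attribute [local instance] Algebra.TensorProduct.rightAlgebra

/-- If the open defined by an ideal `S` is scheme theoretically dense in the generic fibre, then
`S` contains an element which is a nonzerodivisor on the generic fibre. -/
theorem exists_nzd_mem {A K B : Type u} [CommRing A] [IsDomain A] [Field K]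
    [Algebra A K] [IsFractionRing A K] [CommRing B] [Algebra A B] [Algebra.FiniteType A B]
    (S : Ideal B)
    (H : ∀ t : K ⊗[A] B, (∀ s ∈ S, ∃ n : ℕ, (1 ⊗ₜ s) ^ n * t = 0) → t = 0) :
    ∃ g ∈ S, ∀ t : K ⊗[A] B, (1 ⊗ₜ g) * t = 0 → t = 0 := by
  haveI : Algebra.FiniteType K (K ⊗[A] B) := inferInstance
  haveI : IsNoetherianRing (K ⊗[A] B) := Algebra.FiniteType.isNoetherianRing K _
  haveI : IsLocalization (Algebra.algebraMapSubmonoid B A⁰) (K ⊗[A] B) := inferInstance
  let J : Ideal (K ⊗[A] B) := Ideal.map (algebraMap B (K ⊗[A] B)) S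
  have hJ : ¬ Disjoint (J : Set (K ⊗[A] B)) (nonZeroDivisors (K ⊗[A] B)) := by
    intro hdis
    have hlt := Ideal.bot_lt_annihilator_of_disjoint_nonZeroDivisors hdis
    obtain ⟨x, hx, hx0⟩ := SetLike.exists_of_lt hlt
    apply hx0
    rw [Ideal.mem_bot]
    apply H
    intro s hs
    refine ⟨1, ?_⟩
    rw [pow_one]
    have hmem : algebraMap B (K ⊗[A] B) s ∈ J := Ideal.mem_map_of_mem _ hs
    have := (Module.mem_annihilator.mp hx) ⟨_, hmem⟩
    have h2 : x * algebraMap B (K ⊗[A] B) s = 0 := congrArg Subtype.val this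
    rw [mul_comm] at h2
    exact h2
  rw [Set.not_disjoint_iff] at hJ
  obtain ⟨j, hjJ, hj⟩ := hJ
  obtain ⟨⟨⟨g, hg⟩, m⟩, hm⟩ :=
    (IsLocalization.mem_map_algebraMap_iff (Algebra.algebraMapSubmonoid B A⁰) (K ⊗[A] B)).mp hjJ
  refine ⟨g, hg, fun t ht => ?_⟩
  have hunit : IsUnit (algebraMap B (K ⊗[A] B) m) := IsLocalization.map_units _ m
  have h1 : (1 : K) ⊗ₜ[A] g = j * algebraMap B (K ⊗[A] B) m := hm.symm
  rw [h1, mul_assoc] at ht
  have h2 := (mem_nonZeroDivisors_iff.mp hj).1 _ ht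
  exact hunit.mul_right_eq_zero.mp h2 |> fun h => by simpa using h

end Groth.Agent.Helper16.GenNzd
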