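import Mathlib
import Groth.Agent.Lib.Helper16.Sch.GenNzd4
import Groth.Agent.Lib.Helper16.Sch.GenRed2

set_option autoImplicit false
set_option linter.style.haveILetI false
universe u

namespace Groth.Agent.Helper16.GenNzd

open TensorProduct Groth.Agent.Helper16.GenRed
open scoped nonZeroDivisors

theorem includeRight_surjective_of_surjective {R A B : Type*} [CommRing R] [CommRing A]
    [Algebra R A] [CommRing B] [Algebra R B] (h : Function.Surjective (algebraMap R A)) :
    Function.Surjective (Algebra.TensorProduct.includeRight : B →ₐ[R] A ⊗[R] B) := by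
  intro t
  induction t using TensorProduct.induction_on with
  | zero => exact ⟨0, map_zero _⟩
  | tmul x b =>
    obtain ⟨r, rfl⟩ := h x
    refine ⟨r • b, ?_⟩
    rw [Algebra.TensorProduct.includeRight_apply, TensorProduct.tmul_smul,
      TensorProduct.smul_tmul', Algebra.smul_def, mul_one]
  | add t₁ t₂ h₁ h₂ =>
    obtain ⟨b₁, rfl⟩ := h₁
    obtain ⟨b₂, rfl⟩ := h₂
    exact ⟨b₁ + b₂, map_add _ _ _⟩

/-- Over a ring with prime nilradical: if the open defined by the ideal `S` is scheme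
theoretically dense in the generic fibre, there is `g ∈ S` which is a nonzerodivisor on all fibres
over a nonempty open. -/
theorem exists_nzd_spread {R K₀ B : Type u} [CommRing R] [Field K₀] [Algebra R K₀] [CommRing B]
    [Algebra R B] [Algebra.FiniteType R B] (hn : (nilradical R).IsPrime)
    (h1 : ∀ r : R, algebraMap R K₀ r = 0 → IsNilpotent r)
    (h2 : ∀ z : K₀, ∃ x y : R, z = algebraMap R K₀ x / algebraMap R K₀ y)
    (S : Ideal B)
    (H : ∀ t : K₀ ⊗[R] B, (∀ s ∈ S, ∃ n : ℕ, (1 ⊗ₜ s) ^ n * t = 0) → t = 0) :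
    ∃ g ∈ S, ∃ a : R, ¬ IsNilpotent a ∧ ∀ (L : Type u) [Field L] [Algebra R L],
      algebraMap R L a ≠ 0 → ∀ t : L ⊗[R] B, (1 ⊗ₜ g) * t = 0 → t = 0 := by
  haveI : IsDomain (R ⧸ nilradical R) := Ideal.Quotient.isDomain _
  letI : Algebra (R ⧸ nilradical R) K₀ := algebraQuotNilradical R K₀
  haveI : IsScalarTower R (R ⧸ nilradical R) K₀ := isScalarTower_quotNilradical R K₀
  haveI : FaithfulSMul (R ⧸ nilradical R) K₀ := by
    rw [faithfulSMul_iff_algebraMap_injective, injective_iff_map_eq_zero]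
    intro x hx
    obtain ⟨r, rfl⟩ := Ideal.Quotient.mk_surjective x
    exact Ideal.Quotient.eq_zero_iff_mem.mpr (mem_nilradical.mpr (h1 r hx))
  haveI : IsFractionRing (R ⧸ nilradical R) K₀ := by
    refine IsFractionRing.of_field (R := R ⧸ nilradical R) (K := K₀) (fun z => ?_)
    obtain ⟨x, y, rfl⟩ := h2 z
    exact ⟨Ideal.Quotient.mk _ x, Ideal.Quotient.mk _ y, rfl⟩
  let ir : B →ₐ[R] (R ⧸ nilradical R) ⊗[R] B := Algebra.TensorProduct.includeRight
  have hir : Function.Surjective ir :=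
    includeRight_surjective_of_surjective Ideal.Quotient.mk_surjective
  let S' : Ideal ((R ⧸ nilradical R) ⊗[R] B) := S.map ir
  have etmul : ∀ (L : Type u) [Field L] [Algebra R L] [Algebra (R ⧸ nilradical R) L]
      [IsScalarTower R (R ⧸ nilradical R) L] (b : B),
      Algebra.TensorProduct.cancelBaseChange R (R ⧸ nilradical R) L L B
        ((1 : L) ⊗ₜ[R ⧸ nilradical R] ir b) = (1 : L) ⊗ₜ[R] b := by
    intro L _ _ _ _ b
    show Algebra.TensorProduct.cancelBaseChange R (R ⧸ nilradical R) L L B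
        ((1 : L) ⊗ₜ[R ⧸ nilradical R] ((1 : R ⧸ nilradical R) ⊗ₜ[R] b)) = (1 : L) ⊗ₜ[R] b
    rw [Algebra.TensorProduct.cancelBaseChange_tmul, one_smul]
  have H' : ∀ t : K₀ ⊗[R ⧸ nilradical R] ((R ⧸ nilradical R) ⊗[R] B),
      (∀ s ∈ S', ∃ n : ℕ, (1 ⊗ₜ s) ^ n * t = 0) → t = 0 := by
    intro t ht
    let e := Algebra.TensorProduct.cancelBaseChange R (R ⧸ nilradical R) K₀ K₀ B
    have : e t = 0 := by
      apply H
      intro s hs
      obtain ⟨n, hn⟩ := ht (ir s) (Ideal.mem_map_of_mem _ hs)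
      refine ⟨n, ?_⟩
      have := congrArg e hn
      rwa [map_mul, map_pow, etmul K₀ s, map_zero] at this
    exact (map_eq_zero_iff e e.injective).mp this
  obtain ⟨g', hg', hg'nzd⟩ := exists_nzd_mem S' H'
  obtain ⟨g, hg, rfl⟩ := (Ideal.mem_map_iff_of_surjective ir hir).mp hg'
  obtain ⟨a, ha0, ha⟩ := nzd_spread (ir g) hg'nzd
  obtain ⟨a, rfl⟩ := Ideal.Quotient.mk_surjective a
  refine ⟨g, hg, a, fun hnil => ha0 (Ideal.Quotient.eq_zero_iff_mem.mpr (mem_nilradical.mpr hnil)),
    ?_⟩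
  intro L _ _ haL t ht
  letI : Algebra (R ⧸ nilradical R) L := algebraQuotNilradical R L
  haveI : IsScalarTower R (R ⧸ nilradical R) L := isScalarTower_quotNilradical R L
  let e := Algebra.TensorProduct.cancelBaseChange R (R ⧸ nilradical R) L L B
  have h3 : e.symm t = 0 := by
    apply ha L haL
    apply e.injective
    rw [map_mul, etmul L g, AlgEquiv.apply_symm_apply, ht, map_zero]
  have := congrArg e h3
  rwa [AlgEquiv.apply_symm_apply, map_zero] at this

end Groth.Agent.Helper16.GenNzd
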