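import Mathlib
import Groth.Agent.Lib.Helper16.Sch.GenRed6

set_option autoImplicit false
set_option linter.style.haveILetI false
universe u
open CategoryTheory CategoryTheory.Limits AlgebraicGeometry Opposite TopologicalSpace TensorProduct

noncomputable section

namespace Groth.Agent.Helper16.GenSD

open Groth.Agent.Helper16.GenRed

variable {X Y : Scheme.{u}} (f : X ⟶ Y) (y : Y)

/-- the ring of sections of a fibre over a chart is the tensor product -/
theorem exists_fiber_piece_equiv (W : Y.Opens) (hW : IsAffineOpen W) (hy : y ∈ W) (U : X.Opens)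
    (hU : IsAffineOpen U) (e : U ≤ f ⁻¹ᵁ W) :
    letI := (f.appLE W U e).hom.toAlgebra
    letI := ((Y.fromSpecResidueField y).appLE W ⊤ (top_le_preimage y W hy)).hom.toAlgebra
    ∃ E : (Γ(Spec (Y.residueField y), ⊤) ⊗[Γ(Y, W)] Γ(X, U)) ≃+*
        Γ(f.fiber y, f.fiberι y ⁻¹ᵁ U),
      ∀ b : Γ(X, U), E (1 ⊗ₜ b) = ((f.fiberι y).appLE U (f.fiberι y ⁻¹ᵁ U) le_rfl).hom b := by
  have H : IsPullback (f.fiberι y) (f.fiberToSpecResidueField y) f (Y.fromSpecResidueField y) :=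
    IsPullback.of_hasPullback _ _
  have hq := top_le_preimage y W hy
  have hUY := fiber_piece_eq f y U
  have hpo := (isIso_pushoutSection_iff H hq e hUY).mp
    (isIso_pushoutSection_of_isAffineOpen H hq e hUY hW (isAffineOpen_top _) hU)
  letI aRB := (f.appLE W U e).hom.toAlgebra
  letI aRL := ((Y.fromSpecResidueField y).appLE W ⊤ hq).hom.toAlgebra
  letI aBP := ((f.fiberι y).appLE U (f.fiberι y ⁻¹ᵁ U) le_rfl).hom.toAlgebra
  letI aLP := ((f.fiberToSpecResidueField y).appLE ⊤ (f.fiberι y ⁻¹ᵁ U)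
    (fun _ _ => trivial)).hom.toAlgebra
  letI aRP : Algebra Γ(Y, W) Γ(f.fiber y, f.fiberι y ⁻¹ᵁ U) :=
    ((algebraMap Γ(X, U) Γ(f.fiber y, f.fiberι y ⁻¹ᵁ U)).comp
      (algebraMap Γ(Y, W) Γ(X, U))).toAlgebra
  haveI : IsScalarTower Γ(Y, W) Γ(X, U) Γ(f.fiber y, f.fiberι y ⁻¹ᵁ U) :=
    IsScalarTower.of_algebraMap_eq' rfl
  haveI : IsScalarTower Γ(Y, W) Γ(Spec (Y.residueField y), ⊤)
      Γ(f.fiber y, f.fiberι y ⁻¹ᵁ U) :=
    IsScalarTower.of_algebraMap_eq' (by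
      have := congrArg CommRingCat.Hom.hom hpo.w
      exact this)
  haveI : Algebra.IsPushout Γ(Y, W) Γ(Spec (Y.residueField y), ⊤) Γ(X, U)
      Γ(f.fiber y, f.fiberι y ⁻¹ᵁ U) :=
    CommRingCat.isPushout_iff_isPushout.mp hpo.flip
  let E := Algebra.IsPushout.equiv Γ(Y, W) Γ(Spec (Y.residueField y), ⊤) Γ(X, U)
    Γ(f.fiber y, f.fiberι y ⁻¹ᵁ U)
  refine ⟨E.toRingEquiv, fun b => ?_⟩
  show E (1 ⊗ₜ b) = _
  rw [Algebra.IsPushout.equiv_tmul, map_one, one_mul]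
  rfl

end Groth.Agent.Helper16.GenSD
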