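import Mathlib

set_option autoImplicit false
set_option linter.style.haveILetI false
universe u
open CategoryTheory CategoryTheory.Limits AlgebraicGeometry Opposite TopologicalSpace TensorProduct

noncomputable section

namespace Groth.Agent.Helper16.GenSD

variable {F G : Scheme.{u}}

/-- restriction commutes with `app` -/
lemma app_res (j : G ⟶ F) (P D : F.Opens) (hDP : D ≤ P) (τ : Γ(F, P)) :
    (j.app D).hom ((F.presheaf.map (homOfLE hDP).op).hom τ) =
      (G.presheaf.map (homOfLE (show j ⁻¹ᵁ D ≤ j ⁻¹ᵁ P from fun _ hx => hDP hx)).op).hom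
        ((j.app P).hom τ) := by
  have := j.naturality (homOfLE hDP).op
  have h2 := congrArg (fun φ => φ.hom τ) this
  simp only [CommRingCat.hom_comp, RingHom.comp_apply] at h2
  exact h2

/-- sections killed by an open immersion vanish on opens contained in the image -/
lemma res_eq_zero_of_app_eq_zero (j : G ⟶ F) [IsOpenImmersion j] (P D : F.Opens) (hDP : D ≤ P)
    (hD : D ≤ j.opensRange) (τ : Γ(F, P)) (hτ : (j.app P).hom τ = 0) :
    (F.presheaf.map (homOfLE hDP).op).hom τ = 0 := by
  haveI := Scheme.Hom.isIso_app j D hD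
  have hinj : Function.Injective (j.app D).hom :=
    (ConcreteCategory.bijective_of_isIso (j.app D)).1
  apply hinj
  rw [app_res, hτ, map_zero, map_zero]

/-- if an open contains the nonvanishing locus of a nonzerodivisor, it is scheme theoretically
dense (on an affine chart) -/
theorem app_injective_of_nzd (j : G ⟶ F) [IsOpenImmersion j] (P : F.Opens) (hP : IsAffineOpen P)
    (γ : Γ(F, P)) (hγ : F.basicOpen γ ≤ j.opensRange)
    (hnzd : ∀ τ : Γ(F, P), γ * τ = 0 → τ = 0) :
    Function.Injective (j.app P).hom := by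
  rw [injective_iff_map_eq_zero]
  intro τ hτ
  have h2 : τ |_ (F.basicOpen γ) = 0 :=
    res_eq_zero_of_app_eq_zero j P _ (F.basicOpen_le γ) hγ τ hτ
  obtain ⟨n, hn⟩ := exists_pow_mul_eq_zero_of_res_basicOpen_eq_zero_of_isAffineOpen F hP τ γ h2
  induction n with
  | zero => simpa using hn
  | succ n ih =>
    apply ih
    apply hnzd
    rw [← mul_assoc, ← pow_succ']
    exact hn

/-- if an open is scheme theoretically dense (on an affine chart), sections killed by powers of
functions whose nonvanishing loci cover the open vanish. -/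
theorem eq_zero_of_app_injective (j : G ⟶ F) (P : F.Opens)
    (hinj : Function.Injective (j.app P).hom) (S : Set Γ(F, P))
    (hS : ∀ x ∈ j ⁻¹ᵁ P, ∃ s ∈ S, j x ∈ F.basicOpen s) (τ : Γ(F, P))
    (hτ : ∀ s ∈ S, ∃ n : ℕ, s ^ n * τ = 0) : τ = 0 := by
  apply hinj
  rw [map_zero]
  refine G.IsSheaf.section_ext (U := op (j ⁻¹ᵁ P)) fun x hx => ?_
  obtain ⟨s, hs, hxs⟩ := hS x hx
  obtain ⟨n, hn⟩ := hτ s hs
  have hDP : F.basicOpen s ≤ P := F.basicOpen_le s
  have hD : j ⁻¹ᵁ F.basicOpen s ≤ j ⁻¹ᵁ P := fun _ h => hDP h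
  refine ⟨j ⁻¹ᵁ F.basicOpen s, hD, hxs, ?_⟩
  rw [map_zero]
  have e1 := app_res j P _ hDP τ
  refine e1.symm.trans ?_
  have hunit : IsUnit ((F.presheaf.map (homOfLE hDP).op).hom s) :=
    F.toRingedSpace.isUnit_res_basicOpen s
  have h3 := congrArg (F.presheaf.map (homOfLE hDP).op).hom hn
  rw [map_mul, map_pow, map_zero] at h3
  have h4 := (hunit.pow n).mul_right_eq_zero.mp h3
  rw [h4, map_zero]

end Groth.Agent.Helper16.GenSD
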