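import Mathlib
import Groth.Agent.Lib.Helper16.Sch.GenSD1
import Groth.Agent.Lib.Helper16.Sch.GenSD2
import Groth.Agent.Lib.Helper16.Sch.GenNzd5

set_option autoImplicit false
set_option linter.style.haveILetI false
universe u
open CategoryTheory CategoryTheory.Limits AlgebraicGeometry Opposite TopologicalSpace TensorProduct

noncomputable section

namespace Groth.Agent.Helper16.GenSD

open Groth.Agent.Helper16.GenRed Groth.Agent.Helper16.GenNzd

variable {X Y : Scheme.{u}}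

/-- the ideal of functions on `U₀` whose nonvanishing locus is contained in `U` -/
def idealOf (U₀ U : X.Opens) : Ideal Γ(X, U₀) where
  carrier := {g | X.basicOpen g ≤ U}
  add_mem' := by
    intro a b ha hb
    exact (X.basicOpen_add_le a b).trans (sup_le ha hb)
  zero_mem' := by
    show X.basicOpen (0 : Γ(X, U₀)) ≤ U
    rw [Scheme.basicOpen_zero]; exact bot_le
  smul_mem' := by
    intro c x hx
    show X.basicOpen (c * x) ≤ U
    rw [Scheme.basicOpen_mul]; exact inf_le_right.trans hx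

lemma mem_idealOf {U₀ U : X.Opens} {g : Γ(X, U₀)} : g ∈ idealOf U₀ U ↔ X.basicOpen g ≤ U :=
  Iff.rfl

theorem chart (f : X ⟶ Y) [IrreducibleSpace Y] [LocallyOfFiniteType f]
    (W : Y.Opens) (hW : IsAffineOpen W) (hηW : genericPoint Y ∈ W)
    (hn : (nilradical Γ(Y, W)).IsPrime)
    (U₀ : X.Opens) (hU₀ : IsAffineOpen U₀) (e : U₀ ≤ f ⁻¹ᵁ W) (U : X.Opens)
    (h : Function.Injective ((f.fiberι (genericPoint Y) ⁻¹ᵁ U).ι.app
      (f.fiberι (genericPoint Y) ⁻¹ᵁ U₀)).hom) :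
    ∃ a : Γ(Y, W), ¬ IsNilpotent a ∧ ∀ y ∈ Y.basicOpen a,
      Function.Injective ((f.fiberι y ⁻¹ᵁ U).ι.app (f.fiberι y ⁻¹ᵁ U₀)).hom := by
  letI : Algebra Γ(Y, W) Γ(X, U₀) := (f.appLE W U₀ e).hom.toAlgebra
  haveI : Algebra.FiniteType Γ(Y, W) Γ(X, U₀) := f.finiteType_appLE hW hU₀ e
  letI : Field Γ(Spec (Y.residueField (genericPoint Y)), ⊤) :=
    (isField_ΓSpec_residueField (genericPoint Y)).toField
  letI : Algebra Γ(Y, W) Γ(Spec (Y.residueField (genericPoint Y)), ⊤) :=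
    ((Y.fromSpecResidueField (genericPoint Y)).appLE W ⊤
      (top_le_preimage _ W hηW)).hom.toAlgebra
  obtain ⟨E, hE⟩ := exists_fiber_piece_equiv f (genericPoint Y) W hW hηW U₀ hU₀ e
  have H : ∀ t : Γ(Spec (Y.residueField (genericPoint Y)), ⊤) ⊗[Γ(Y, W)] Γ(X, U₀),
      (∀ s ∈ idealOf U₀ U, ∃ n : ℕ, (1 ⊗ₜ s) ^ n * t = 0) → t = 0 := by
    intro t ht
    have : E t = 0 := by
      refine eq_zero_of_app_injective (f.fiberι (genericPoint Y) ⁻¹ᵁ U).ι
        (f.fiberι (genericPoint Y) ⁻¹ᵁ U₀) h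
        (((f.fiberι (genericPoint Y)).appLE U₀ (f.fiberι (genericPoint Y) ⁻¹ᵁ U₀) le_rfl).hom ''
          (idealOf U₀ U : Set Γ(X, U₀))) ?_ (E t) ?_
      · intro x hx
        have hxU : f.fiberι (genericPoint Y) x.1 ∈ U := x.2
        have hxU₀ : f.fiberι (genericPoint Y) x.1 ∈ U₀ := hx
        obtain ⟨g, hg, hxg⟩ := hU₀.exists_basicOpen_le ⟨f.fiberι (genericPoint Y) x.1, hxU⟩ hxU₀
        refine ⟨_, ⟨g, hg, rfl⟩, ?_⟩
        erw [Scheme.basicOpen_appLE]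
        exact ⟨hxU₀, hxg⟩
      · rintro _ ⟨s, hs, rfl⟩
        obtain ⟨n, hn⟩ := ht s hs
        refine ⟨n, ?_⟩
        rw [← hE, ← map_pow, ← map_mul, hn, map_zero]
    exact (map_eq_zero_iff E E.injective).mp this
  obtain ⟨g, hg, a, ha, Ha⟩ := exists_nzd_spread hn
    (fun r hr => isNilpotent_of_appLE_eq_zero W hW hηW r hr)
    (fun z => exists_eq_div_appLE (genericPoint Y) W hW hηW z) (idealOf U₀ U) H
  refine ⟨a, ha, fun y hy => ?_⟩
  have hyW : y ∈ W := Y.basicOpen_le a hy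
  letI : Field Γ(Spec (Y.residueField y), ⊤) := (isField_ΓSpec_residueField y).toField
  letI : Algebra Γ(Y, W) Γ(Spec (Y.residueField y), ⊤) :=
    ((Y.fromSpecResidueField y).appLE W ⊤ (top_le_preimage _ W hyW)).hom.toAlgebra
  obtain ⟨Ey, hEy⟩ := exists_fiber_piece_equiv f y W hW hyW U₀ hU₀ e
  have hnzd := Ha Γ(Spec (Y.residueField y), ⊤) ((appLE_ne_zero_iff y W hyW a).mpr hy)
  have hP := isAffineOpen_fiber_piece f y W hW hyW U₀ hU₀ e
  refine app_injective_of_nzd (f.fiberι y ⁻¹ᵁ U).ι (f.fiberι y ⁻¹ᵁ U₀) hP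
    (((f.fiberι y).appLE U₀ (f.fiberι y ⁻¹ᵁ U₀) le_rfl).hom g) ?_ ?_
  · rw [Scheme.Opens.opensRange_ι]
    erw [Scheme.basicOpen_appLE]
    intro x hx
    exact hg hx.2
  · intro τ hτ
    obtain ⟨t, rfl⟩ := Ey.surjective τ
    rw [← hEy, ← map_mul] at hτ
    have := hnzd t ((map_eq_zero_iff Ey Ey.injective).mp hτ)
    rw [this, map_zero]

end Groth.Agent.Helper16.GenSD
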