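import Mathlib
import Groth.Agent.Lib.Helper16.Sch.GenSD3

set_option autoImplicit false
set_option linter.style.haveILetI false
universe u
open CategoryTheory CategoryTheory.Limits AlgebraicGeometry Opposite TopologicalSpace TensorProduct

noncomputable section

namespace Groth.Agent.Helper16.GenSD

open Groth.Agent.Helper16.GenRed Groth.Agent.Helper16.GenNzd Groth.Agent.Helper16.GenPt

variable {X Y : Scheme.{u}}

instance isLocallyNoetherian_fiber (f : X ⟶ Y) [LocallyOfFiniteType f] (y : Y) :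
    IsLocallyNoetherian (f.fiber y) := by
  haveI : LocallyOfFiniteType (f.fiberToSpecResidueField y) :=
    MorphismProperty.pullback_snd (P := @LocallyOfFiniteType) _ _ inferInstance
  exact LocallyOfFiniteType.isLocallyNoetherian (f.fiberToSpecResidueField y)

theorem main (f : X ⟶ Y) [IrreducibleSpace Y] [LocallyOfFiniteType f] [QuasiCompact f]
    (U : X.Opens)
    (h : IsSchemeTheoreticallyDominant (f.fiberι (genericPoint Y) ⁻¹ᵁ U).ι) :
    ∃ V : Y.Opens, (V : Set Y).Nonempty ∧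
      ∀ y ∈ V, IsSchemeTheoreticallyDominant (f.fiberι y ⁻¹ᵁ U).ι := by
  obtain ⟨_, ⟨W, hW, rfl⟩, hηW, -⟩ := Y.isBasis_affineOpens.exists_subset_of_mem_open
    (Set.mem_univ (genericPoint Y)) isOpen_univ
  have hW : IsAffineOpen W := hW
  have hn := isPrime_nilradical_of_isAffineOpen W hW ⟨_, hηW⟩
  have hη := fromSpec_nilradical_eq_genericPoint W hW hn
  have hcomp : IsCompact ((f ⁻¹ᵁ W : X.Opens) : Set X) :=
    QuasiCompact.isCompact_preimage (f := f) _ W.isOpen hW.isCompact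
  obtain ⟨s, hs, hsU⟩ := isCompact_iff_finite_and_eq_biUnion_affineOpens.mp hcomp
  haveI : Fintype s := hs.fintype
  classical
  have hle : ∀ U₀ : s, (U₀.1 : X.Opens) ≤ f ⁻¹ᵁ W := fun U₀ => by
    rw [hsU]; exact le_iSup₂ (f := fun (i : X.affineOpens) (_ : i ∈ s) => (i : X.Opens)) U₀.1 U₀.2
  have H := fun U₀ : s => chart f W hW hηW hn U₀.1.1 U₀.1.2 (hle U₀) U
    (Scheme.Hom.app_injective (f.fiberι (genericPoint Y) ⁻¹ᵁ U).ι _)
  choose a ha hax using H
  have ha' : ∀ U₀ : s, a U₀ ∉ nilradical Γ(Y, W) := fun U₀ hmem =>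
    ha U₀ (mem_nilradical.mp hmem)
  refine ⟨Y.basicOpen (∏ U₀ : s, a U₀), ⟨genericPoint Y, ?_⟩, fun y hy => ?_⟩
  · rw [← hη]
    show _ ∈ hW.fromSpec ⁻¹ᵁ Y.basicOpen (∏ U₀ : s, a U₀)
    rw [hW.fromSpec_preimage_basicOpen]
    intro hmem
    obtain ⟨U₀, -, hU₀⟩ := (Ideal.IsPrime.prod_mem_iff (hp := hn)).mp hmem
    exact ha' U₀ hU₀
  · have hyW : y ∈ W := (Y.basicOpen_le (∏ U₀ : s, a U₀)) hy
    have hsub : ∀ U₀ : s, Y.basicOpen (∏ U₀ : s, a U₀) ≤ Y.basicOpen (a U₀) := by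
      intro U₀
      rw [← Finset.mul_prod_erase Finset.univ a (Finset.mem_univ U₀), Scheme.basicOpen_mul]
      exact inf_le_left
    rw [isSchemeTheoreticallyDominant_iff]
    refine Scheme.IdealSheafData.ext_of_iSup_eq_top
      (fun U₀ : s => ⟨f.fiberι y ⁻¹ᵁ U₀.1.1,
        isAffineOpen_fiber_piece f y W hW hyW U₀.1.1 U₀.1.2 (hle U₀)⟩) ?_ ?_
    · rw [eq_top_iff]
      intro z _
      have hz : f (f.fiberι y z) = y := by
        have : f.fiberι y z ∈ Set.range (f.fiberι y) := ⟨z, rfl⟩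
        rw [f.range_fiberι y] at this
        exact this
      have hzW : f.fiberι y z ∈ f ⁻¹ᵁ W := by
        show f (f.fiberι y z) ∈ W
        rw [hz]; exact hyW
      rw [hsU] at hzW
      simp only [Opens.mem_iSup] at hzW
      obtain ⟨U₀, hU₀s, hzU₀⟩ := hzW
      simp only [Opens.mem_iSup]
      exact ⟨⟨U₀, hU₀s⟩, hzU₀⟩
    · intro U₀
      rw [Scheme.Hom.ker_apply]
      simp only [Scheme.IdealSheafData.ideal_bot, Pi.bot_apply]
      exact (RingHom.injective_iff_ker_eq_bot _).mp (hax U₀ y (hsub U₀ hy))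

end Groth.Agent.Helper16.GenSD
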