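import Mathlib
import Groth.Agent.Lib.Helper16.Sch.GenGS2
import Groth.Agent.Lib.Helper16.Sch.GenSD4
import Groth.Agent.Lib.Helper14.EtaleReduced

set_option autoImplicit false
set_option linter.style.haveILetI false
universe u
open CategoryTheory CategoryTheory.Limits AlgebraicGeometry Opposite TopologicalSpace

noncomputable section

namespace Groth.Agent.Helper16.GenGS

variable {X Y : Scheme.{u}}

/-- A scheme smooth over a reduced scheme is reduced. -/
theorem isReduced_of_smooth (f : X ⟶ Y) [Smooth f] [IsReduced Y] : IsReduced X := by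
  refine @isReduced_of_isReduced_stalk X (fun x => ?_)
  obtain ⟨_, ⟨W, hW, rfl⟩, hxW, -⟩ :=
    Y.isBasis_affineOpens.exists_subset_of_mem_open (Set.mem_univ (f x)) isOpen_univ
  obtain ⟨_, ⟨V, hV, rfl⟩, hxV, hVW⟩ :=
    X.isBasis_affineOpens.exists_subset_of_mem_open (show x ∈ (f ⁻¹ᵁ W : Set X) from hxW)
      (f ⁻¹ᵁ W).isOpen
  have he : RingHom.Smooth (f.appLE W V hVW).hom :=
    HasRingHomProperty.appLE (P := @Smooth) f inferInstance ⟨W, hW⟩ ⟨V, hV⟩ hVW
  algebraize [(f.appLE W V hVW).hom]
  haveI : _root_.IsReduced Γ(Y, W) := inferInstance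
  haveI : _root_.IsReduced Γ(X, V) := Groth.Agent.Helper14.isReduced_of_smooth Γ(Y, W) Γ(X, V)
  letI := TopCat.Presheaf.algebra_section_stalk X.presheaf (⟨x, hxV⟩ : V)
  haveI := hV.isLocalization_stalk ⟨x, hxV⟩
  exact isReduced_localizationPreserves (hV.primeIdealOf ⟨x, hxV⟩).asIdeal.primeCompl
    (X.presheaf.stalk x) inferInstance

/-- the restriction of a morphism to its smooth locus is smooth -/
theorem smooth_smoothLocus_ι_comp (q : X ⟶ Y) [LocallyOfFinitePresentation q] :
    Smooth (q.smoothLocus.ι ≫ q) := by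
  rw [← Scheme.Hom.smoothLocus_eq_top_iff, ← Scheme.Hom.preimage_smoothLocus_eq]
  exact Scheme.Opens.ι_preimage_self _

/-- A scheme locally of finite type over a field with scheme theoretically dense smooth locus is
geometrically reduced. -/
theorem geometricallyReduced_of_smoothLocus (K : Type u) [Field K] {F : Scheme.{u}}
    (q : F ⟶ Spec (.of K)) [LocallyOfFinitePresentation q]
    [hd : IsSchemeTheoreticallyDominant q.smoothLocus.ι] : GeometricallyReduced q := by
  rw [geometricallyReduced_iff]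
  intro L _ c Z fst snd H
  haveI : Flat fst := MorphismProperty.of_isPullback (P := @Flat) H.flip inferInstance
  haveI : IsLocallyNoetherian F := LocallyOfFiniteType.isLocallyNoetherian q
  haveI : LocallyOfFiniteType snd :=
    MorphismProperty.of_isPullback (P := @LocallyOfFiniteType) H inferInstance
  haveI : IsLocallyNoetherian Z := LocallyOfFiniteType.isLocallyNoetherian snd
  let O := q.smoothLocus
  have Htop : IsPullback (fst ∣_ O) (fst ⁻¹ᵁ O).ι O.ι fst := isPullback_morphismRestrict fst O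
  haveI : IsSchemeTheoreticallyDominant (fst ⁻¹ᵁ O).ι :=
    IsSchemeTheoreticallyDominant.of_isPullback Htop
  haveI : Smooth (O.ι ≫ q) := smooth_smoothLocus_ι_comp q
  have Hbig : IsPullback (fst ∣_ O) ((fst ⁻¹ᵁ O).ι ≫ snd) (O.ι ≫ q) c := Htop.paste_vert H
  haveI : Smooth ((fst ⁻¹ᵁ O).ι ≫ snd) :=
    MorphismProperty.of_isPullback (P := @Smooth) Hbig inferInstance
  haveI : IsReduced (fst ⁻¹ᵁ O).toScheme := isReduced_of_smooth ((fst ⁻¹ᵁ O).ι ≫ snd)
  exact IsSchemeTheoreticallyDominant.isReduced (fst ⁻¹ᵁ O).ι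

end Groth.Agent.Helper16.GenGS
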