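import Mathlib
import Groth.Prelude
import Groth.Agent.Lib.Helper14.QcSpecialization
import Groth.Agent.Lib.Helper16.Sch.PITSch2
import Groth.Agent.Lib.Helper16.Sch.OrbitFlat

set_option autoImplicit false
set_option linter.style.haveILetI false
universe u
open CategoryTheory CategoryTheory.Limits AlgebraicGeometry Opposite TopologicalSpace Topology
  MonoidalCategory CartesianMonoidalCategory MonObj GrpObj

noncomputable section

namespace Groth.Agent.Helper16.GrpSurj

open Groth.Agent.Helper14 Groth.Agent.Helper16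

/-- a point is maximal if it has no proper generization. -/
def IsMaxPt {X : Scheme.{u}} (x : X) : Prop := ∀ x' : X, x' ⤳ x → x' = x

theorem exists_isMaxPt {X : Scheme.{u}} (x : X) : ∃ ζ : X, ζ ⤳ x ∧ IsMaxPt ζ := by
  obtain ⟨ζ, -, h1, h2⟩ := PITSch.exists_maximal_generization_mem (Set.univ : Set X) isClosed_univ x
    (Set.mem_univ _)
  exact ⟨ζ, h1, fun z hz => h2 z (Set.mem_univ _) hz⟩

theorem IsMaxPt.map_flat {X Y : Scheme.{u}} (φ : X ⟶ Y) [Flat φ] {ζ : X} (h : IsMaxPt ζ) :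
    IsMaxPt (φ ζ) := by
  intro y' hy'
  obtain ⟨ζ', hζ', rfl⟩ := (Flat.generalizingMap φ) hy'
  rw [h ζ' hζ']

theorem IsMaxPt.mem_range {X Y : Scheme.{u}} (f : X ⟶ Y) [QuasiCompact f] (hf : DenseRange f.base)
    {y : Y} (h : IsMaxPt y) : y ∈ Set.range f := by
  obtain ⟨x, hx⟩ := exists_specializes_of_mem_closure_range f y (by
    rw [hf.closure_range]; exact Set.mem_univ _)
  exact ⟨x, h _ hx⟩

variable {k : Type u} [Field k] {G H : Over (Spec (CommRingCat.of k))} [GrpObj G] [GrpObj H]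
  (f : G ⟶ H) [IsMonHom f]

theorem group_id₁ {Γ : Type*} [Group Γ] (a b : Γ) : (a * b⁻¹)⁻¹ * a = b := by group
theorem group_id₂ {Γ : Type*} [Group Γ] (a b : Γ) : a * (b⁻¹ * a)⁻¹ = b := by group

theorem surjective_of_dense [QuasiCompact f.left] (hf : DenseRange f.left.base) :
    Function.Surjective f.left.base := by
  intro h
  let K := H.left.residueField h
  let hK : Spec K ⟶ H.left := H.left.fromSpecResidueField h
  let T₀ : Over (Spec (CommRingCat.of k)) := Over.mk (hK ≫ H.hom)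
  let ht : T₀ ⟶ H := Over.homMk hK rfl
  let τ : T₀ ⊗ H ⟶ H := (fst T₀ H ≫ ht) * (snd T₀ H)⁻¹
  let σ : T₀ ⊗ H ⟶ T₀ ⊗ H := lift (fst T₀ H) τ
  let σ' : T₀ ⊗ H ⟶ T₀ ⊗ H := lift (fst T₀ H) ((snd T₀ H)⁻¹ * (fst T₀ H ≫ ht))
  have hσσ' : σ ≫ σ' = 𝟙 _ := by
    apply CartesianMonoidalCategory.hom_ext
    · simp [σ, σ']
    · simp only [σ, σ', comp_lift, lift_snd, Category.id_comp, MonObj.comp_mul, GrpObj.comp_inv]
      rw [← Category.assoc, lift_fst]
      exact group_id₁ _ _
  have hσ'σ : σ' ≫ σ = 𝟙 _ := by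
    apply CartesianMonoidalCategory.hom_ext
    · simp [σ, σ']
    · simp only [σ, σ', τ, comp_lift, lift_snd, Category.id_comp, MonObj.comp_mul,
        GrpObj.comp_inv]
      rw [← Category.assoc, lift_fst]
      exact group_id₂ _ _
  haveI : IsIso σ := ⟨σ', hσσ', hσ'σ⟩
  haveI : IsIso σ.left := inferInstanceAs (IsIso ((Over.forget _).map σ))
  haveI : Flat T₀.hom := inferInstance
  haveI hπ : Flat (snd T₀ H).left := by
    show Flat (pullback.snd T₀.hom H.hom)
    infer_instance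
  have hτ : τ.left = σ.left ≫ (snd T₀ H).left := by
    rw [← Over.comp_left]
    congr 1
    simp [σ]
  haveI : Flat τ.left := by rw [hτ]; infer_instance
  -- a maximal point of `T₀ ⊗ H`
  obtain ⟨q₀, -, -⟩ := Scheme.Pullback.exists_preimage_pullback (f := T₀.hom) (g := H.hom)
    (IsLocalRing.closedPoint K) (hK (IsLocalRing.closedPoint K)) rfl
  obtain ⟨ζ, -, hζ⟩ := exists_isMaxPt (X := (T₀ ⊗ H).left) q₀
  obtain ⟨g₁, hg₁⟩ := (hζ.map_flat (snd T₀ H).left).mem_range f.left hf
  obtain ⟨g₂, hg₂⟩ := (hζ.map_flat τ.left).mem_range f.left hf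
  -- the test scheme
  obtain ⟨z₁, hz₁a, hz₁b⟩ := Scheme.Pullback.exists_preimage_pullback (f := (snd T₀ H).left)
    (g := f.left) ζ g₁ hg₁.symm
  obtain ⟨z₂, hz₂a, hz₂b⟩ := Scheme.Pullback.exists_preimage_pullback
    (f := pullback.fst (snd T₀ H).left f.left ≫ τ.left) (g := f.left) z₁ g₂
    (by rw [Scheme.Hom.comp_apply, hz₁a]; exact hg₂.symm)
  let qL : pullback (pullback.fst (snd T₀ H).left f.left ≫ τ.left) f.left ⟶ (T₀ ⊗ H).left :=
    pullback.fst _ _ ≫ pullback.fst (snd T₀ H).left f.left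
  let T : Over (Spec (CommRingCat.of k)) := Over.mk (qL ≫ (T₀ ⊗ H).hom)
  let q : T ⟶ T₀ ⊗ H := Over.homMk qL rfl
  let γ₁ : T ⟶ G := Over.homMk (pullback.fst _ _ ≫ pullback.snd (snd T₀ H).left f.left) (by
    show (pullback.fst _ _ ≫ pullback.snd (snd T₀ H).left f.left) ≫ G.hom = qL ≫ (T₀ ⊗ H).hom
    rw [← Over.w f, ← Over.w (snd T₀ H)]
    simp only [qL, Category.assoc]
    rw [pullback.condition_assoc])
  let γ₂ : T ⟶ G := Over.homMk (pullback.snd _ _) (by
    show pullback.snd _ _ ≫ G.hom = qL ≫ (T₀ ⊗ H).hom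
    rw [← Over.w f, ← Over.w τ]
    simp only [qL, Category.assoc]
    rw [← pullback.condition_assoc]
    simp only [Category.assoc])
  have e₁ : q ≫ snd T₀ H = γ₁ ≫ f := by
    apply Over.OverMorphism.ext
    simp only [Over.comp_left, q, γ₁, Over.homMk_left, qL, Category.assoc]
    rw [pullback.condition]
  have e₂ : q ≫ τ = γ₂ ≫ f := by
    apply Over.OverMorphism.ext
    simp only [Over.comp_left, q, γ₂, Over.homMk_left, qL, Category.assoc]
    rw [← pullback.condition]
  have key : q ≫ fst T₀ H ≫ ht = (γ₂ * γ₁) ≫ f := by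
    rw [MonObj.mul_comp, ← e₁, ← e₂]
    show _ = q ≫ ((fst T₀ H ≫ ht) * (snd T₀ H)⁻¹) * q ≫ snd T₀ H
    rw [MonObj.comp_mul, GrpObj.comp_inv, inv_mul_cancel_right]
  refine ⟨(γ₂ * γ₁).left z₂, ?_⟩
  have h3 : (q ≫ fst T₀ H ≫ ht).left z₂ = ((γ₂ * γ₁) ≫ f).left z₂ := by rw [key]
  have h4 : (q ≫ fst T₀ H ≫ ht).left z₂ = h :=
    Scheme.fromSpecResidueField_apply h _
  rw [← h4, h3]
  rfl

theorem isField_stalk_of_isMaxPt {X : Scheme.{u}} [IsReduced X] {y : X} (hy : IsMaxPt y) :
    IsField (X.presheaf.stalk y) := by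
  haveI : Subsingleton (PrimeSpectrum (X.presheaf.stalk y)) := by
    have key : ∀ p : ↥(Spec (X.presheaf.stalk y)), p = IsLocalRing.closedPoint _ := by
      intro p
      apply (X.fromSpecStalk y).isEmbedding.injective
      rw [Scheme.fromSpecStalk_closedPoint]
      apply hy
      have : X.fromSpecStalk y p ∈ Set.range (X.fromSpecStalk y) := ⟨p, rfl⟩
      rw [Scheme.range_fromSpecStalk] at this
      exact this
    exact ⟨fun a b => (key a).trans (key b).symm⟩
  haveI : Ring.KrullDimLE 0 (X.presheaf.stalk y) := by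
    rw [Ring.krullDimLE_zero_iff]
    intro I hI
    have : (⟨I, hI⟩ : PrimeSpectrum (X.presheaf.stalk y)) = IsLocalRing.closedPoint _ :=
      Subsingleton.elim _ _
    have h2 : I = IsLocalRing.maximalIdeal _ := congrArg PrimeSpectrum.asIdeal this
    rw [h2]
    infer_instance
  exact Ring.KrullDimLE.isField_of_isReduced

theorem flat_of_dense_of_isReduced [QuasiCompact f.left] (hf : DenseRange f.left.base)
    [IsReduced H.left] : Flat f.left := by
  haveI : Subsingleton ↥(Spec (CommRingCat.of k)) :=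
    inferInstanceAs (Subsingleton (PrimeSpectrum k))
  haveI : Flat G.hom := inferInstance
  obtain ⟨y, -, hy⟩ := exists_isMaxPt (η[H].left (show PrimeSpectrum k from ⊥))
  obtain ⟨g, hg⟩ := hy.mem_range f.left hf
  have e' := OrbitFlat.orbitMap_restrict f
  have hflat : (f.left.stalkMap g).hom.Flat := by
    have hF : IsField (H.left.presheaf.stalk (f.left g)) := by
      rw [hg]; exact isField_stalk_of_isMaxPt hy
    letI := hF.toField
    algebraize [(f.left.stalkMap g).hom]
    show Module.Flat (H.left.presheaf.stalk (f.left g)) (G.left.presheaf.stalk g)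
    infer_instance
  have := OrbitFlat.flat_orbitMap ((OrbitFlat.selfAct H).restrict f) η[H] ⟨g, by rw [e']; exact hflat⟩
  rwa [e'] at this

theorem main5355 [QuasiCompact f.left] (hf : DenseRange f.left.base) :
    Surjective f.left ∧ (IsReduced H.left → Flat f.left) :=
  ⟨⟨surjective_of_dense f hf⟩, fun _ => flat_of_dense_of_isReduced f hf⟩

end Groth.Agent.Helper16.GrpSurj
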