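import Mathlib
import Groth.Prelude.Def_ega3
import Groth.Agent.Lib.Helper16.Sch.CINhd
import Groth.Agent.Lib.Helper28.RestrictPB

set_option autoImplicit false
open AlgebraicGeometry CategoryTheory Limits IsLocalRing
universe u

namespace Groth.Agent.Helper16.FibNear

variable {X Y S : Scheme.{u}}

/-- The square `X_s → Y_s` over `X → Y` is a pullback. -/
theorem isPullback_fiberMapOver (f : X ⟶ Y) (g : X ⟶ S) (h : Y ⟶ S) (w : f ≫ h = g) (s : S) :
    IsPullback (g.fiberι s) (CohIII.fiberMapOver f g h w s) f (h.fiberι s) := by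
  have right : IsPullback (h.fiberι s) (h.fiberToSpecResidueField s) h
      (S.fromSpecResidueField s) := IsPullback.of_hasPullback _ _
  have big : IsPullback (g.fiberι s) (g.fiberToSpecResidueField s) g
      (S.fromSpecResidueField s) := IsPullback.of_hasPullback _ _
  have e1 : CohIII.fiberMapOver f g h w s ≫ h.fiberToSpecResidueField s =
      g.fiberToSpecResidueField s := by
    unfold CohIII.fiberMapOver Scheme.Hom.fiberToSpecResidueField
    exact (pullback.lift_snd _ _ _).trans (Category.comp_id _)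
  have e2 : CohIII.fiberMapOver f g h w s ≫ h.fiberι s = g.fiberι s ≫ f := by
    unfold CohIII.fiberMapOver Scheme.Hom.fiberι
    exact pullback.lift_fst _ _ _
  have big' : IsPullback (CohIII.fiberMapOver f g h w s ≫ h.fiberToSpecResidueField s)
      (g.fiberι s) (S.fromSpecResidueField s) (f ≫ h) := by
    rw [e1, w]; exact big.flip
  exact (IsPullback.of_right big' e2 right.flip).flip

/-- Restriction to a smaller open of a property local at the target. -/
theorem restrict_of_le {P : MorphismProperty Scheme.{u}} [IsZariskiLocalAtTarget P]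
    (f : X ⟶ Y) {V W : Y.Opens} (hVW : V ≤ W) (h : P (f ∣_ W)) : P (f ∣_ V) := by
  have e : W.ι ''ᵁ (W.ι ⁻¹ᵁ V) = V := by
    rw [Scheme.Hom.image_preimage_eq_opensRange_inf, Scheme.Opens.opensRange_ι]
    exact inf_eq_right.mpr hVW
  have := IsZariskiLocalAtTarget.restrict h (W.ι ⁻¹ᵁ V)
  rw [P.arrow_mk_iso_iff (morphismRestrictRestrict f W _), e] at this
  exact this

/-- If a property local at the target holds near every point of a fibre of a closed map `h`,
it holds over the preimage of a neighbourhood of the base point. -/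
theorem exists_nhd_of_forall_fibre {P : MorphismProperty Scheme.{u}} [IsZariskiLocalAtTarget P]
    (f : X ⟶ Y) (h : Y ⟶ S) (hcl : IsClosedMap h) (s : S)
    (H : ∀ y : Y, h y = s → ∃ V : Y.Opens, y ∈ V ∧ P (f ∣_ V)) :
    ∃ U : S.Opens, s ∈ U ∧ P (f ∣_ (h ⁻¹ᵁ U)) := by
  let 𝒮 : Set Y.Opens := {V | P (f ∣_ V)}
  have hW : P (f ∣_ sSup 𝒮) := Groth.Agent.Helper28.RestrictPB.restrict_sSup f 𝒮 fun V hV => hV
  let C : Set Y := ((sSup 𝒮 : Y.Opens) : Set Y)ᶜ
  have hC : IsClosed C := (sSup 𝒮).2.isClosed_compl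
  have hhC : IsClosed (h '' C) := hcl _ hC
  let U : S.Opens := ⟨(h '' C)ᶜ, hhC.isOpen_compl⟩
  have hsU : s ∈ U := by
    rintro ⟨y, hyC, hy⟩
    obtain ⟨V, hyV, hV⟩ := H y hy
    exact hyC (TopologicalSpace.Opens.mem_sSup.mpr ⟨V, hV, hyV⟩)
  refine ⟨U, hsU, restrict_of_le f ?_ hW⟩
  intro y hy
  by_contra hcon
  exact hy ⟨y, hcon, rfl⟩

theorem main (f : X ⟶ Y) (g : X ⟶ S) (h : Y ⟶ S)
    (w : f ≫ h = g) [IsProper g] [IsProper h] (s : S) :
    (IsFinite (CohIII.fiberMapOver f g h w s) → ∃ U : S.Opens, s ∈ U ∧ IsFinite (f ∣_ (h ⁻¹ᵁ U))) ∧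
    (IsClosedImmersion (CohIII.fiberMapOver f g h w s) →
      ∃ U : S.Opens, s ∈ U ∧ IsClosedImmersion (f ∣_ (h ⁻¹ᵁ U))) := by
  have hfh : IsProper (f ≫ h) := by rw [w]; infer_instance
  have hf : IsProper f := IsProper.of_comp f h
  have sq := isPullback_fiberMapOver f g h w s
  constructor
  · intro hfin
    apply exists_nhd_of_forall_fibre (P := @IsFinite) f h h.isClosedMap s
    intro y hy
    have hy' : y ∈ Set.range (h.fiberι s) := by rw [h.range_fiberι]; exact hy
    obtain ⟨ys, rfl⟩ := hy'
    apply exists_isFinite_morphismRestrict_of_finite_preimage_singleton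
    have h1 := Scheme.image_preimage_eq_of_isPullback sq.flip {ys}
    rw [Set.image_singleton] at h1
    rw [← h1]
    exact ((CohIII.fiberMapOver f g h w s).finite_preimage_singleton ys).image _
  · intro hci
    apply exists_nhd_of_forall_fibre (P := @IsClosedImmersion) f h h.isClosedMap s
    intro y hy
    have hy' : y ∈ Set.range (h.fiberι s) := by rw [h.range_fiberι]; exact hy
    obtain ⟨ys, rfl⟩ := hy'
    obtain ⟨m, hsq⟩ : ∃ m, IsPullback m
        ((CohIII.fiberMapOver f g h w s).fiberToSpecResidueField ys)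
        (f.fiberToSpecResidueField (h.fiberι s ys))
        (Spec.map ((h.fiberι s).residueFieldMap ys)) :=
      ⟨_, isPullback_fiberToSpecResidueField_of_isPullback sq ys⟩
    have h1 : IsClosedImmersion ((CohIII.fiberMapOver f g h w s).fiberToSpecResidueField ys) :=
      inferInstanceAs (IsClosedImmersion (pullback.snd _ _))
    have h0 : IsIso ((h.fiberι s).residueFieldMap ys) := by
      rw [ConcreteCategory.isIso_iff_bijective]
      refine ⟨((h.fiberι s).residueFieldMap ys).hom.injective, ?_⟩
      intro z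
      obtain ⟨r, rfl⟩ := IsLocalRing.residue_surjective z
      obtain ⟨r', rfl⟩ := (h.fiberι s).stalkMap_surjective ys r
      exact ⟨IsLocalRing.residue _ r', rfl⟩
    have h0' : IsIso (Spec.map ((h.fiberι s).residueFieldMap ys)) := inferInstance
    have h2 : IsIso m :=
      (MorphismProperty.isomorphisms Scheme).of_isPullback hsq.flip h0'
    have h3 : f.fiberToSpecResidueField (h.fiberι s ys) =
        inv m ≫ (CohIII.fiberMapOver f g h w s).fiberToSpecResidueField ys ≫
            Spec.map ((h.fiberι s).residueFieldMap ys) := by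
      rw [IsIso.eq_inv_comp]; exact hsq.w
    have h4 : IsClosedImmersion (f.fiberToSpecResidueField (h.fiberι s ys)) := by
      rw [h3]; infer_instance
    refine (CINhd.main f (h.fiberι s ys)).mpr
      ⟨CINhd.isEmpty_or_isIso_of_isClosedImmersion _ (Field.toIsField _) _, ⊤, trivial, ?_⟩
    exact IsZariskiLocalAtTarget.restrict (P := @UniversallyClosed) inferInstance ⊤

end Groth.Agent.Helper16.FibNear
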