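import Mathlib
import Groth.Agent.Lib.Helper16.Sch.GenFinSch2

set_option autoImplicit false
set_option linter.style.haveILetI false
universe u
open CategoryTheory CategoryTheory.Limits AlgebraicGeometry Opposite TopologicalSpace

noncomputable section

namespace Groth.Agent.Helper16.GenFinSch

variable {X Y : Scheme.{u}}

/-- an open subscheme which is a finite disjoint union of affine opens is affine -/
theorem isAffineOpen_of_finite_disjoint_cover {σ : Type u} [Finite σ] (T : X.Opens)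
    (P : σ → X.Opens) (hP : ∀ i, IsAffineOpen (P i)) (hle : ∀ i, P i ≤ T)
    (hcov : ∀ z ∈ T, ∃ i, z ∈ P i) (hdisj : ∀ i j, i ≠ j → Disjoint (P i) (P j)) :
    IsAffineOpen T := by
  let g : σ → Scheme.{u} := fun i => (P i).toScheme
  let ι : ∀ i, g i ⟶ T.toScheme := fun i => X.homOfLE (hle i)
  haveI : ∀ i, IsOpenImmersion (ι i) := fun i => inferInstance
  haveI : ∀ i, IsAffine (g i) := fun i => hP i
  obtain ⟨hc⟩ := nonempty_isColimit_cofanMk_of ι (by
      rw [eq_top_iff]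
      rintro z -
      obtain ⟨i, hi⟩ := hcov z.1 z.2
      refine Opens.mem_iSup.mpr ⟨i, ?_⟩
      rw [Scheme.opensRange_homOfLE]
      exact hi) (by
      intro i j hij
      show Disjoint (ι i).opensRange (ι j).opensRange
      rw [Scheme.opensRange_homOfLE, Scheme.opensRange_homOfLE]
      rw [disjoint_iff, eq_bot_iff]
      rintro z ⟨hzi, hzj⟩
      exact (disjoint_iff.mp (hdisj i j hij)).le ⟨hzi, hzj⟩)
  let iso : T.toScheme ≅ ∐ g := hc.coconePointUniqueUpToIso (colimit.isColimit _)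
  exact (IsAffine.of_isIso iso.hom : IsAffine T.toScheme)

/-- Core A: over a basic open neighbourhood of a minimal point with finite fibre whose points have
pairwise disjoint neighbourhoods, the preimage is affine. -/
theorem exists_isAffineOpen_preimage (f : X ⟶ Y) [QuasiCompact f] {U₀ : Y.Opens}
    (hU₀ : IsAffineOpen U₀) (η : Y) (hηU₀ : η ∈ U₀) (hη : ∀ y : Y, y ⤳ η → y = η)
    (hfin : (f ⁻¹' {η}).Finite) (O : X → X.Opens) (hO : ∀ x, f x = η → x ∈ O x)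
    (hdisj : ∀ x x', f x = η → f x' = η → x ≠ x' → Disjoint (O x) (O x')) :
    ∃ a : Γ(Y, U₀), η ∈ Y.basicOpen a ∧ IsAffineOpen (f ⁻¹ᵁ (Y.basicOpen a)) := by
  classical
  have hex : ∀ x : X, f x = η →
      ∃ W : X.Opens, IsAffineOpen W ∧ x ∈ W ∧ W ≤ O x ⊓ f ⁻¹ᵁ U₀ := by
    intro x hx
    obtain ⟨_, ⟨W, hW, rfl⟩, hxW, hWle⟩ := X.isBasis_affineOpens.exists_subset_of_mem_open
      (show x ∈ ((O x ⊓ f ⁻¹ᵁ U₀ : X.Opens) : Set X) from
        ⟨hO x hx, by show f x ∈ U₀; rw [hx]; exact hηU₀⟩) (O x ⊓ f ⁻¹ᵁ U₀).2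
    exact ⟨W, hW, hxW, hWle⟩
  choose! Wx hWx_aff hWx_mem hWx_le using hex
  let F : Set X := f ⁻¹' {η}
  haveI : Finite F := hfin
  let Z : Set X := (⋃ x ∈ F, (Wx x : Set X))ᶜ
  have hZ : IsClosed Z := (isOpen_biUnion fun x _ => (Wx x).2).isClosed_compl
  obtain ⟨s, hs, hsU⟩ := isCompact_iff_finite_and_eq_biUnion_affineOpens.mp
    (f.isCompact_preimage hU₀.isCompact)
  have hsle : ∀ W : X.affineOpens, W ∈ s → W.1 ≤ f ⁻¹ᵁ U₀ := by
    intro W hWs
    rw [hsU]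
    exact le_iSup₂ (f := fun (i : X.affineOpens) (_ : i ∈ s) => (i : X.Opens)) W hWs
  have hG : ∀ W : X.affineOpens, W ∈ s →
      ∃ a : Γ(Y, U₀), η ∈ Y.basicOpen a ∧ ∀ z ∈ Z, z ∈ W.1 → f z ∉ Y.basicOpen a := by
    intro W hWs
    exact exists_basicOpen_disjoint f hU₀ W.2 (hsle W hWs) η hηU₀ hη Z hZ (by
      intro z hzZ _ hfz
      apply hzZ
      exact Set.mem_biUnion (show z ∈ F from hfz) (hWx_mem z hfz))
  choose! aW haW_mem haW_disj using hG
  let a : Γ(Y, U₀) := ∏ W ∈ hs.toFinset, aW W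
  have hηa : η ∈ Y.basicOpen a := by
    rw [mem_basicOpen_prod_iff hU₀ η hηU₀]
    intro W hW
    exact haW_mem W (hs.mem_toFinset.mp hW)
  refine ⟨a, hηa, ?_⟩
  have hcov : ∀ z ∈ f ⁻¹ᵁ (Y.basicOpen a), ∃ x : F, z ∈ Wx x.1 := by
    intro z hz
    have hfz : f z ∈ Y.basicOpen a := hz
    have hfzU : f z ∈ U₀ := Y.basicOpen_le a hfz
    have hzs : z ∈ (f ⁻¹ᵁ U₀ : X.Opens) := hfzU
    rw [hsU] at hzs
    obtain ⟨W, hzW⟩ := Opens.mem_iSup.mp hzs
    obtain ⟨hWs, hzW⟩ := Opens.mem_iSup.mp hzW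
    by_contra hcon
    push_neg at hcon
    have hzZ : z ∈ Z := by
      intro hzU
      obtain ⟨x, hxF, hzx⟩ := Set.mem_iUnion₂.mp hzU
      exact hcon ⟨x, hxF⟩ hzx
    apply haW_disj W hWs z hzZ hzW
    exact (mem_basicOpen_prod_iff hU₀ (f z) hfzU _ _).mp hfz W (hs.mem_toFinset.mpr hWs)
  have ex : ∀ x : F, Wx x.1 ≤ f ⁻¹ᵁ U₀ := fun x => (hWx_le x.1 x.2).trans inf_le_right
  let P : F → X.Opens := fun x => X.basicOpen (f.appLE U₀ (Wx x.1) (ex x) a)
  have hPeq : ∀ x : F, P x = Wx x.1 ⊓ f ⁻¹ᵁ (Y.basicOpen a) := fun x => basicOpen_appLE f (ex x) a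
  apply isAffineOpen_of_finite_disjoint_cover (σ := F) _ P
  · intro x
    exact (hWx_aff x.1 x.2).basicOpen _
  · intro x
    rw [hPeq]; exact inf_le_right
  · intro z hz
    obtain ⟨x, hx⟩ := hcov z hz
    exact ⟨x, by rw [hPeq]; exact ⟨hx, hz⟩⟩
  · intro x x' hxx'
    have h1 : P x ≤ O x.1 := by
      rw [hPeq]; exact inf_le_left.trans ((hWx_le x.1 x.2).trans inf_le_left)
    have h2 : P x' ≤ O x'.1 := by
      rw [hPeq]; exact inf_le_left.trans ((hWx_le x'.1 x'.2).trans inf_le_left)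
    exact (hdisj x.1 x'.1 x.2 x'.2 (fun h => hxx' (Subtype.ext h))).mono h1 h2

end Groth.Agent.Helper16.GenFinSch
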