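import Mathlib
import Groth.Agent.Lib.Helper16.Sch.GenFinSch3

set_option autoImplicit false
set_option linter.style.haveILetI false
universe u
open CategoryTheory CategoryTheory.Limits AlgebraicGeometry Opposite TopologicalSpace

noncomputable section

namespace Groth.Agent.Helper16.GenFinSch

variable {X Y : Scheme.{u}}

/-- Core: finite over an affine neighbourhood of a minimal point with finite fibre, given pairwise
disjoint open neighbourhoods of the fibre points. -/
theorem exists_isFinite_morphismRestrict (f : X ⟶ Y) [QuasiCompact f] [LocallyOfFiniteType f]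
    (η : Y) (hη : ∀ y : Y, y ⤳ η → y = η) (hfin : (f ⁻¹' {η}).Finite)
    (O : X → X.Opens) (hO : ∀ x, f x = η → x ∈ O x)
    (hdisj : ∀ x x', f x = η → f x' = η → x ≠ x' → Disjoint (O x) (O x'))
    {U₀ : Y.Opens} (hU₀ : IsAffineOpen U₀) (hηU₀ : η ∈ U₀) :
    ∃ V : Y.Opens, IsAffineOpen V ∧ η ∈ V ∧ V ≤ U₀ ∧ IsFinite (f ∣_ V) := by
  obtain ⟨a, hηa, hT⟩ := exists_isAffineOpen_preimage f hU₀ η hηU₀ hη hfin O hO hdisj
  have hUa : IsAffineOpen (Y.basicOpen a) := hU₀.basicOpen a
  obtain ⟨a', hηa', H⟩ := exists_finite_appLE f hUa hT le_rfl η hηa hη hfin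
  have hVle : Y.basicOpen a' ≤ Y.basicOpen a := Y.basicOpen_le a'
  have hTeq : X.basicOpen (f.appLE (Y.basicOpen a) (f ⁻¹ᵁ Y.basicOpen a) le_rfl a') =
      f ⁻¹ᵁ (Y.basicOpen a') := by
    rw [basicOpen_appLE]
    exact inf_eq_right.mpr (fun z hz => hVle hz)
  refine ⟨Y.basicOpen a', hUa.basicOpen a', hηa', hVle.trans (Y.basicOpen_le a), ?_⟩
  apply isFinite_morphismRestrict_of_appLE f (hUa.basicOpen a')
  · rw [← hTeq]; exact hT.basicOpen _
  · have := H (by rw [hTeq])
    exact (Scheme.Hom.appLE_congr f _ rfl hTeq (fun φ => φ.hom.Finite)).mp this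

end Groth.Agent.Helper16.GenFinSch
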