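import Mathlib
import Groth.Agent.Lib.Helper16.Sch.GenFinSch4

set_option autoImplicit false
set_option linter.style.haveILetI false
universe u
open CategoryTheory CategoryTheory.Limits AlgebraicGeometry Opposite TopologicalSpace

noncomputable section

namespace Groth.Agent.Helper16.GenFinSch

variable {X Y : Scheme.{u}}

/-- a compact open subset missing the fibre over a minimal point misses the preimage of a basic
open neighbourhood -/
theorem exists_basicOpen_disjoint_of_isCompact (f : X ⟶ Y) {U : Y.Opens} (hU : IsAffineOpen U)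
    (η : Y) (hηU : η ∈ U) (hη : ∀ y : Y, y ⤳ η → y = η) (N : X.Opens)
    (hN : IsCompact (N : Set X)) (hNU : N ≤ f ⁻¹ᵁ U) (hNη : ∀ z ∈ N, f z ≠ η) :
    ∃ a : Γ(Y, U), η ∈ Y.basicOpen a ∧ ∀ z ∈ N, f z ∉ Y.basicOpen a := by
  classical
  obtain ⟨s, hs, hsN⟩ := isCompact_iff_finite_and_eq_biUnion_affineOpens.mp hN
  have hsle : ∀ W : X.affineOpens, W ∈ s → W.1 ≤ N := by
    intro W hWs
    rw [hsN]
    exact le_iSup₂ (f := fun (i : X.affineOpens) (_ : i ∈ s) => (i : X.Opens)) W hWs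
  have hG : ∀ W : X.affineOpens, W ∈ s →
      ∃ a : Γ(Y, U), η ∈ Y.basicOpen a ∧ ∀ z ∈ (Set.univ : Set X), z ∈ W.1 →
        f z ∉ Y.basicOpen a := by
    intro W hWs
    exact exists_basicOpen_disjoint f hU W.2 ((hsle W hWs).trans hNU) η hηU hη Set.univ
      isClosed_univ (fun z _ hzW => hNη z (hsle W hWs hzW))
  choose! aW haW_mem haW_disj using hG
  refine ⟨∏ W ∈ hs.toFinset, aW W, ?_, ?_⟩
  · rw [mem_basicOpen_prod_iff hU η hηU]
    intro W hW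
    exact haW_mem W (hs.mem_toFinset.mp hW)
  · intro z hzN hfz
    have hfzU : f z ∈ U := hNU hzN
    rw [hsN] at hzN
    obtain ⟨W, hzW⟩ := Opens.mem_iSup.mp hzN
    obtain ⟨hWs, hzW⟩ := Opens.mem_iSup.mp hzW
    apply haW_disj W hWs z trivial hzW
    exact (mem_basicOpen_prod_iff hU (f z) hfzU _ _).mp hfz W (hs.mem_toFinset.mpr hWs)

/-- S2080, forward direction. -/
theorem exists_isFinite_of_finite_fiber (f : X ⟶ Y) [LocallyOfFiniteType f] [QuasiCompact f]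
    [QuasiSeparated f] (η : Y) (hη : ∀ y : Y, y ⤳ η → y = η) (hfin : (f ⁻¹' {η}).Finite) :
    ∃ V : Y.Opens, IsAffineOpen V ∧ η ∈ V ∧ IsFinite (f ∣_ V) := by
  classical
  obtain ⟨_, ⟨U₀, hU₀, rfl⟩, hηU₀, -⟩ :=
    Y.isBasis_affineOpens.exists_subset_of_mem_open (Set.mem_univ η) isOpen_univ
  have hU₀ : IsAffineOpen U₀ := hU₀
  have hex : ∀ x : X, f x = η → ∃ W : X.Opens, IsAffineOpen W ∧ x ∈ W ∧ W ≤ f ⁻¹ᵁ U₀ ∧
      ∀ x' ∈ W, f x' = η → x' = x := by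
    intro x hx
    obtain ⟨O, hxO, hO⟩ := exists_open_inter_fiber_eq f η hfin x hx
    obtain ⟨_, ⟨W, hW, rfl⟩, hxW, hWle⟩ := X.isBasis_affineOpens.exists_subset_of_mem_open
      (show x ∈ ((O ⊓ f ⁻¹ᵁ U₀ : X.Opens) : Set X) from
        ⟨hxO, by show f x ∈ U₀; rw [hx]; exact hηU₀⟩) (O ⊓ f ⁻¹ᵁ U₀).2
    exact ⟨W, hW, hxW, fun z hz => (hWle hz).2, fun x' hx' => hO x' (hWle hx').1⟩
  choose! Wx hWx_aff hWx_mem hWx_le hWx_uniq using hex
  let F : Set X := f ⁻¹' {η}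
  -- the union of pairwise intersections
  let I : Set (X × X) := {p | p.1 ∈ F ∧ p.2 ∈ F ∧ p.1 ≠ p.2}
  have hI : I.Finite := (hfin.prod hfin).subset (fun p hp => ⟨hp.1, hp.2.1⟩)
  let N : X.Opens := ⨆ p ∈ I, Wx p.1 ⊓ Wx p.2
  have hqs : IsQuasiSeparated (f ⁻¹ᵁ U₀ : Set X) := f.isQuasiSeparated_preimage hU₀.isQuasiSeparated
  have hNc : IsCompact (N : Set X) := by
    have : (N : Set X) = ⋃ p ∈ I, ((Wx p.1 : Set X) ∩ Wx p.2) := by
      ext z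
      simp only [N, Opens.coe_iSup, Set.mem_iUnion, Opens.coe_inf]
    rw [this]
    apply hI.isCompact_biUnion
    intro p hp
    exact hqs _ _ (hWx_le p.1 hp.1) (Wx p.1).2 (hWx_aff p.1 hp.1).isCompact
      (hWx_le p.2 hp.2.1) (Wx p.2).2 (hWx_aff p.2 hp.2.1).isCompact
  have hNU : N ≤ f ⁻¹ᵁ U₀ := by
    refine iSup₂_le fun p hp => inf_le_left.trans (hWx_le p.1 hp.1)
  have hNη : ∀ z ∈ N, f z ≠ η := by
    intro z hz hfz
    obtain ⟨p, hzp⟩ := Opens.mem_iSup.mp hz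
    obtain ⟨hp, hzp⟩ := Opens.mem_iSup.mp hzp
    have h1 := hWx_uniq p.1 hp.1 z hzp.1 hfz
    have h2 := hWx_uniq p.2 hp.2.1 z hzp.2 hfz
    exact hp.2.2 (h1.symm.trans h2)
  obtain ⟨a₀, hηa₀, ha₀⟩ := exists_basicOpen_disjoint_of_isCompact f hU₀ η hηU₀ hη N hNc hNU hNη
  obtain ⟨V, hV, hηV, -, hfV⟩ := exists_isFinite_morphismRestrict f η hη hfin
    (fun x => Wx x ⊓ f ⁻¹ᵁ (Y.basicOpen a₀))
    (fun x hx => ⟨hWx_mem x hx, by show f x ∈ Y.basicOpen a₀; rw [hx]; exact hηa₀⟩)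
    (by
      intro x x' hx hx' hxx'
      rw [disjoint_iff, eq_bot_iff]
      rintro z ⟨⟨hz1, hz3⟩, ⟨hz2, -⟩⟩
      have hzN : z ∈ N := by
        refine Opens.mem_iSup.mpr ⟨(x, x'), Opens.mem_iSup.mpr ⟨⟨hx, hx', hxx'⟩, hz1, hz2⟩⟩
      exact ha₀ z hzN hz3)
    (hU₀.basicOpen a₀) hηa₀
  exact ⟨V, hV, hηV, hfV⟩

end Groth.Agent.Helper16.GenFinSch
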