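import Mathlib
import Groth.Agent.Lib.Helper16.Sch.GenFinSch5

set_option autoImplicit false
set_option linter.style.haveILetI false
universe u
open CategoryTheory CategoryTheory.Limits AlgebraicGeometry Opposite TopologicalSpace

noncomputable section

namespace Groth.Agent.Helper16.GenFinSch

variable {X Y : Scheme.{u}}

theorem finite_fiber_of_isFinite_restrict (f : X ⟶ Y) (V : Y.Opens) (η : Y) (hηV : η ∈ V)
    [IsFinite (f ∣_ V)] : (f ⁻¹' {η}).Finite := by
  have h := (f ∣_ V).finite_preimage_singleton ⟨η, hηV⟩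
  refine (h.image (f ⁻¹ᵁ V).ι).subset ?_
  intro x hx
  have hx' : f x = η := hx
  have hxV : x ∈ f ⁻¹ᵁ V := by show f x ∈ V; rw [hx']; exact hηV
  refine ⟨⟨x, hxV⟩, ?_, rfl⟩
  show (f ∣_ V) ⟨x, hxV⟩ = ⟨η, hηV⟩
  exact Subtype.ext ((morphismRestrict_base_coe f V ⟨x, hxV⟩).trans hx')

end Groth.Agent.Helper16.GenFinSch
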