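import Mathlib
import Groth.Agent.Lib.Helper16.Sch.GenFinSch6

set_option autoImplicit false
set_option linter.style.haveILetI false
universe u
open CategoryTheory CategoryTheory.Limits AlgebraicGeometry Opposite TopologicalSpace

noncomputable section

namespace Groth.Agent.Helper16.GenFinSch

variable {X Y : Scheme.{u}}

theorem isFinite_restrict_restrict_iff (f : X ⟶ Y) (V V' : Y.Opens) (h : V' ≤ V) :
    IsFinite ((f ∣_ V) ∣_ (V.ι ⁻¹ᵁ V')) ↔ IsFinite (f ∣_ V') := by
  have e : V.ι ''ᵁ (V.ι ⁻¹ᵁ V') = V' := by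
    rw [Scheme.Hom.image_preimage_eq_opensRange_inf, Scheme.Opens.opensRange_ι]
    exact inf_eq_right.mpr h
  rw [MorphismProperty.arrow_mk_iso_iff @IsFinite (morphismRestrictRestrict f V (V.ι ⁻¹ᵁ V')), e]

/-- S2081 -/
theorem exists_dense_open_finite (f : X ⟶ Y) [LocallyOfFiniteType f] [QuasiCompact f]
    (hX : (irreducibleComponents X).Finite) (hY : (irreducibleComponents Y).Finite)
    (hgen : ∀ x : X, closure {x} ∈ irreducibleComponents X ↔
      closure {f x} ∈ irreducibleComponents Y) :
    ∃ V : Y.Opens, Dense (V : Set Y) ∧ IsFinite (f ∣_ V) := by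
  classical
  let GX : Set X := {x | closure {x} ∈ irreducibleComponents X}
  have hGX : GX.Finite := by
    refine hX.preimage (f := fun x : X => closure {x}) ?_
    intro x _ x' _ h
    exact (inseparable_iff_closure_eq.mpr h).eq
  have hOopen : ∀ x : X, IsOpen (⋃₀ (irreducibleComponents X \ {closure {x}}))ᶜ := fun x => by
    rw [Set.sUnion_eq_biUnion]
    exact ((hX.subset Set.diff_subset).isClosed_biUnion
      (fun t ht => isClosed_of_mem_irreducibleComponents t ht.1)).isOpen_compl
  let O : X → X.Opens := fun x => ⟨_, hOopen x⟩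
  have hO : ∀ x ∈ GX, x ∈ O x := by
    rintro x hx ⟨C, ⟨hC, hCne⟩, hxC⟩
    apply hCne
    have h1 : closure {x} ⊆ C :=
      closure_minimal (Set.singleton_subset_iff.mpr hxC) (isClosed_of_mem_irreducibleComponents C hC)
    exact (Set.Subset.antisymm (hx.2 hC.1 h1) h1)
  have hdisj : ∀ x x', x ∈ GX → x' ∈ GX → x ≠ x' → Disjoint (O x) (O x') := by
    intro x x' hx hx' hxx'
    rw [disjoint_iff, eq_bot_iff]
    rintro z ⟨hz1, hz2⟩
    have hC : irreducibleComponent z ∈ irreducibleComponents X :=
      irreducibleComponent_mem_irreducibleComponents z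
    have hzC : z ∈ irreducibleComponent z := mem_irreducibleComponent
    have e1 : irreducibleComponent z = closure {x} := by
      by_contra hne
      exact hz1 ⟨_, ⟨hC, hne⟩, hzC⟩
    have e2 : irreducibleComponent z = closure {x'} := by
      by_contra hne
      exact hz2 ⟨_, ⟨hC, hne⟩, hzC⟩
    exact hxx' (inseparable_iff_closure_eq.mpr (e1.symm.trans e2)).eq
  have hmain : ∀ η : Y, closure {η} ∈ irreducibleComponents Y →
      ∃ V : Y.Opens, η ∈ V ∧ IsFinite (f ∣_ V) := by
    intro η hη
    have hfibre : f ⁻¹' {η} ⊆ GX := by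
      intro x hx
      have hx' : f x = η := hx
      exact (hgen x).mpr (by rw [hx']; exact hη)
    obtain ⟨_, ⟨U₀, hU₀, rfl⟩, hηU₀, -⟩ :=
      Y.isBasis_affineOpens.exists_subset_of_mem_open (Set.mem_univ η) isOpen_univ
    obtain ⟨V, -, hηV, -, hfV⟩ := exists_isFinite_morphismRestrict f η
      (eq_of_specializes_of_mem_irreducibleComponents η hη) (hGX.subset hfibre) O
      (fun x hx => hO x (hfibre hx))
      (fun x x' hx hx' hxx' => hdisj x x' (hfibre hx) (hfibre hx') hxx') hU₀ hηU₀
    exact ⟨V, hηV, hfV⟩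
  choose! Vη hVη_mem hVη_fin using hmain
  let GY : Set Y := {y | closure {y} ∈ irreducibleComponents Y}
  let V : Y.Opens := ⨆ η : GY, Vη η.1
  refine ⟨V, ?_, ?_⟩
  · intro y
    obtain ⟨η, hηgen⟩ := QuasiSober.sober (isIrreducible_irreducibleComponent (x := y))
      isClosed_irreducibleComponent
    have hηcl : closure {η} = irreducibleComponent y := hηgen
    have hηGY : η ∈ GY := by
      show closure {η} ∈ irreducibleComponents Y
      rw [hηcl]
      exact irreducibleComponent_mem_irreducibleComponents y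
    have hηV : η ∈ (V : Set Y) := Opens.mem_iSup.mpr ⟨⟨η, hηGY⟩, hVη_mem η hηGY⟩
    have hy : y ∈ closure {η} := by rw [hηcl]; exact mem_irreducibleComponent
    exact closure_mono (Set.singleton_subset_iff.mpr hηV) hy
  · apply IsZariskiLocalAtTarget.of_forall_exists_morphismRestrict (P := @IsFinite)
    intro x
    obtain ⟨η, hxη⟩ := Opens.mem_iSup.mp x.2
    refine ⟨V.ι ⁻¹ᵁ Vη η.1, hxη, ?_⟩
    rw [isFinite_restrict_restrict_iff f V (Vη η.1) (le_iSup (fun η : GY => Vη η.1) η)]
    exact hVη_fin η.1 η.2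

end Groth.Agent.Helper16.GenFinSch
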