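import Mathlib
import Groth.Agent.Lib.Helper16.Sch.GenFinSch7
import Groth.Agent.Lib.Helper14.AlgFiber
import Groth.Agent.Lib.Helper14.ResFieldBridge
import Groth.Agent.Lib.Helper3.CycGen

set_option autoImplicit false
set_option linter.style.haveILetI false
universe u
open CategoryTheory CategoryTheory.Limits AlgebraicGeometry Opposite TopologicalSpace

noncomputable section

namespace Groth.Agent.Helper16.GenFinInt

open Groth.Agent.Helper16.GenFinSch

variable {X Y : Scheme.{u}}

theorem map_genericPoint_of_isDominant [IrreducibleSpace X] [IrreducibleSpace Y] (f : X ⟶ Y)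
    [IsDominant f] : f (genericPoint X) = genericPoint Y := by
  apply ((genericPoint_spec Y).eq _).symm
  have h := (genericPoint_spec X).image f.continuous
  rw [Set.image_univ, f.denseRange.closure_range] at h
  exact h

theorem genericPoint_minimal [IrreducibleSpace Y] (y : Y) (h : y ⤳ genericPoint Y) :
    y = genericPoint Y :=
  (h.antisymm (genericPoint_specializes y)).eq

/-- A ⇒ C -/
theorem eq_of_map_eq_of_isAlgebraic (f : X ⟶ Y) (ξ : X) (hξ : ∀ x : X, ξ ⤳ x)
    (halg : @Algebra.IsAlgebraic (Y.residueField (f ξ)) (X.residueField ξ) _ _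
      (f.residueFieldMap ξ).hom.toAlgebra) (x : X) (hx : f x = f ξ) : x = ξ := by
  have hcl := Groth.Agent.Helper14.isClosed_singleton_asFiber_of_isAlgebraic f ξ halg
  have hcl' : IsClosed ({(⟨ξ, rfl⟩ : f ⁻¹' {f ξ})} : Set (f ⁻¹' {f ξ})) := by
    have := (f.fiberHomeo (f ξ)).isClosed_image.mpr hcl
    rw [Set.image_singleton] at this
    convert this using 2
    exact ((f.fiberHomeo (f ξ)).apply_symm_apply _).symm
  have hsp : (⟨ξ, rfl⟩ : f ⁻¹' {f ξ}) ⤳ ⟨x, hx⟩ :=
    Topology.IsInducing.subtypeVal.specializes_iff.mp (hξ x)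
  have := hsp.mem_closed hcl' rfl
  exact congrArg Subtype.val (Set.mem_singleton_iff.mp this)

/-- C ⇒ B -/
theorem exists_finite_resLE_of_fiber_subsingleton [IsIntegral X] [IsIntegral Y] (f : X ⟶ Y)
    [IsDominant f] [LocallyOfFiniteType f]
    (hC : ∀ x : X, f x = genericPoint Y → x = genericPoint X) :
    ∃ (U : X.Opens) (V : Y.Opens) (hUV : U ≤ f ⁻¹ᵁ V), IsAffineOpen U ∧ IsAffineOpen V ∧
      Nonempty ↥U ∧ IsFinite (f.resLE V U hUV) := by
  have hfξ := map_genericPoint_of_isDominant f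
  have hfin : (f ⁻¹' {genericPoint Y}).Finite :=
    (Set.finite_singleton (genericPoint X)).subset (fun x hx => hC x hx)
  obtain ⟨_, ⟨V₀, hV₀, rfl⟩, hηV₀, -⟩ :=
    Y.isBasis_affineOpens.exists_subset_of_mem_open (Set.mem_univ (genericPoint Y)) isOpen_univ
  have hV₀ : IsAffineOpen V₀ := hV₀
  obtain ⟨_, ⟨W, hW, rfl⟩, hξW, hWle⟩ := X.isBasis_affineOpens.exists_subset_of_mem_open
    (show genericPoint X ∈ ((f ⁻¹ᵁ V₀ : X.Opens) : Set X) by
      show f (genericPoint X) ∈ V₀; rw [hfξ]; exact hηV₀) (f ⁻¹ᵁ V₀).2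
  have hW : IsAffineOpen W := hW
  obtain ⟨a, hηa, H⟩ := exists_finite_appLE f hV₀ hW hWle (genericPoint Y) hηV₀
    genericPoint_minimal hfin
  have hUeq := basicOpen_appLE f hWle a
  have e' : X.basicOpen (f.appLE V₀ W hWle a) ≤ f ⁻¹ᵁ (Y.basicOpen a) := by
    rw [hUeq]; exact inf_le_right
  refine ⟨X.basicOpen (f.appLE V₀ W hWle a), Y.basicOpen a, e', hW.basicOpen _, hV₀.basicOpen a,
    ⟨⟨genericPoint X, ?_⟩⟩, ?_⟩
  · rw [hUeq]
    exact ⟨hξW, by show f (genericPoint X) ∈ Y.basicOpen a; rw [hfξ]; exact hηa⟩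
  · exact isFinite_resLE_of_appLE f (hV₀.basicOpen a) (hW.basicOpen _) e' (H e')

/-- B ⇒ A -/
theorem finite_residueField_of_finite_appLE (f : X ⟶ Y) [LocallyOfFiniteType f] {U : X.Opens}
    (hU : IsAffineOpen U) {V : Y.Opens} (hV : IsAffineOpen V) (e : U ≤ f ⁻¹ᵁ V)
    (hfin : (f.appLE V U e).hom.Finite) (x : X) (hx : x ∈ U) :
    letI := (f.residueFieldMap x).hom.toAlgebra
    Module.Finite (Y.residueField (f x)) (X.residueField x) := by
  letI := (f.residueFieldMap x).hom.toAlgebra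
  haveI : Algebra.EssFiniteType (Y.residueField (f x)) (X.residueField x) :=
    Groth.Agent.Helper3.CycGen.essFiniteType_residueFieldMap f x
  have hcomm := Groth.Agent.Helper14.ResFieldBridge.evaluation_appLE f e x hx
  have hint : ∀ r : Γ(X, U), IsIntegral (Y.residueField (f x)) ((X.evaluation U x hx).hom r) := by
    intro r
    obtain ⟨P, hP, hPr⟩ := hfin.to_isIntegral r
    refine ⟨P.map (Y.evaluation V (f x) (e hx)).hom, hP.map _, ?_⟩
    rw [Polynomial.eval₂_map]
    show Polynomial.eval₂ ((f.residueFieldMap x).hom.comp (Y.evaluation V (f x) (e hx)).hom)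
      ((X.evaluation U x hx).hom r) P = 0
    rw [hcomm, ← Polynomial.hom_eval₂, hPr, map_zero]
  haveI : Algebra.IsAlgebraic (Y.residueField (f x)) (X.residueField x) := ⟨fun z => by
    obtain ⟨r, s, hs, hz⟩ := Groth.Agent.Helper14.ResFieldBridge.fraction_evaluation hU x hx z
    have hz' : z = (X.evaluation U x hx).hom r * ((X.evaluation U x hx).hom s)⁻¹ := by
      rw [← hz, mul_assoc, mul_inv_cancel₀ hs, mul_one]
    rw [hz']
    exact ((hint r).isAlgebraic).mul ((hint s).isAlgebraic).inv⟩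
  exact Algebra.finite_of_essFiniteType_of_isAlgebraic

end Groth.Agent.Helper16.GenFinInt
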