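import Mathlib
import Groth.Agent.Lib.Helper16.Sch.GenFinInt

set_option autoImplicit false
set_option linter.style.haveILetI false
universe u
open CategoryTheory CategoryTheory.Limits AlgebraicGeometry Opposite TopologicalSpace

noncomputable section

namespace Groth.Agent.Helper16.GenFinInt

open Groth.Agent.Helper16.GenFinSch

variable {X Y : Scheme.{u}}

theorem finite_appLE_of_isFinite_resLE (f : X ⟶ Y) {U : X.Opens} (hU : IsAffineOpen U)
    {V : Y.Opens} (hV : IsAffineOpen V) (e : U ≤ f ⁻¹ᵁ V) (h : IsFinite (f.resLE V U e)) :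
    (f.appLE V U e).hom.Finite := by
  haveI : IsAffine V.toScheme := hV
  haveI : IsAffine U.toScheme := hU
  rw [HasAffineProperty.iff_of_isAffine (P := @IsFinite)] at h
  exact (RingHom.finite_respectsIso.arrow_mk_iso_iff (arrowResLEAppIso f V U e)).mp h.2

/-- D ⇒ B -/
theorem exists_resLE_of_morphismRestrict (f : X ⟶ Y) [IsDominant f] (V : Y.Opens)
    (hV : IsAffineOpen V) (hne : Nonempty ↥V) (h : IsFinite (f ∣_ V)) :
    ∃ (U : X.Opens) (V : Y.Opens) (hUV : U ≤ f ⁻¹ᵁ V), IsAffineOpen U ∧ IsAffineOpen V ∧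
      Nonempty ↥U ∧ IsFinite (f.resLE V U hUV) := by
  haveI : IsAffine V.toScheme := hV
  have h' := h
  rw [HasAffineProperty.iff_of_isAffine (P := @IsFinite)] at h'
  obtain ⟨y, hy⟩ := hne
  obtain ⟨x, hx⟩ := f.denseRange.exists_mem_open V.2 ⟨y, hy⟩
  refine ⟨f ⁻¹ᵁ V, V, le_rfl, h'.1, hV, ⟨⟨x, hx⟩⟩, ?_⟩
  rw [Scheme.Hom.resLE_eq_morphismRestrict]
  exact h

/-- C ⇒ D, quasi-compact case -/
theorem exists_finite_morphismRestrict_of_quasiCompact [IsIntegral X] [IsIntegral Y] (f : X ⟶ Y)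
    [IsDominant f] [LocallyOfFiniteType f] [QuasiCompact f]
    (hC : ∀ x : X, f x = genericPoint Y → x = genericPoint X) :
    ∃ V : Y.Opens, IsAffineOpen V ∧ Nonempty ↥V ∧ IsFinite (f ∣_ V) := by
  have hfin : (f ⁻¹' {genericPoint Y}).Finite :=
    (Set.finite_singleton (genericPoint X)).subset (fun x hx => hC x hx)
  obtain ⟨_, ⟨V₀, hV₀, rfl⟩, hηV₀, -⟩ :=
    Y.isBasis_affineOpens.exists_subset_of_mem_open (Set.mem_univ (genericPoint Y)) isOpen_univ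
  obtain ⟨V, hV, hηV, -, hfV⟩ := exists_isFinite_morphismRestrict f (genericPoint Y)
    genericPoint_minimal hfin (fun _ => ⊤) (fun _ _ => trivial)
    (fun x x' hx hx' hxx' => absurd ((hC x hx).trans (hC x' hx').symm) hxx') hV₀ hηV₀
  exact ⟨V, hV, ⟨⟨_, hηV⟩⟩, hfV⟩

theorem eq_preimage_of_isFinite_resLE [IsIntegral X] (f : X ⟶ Y) [IsSeparated f] {U : X.Opens}
    {V : Y.Opens} (e : U ≤ f ⁻¹ᵁ V) (hne : Nonempty ↥U) (h : IsFinite (f.resLE V U e)) :
    U = f ⁻¹ᵁ V := by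
  obtain ⟨x₀, hx₀⟩ := hne
  haveI : Nonempty ↥(f ⁻¹ᵁ V) := ⟨⟨x₀, e hx₀⟩⟩
  let j : U.toScheme ⟶ (f ⁻¹ᵁ V).toScheme := X.homOfLE e
  have hj : j ≫ f ∣_ V = f.resLE V U e := by
    rw [← Scheme.Hom.resLE_eq_morphismRestrict]
    exact Scheme.Hom.map_resLE f le_rfl e
  haveI : UniversallyClosed (j ≫ f ∣_ V) := by rw [hj]; infer_instance
  haveI : UniversallyClosed j := UniversallyClosed.of_comp_of_isSeparated j (f ∣_ V)
  have hcl : IsClosed (Set.range j) := by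
    rw [← Set.image_univ]
    exact j.isClosedMap _ isClosed_univ
  have hop : IsOpen (Set.range j) := j.isOpenEmbedding.isOpen_range
  haveI : Nonempty (f ⁻¹ᵁ V).toScheme := ⟨⟨x₀, e hx₀⟩⟩
  haveI : IsIntegral (f ⁻¹ᵁ V).toScheme := isIntegral_of_isOpenImmersion (f ⁻¹ᵁ V).ι
  haveI : IrreducibleSpace (f ⁻¹ᵁ V).toScheme := inferInstance
  haveI : PreconnectedSpace (f ⁻¹ᵁ V).toScheme := inferInstance
  have huniv : Set.range j = Set.univ :=
    IsClopen.eq_univ ⟨hcl, hop⟩ ⟨j ⟨x₀, hx₀⟩, ⟨_, rfl⟩⟩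
  apply le_antisymm e
  intro z hz
  have : (⟨z, hz⟩ : (f ⁻¹ᵁ V).toScheme) ∈ Set.range j := by rw [huniv]; trivial
  obtain ⟨w, hw⟩ := this
  have h2 : (f ⁻¹ᵁ V).ι (j w) = U.ι w := by
    rw [← Scheme.Hom.comp_apply, Scheme.homOfLE_ι]
  rw [hw] at h2
  have : z = w.1 := h2
  rw [this]
  exact w.2

/-- C ⇒ D, separated case -/
theorem exists_finite_morphismRestrict_of_isSeparated [IsIntegral X] [IsIntegral Y] (f : X ⟶ Y)
    [IsDominant f] [LocallyOfFiniteType f] [IsSeparated f]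
    (hC : ∀ x : X, f x = genericPoint Y → x = genericPoint X) :
    ∃ V : Y.Opens, IsAffineOpen V ∧ Nonempty ↥V ∧ IsFinite (f ∣_ V) := by
  obtain ⟨U, V, hUV, hU, hV, hne, hfin⟩ := exists_finite_resLE_of_fiber_subsingleton f hC
  have hUeq := eq_preimage_of_isFinite_resLE f hUV hne hfin
  obtain ⟨x₀, hx₀⟩ := hne
  refine ⟨V, hV, ⟨⟨f x₀, hUV hx₀⟩⟩, ?_⟩
  rw [← Scheme.Hom.resLE_eq_morphismRestrict]
  exact (Scheme.Hom.resLE_congr f hUV rfl hUeq @IsFinite).mp hfin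

end Groth.Agent.Helper16.GenFinInt
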