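import Mathlib
import Groth.Agent.Lib.Helper16.Sch.GenFinInt2

set_option autoImplicit false
set_option linter.style.haveILetI false
universe u
open CategoryTheory CategoryTheory.Limits AlgebraicGeometry Opposite TopologicalSpace

noncomputable section

namespace Groth.Agent.Helper16.Birat

open Groth.Agent.Helper16.GenFinSch Groth.Agent.Helper16.GenFinInt

variable {X Y : Scheme.{u}}

/-- every point is a specialization of the generic point of an irreducible component -/
theorem exists_generic_specializes {T : Type*} [TopologicalSpace T] [QuasiSober T] (x : T) :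
    ∃ ξ : T, closure {ξ} ∈ irreducibleComponents T ∧ ξ ⤳ x := by
  obtain ⟨ξ, hξ⟩ := QuasiSober.sober (isIrreducible_irreducibleComponent (x := x))
    isClosed_irreducibleComponent
  refine ⟨ξ, ?_, ?_⟩
  · rw [show closure {ξ} = irreducibleComponent x from hξ]
    exact irreducibleComponent_mem_irreducibleComponents x
  · rw [specializes_iff_mem_closure, show closure {ξ} = irreducibleComponent x from hξ]
    exact mem_irreducibleComponent

/-- a specialization of `ξ` in the same fibre equals `ξ` if the residue field extension at `ξ`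
is algebraic -/
theorem eq_of_specializes_of_map_eq_of_isAlgebraic (f : X ⟶ Y) (ξ : X)
    (halg : @Algebra.IsAlgebraic (Y.residueField (f ξ)) (X.residueField ξ) _ _
      (f.residueFieldMap ξ).hom.toAlgebra) (x : X) (hsp : ξ ⤳ x) (hx : f x = f ξ) : x = ξ := by
  have hcl := Groth.Agent.Helper14.isClosed_singleton_asFiber_of_isAlgebraic f ξ halg
  have hcl' : IsClosed ({(⟨ξ, rfl⟩ : f ⁻¹' {f ξ})} : Set (f ⁻¹' {f ξ})) := by
    have := (f.fiberHomeo (f ξ)).isClosed_image.mpr hcl
    rw [Set.image_singleton] at this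
    convert this using 2
    exact ((f.fiberHomeo (f ξ)).apply_symm_apply _).symm
  have hsp' : (⟨ξ, rfl⟩ : f ⁻¹' {f ξ}) ⤳ ⟨x, hx⟩ :=
    Topology.IsInducing.subtypeVal.specializes_iff.mp hsp
  have := hsp'.mem_closed hcl' rfl
  exact congrArg Subtype.val (Set.mem_singleton_iff.mp this)

theorem residueFieldMap_surjective_of_isIso (f : X ⟶ Y) (x : X) [IsIso (f.stalkMap x)] :
    Function.Surjective (f.residueFieldMap x).hom := by
  intro a
  obtain ⟨s, rfl⟩ := IsLocalRing.residue_surjective a
  obtain ⟨t, rfl⟩ := (ConcreteCategory.bijective_of_isIso (f.stalkMap x)).2 s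
  exact ⟨IsLocalRing.residue _ t, rfl⟩

theorem isAlgebraic_residueFieldMap_of_isIso (f : X ⟶ Y) (x : X) [IsIso (f.stalkMap x)] :
    @Algebra.IsAlgebraic (Y.residueField (f x)) (X.residueField x) _ _
      (f.residueFieldMap x).hom.toAlgebra := by
  letI := (f.residueFieldMap x).hom.toAlgebra
  haveI : Algebra.IsIntegral (Y.residueField (f x)) (X.residueField x) :=
    Algebra.isIntegral_of_surjective (residueFieldMap_surjective_of_isIso f x)
  infer_instance

/-- a morphism whose image lies in the generizations of `x` factors through `Spec 𝒪_{X,x}` -/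
theorem exists_fac_fromSpecStalk {T : Scheme.{u}} (g : T ⟶ X) (x : X)
    (h : ∀ t : T, g t ⤳ x) :
    ∃ t' : T ⟶ Spec (X.presheaf.stalk x), t' ≫ X.fromSpecStalk x = g := by
  obtain ⟨_, ⟨U, hU, rfl⟩, hxU, -⟩ :=
    X.isBasis_affineOpens.exists_subset_of_mem_open (Set.mem_univ x) isOpen_univ
  have hU : IsAffineOpen U := hU
  have hgU : ∀ t, g t ∈ U := fun t => (h t).mem_open U.2 hxU
  have e : (⊤ : T.Opens) ≤ g ⁻¹ᵁ U := fun t _ => hgU t
  let ψ : Γ(X, U) ⟶ Γ(T, ⊤) := g.appLE U ⊤ e
  have hg : g = T.toSpecΓ ≫ Spec.map ψ ≫ hU.fromSpec := by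
    haveI : IsIso (⊤ : T.Opens).ι := by
      rw [show (⊤ : T.Opens).ι = T.topIso.hom from rfl]; infer_instance
    rw [← cancel_epi (⊤ : T.Opens).ι]
    have h1 := Scheme.Opens.toSpecΓ_SpecMap_appLE g U ⊤ e
    rw [Scheme.Opens.toSpecΓ_top] at h1
    have h2 : (⊤ : T.Opens).ι ≫ T.toSpecΓ ≫ Spec.map ψ ≫ hU.fromSpec =
        ((⊤ : T.Opens).ι ≫ T.toSpecΓ) ≫ Spec.map (g.appLE U ⊤ e) ≫ hU.fromSpec := by
      simp only [Category.assoc]; rfl
    rw [h2, ← Category.assoc, h1, Category.assoc,
      IsAffineOpen.toSpecΓ_fromSpec, Scheme.Hom.resLE_comp_ι]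
  letI : Algebra Γ(X, U) (X.presheaf.stalk x) := (X.presheaf.germ U x hxU).hom.toAlgebra
  haveI : IsLocalization.AtPrime (X.presheaf.stalk x) (hU.primeIdealOf ⟨x, hxU⟩).asIdeal :=
    hU.isLocalization_stalk ⟨x, hxU⟩
  have hunit : ∀ a : (hU.primeIdealOf ⟨x, hxU⟩).asIdeal.primeCompl, IsUnit (ψ.hom a) := by
    rintro ⟨a, ha⟩
    have hxa : x ∈ X.basicOpen a := (mem_basicOpen_iff_notMem_primeIdealOf hU x hxU a).mpr ha
    have htop : T.basicOpen (ψ.hom a) = ⊤ := by
      have := basicOpen_appLE g e a
      rw [show (g.appLE U ⊤ e) a = ψ.hom a from rfl] at this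
      rw [this, top_inf_eq]
      ext t
      simp only [Opens.coe_top, Set.mem_univ, iff_true]
      exact (h t).mem_open (X.basicOpen a).2 hxa
    apply RingedSpace.isUnit_of_isUnit_germ
    intro t ht
    refine (T.mem_basicOpen _ t ht).mp ?_
    rw [htop]; trivial
  let χ : X.presheaf.stalk x →+* Γ(T, ⊤) := IsLocalization.lift hunit
  have hχ : χ.comp (X.presheaf.germ U x hxU).hom = ψ.hom := IsLocalization.lift_comp hunit
  refine ⟨T.toSpecΓ ≫ Spec.map (CommRingCat.ofHom χ), ?_⟩
  rw [← hU.fromSpecStalk_eq_fromSpecStalk hxU, IsAffineOpen.fromSpecStalk, hg, Category.assoc,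
    ← Spec.map_comp_assoc]
  congr 3
  ext1
  exact hχ

/-- the fibre over the image of a generic point consists of that generic point only, for a
morphism which is injective on generic points and a local isomorphism at them -/
theorem eq_of_specializes_map_generic (f : X ⟶ Y)
    (hinj : Set.InjOn (fun x : X => f.base x) {x : X | closure {x} ∈ irreducibleComponents ↥X})
    (hiso : ∀ x : X, closure {x} ∈ irreducibleComponents ↥X → IsIso (f.stalkMap x))
    (x : X) (hx : closure {x} ∈ irreducibleComponents ↥X)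
    (hy : closure {f x} ∈ irreducibleComponents ↥Y) (x' : X) (hx' : f x' ⤳ f x) : x' = x := by
  have h1 : f x' = f x := eq_of_specializes_of_mem_irreducibleComponents (f x) hy (f x') hx'
  obtain ⟨ξ, hξ, hξx'⟩ := exists_generic_specializes x'
  have h2 : f ξ ⤳ f x := (hξx'.map f.continuous).trans (specializes_of_eq h1)
  have h3 : f ξ = f x := eq_of_specializes_of_mem_irreducibleComponents (f x) hy (f ξ) h2
  have h4 : ξ = x := hinj hξ hx h3
  subst h4
  haveI := hiso ξ hξ
  exact eq_of_specializes_of_map_eq_of_isAlgebraic f ξ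
    (isAlgebraic_residueFieldMap_of_isIso f ξ) x' hξx' h1

theorem isIso_pullback_snd_fromSpecStalk (f : X ⟶ Y)
    (hinj : Set.InjOn (fun x : X => f.base x) {x : X | closure {x} ∈ irreducibleComponents ↥X})
    (hiso : ∀ x : X, closure {x} ∈ irreducibleComponents ↥X → IsIso (f.stalkMap x))
    (x : X) (hx : closure {x} ∈ irreducibleComponents ↥X)
    (hy : closure {f x} ∈ irreducibleComponents ↥Y) :
    IsIso (pullback.snd f (Y.fromSpecStalk (f x))) := by
  haveI := hiso x hx
  let s : Spec (Y.presheaf.stalk (f x)) ⟶ X := Spec.map (inv (f.stalkMap x)) ≫ X.fromSpecStalk x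
  have hs : s ≫ f = Y.fromSpecStalk (f x) := by
    rw [Category.assoc, ← Scheme.SpecMap_stalkMap_fromSpecStalk, ← Spec.map_comp_assoc,
      IsIso.hom_inv_id, Spec.map_id, Category.id_comp]
  have hpb : IsPullback s (𝟙 _) f (Y.fromSpecStalk (f x)) := by
    refine ⟨⟨by rw [hs, Category.id_comp]⟩, ⟨PullbackCone.IsLimit.mk _ (fun c => c.snd) ?_ ?_ ?_⟩⟩
    · intro c
      have hpt : ∀ t : c.pt, c.fst t ⤳ x := by
        intro t
        have h1 : f (c.fst t) ⤳ f x := by
          have h2 : f (c.fst t) = Y.fromSpecStalk (f x) (c.snd t) := by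
            rw [← Scheme.Hom.comp_apply, c.condition, Scheme.Hom.comp_apply]
          rw [h2]
          have : Y.fromSpecStalk (f x) (c.snd t) ∈ Set.range (Y.fromSpecStalk (f x)) := ⟨_, rfl⟩
          rw [Scheme.range_fromSpecStalk] at this
          exact this
        exact specializes_of_eq (eq_of_specializes_map_generic f hinj hiso x hx hy _ h1)
      obtain ⟨t', ht'⟩ := exists_fac_fromSpecStalk c.fst x hpt
      have h3 : t' ≫ Spec.map (f.stalkMap x) = c.snd := by
        rw [← cancel_mono (Y.fromSpecStalk (f x)), Category.assoc,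
          Scheme.SpecMap_stalkMap_fromSpecStalk, ← Category.assoc, ht', c.condition]
      show c.snd ≫ s = c.fst
      rw [← h3, ← ht']
      simp only [s, Category.assoc]
      rw [← Spec.map_comp_assoc, IsIso.inv_hom_id, Spec.map_id, Category.id_comp]
    · intro c; exact Category.comp_id _
    · intro c m _ h2; rw [← h2]; exact (Category.comp_id m).symm
  have h := hpb.isoPullback_hom_snd
  have : pullback.snd f (Y.fromSpecStalk (f x)) = hpb.isoPullback.inv := by
    rw [← Category.comp_id hpb.isoPullback.inv, Iso.eq_inv_comp]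
    exact h
  rw [this]
  infer_instance

end Groth.Agent.Helper16.Birat
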