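import Mathlib
import Groth.Agent.Lib.Helper16.Sch.Birat1
import Groth.Agent.Lib.Helper16.Alg.LocIso

set_option autoImplicit false
set_option linter.style.haveILetI false
universe u
open CategoryTheory CategoryTheory.Limits AlgebraicGeometry Opposite TopologicalSpace

noncomputable section

namespace Groth.Agent.Helper16.Birat

open Groth.Agent.Helper16.GenFinSch Groth.Agent.Helper16.GenFinInt

variable {X Y : Scheme.{u}}

/-- sections over an affine open of a reduced scheme all of whose points are specializations of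
one point form a domain -/
theorem isDomain_of_forall_specializes [IsReduced Y] {V : Y.Opens} (hV : IsAffineOpen V) (y : Y)
    (hyV : y ∈ V) (h : ∀ z ∈ V, y ⤳ z) : IsDomain Γ(Y, V) := by
  have hle : ∀ Q : PrimeSpectrum Γ(Y, V), hV.primeIdealOf ⟨y, hyV⟩ ≤ Q := by
    intro Q
    rw [← Groth.Agent.Helper14.ResFieldBridge.specializes_fromSpec_iff hV,
      hV.fromSpec_primeIdealOf]
    apply h
    have h1 : hV.fromSpec Q ∈ Set.range hV.fromSpec := ⟨Q, rfl⟩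
    rw [hV.range_fromSpec] at h1
    exact h1
  have hbot : (hV.primeIdealOf ⟨y, hyV⟩).asIdeal = ⊥ := by
    rw [eq_bot_iff, ← Ideal.zero_eq_bot, ← nilradical_eq_zero Γ(Y, V), nilradical_eq_sInf]
    exact le_sInf (fun J hJ => hle ⟨J, hJ⟩)
  haveI : (⊥ : Ideal Γ(Y, V)).IsPrime := hbot ▸ (hV.primeIdealOf ⟨y, hyV⟩).isPrime
  exact IsDomain.of_bot_isPrime _

set_option maxHeartbeats 1600000 in
/-- spreading out an isomorphism of local rings to an isomorphism of open neighbourhoods -/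
theorem exists_isIso_resLE_of_isIso_stalkMap (f : X ⟶ Y) (x : X) [IsIso (f.stalkMap x)]
    {V₀ : Y.Opens} (hV₀ : IsAffineOpen V₀) (hfx : f x ∈ V₀)
    (hf : (LocallyOfFiniteType f ∧ IsDomain Γ(Y, V₀)) ∨ LocallyOfFinitePresentation f) :
    ∃ (U : X.Opens) (V : Y.Opens) (hUV : U ≤ f ⁻¹ᵁ V), x ∈ U ∧ V ≤ V₀ ∧
      IsIso (f.resLE V U hUV) := by
  obtain ⟨_, ⟨U₀, hU₀, rfl⟩, hxU₀, e⟩ :=
    X.isBasis_affineOpens.exists_subset_of_mem_open (show x ∈ (f ⁻¹ᵁ V₀ : X.Opens) from hfx)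
      (f ⁻¹ᵁ V₀).2
  have hU₀ : IsAffineOpen U₀ := hU₀
  have e : U₀ ≤ f ⁻¹ᵁ V₀ := e
  letI : Algebra Γ(Y, V₀) Γ(X, U₀) := (f.appLE V₀ U₀ e).hom.toAlgebra
  letI : Algebra Γ(Y, V₀) (Y.presheaf.stalk (f x)) := (Y.presheaf.germ V₀ (f x) hfx).hom.toAlgebra
  letI : Algebra Γ(X, U₀) (X.presheaf.stalk x) := (X.presheaf.germ U₀ x hxU₀).hom.toAlgebra
  haveI : IsLocalization.AtPrime (Y.presheaf.stalk (f x))
      (hV₀.primeIdealOf ⟨f x, hfx⟩).asIdeal := hV₀.isLocalization_stalk ⟨f x, hfx⟩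
  haveI : IsLocalization.AtPrime (X.presheaf.stalk x)
      (hU₀.primeIdealOf ⟨x, hxU₀⟩).asIdeal := hU₀.isLocalization_stalk ⟨x, hxU₀⟩
  have hψ : (f.stalkMap x).hom.comp (algebraMap Γ(Y, V₀) (Y.presheaf.stalk (f x))) =
      (algebraMap Γ(X, U₀) (X.presheaf.stalk x)).comp (algebraMap Γ(Y, V₀) Γ(X, U₀)) := by
    show (f.stalkMap x).hom.comp (Y.presheaf.germ V₀ (f x) hfx).hom =
      (X.presheaf.germ U₀ x hxU₀).hom.comp (f.appLE V₀ U₀ e).hom
    rw [← CommRingCat.hom_comp, ← CommRingCat.hom_comp, Scheme.Hom.germ_stalkMap,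
      Scheme.Hom.appLE, Category.assoc, X.presheaf.germ_res]
  have hbij : Function.Bijective (f.stalkMap x).hom :=
    ConcreteCategory.bijective_of_isIso (f.stalkMap x)
  have key : ∃ a : Γ(Y, V₀), a ∉ (hV₀.primeIdealOf ⟨f x, hfx⟩).asIdeal ∧ ∃ b : Γ(X, U₀),
      b ∉ (hU₀.primeIdealOf ⟨x, hxU₀⟩).asIdeal ∧
      ∀ (A' B' : Type u) [CommRing A'] [CommRing B'] [Algebra Γ(Y, V₀) A']
        [Algebra Γ(X, U₀) B'] [Algebra A' B'] [Algebra Γ(Y, V₀) B'] [IsScalarTower Γ(Y, V₀) A' B']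
        [IsScalarTower Γ(Y, V₀) Γ(X, U₀) B'] [IsLocalization.Away a A']
        [IsLocalization.Away (b * algebraMap Γ(Y, V₀) Γ(X, U₀) a) B'],
        Function.Bijective (algebraMap A' B') := by
    rcases hf with ⟨hft, hdom⟩ | hfp
    · haveI : Algebra.FiniteType Γ(Y, V₀) Γ(X, U₀) := f.finiteType_appLE hV₀ hU₀ e
      exact Groth.Agent.Helper16.LocIso.exists_bijective_away_of_isDomain
        (hV₀.primeIdealOf ⟨f x, hfx⟩).asIdeal (hU₀.primeIdealOf ⟨x, hxU₀⟩).asIdeal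
        (Y.presheaf.stalk (f x)) (X.presheaf.stalk x) (f.stalkMap x).hom hψ hbij
    · haveI : Algebra.FinitePresentation Γ(Y, V₀) Γ(X, U₀) :=
        f.finitePresentation_appLE hV₀ hU₀ e
      exact Groth.Agent.Helper16.LocIso.exists_bijective_away_of_finitePresentation
        (hV₀.primeIdealOf ⟨f x, hfx⟩).asIdeal (hU₀.primeIdealOf ⟨x, hxU₀⟩).asIdeal
        (Y.presheaf.stalk (f x)) (X.presheaf.stalk x) (f.stalkMap x).hom hψ hbij
  obtain ⟨a, ha, b, hb, H⟩ := key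
  have haP : algebraMap Γ(Y, V₀) Γ(X, U₀) a ∉ (hU₀.primeIdealOf ⟨x, hxU₀⟩).asIdeal :=
    fun h => ha ((Groth.Agent.Helper16.LocIso.mem_iff
      (hV₀.primeIdealOf ⟨f x, hfx⟩).asIdeal (hU₀.primeIdealOf ⟨x, hxU₀⟩).asIdeal
      (Y.presheaf.stalk (f x)) (X.presheaf.stalk x) (f.stalkMap x).hom hψ hbij a).mpr h)
  have hUV : X.basicOpen (b * f.appLE V₀ U₀ e a) ≤ f ⁻¹ᵁ (Y.basicOpen a) := by
    refine (X.basicOpen_mul _ _).le.trans (inf_le_right.trans ?_)
    rw [basicOpen_appLE]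
    exact inf_le_right
  refine ⟨X.basicOpen (b * f.appLE V₀ U₀ e a), Y.basicOpen a, hUV, ?_, Y.basicOpen_le a, ?_⟩
  · rw [mem_basicOpen_iff_notMem_primeIdealOf hU₀ x hxU₀]
    intro h
    rcases (Ideal.IsPrime.mem_or_mem inferInstance h) with h | h
    · exact hb h
    · exact haP h
  · letI : Algebra Γ(Y, V₀) Γ(Y, Y.basicOpen a) :=
      (Y.presheaf.map (homOfLE (Y.basicOpen_le a)).op).hom.toAlgebra
    haveI : IsLocalization.Away a Γ(Y, Y.basicOpen a) := hV₀.isLocalization_basicOpen a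
    letI : Algebra Γ(X, U₀) Γ(X, X.basicOpen (b * f.appLE V₀ U₀ e a)) :=
      (X.presheaf.map (homOfLE (X.basicOpen_le _)).op).hom.toAlgebra
    haveI : IsLocalization.Away (b * algebraMap Γ(Y, V₀) Γ(X, U₀) a)
        Γ(X, X.basicOpen (b * f.appLE V₀ U₀ e a)) := hU₀.isLocalization_basicOpen _
    letI : Algebra Γ(Y, Y.basicOpen a) Γ(X, X.basicOpen (b * f.appLE V₀ U₀ e a)) :=
      (f.appLE (Y.basicOpen a) (X.basicOpen (b * f.appLE V₀ U₀ e a)) hUV).hom.toAlgebra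
    letI : Algebra Γ(Y, V₀) Γ(X, X.basicOpen (b * f.appLE V₀ U₀ e a)) :=
      ((algebraMap Γ(Y, Y.basicOpen a) Γ(X, X.basicOpen (b * f.appLE V₀ U₀ e a))).comp
        (algebraMap Γ(Y, V₀) Γ(Y, Y.basicOpen a))).toAlgebra
    haveI : IsScalarTower Γ(Y, V₀) Γ(Y, Y.basicOpen a)
        Γ(X, X.basicOpen (b * f.appLE V₀ U₀ e a)) := .of_algebraMap_eq' rfl
    haveI : IsScalarTower Γ(Y, V₀) Γ(X, U₀) Γ(X, X.basicOpen (b * f.appLE V₀ U₀ e a)) :=
      .of_algebraMap_eq' (by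
        show (f.appLE (Y.basicOpen a) (X.basicOpen (b * f.appLE V₀ U₀ e a)) hUV).hom.comp
            (Y.presheaf.map (homOfLE (Y.basicOpen_le a)).op).hom =
          (X.presheaf.map (homOfLE (X.basicOpen_le _)).op).hom.comp (f.appLE V₀ U₀ e).hom
        rw [← CommRingCat.hom_comp, ← CommRingCat.hom_comp, Scheme.Hom.map_appLE,
          Scheme.Hom.appLE_map])
    have hbij' := H Γ(Y, Y.basicOpen a) Γ(X, X.basicOpen (b * f.appLE V₀ U₀ e a))
    have hiso : IsIso (f.appLE (Y.basicOpen a) (X.basicOpen (b * f.appLE V₀ U₀ e a)) hUV) :=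
      (ConcreteCategory.isIso_iff_bijective _).mpr hbij'
    haveI : IsAffine (Y.basicOpen a).toScheme := hV₀.basicOpen a
    haveI : IsAffine (X.basicOpen (b * f.appLE V₀ U₀ e a)).toScheme := hU₀.basicOpen _
    have h1 : (MorphismProperty.isomorphisms Scheme)
        (f.resLE (Y.basicOpen a) (X.basicOpen (b * f.appLE V₀ U₀ e a)) hUV) := by
      rw [HasAffineProperty.iff_of_isAffine (P := MorphismProperty.isomorphisms Scheme)]
      refine ⟨inferInstance, ?_⟩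
      exact ((MorphismProperty.isomorphisms CommRingCat).arrow_mk_iso_iff
        (arrowResLEAppIso f _ _ hUV)).mpr hiso
    exact h1

end Groth.Agent.Helper16.Birat
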