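import Mathlib
import Groth.Agent.Lib.Helper16.Sch.Birat2
import Groth.Agent.Lib.Helper16.Alg.LocIso2

set_option autoImplicit false
set_option linter.style.haveILetI false
universe u
open CategoryTheory CategoryTheory.Limits AlgebraicGeometry Opposite TopologicalSpace

noncomputable section

namespace Groth.Agent.Helper16.Birat

open Groth.Agent.Helper16.GenFinSch Groth.Agent.Helper16.GenFinInt

variable {X Y : Scheme.{u}}

set_option maxHeartbeats 1600000 in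
/-- spreading out an isomorphism of local rings to an isomorphism of open neighbourhoods -/
theorem exists_isIso_resLE_of_isIso_stalkMap' (f : X ⟶ Y) (x : X) [IsIso (f.stalkMap x)]
    {V₀ : Y.Opens} (hV₀ : IsAffineOpen V₀) (hfx : f x ∈ V₀)
    (hf : (LocallyOfFiniteType f ∧ Function.Injective (Y.presheaf.germ V₀ (f x) hfx).hom) ∨
      LocallyOfFinitePresentation f) :
    ∃ (U : X.Opens) (V : Y.Opens) (hUV : U ≤ f ⁻¹ᵁ V), x ∈ U ∧ V ≤ V₀ ∧
      IsIso (f.resLE V U hUV) := by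
  obtain ⟨_, ⟨U₀, hU₀, rfl⟩, hxU₀, e⟩ :=
    X.isBasis_affineOpens.exists_subset_of_mem_open (show x ∈ (f ⁻¹ᵁ V₀ : X.Opens) from hfx)
      (f ⁻¹ᵁ V₀).2
  have hU₀ : IsAffineOpen U₀ := hU₀
  have e : U₀ ≤ f ⁻¹ᵁ V₀ := e
  letI : Algebra Γ(Y, V₀) Γ(X, U₀) := (f.appLE V₀ U₀ e).hom.toAlgebra
  letI : Algebra Γ(Y, V₀) (Y.presheaf.stalk (f x)) := (Y.presheaf.germ V₀ (f x) hfx).hom.toAlgebra
  letI : Algebra Γ(X, U₀) (X.presheaf.stalk x) := (X.presheaf.germ U₀ x hxU₀).hom.toAlgebra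
  haveI : IsLocalization.AtPrime (Y.presheaf.stalk (f x))
      (hV₀.primeIdealOf ⟨f x, hfx⟩).asIdeal := hV₀.isLocalization_stalk ⟨f x, hfx⟩
  haveI : IsLocalization.AtPrime (X.presheaf.stalk x)
      (hU₀.primeIdealOf ⟨x, hxU₀⟩).asIdeal := hU₀.isLocalization_stalk ⟨x, hxU₀⟩
  have hψ : (f.stalkMap x).hom.comp (algebraMap Γ(Y, V₀) (Y.presheaf.stalk (f x))) =
      (algebraMap Γ(X, U₀) (X.presheaf.stalk x)).comp (algebraMap Γ(Y, V₀) Γ(X, U₀)) := by
    show (f.stalkMap x).hom.comp (Y.presheaf.germ V₀ (f x) hfx).hom =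
      (X.presheaf.germ U₀ x hxU₀).hom.comp (f.appLE V₀ U₀ e).hom
    rw [← CommRingCat.hom_comp, ← CommRingCat.hom_comp, Scheme.Hom.germ_stalkMap,
      Scheme.Hom.appLE, Category.assoc, X.presheaf.germ_res]
  have hbij : Function.Bijective (f.stalkMap x).hom :=
    ConcreteCategory.bijective_of_isIso (f.stalkMap x)
  have key : ∃ a : Γ(Y, V₀), a ∉ (hV₀.primeIdealOf ⟨f x, hfx⟩).asIdeal ∧ ∃ b : Γ(X, U₀),
      b ∉ (hU₀.primeIdealOf ⟨x, hxU₀⟩).asIdeal ∧
      ∀ (A' B' : Type u) [CommRing A'] [CommRing B'] [Algebra Γ(Y, V₀) A']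
        [Algebra Γ(X, U₀) B'] [Algebra A' B'] [Algebra Γ(Y, V₀) B'] [IsScalarTower Γ(Y, V₀) A' B']
        [IsScalarTower Γ(Y, V₀) Γ(X, U₀) B'] [IsLocalization.Away a A']
        [IsLocalization.Away (b * algebraMap Γ(Y, V₀) Γ(X, U₀) a) B'],
        Function.Bijective (algebraMap A' B') := by
    rcases hf with ⟨hft, hdom⟩ | hfp
    · haveI : Algebra.FiniteType Γ(Y, V₀) Γ(X, U₀) := f.finiteType_appLE hV₀ hU₀ e
      exact Groth.Agent.Helper16.LocIso.exists_bijective_away_of_injective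
        (hV₀.primeIdealOf ⟨f x, hfx⟩).asIdeal (hU₀.primeIdealOf ⟨x, hxU₀⟩).asIdeal
        (Y.presheaf.stalk (f x)) (X.presheaf.stalk x) (f.stalkMap x).hom hψ hdom hbij
    · haveI : Algebra.FinitePresentation Γ(Y, V₀) Γ(X, U₀) :=
        f.finitePresentation_appLE hV₀ hU₀ e
      exact Groth.Agent.Helper16.LocIso.exists_bijective_away_of_finitePresentation
        (hV₀.primeIdealOf ⟨f x, hfx⟩).asIdeal (hU₀.primeIdealOf ⟨x, hxU₀⟩).asIdeal
        (Y.presheaf.stalk (f x)) (X.presheaf.stalk x) (f.stalkMap x).hom hψ hbij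
  obtain ⟨a, ha, b, hb, H⟩ := key
  have haP : algebraMap Γ(Y, V₀) Γ(X, U₀) a ∉ (hU₀.primeIdealOf ⟨x, hxU₀⟩).asIdeal :=
    fun h => ha ((Groth.Agent.Helper16.LocIso.mem_iff
      (hV₀.primeIdealOf ⟨f x, hfx⟩).asIdeal (hU₀.primeIdealOf ⟨x, hxU₀⟩).asIdeal
      (Y.presheaf.stalk (f x)) (X.presheaf.stalk x) (f.stalkMap x).hom hψ hbij a).mpr h)
  have hUV : X.basicOpen (b * f.appLE V₀ U₀ e a) ≤ f ⁻¹ᵁ (Y.basicOpen a) := by
    refine (X.basicOpen_mul _ _).le.trans (inf_le_right.trans ?_)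
    rw [basicOpen_appLE]
    exact inf_le_right
  refine ⟨X.basicOpen (b * f.appLE V₀ U₀ e a), Y.basicOpen a, hUV, ?_, Y.basicOpen_le a, ?_⟩
  · rw [mem_basicOpen_iff_notMem_primeIdealOf hU₀ x hxU₀]
    intro h
    rcases (Ideal.IsPrime.mem_or_mem inferInstance h) with h | h
    · exact hb h
    · exact haP h
  · letI : Algebra Γ(Y, V₀) Γ(Y, Y.basicOpen a) :=
      (Y.presheaf.map (homOfLE (Y.basicOpen_le a)).op).hom.toAlgebra
    haveI : IsLocalization.Away a Γ(Y, Y.basicOpen a) := hV₀.isLocalization_basicOpen a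
    letI : Algebra Γ(X, U₀) Γ(X, X.basicOpen (b * f.appLE V₀ U₀ e a)) :=
      (X.presheaf.map (homOfLE (X.basicOpen_le _)).op).hom.toAlgebra
    haveI : IsLocalization.Away (b * algebraMap Γ(Y, V₀) Γ(X, U₀) a)
        Γ(X, X.basicOpen (b * f.appLE V₀ U₀ e a)) := hU₀.isLocalization_basicOpen _
    letI : Algebra Γ(Y, Y.basicOpen a) Γ(X, X.basicOpen (b * f.appLE V₀ U₀ e a)) :=
      (f.appLE (Y.basicOpen a) (X.basicOpen (b * f.appLE V₀ U₀ e a)) hUV).hom.toAlgebra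
    letI : Algebra Γ(Y, V₀) Γ(X, X.basicOpen (b * f.appLE V₀ U₀ e a)) :=
      ((algebraMap Γ(Y, Y.basicOpen a) Γ(X, X.basicOpen (b * f.appLE V₀ U₀ e a))).comp
        (algebraMap Γ(Y, V₀) Γ(Y, Y.basicOpen a))).toAlgebra
    haveI : IsScalarTower Γ(Y, V₀) Γ(Y, Y.basicOpen a)
        Γ(X, X.basicOpen (b * f.appLE V₀ U₀ e a)) := .of_algebraMap_eq' rfl
    haveI : IsScalarTower Γ(Y, V₀) Γ(X, U₀) Γ(X, X.basicOpen (b * f.appLE V₀ U₀ e a)) :=
      .of_algebraMap_eq' (by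
        show (f.appLE (Y.basicOpen a) (X.basicOpen (b * f.appLE V₀ U₀ e a)) hUV).hom.comp
            (Y.presheaf.map (homOfLE (Y.basicOpen_le a)).op).hom =
          (X.presheaf.map (homOfLE (X.basicOpen_le _)).op).hom.comp (f.appLE V₀ U₀ e).hom
        rw [← CommRingCat.hom_comp, ← CommRingCat.hom_comp, Scheme.Hom.map_appLE,
          Scheme.Hom.appLE_map])
    have hbij' := H Γ(Y, Y.basicOpen a) Γ(X, X.basicOpen (b * f.appLE V₀ U₀ e a))
    have hiso : IsIso (f.appLE (Y.basicOpen a) (X.basicOpen (b * f.appLE V₀ U₀ e a)) hUV) :=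
      (ConcreteCategory.isIso_iff_bijective _).mpr hbij'
    haveI : IsAffine (Y.basicOpen a).toScheme := hV₀.basicOpen a
    haveI : IsAffine (X.basicOpen (b * f.appLE V₀ U₀ e a)).toScheme := hU₀.basicOpen _
    have h1 : (MorphismProperty.isomorphisms Scheme)
        (f.resLE (Y.basicOpen a) (X.basicOpen (b * f.appLE V₀ U₀ e a)) hUV) := by
      rw [HasAffineProperty.iff_of_isAffine (P := MorphismProperty.isomorphisms Scheme)]
      refine ⟨inferInstance, ?_⟩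
      exact ((MorphismProperty.isomorphisms CommRingCat).arrow_mk_iso_iff
        (arrowResLEAppIso f _ _ hUV)).mpr hiso
    exact h1


/-- spreading out an isomorphism of local rings for morphisms locally of finite type into a
scheme which is germ-injective at the image point -/
theorem exists_isIso_resLE_of_isGermInjectiveAt (f : X ⟶ Y) [LocallyOfFiniteType f] (x : X)
    [IsIso (f.stalkMap x)] [Y.IsGermInjectiveAt (f x)] :
    ∃ (U : X.Opens) (V : Y.Opens) (hUV : U ≤ f ⁻¹ᵁ V), x ∈ U ∧ IsIso (f.resLE V U hUV) := by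
  obtain ⟨V₀, hfx, hV₀, hinj⟩ := Y.exists_germ_injective (f x)
  obtain ⟨U, V, hUV, hxU, -, h⟩ :=
    exists_isIso_resLE_of_isIso_stalkMap' f x hV₀ hfx (Or.inl ⟨inferInstance, hinj⟩)
  exact ⟨U, V, hUV, hxU, h⟩

/-- a reduced scheme with finitely many irreducible components is germ-injective -/
theorem isGermInjectiveAt_of_isReduced_of_finite [IsReduced Y]
    (hY : (irreducibleComponents ↥Y).Finite) (y : Y) : Y.IsGermInjectiveAt y := by
  classical
  -- the union of the components not containing `y`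
  let C : Set Y := ⋃ Z ∈ {Z ∈ irreducibleComponents ↥Y | y ∉ Z}, Z
  have hC : IsClosed C := by
    apply Set.Finite.isClosed_biUnion (hY.subset (fun Z hZ => hZ.1))
    intro Z hZ
    exact isClosed_of_mem_irreducibleComponents Z hZ.1
  have hyC : y ∉ C := by
    simp only [C, Set.mem_iUnion, not_exists]
    rintro Z ⟨-, hyZ⟩ h
    exact hyZ h
  obtain ⟨_, ⟨V₀, hV₀, rfl⟩, hyV₀, hV₀C⟩ :=
    Y.isBasis_affineOpens.exists_subset_of_mem_open (show y ∈ Cᶜ from hyC) hC.isOpen_compl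
  have hV₀ : IsAffineOpen V₀ := hV₀
  refine ⟨⟨V₀, hyV₀, hV₀, ?_⟩⟩
  rw [injective_iff_map_eq_zero]
  intro t ht
  -- `t` vanishes on a neighbourhood `N` of `y`
  obtain ⟨N, hyN, i, hN⟩ : ∃ (N : Y.Opens) (_ : y ∈ N) (i : N ⟶ V₀),
      Y.presheaf.map i.op t = 0 := by
    have := Y.presheaf.germ_eq y hyV₀ hyV₀ t 0 (by rw [map_zero]; exact ht)
    obtain ⟨W, hyW, i₁, i₂, hW⟩ := this
    exact ⟨W, hyW, i₁, by rw [hW, map_zero]⟩
  rw [← basicOpen_eq_bot_iff]
  rw [eq_bot_iff]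
  intro z hz
  have hzV₀ : z ∈ V₀ := Y.basicOpen_le t hz
  -- the component through `z` contains `y`
  obtain ⟨Z, hZ, hzZ⟩ := exists_mem_irreducibleComponents_subset_of_isIrreducible {z}
    isIrreducible_singleton
  have hzZ : z ∈ Z := hzZ rfl
  have hyZ : y ∈ Z := by
    by_contra hyZ
    exact hV₀C hzV₀ (Set.mem_biUnion (show Z ∈ {Z ∈ irreducibleComponents ↥Y | y ∉ Z} from
      ⟨hZ, hyZ⟩) hzZ)
  have hZirr : IsIrreducible Z := hZ.1
  obtain ⟨z', hz'Z, hz't, hz'N⟩ := hZirr.2 (Y.basicOpen t) N (Y.basicOpen t).2 N.2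
    ⟨z, hzZ, hz⟩ ⟨y, hyZ, hyN⟩
  -- contradiction: `t` is zero on `N`
  have h1 : z' ∈ Y.basicOpen (Y.presheaf.map i.op t) := by
    rw [Scheme.basicOpen_res]
    exact ⟨hz'N, hz't⟩
  rw [hN, Scheme.basicOpen_zero] at h1
  exact h1

end Groth.Agent.Helper16.Birat
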