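import Mathlib
import Groth.Agent.Lib.Helper16.Sch.Birat2

set_option autoImplicit false
set_option linter.style.haveILetI false
universe u
open CategoryTheory CategoryTheory.Limits AlgebraicGeometry Opposite TopologicalSpace

noncomputable section

namespace Groth.Agent.Helper16.Birat

open Groth.Agent.Helper16.GenFinSch Groth.Agent.Helper16.GenFinInt

variable {X Y : Scheme.{u}}

theorem resLE_val (f : X ⟶ Y) {U : X.Opens} {V : Y.Opens} (e : U ≤ f ⁻¹ᵁ V) (u : U) :
    (f.resLE V U e u).1 = f u.1 := by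
  have := congr($(Scheme.Hom.resLE_comp_ι f e) u)
  simpa using this

/-- glueing isomorphisms between opens over pairwise disjoint targets -/
theorem isIso_resLE_iSup {ι : Type*} (f : X ⟶ Y) (U : ι → X.Opens) (V : ι → Y.Opens)
    (e : ∀ i, U i ≤ f ⁻¹ᵁ V i) (hiso : ∀ i, IsIso (f.resLE (V i) (U i) (e i)))
    (hdisj : ∀ i j, i ≠ j → Disjoint (V i) (V j))
    (hUV : (⨆ i, U i) ≤ f ⁻¹ᵁ (⨆ i, V i)) :
    IsIso (f.resLE (⨆ i, V i) (⨆ i, U i) hUV) := by
  classical
  set Ut : X.Opens := ⨆ i, U i with hUt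
  set Vt : Y.Opens := ⨆ i, V i with hVt
  have hinjU : ∀ i (u u' : X), u ∈ U i → u' ∈ U i → f u = f u' → u = u' := by
    intro i u u' hu hu' h
    haveI := hiso i
    have hinj : Function.Injective (f.resLE (V i) (U i) (e i)) :=
      (ConcreteCategory.bijective_of_isIso (f.resLE (V i) (U i) (e i)).base).1
    have h1 : f.resLE (V i) (U i) (e i) ⟨u, hu⟩ = f.resLE (V i) (U i) (e i) ⟨u', hu'⟩ := by
      apply Subtype.ext
      rw [resLE_val, resLE_val]
      exact h
    exact congrArg Subtype.val (hinj h1)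
  have hinj : Function.Injective (Ut.ι ≫ f) := by
    intro u u' h
    have h' : f u.1 = f u'.1 := by simpa using h
    obtain ⟨i, hi⟩ := Opens.mem_iSup.mp u.2
    obtain ⟨j, hj⟩ := Opens.mem_iSup.mp u'.2
    have hij : i = j := by
      by_contra hne
      have h1 : f u.1 ∈ V i := e i hi
      have h2 : f u.1 ∈ V j := by rw [h']; exact e j hj
      exact (hdisj i j hne).le_bot ⟨h1, h2⟩
    subst hij
    exact Subtype.ext (hinjU i _ _ hi hj h')
  haveI : IsOpenImmersion (Ut.ι ≫ f) := by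
    apply IsOpenImmersion.of_forall_source_exists _ hinj
    intro u
    obtain ⟨i, hi⟩ := Opens.mem_iSup.mp u.2
    have hle : U i ≤ Ut := le_iSup U i
    refine ⟨(U i).toScheme, X.homOfLE hle, inferInstance, ?_, ?_⟩
    · rw [Scheme.opensRange_homOfLE]
      exact hi
    · haveI := hiso i
      have h1 : X.homOfLE hle ≫ Ut.ι ≫ f = f.resLE (V i) (U i) (e i) ≫ (V i).ι := by
        rw [Scheme.Hom.resLE_comp_ι, ← Category.assoc, Scheme.homOfLE_ι]
      rw [h1]
      infer_instance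
  have h2 : f.resLE Vt Ut hUV ≫ Vt.ι = Ut.ι ≫ f := Scheme.Hom.resLE_comp_ι f hUV
  haveI : IsOpenImmersion (f.resLE Vt Ut hUV ≫ Vt.ι) := by rw [h2]; infer_instance
  haveI : IsOpenImmersion (f.resLE Vt Ut hUV) := IsOpenImmersion.of_comp _ Vt.ι
  rw [isIso_iff_isOpenImmersion_and_surjective]
  refine ⟨inferInstance, ⟨?_⟩⟩
  intro v
  obtain ⟨i, hi⟩ := Opens.mem_iSup.mp v.2
  haveI := hiso i
  have hsurj : Function.Surjective (f.resLE (V i) (U i) (e i)) :=
    (ConcreteCategory.bijective_of_isIso (f.resLE (V i) (U i) (e i)).base).2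
  obtain ⟨u, hu⟩ := hsurj ⟨v.1, hi⟩
  refine ⟨⟨u.1, le_iSup U i u.2⟩, ?_⟩
  apply Subtype.ext
  rw [resLE_val]
  have := congrArg Subtype.val hu
  rw [resLE_val] at this
  exact this

theorem dense_of_forall_generic_mem {T : Type*} [TopologicalSpace T] [QuasiSober T]
    (U : Opens T) (h : ∀ ξ : T, closure {ξ} ∈ irreducibleComponents T → ξ ∈ U) :
    Dense (U : Set T) := by
  intro x
  obtain ⟨ξ, hξ, hξx⟩ := exists_generic_specializes x
  exact closure_mono (Set.singleton_subset_iff.mpr (h ξ hξ)) (specializes_iff_mem_closure.mp hξx)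

/-- S9678 core -/
theorem exists_opens_isIso_resLE (f : X ⟶ Y)
    (hYfin : (irreducibleComponents ↥Y).Finite)
    (hbij : Set.BijOn (fun x : X => f.base x) {x : X | closure {x} ∈ irreducibleComponents ↥X}
      {y : Y | closure {y} ∈ irreducibleComponents ↥Y})
    (hiso : ∀ x : X, closure {x} ∈ irreducibleComponents ↥X → IsIso (f.stalkMap x))
    (hf : (LocallyOfFiniteType f ∧ IsReduced Y) ∨ LocallyOfFinitePresentation f) :
    ∃ (U : X.Opens) (V : Y.Opens) (hUV : U ≤ f ⁻¹ᵁ V),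
      (∀ x : X, closure {x} ∈ irreducibleComponents ↥X → x ∈ U) ∧
      (∀ y : Y, closure {y} ∈ irreducibleComponents ↥Y → y ∈ V) ∧
      IsIso (f.resLE V U hUV) := by
  classical
  let GY : Set Y := {y | closure {y} ∈ irreducibleComponents Y}
  have hOopen : ∀ y : Y, IsOpen (⋃₀ (irreducibleComponents Y \ {closure {y}}))ᶜ := fun y => by
    rw [Set.sUnion_eq_biUnion]
    exact ((hYfin.subset Set.diff_subset).isClosed_biUnion
      (fun t ht => isClosed_of_mem_irreducibleComponents t ht.1)).isOpen_compl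
  let O : Y → Y.Opens := fun y => ⟨_, hOopen y⟩
  have hO : ∀ y ∈ GY, y ∈ O y := by
    rintro y hy ⟨C, ⟨hC, hCne⟩, hyC⟩
    apply hCne
    have h1 : closure {y} ⊆ C :=
      closure_minimal (Set.singleton_subset_iff.mpr hyC) (isClosed_of_mem_irreducibleComponents C hC)
    exact (Set.Subset.antisymm (hy.2 hC.1 h1) h1)
  have hOsp : ∀ y : Y, ∀ z ∈ O y, y ⤳ z := by
    intro y z hz
    have hC : irreducibleComponent z ∈ irreducibleComponents Y :=
      irreducibleComponent_mem_irreducibleComponents z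
    have hzC : z ∈ irreducibleComponent z := mem_irreducibleComponent
    have e1 : irreducibleComponent z = closure {y} := by
      by_contra hne
      exact hz ⟨_, ⟨hC, hne⟩, hzC⟩
    rw [specializes_iff_mem_closure, ← e1]
    exact hzC
  have hdisj : ∀ y y', y ∈ GY → y' ∈ GY → y ≠ y' → Disjoint (O y) (O y') := by
    intro y y' hy hy' hyy'
    rw [disjoint_iff, eq_bot_iff]
    rintro z ⟨hz1, hz2⟩
    have h1 : y ⤳ z := hOsp y z hz1
    have hmem : closure {y} ∈ irreducibleComponents Y \ {closure {y'}} :=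
      ⟨hy, fun h => hyy' (inseparable_iff_closure_eq.mpr h).eq⟩
    exact hz2 ⟨_, hmem, specializes_iff_mem_closure.mp h1⟩
  have hmain : ∀ y ∈ GY, ∃ (U : X.Opens) (V : Y.Opens) (e : U ≤ f ⁻¹ᵁ V), V ≤ O y ∧ y ∈ V ∧
      (∀ x : X, closure {x} ∈ irreducibleComponents ↥X → f x = y → x ∈ U) ∧
      IsIso (f.resLE V U e) := by
    intro y hy
    obtain ⟨x, hx, hfx⟩ := hbij.surjOn hy
    have hfx : f x = y := hfx
    obtain ⟨_, ⟨V₀, hV₀, rfl⟩, hyV₀, hV₀le⟩ :=
      Y.isBasis_affineOpens.exists_subset_of_mem_open (hO y hy) (O y).2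
    have hV₀ : IsAffineOpen V₀ := hV₀
    haveI := hiso x hx
    have hfxV₀ : f x ∈ V₀ := by rw [hfx]; exact hyV₀
    have hf' : (LocallyOfFiniteType f ∧ IsDomain Γ(Y, V₀)) ∨ LocallyOfFinitePresentation f := by
      rcases hf with ⟨h1, h2⟩ | h
      · exact Or.inl ⟨h1, isDomain_of_forall_specializes hV₀ y hyV₀
          (fun z hz => hOsp y z (hV₀le hz))⟩
      · exact Or.inr h
    obtain ⟨U, V, e, hxU, hVle, hUViso⟩ := exists_isIso_resLE_of_isIso_stalkMap f x hV₀ hfxV₀ hf'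
    refine ⟨U, V, e, hVle.trans hV₀le, ?_, ?_, hUViso⟩
    · rw [← hfx]; exact e hxU
    · intro x' hx' hfx'
      have : x' = x := hbij.injOn hx' hx (hfx'.trans hfx.symm)
      rw [this]; exact hxU
  choose U V e hVO hyV hxU hUViso using fun y : GY => hmain y.1 y.2
  have hUV : (⨆ y, U y) ≤ f ⁻¹ᵁ (⨆ y, V y) := by
    intro u hu
    obtain ⟨i, hi⟩ := Opens.mem_iSup.mp hu
    exact Opens.mem_iSup.mpr ⟨i, e i hi⟩
  refine ⟨⨆ y, U y, ⨆ y, V y, hUV, ?_, ?_, ?_⟩
  · intro x hx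
    have hy : f x ∈ GY := hbij.mapsTo hx
    exact Opens.mem_iSup.mpr ⟨⟨f x, hy⟩, hxU ⟨f x, hy⟩ x hx rfl⟩
  · intro y hy
    exact Opens.mem_iSup.mpr ⟨⟨y, hy⟩, hyV ⟨y, hy⟩⟩
  · apply isIso_resLE_iSup f U V e hUViso
    intro i j hij
    exact (hdisj i.1 j.1 i.2 j.2 (fun h => hij (Subtype.ext h))).mono (hVO i) (hVO j)

end Groth.Agent.Helper16.Birat
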