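import Mathlib
import Groth.Agent.Lib.Helper16.Sch.Birat3

set_option autoImplicit false
set_option linter.style.haveILetI false
universe u
open CategoryTheory CategoryTheory.Limits AlgebraicGeometry Opposite TopologicalSpace

noncomputable section

namespace Groth.Agent.Helper16.Birat

open Groth.Agent.Helper16.GenFinSch Groth.Agent.Helper16.GenFinInt

variable {X Y : Scheme.{u}}

/-- a closed subset of a compact open subset missing the fibre over a minimal point misses the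
preimage of a basic open neighbourhood -/
theorem exists_basicOpen_disjoint_closed_of_isCompact (f : X ⟶ Y) {U : Y.Opens}
    (hU : IsAffineOpen U) (η : Y) (hηU : η ∈ U) (hη : ∀ y : Y, y ⤳ η → y = η) (N : X.Opens)
    (hN : IsCompact (N : Set X)) (hNU : N ≤ f ⁻¹ᵁ U) (Z : Set X) (hZ : IsClosed Z)
    (hNη : ∀ z ∈ N, z ∈ Z → f z ≠ η) :
    ∃ a : Γ(Y, U), η ∈ Y.basicOpen a ∧ ∀ z ∈ N, z ∈ Z → f z ∉ Y.basicOpen a := by
  classical
  obtain ⟨s, hs, hsN⟩ := isCompact_iff_finite_and_eq_biUnion_affineOpens.mp hN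
  have hsle : ∀ W : X.affineOpens, W ∈ s → W.1 ≤ N := by
    intro W hWs
    rw [hsN]
    exact le_iSup₂ (f := fun (i : X.affineOpens) (_ : i ∈ s) => (i : X.Opens)) W hWs
  have hG : ∀ W : X.affineOpens, W ∈ s →
      ∃ a : Γ(Y, U), η ∈ Y.basicOpen a ∧ ∀ z ∈ Z, z ∈ W.1 → f z ∉ Y.basicOpen a := by
    intro W hWs
    exact exists_basicOpen_disjoint f hU W.2 ((hsle W hWs).trans hNU) η hηU hη Z
      hZ (fun z hzZ hzW => hNη z (hsle W hWs hzW) hzZ)
  choose! aW haW_mem haW_disj using hG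
  refine ⟨∏ W ∈ hs.toFinset, aW W, ?_, ?_⟩
  · rw [mem_basicOpen_prod_iff hU η hηU]
    intro W hW
    exact haW_mem W (hs.mem_toFinset.mp hW)
  · intro z hzN hzZ hfz
    have hfzU : f z ∈ U := hNU hzN
    rw [hsN] at hzN
    obtain ⟨W, hzW⟩ := Opens.mem_iSup.mp hzN
    obtain ⟨hWs, hzW⟩ := Opens.mem_iSup.mp hzW
    apply haW_disj W hWs z hzZ hzW
    exact (mem_basicOpen_prod_iff hU (f z) hfzU _ _).mp hfz W (hs.mem_toFinset.mpr hWs)

/-- a dense open which is universally closed over `V` under a separated morphism is the whole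
preimage of `V` -/
theorem eq_preimage_of_universallyClosed_resLE (f : X ⟶ Y) [IsSeparated f] {U : X.Opens}
    {V : Y.Opens} (e : U ≤ f ⁻¹ᵁ V) (hd : Dense (U : Set X))
    (h : UniversallyClosed (f.resLE V U e)) : U = f ⁻¹ᵁ V := by
  let j : U.toScheme ⟶ (f ⁻¹ᵁ V).toScheme := X.homOfLE e
  have hj : j ≫ f ∣_ V = f.resLE V U e := by
    rw [← Scheme.Hom.resLE_eq_morphismRestrict]
    exact Scheme.Hom.map_resLE f le_rfl e
  haveI : UniversallyClosed (j ≫ f ∣_ V) := by rw [hj]; exact h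
  haveI : UniversallyClosed j := UniversallyClosed.of_comp_of_isSeparated j (f ∣_ V)
  have hcl : IsClosed (Set.range j) := by
    rw [← Set.image_univ]
    exact j.isClosedMap _ isClosed_univ
  have himg : (f ⁻¹ᵁ V).ι '' (Set.range j) = (U : Set X) := by
    rw [← Set.range_comp]
    have : (⇑(f ⁻¹ᵁ V).ι ∘ ⇑j) = ⇑U.ι := by
      ext w
      rw [Function.comp_apply, ← Scheme.Hom.comp_apply, Scheme.homOfLE_ι]
    rw [this]
    exact Scheme.Opens.range_ι U
  have huniv : Set.range j = Set.univ := by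
    rw [← hcl.closure_eq, (f ⁻¹ᵁ V).ι.isOpenEmbedding.isInducing.closure_eq_preimage_closure_image,
      himg, hd.closure_eq, Set.preimage_univ]
  apply le_antisymm e
  intro z hz
  have : (⟨z, hz⟩ : (f ⁻¹ᵁ V).toScheme) ∈ Set.range j := by rw [huniv]; trivial
  obtain ⟨w, hw⟩ := this
  have h2 : (f ⁻¹ᵁ V).ι (j w) = U.ι w := by
    rw [← Scheme.Hom.comp_apply, Scheme.homOfLE_ι]
  rw [hw] at h2
  have : z = w.1 := h2
  rw [this]
  exact w.2

/-- restricting an isomorphism of opens to a smaller target -/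
theorem isIso_resLE_inf (f : X ⟶ Y) {U : X.Opens} {V V' : Y.Opens} (e : U ≤ f ⁻¹ᵁ V)
    (hV' : V' ≤ V) (h : IsIso (f.resLE V U e)) :
    IsIso (f.resLE V' (U ⊓ f ⁻¹ᵁ V') inf_le_right) := by
  have h1 : f.resLE V' (U ⊓ f ⁻¹ᵁ V') inf_le_right ≫ V'.ι =
      X.homOfLE (inf_le_left : U ⊓ f ⁻¹ᵁ V' ≤ U) ≫ f.resLE V U e ≫ V.ι := by
    rw [Scheme.Hom.resLE_comp_ι, Scheme.Hom.resLE_comp_ι, ← Category.assoc, Scheme.homOfLE_ι]
  haveI : IsOpenImmersion (f.resLE V' (U ⊓ f ⁻¹ᵁ V') inf_le_right ≫ V'.ι) := by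
    rw [h1]; infer_instance
  haveI : IsOpenImmersion (f.resLE V' (U ⊓ f ⁻¹ᵁ V') inf_le_right) :=
    IsOpenImmersion.of_comp _ V'.ι
  rw [isIso_iff_isOpenImmersion_and_surjective]
  refine ⟨inferInstance, ⟨?_⟩⟩
  intro v
  have hsurj : Function.Surjective (f.resLE V U e) :=
    (ConcreteCategory.bijective_of_isIso (f.resLE V U e).base).2
  obtain ⟨u, hu⟩ := hsurj ⟨v.1, hV' v.2⟩
  have hfu : f u.1 = v.1 := by
    have := congrArg Subtype.val hu
    rw [resLE_val] at this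
    exact this
  refine ⟨⟨u.1, u.2, by show f u.1 ∈ V'; rw [hfu]; exact v.2⟩, ?_⟩
  apply Subtype.ext
  rw [resLE_val]
  exact hfu

/-- S9679 core -/
theorem exists_dense_open_isIso_morphismRestrict (f : X ⟶ Y)
    (hYfin : (irreducibleComponents ↥Y).Finite)
    (hbij : Set.BijOn (fun x : X => f.base x) {x : X | closure {x} ∈ irreducibleComponents ↥X}
      {y : Y | closure {y} ∈ irreducibleComponents ↥Y})
    (hiso : ∀ x : X, closure {x} ∈ irreducibleComponents ↥X → IsIso (f.stalkMap x))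
    (hf₁ : QuasiCompact f ∨ IsSeparated f)
    (hf₂ : (LocallyOfFiniteType f ∧ IsReduced Y) ∨ LocallyOfFinitePresentation f) :
    ∃ V : Y.Opens, Dense (V : Set ↥Y) ∧ IsIso (f ∣_ V) := by
  obtain ⟨U, V, hUV, hU, hV, hUViso⟩ := exists_opens_isIso_resLE f hYfin hbij hiso hf₂
  rcases hf₁ with hqc | hsep
  · -- quasi-compact case
    have hloc : ∀ y : Y, closure {y} ∈ irreducibleComponents ↥Y →
        ∃ W : Y.Opens, y ∈ W ∧ W ≤ V ∧ f ⁻¹ᵁ W ≤ U := by
      intro y hy
      obtain ⟨x, hx, hfx⟩ := hbij.surjOn hy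
      have hfx : f x = y := hfx
      obtain ⟨_, ⟨V₁, hV₁, rfl⟩, hyV₁, hV₁le⟩ :=
        Y.isBasis_affineOpens.exists_subset_of_mem_open (hV y hy) V.2
      have hV₁ : IsAffineOpen V₁ := hV₁
      have hN : IsCompact ((f ⁻¹ᵁ V₁ : X.Opens) : Set X) :=
        f.isCompact_preimage hV₁.isCompact
      obtain ⟨a, hya, ha⟩ := exists_basicOpen_disjoint_closed_of_isCompact f hV₁ y hyV₁
        (eq_of_specializes_of_mem_irreducibleComponents y hy) (f ⁻¹ᵁ V₁) hN le_rfl
        ((U : Set X)ᶜ) U.2.isClosed_compl (by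
          intro z _ hzU hfz
          apply hzU
          have : z = x := eq_of_specializes_map_generic f hbij.injOn hiso x hx (hfx ▸ hy) z
            (specializes_of_eq (hfz.trans hfx.symm))
          rw [this]
          exact hU x hx)
      refine ⟨Y.basicOpen a, hya, (Y.basicOpen_le a).trans hV₁le, ?_⟩
      intro z hz
      by_contra hzU
      exact ha z (Y.basicOpen_le a hz) hzU hz
    choose! W hyW hWV hWU using hloc
    let GY : Set Y := {y | closure {y} ∈ irreducibleComponents Y}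
    let V' : Y.Opens := ⨆ y : GY, W y.1
    have hV'V : V' ≤ V := iSup_le fun y => hWV y.1 y.2
    have hV'U : f ⁻¹ᵁ V' ≤ U := by
      intro z hz
      obtain ⟨y, hy⟩ := Opens.mem_iSup.mp hz
      exact hWU y.1 y.2 hy
    refine ⟨V', dense_of_forall_generic_mem V'
      (fun y hy => Opens.mem_iSup.mpr ⟨⟨y, hy⟩, hyW y hy⟩), ?_⟩
    have h1 := isIso_resLE_inf f hUV hV'V hUViso
    have h2 : U ⊓ f ⁻¹ᵁ V' = f ⁻¹ᵁ V' := inf_eq_right.mpr hV'U
    rw [← Scheme.Hom.resLE_eq_morphismRestrict]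
    exact (Scheme.Hom.resLE_congr f inf_le_right rfl h2
      (MorphismProperty.isomorphisms Scheme)).mp h1
  · -- separated case
    have hUeq : U = f ⁻¹ᵁ V := eq_preimage_of_universallyClosed_resLE f hUV
      (dense_of_forall_generic_mem U hU) inferInstance
    refine ⟨V, dense_of_forall_generic_mem V hV, ?_⟩
    rw [← Scheme.Hom.resLE_eq_morphismRestrict]
    exact (Scheme.Hom.resLE_congr f hUV rfl hUeq (MorphismProperty.isomorphisms Scheme)).mp hUViso

end Groth.Agent.Helper16.Birat
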