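import Mathlib
import Groth.Prelude.Def_ega3
import Groth.Agent.Lib.Helper16.Sch.FibStalk2
import Groth.Agent.Lib.Helper16.Alg.FlatQuot
import Groth.Agent.Lib.Helper16.Sch.Birat4
import Groth.Agent.Lib.Helper16.Sch.FibNear
import Groth.Agent.Lib.Helper7.FinPres

/-!
# Fibre isomorphism ⇒ isomorphism near the fibre (proper, flat source)
-/

set_option autoImplicit false
set_option linter.style.haveILetI false
universe u
open CategoryTheory CategoryTheory.Limits AlgebraicGeometry IsLocalRing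

namespace Groth.Agent.Helper16.FibIso

/-- surjective with finitely generated kernel -/
def SurjKerFG {R S : Type u} [CommRing R] [CommRing S] (φ : R →+* S) : Prop :=
  Function.Surjective φ ∧ (RingHom.ker φ).FG

theorem surjKerFG_respectsIso : RingHom.RespectsIso @SurjKerFG := by
  constructor
  · intro R S T _ _ _ f e ⟨h1, h2⟩
    refine ⟨e.surjective.comp h1, ?_⟩
    have : RingHom.ker (e.toRingHom.comp f) = RingHom.ker f := by
      ext x
      simp [RingHom.mem_ker]
    rw [this]; exact h2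
  · intro R S T _ _ _ f e ⟨h1, h2⟩
    refine ⟨h1.comp e.surjective, ?_⟩
    have : RingHom.ker (f.comp e.toRingHom) = (RingHom.ker f).map e.symm.toRingHom := by
      ext x
      rw [RingHom.mem_ker, RingHom.comp_apply]
      constructor
      · intro hx
        have : x = e.symm.toRingHom (e x) := (e.symm_apply_apply x).symm
        rw [this]
        exact Ideal.mem_map_of_mem _ (RingHom.mem_ker.mpr hx)
      · intro hx
        obtain ⟨z, hz, rfl⟩ := (Ideal.mem_map_iff_of_surjective e.symm.toRingHom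
          e.symm.surjective).mp hx
        have : e.toRingHom (e.symm.toRingHom z) = z := e.apply_symm_apply z
        rw [this]
        exact RingHom.mem_ker.mp hz
    rw [this]
    exact h2.map _

variable {X Y : Scheme.{u}}

/-- The stalk maps of a closed immersion locally of finite presentation are surjective with
finitely generated kernel. -/
theorem surjKerFG_stalkMap (f : X ⟶ Y) [IsClosedImmersion f] [LocallyOfFinitePresentation f]
    (x : X) : SurjKerFG (f.stalkMap x).hom := by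
  refine ⟨f.stalkMap_surjective x, ?_⟩
  obtain ⟨_, ⟨V, hV, rfl⟩, hyV, -⟩ :=
    Y.isBasis_affineOpens.exists_subset_of_mem_open (Set.mem_univ (f x)) isOpen_univ
  have hV : IsAffineOpen V := hV
  have hU : IsAffineOpen (f ⁻¹ᵁ V) := hV.preimage f
  have hxU : x ∈ f ⁻¹ᵁ V := hyV
  let φ : Γ(Y, V) →+* Γ(X, f ⁻¹ᵁ V) := (f.app V).hom
  have hφs : Function.Surjective φ := f.app_surjective V hV
  have hφfp : φ.FinitePresentation := by
    have := f.finitePresentation_appLE hV hU le_rfl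
    rwa [Scheme.Hom.appLE_eq_app] at this
  have hker : (RingHom.ker φ).FG := by
    algebraize [φ]
    exact Algebra.FinitePresentation.ker_fG_of_surjective (Algebra.ofId Γ(Y, V) Γ(X, f ⁻¹ᵁ V)) hφs
  -- ker of the stalk map is the extension of ker φ
  have key : RingHom.ker (f.stalkMap x).hom =
      (RingHom.ker φ).map (Y.presheaf.germ V (f x) hyV).hom := by
    apply le_antisymm
    · intro β hβ
      rw [RingHom.mem_ker] at hβ
      let : Algebra Γ(Y, V) (Y.presheaf.stalk (f x)) := (Y.presheaf.germ V (f x) hyV).hom.toAlgebra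
      have : IsLocalization.AtPrime (Y.presheaf.stalk (f x))
          (hV.primeIdealOf ⟨f x, hyV⟩).asIdeal := hV.isLocalization_stalk ⟨f x, hyV⟩
      let : Algebra Γ(X, f ⁻¹ᵁ V) (X.presheaf.stalk x) :=
        (X.presheaf.germ (f ⁻¹ᵁ V) x hxU).hom.toAlgebra
      have : IsLocalization.AtPrime (X.presheaf.stalk x)
          (hU.primeIdealOf ⟨x, hxU⟩).asIdeal := hU.isLocalization_stalk ⟨x, hxU⟩
      obtain ⟨⟨b, t⟩, hbt⟩ := IsLocalization.surj (hV.primeIdealOf ⟨f x, hyV⟩).asIdeal.primeCompl β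
      have hbt' : β * (Y.presheaf.germ V (f x) hyV).hom t = (Y.presheaf.germ V (f x) hyV).hom b := hbt
      have htu : IsUnit ((Y.presheaf.germ V (f x) hyV).hom (t : Γ(Y, V))) :=
        IsLocalization.map_units (M := (hV.primeIdealOf ⟨f x, hyV⟩).asIdeal.primeCompl) _ t
      -- germ of φ b at x vanishes
      have h1 : (X.presheaf.germ (f ⁻¹ᵁ V) x hxU).hom (φ b) = 0 := by
        have := Scheme.Hom.germ_stalkMap_apply f V x hyV b
        rw [← hbt', map_mul, hβ, zero_mul] at this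
        exact this.symm
      obtain ⟨⟨c, hc⟩, hc'⟩ := (IsLocalization.map_eq_zero_iff
        (hU.primeIdealOf ⟨x, hxU⟩).asIdeal.primeCompl (X.presheaf.stalk x) (φ b)).mp h1
      obtain ⟨t', rfl⟩ := hφs c
      have hc'' : φ (t' * b) = 0 := by rw [map_mul]; exact hc'
      have ht'u : IsUnit ((Y.presheaf.germ V (f x) hyV).hom t') := by
        have h2 : IsUnit ((X.presheaf.germ (f ⁻¹ᵁ V) x hxU).hom (φ t')) :=
          IsLocalization.map_units (M := (hU.primeIdealOf ⟨x, hxU⟩).asIdeal.primeCompl) _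
            ⟨φ t', hc⟩
        have h3 := Scheme.Hom.germ_stalkMap_apply f V x hyV t'
        rw [← h3] at h2
        exact isUnit_of_map_unit (f.stalkMap x).hom _ h2
      have h4 : (Y.presheaf.germ V (f x) hyV).hom (t' * b) ∈
          (RingHom.ker φ).map (Y.presheaf.germ V (f x) hyV).hom :=
        Ideal.mem_map_of_mem _ (RingHom.mem_ker.mpr hc'')
      have h5 : β = (Y.presheaf.germ V (f x) hyV).hom (t' * b) *
          ((ht'u.unit⁻¹ : _) * (htu.unit⁻¹ : _) : (Y.presheaf.stalk (f x))ˣ) := by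
        rw [map_mul, ← hbt']
        simp only [Units.val_mul]
        have e1 := ht'u.mul_val_inv
        have e2 := htu.mul_val_inv
        calc β = β * (((Y.presheaf.germ V (f x) hyV).hom t') * ↑(ht'u.unit⁻¹)) *
              (((Y.presheaf.germ V (f x) hyV).hom t) * ↑(htu.unit⁻¹)) := by
                rw [e1, e2, mul_one, mul_one]
          _ = _ := by ring
      rw [h5]
      exact Ideal.mul_mem_right _ _ h4
    · rw [Ideal.map_le_iff_le_comap]
      intro b hb
      rw [Ideal.mem_comap, RingHom.mem_ker]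
      have := Scheme.Hom.germ_stalkMap_apply f V x hyV b
      rw [this, RingHom.mem_ker.mp hb, map_zero]
  rw [key]
  exact hker.map _


variable {S : Scheme.{u}}

open FibStalk in
theorem mem_fibIdeal_of_stalkCongr (h : Y ⟶ S) {y y' : Y} (e : y = y') (β : Y.presheaf.stalk y)
    (hβ : (Y.presheaf.stalkCongr (.of_eq e)).hom.hom β ∈ fibIdeal h y') : β ∈ fibIdeal h y := by
  subst e
  simpa [TopCat.Presheaf.stalkCongr_hom, TopCat.Presheaf.stalkSpecializes_refl] using hβ

open FibStalk in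
/-- If the map of fibres is injective on the local ring at `x_s`, the kernel of the stalk map of
`f` is contained in `𝔪_s 𝒪_{Y,y}`. -/
theorem ker_stalkMap_le_fibIdeal (f : X ⟶ Y) (h : Y ⟶ S) (s : S)
    (F : (f ≫ h).fiber s ⟶ h.fiber s) (hF : F ≫ h.fiberι s = (f ≫ h).fiberι s ≫ f)
    (xs : (f ≫ h).fiber s) (hinj : Function.Injective (F.stalkMap xs).hom) :
    RingHom.ker (f.stalkMap ((f ≫ h).fiberι s xs)).hom ≤
      fibIdeal h (f ((f ≫ h).fiberι s xs)) := by
  intro β hβ
  rw [RingHom.mem_ker] at hβ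
  have h1 := Scheme.Hom.stalkMap_comp ((f ≫ h).fiberι s) f xs
  have h2 := Scheme.Hom.stalkMap_comp F (h.fiberι s) xs
  have h3 := Scheme.Hom.stalkMap_congr_hom _ _ hF.symm xs
  rw [h1, h2] at h3
  have hpt : ((f ≫ h).fiberι s ≫ f) xs = (F ≫ h.fiberι s) xs := by rw [hF]
  apply mem_fibIdeal_of_stalkCongr h hpt β
  have h4 : (((f ≫ h).fiberι s).stalkMap xs).hom
      ((f.stalkMap ((f ≫ h).fiberι s xs)).hom β) =
      (F.stalkMap xs).hom (((h.fiberι s).stalkMap (F xs)).hom
        ((Y.presheaf.stalkCongr (.of_eq hpt)).hom.hom β)) :=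
    congrArg (fun φ => φ.hom β) h3
  rw [hβ, map_zero] at h4
  have h5 := hinj (h4.symm.trans (map_zero _).symm)
  have h6 : (Y.presheaf.stalkCongr (.of_eq hpt)).hom.hom β ∈
      RingHom.ker ((h.fiberι s).stalkMap (F xs)).hom := RingHom.mem_ker.mpr h5
  rw [ker_stalkMap_fiberι h s (F xs)] at h6
  exact h6


open FibStalk in
theorem isIso_stalkMap_of_fibre (f : X ⟶ Y) (h : Y ⟶ S) [Flat (f ≫ h)] (s : S)
    (F : (f ≫ h).fiber s ⟶ h.fiber s) (hF : F ≫ h.fiberι s = (f ≫ h).fiberι s ≫ f)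
    (xs : (f ≫ h).fiber s) (hinj : Function.Injective (F.stalkMap xs).hom)
    (hP : SurjKerFG (f.stalkMap ((f ≫ h).fiberι s xs)).hom) :
    IsIso (f.stalkMap ((f ≫ h).fiberι s xs)) := by
  set x := (f ≫ h).fiberι s xs with hx
  rw [ConcreteCategory.isIso_iff_bijective]
  refine ⟨?_, hP.1⟩
  letI : Algebra (S.presheaf.stalk (h (f x))) (Y.presheaf.stalk (f x)) :=
    (h.stalkMap (f x)).hom.toAlgebra
  refine FlatQuot.injective_of_flat_of_ker_le (A := S.presheaf.stalk (h (f x)))
    (f.stalkMap x).hom hP.1 ?_ (maximalIdeal _) ?_ ?_ hP.2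
  · have h1 := Flat.stalkMap (f ≫ h) x
    rw [Scheme.Hom.stalkMap_comp] at h1
    exact h1
  · rw [IsLocalRing.jacobson_eq_maximalIdeal ⊥ bot_ne_top]
    exact IsLocalRing.map_maximalIdeal_le (h.stalkMap (f x)).hom
  · exact ker_stalkMap_le_fibIdeal f h s F hF xs hinj


/-- From an isomorphism `U ≅ V` induced by `f` to an isomorphism `f ∣_ V''`. -/
theorem isIso_restrict_of_isIso_resLE (f : X ⟶ Y) {U : X.Opens} {V V'' : Y.Opens}
    (e : U ≤ f ⁻¹ᵁ V) (hiso : IsIso (f.resLE V U e)) (hV : V'' ≤ V) (hU : f ⁻¹ᵁ V'' ≤ U) :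
    IsIso (f ∣_ V'') := by
  have h1 := Birat.isIso_resLE_inf f e hV hiso
  have h2 : U ⊓ f ⁻¹ᵁ V'' = f ⁻¹ᵁ V'' := inf_eq_right.mpr hU
  rw [← Scheme.Hom.resLE_eq_morphismRestrict]
  exact (Scheme.Hom.resLE_congr f inf_le_right rfl h2
    (MorphismProperty.isomorphisms Scheme)).mp h1

/-- closed immersion near each point of the fibre -/
theorem exists_nhd_isClosedImmersion_of_fibre (f : X ⟶ Y) (g : X ⟶ S) (h : Y ⟶ S)
    (w : f ≫ h = g) [LocallyOfFiniteType f] [UniversallyClosed f] (s : S)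
    (hci : IsClosedImmersion (CohIII.fiberMapOver f g h w s)) (ys : h.fiber s) :
    ∃ V : Y.Opens, h.fiberι s ys ∈ V ∧ IsClosedImmersion (f ∣_ V) := by
  have sq := FibNear.isPullback_fiberMapOver f g h w s
  obtain ⟨m, hsq⟩ : ∃ m, IsPullback m
      ((CohIII.fiberMapOver f g h w s).fiberToSpecResidueField ys)
      (f.fiberToSpecResidueField (h.fiberι s ys))
      (Spec.map ((h.fiberι s).residueFieldMap ys)) :=
    ⟨_, isPullback_fiberToSpecResidueField_of_isPullback sq ys⟩
  have h1 : IsClosedImmersion ((CohIII.fiberMapOver f g h w s).fiberToSpecResidueField ys) :=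
    inferInstanceAs (IsClosedImmersion (pullback.snd _ _))
  have h0 : IsIso ((h.fiberι s).residueFieldMap ys) := by
    rw [ConcreteCategory.isIso_iff_bijective]
    refine ⟨((h.fiberι s).residueFieldMap ys).hom.injective, ?_⟩
    intro z
    obtain ⟨r, rfl⟩ := IsLocalRing.residue_surjective z
    obtain ⟨r', rfl⟩ := (h.fiberι s).stalkMap_surjective ys r
    exact ⟨IsLocalRing.residue _ r', rfl⟩
  have h0' : IsIso (Spec.map ((h.fiberι s).residueFieldMap ys)) := inferInstance
  have h2 : IsIso m :=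
    (MorphismProperty.isomorphisms Scheme).of_isPullback hsq.flip h0'
  have h3 : f.fiberToSpecResidueField (h.fiberι s ys) =
      inv m ≫ (CohIII.fiberMapOver f g h w s).fiberToSpecResidueField ys ≫
          Spec.map ((h.fiberι s).residueFieldMap ys) := by
    rw [IsIso.eq_inv_comp]; exact hsq.w
  have h4 : IsClosedImmersion (f.fiberToSpecResidueField (h.fiberι s ys)) := by
    rw [h3]; infer_instance
  refine (CINhd.main f (h.fiberι s ys)).mpr
    ⟨CINhd.isEmpty_or_isIso_of_isClosedImmersion _ (Field.toIsField _) _, ⊤, trivial, ?_⟩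
  exact IsZariskiLocalAtTarget.restrict (P := @UniversallyClosed) inferInstance ⊤


theorem exists_nhd_isIso_point (f : X ⟶ Y) (h : Y ⟶ S) [Flat (f ≫ h)]
    [LocallyOfFinitePresentation f] [UniversallyClosed f]
    (s : S) [hiso : IsIso (CohIII.fiberMapOver f (f ≫ h) h rfl s)] (ys : h.fiber s) :
    ∃ V : Y.Opens, h.fiberι s ys ∈ V ∧ IsIso (f ∣_ V) := by
  set F := CohIII.fiberMapOver f (f ≫ h) h rfl s with hFdef
  have sq := FibNear.isPullback_fiberMapOver f (f ≫ h) h rfl s
  have hF : F ≫ h.fiberι s = (f ≫ h).fiberι s ≫ f := sq.w.symm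
  obtain ⟨V₁, hyV₁, hV₁⟩ :=
    exists_nhd_isClosedImmersion_of_fibre f (f ≫ h) h rfl s inferInstance ys
  obtain ⟨xs, hxs⟩ := (ConcreteCategory.bijective_of_isIso F.base).2 ys
  have hxs : F xs = ys := hxs
  have hfx : f ((f ≫ h).fiberι s xs) = h.fiberι s ys := by
    rw [← hxs]
    change ((f ≫ h).fiberι s ≫ f) xs = (F ≫ h.fiberι s) xs
    rw [hF]
  have hxV₁ : (f ≫ h).fiberι s xs ∈ f ⁻¹ᵁ V₁ := by
    change f ((f ≫ h).fiberι s xs) ∈ V₁
    rw [hfx]; exact hyV₁
  have hP' := surjKerFG_stalkMap (f ∣_ V₁) ⟨(f ≫ h).fiberι s xs, hxV₁⟩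
  have hP : SurjKerFG (f.stalkMap ((f ≫ h).fiberι s xs)).hom :=
    (surjKerFG_respectsIso.arrow_mk_iso_iff
      (morphismRestrictStalkMap f V₁ ⟨(f ≫ h).fiberι s xs, hxV₁⟩)).mp hP'
  have hinj : Function.Injective (F.stalkMap xs).hom :=
    (ConcreteCategory.bijective_of_isIso (F.stalkMap xs)).1
  haveI := isIso_stalkMap_of_fibre f h s F hF xs hinj hP
  obtain ⟨_, ⟨V₀, hV₀, rfl⟩, hfxV₀, -⟩ :=
    Y.isBasis_affineOpens.exists_subset_of_mem_open
      (Set.mem_univ (f ((f ≫ h).fiberι s xs))) isOpen_univ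
  obtain ⟨U, V, e, hxU, -, hUV⟩ := Birat.exists_isIso_resLE_of_isIso_stalkMap f
    ((f ≫ h).fiberι s xs) hV₀ hfxV₀ (Or.inr inferInstance)
  refine ⟨V ⊓ V₁, ⟨?_, hyV₁⟩, isIso_restrict_of_isIso_resLE f e hUV inf_le_left ?_⟩
  · rw [← hfx]; exact e hxU
  · intro x₂ hx₂
    obtain ⟨u, hu⟩ := (ConcreteCategory.bijective_of_isIso (f.resLE V U e).base).2 ⟨f x₂, hx₂.1⟩
    have hfu : f u.1 = f x₂ := by
      have h1 : V.ι ((f.resLE V U e) u) = f x₂ := by
        have : (f.resLE V U e) u = ⟨f x₂, hx₂.1⟩ := hu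
        rw [this]; rfl
      rw [← h1, ← Scheme.Hom.comp_apply, Scheme.Hom.resLE_comp_ι]
      rfl
    have huV₁ : u.1 ∈ f ⁻¹ᵁ V₁ := by
      change f u.1 ∈ V₁
      rw [hfu]; exact hx₂.2
    have hinjV₁ : Function.Injective (f ∣_ V₁) := (f ∣_ V₁).isClosedEmbedding.injective
    have h2 : (⟨u.1, huV₁⟩ : ↥(f ⁻¹ᵁ V₁)) = ⟨x₂, hx₂.2⟩ := by
      apply hinjV₁
      apply Subtype.ext
      have e1 : ∀ z : ↥(f ⁻¹ᵁ V₁), ((f ∣_ V₁) z).1 = f z.1 := fun z =>
        morphismRestrict_base_coe f V₁ z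
      rw [e1, e1]
      exact hfu
    have h3 : u.1 = x₂ := congrArg Subtype.val h2
    rw [← h3]
    exact u.2


/-- **Core theorem**: if the morphism of fibres over `s` is an isomorphism, `f` is an isomorphism
over the preimage of a neighbourhood of `s`. -/
theorem exists_nhd_isIso_of_fibre_isIso (f : X ⟶ Y) (g : X ⟶ S) (h : Y ⟶ S) (w : f ≫ h = g)
    [IsProper g] [IsProper h] [Flat g] [LocallyOfFinitePresentation f] (s : S)
    [IsIso (CohIII.fiberMapOver f g h w s)] :
    ∃ U : S.Opens, s ∈ U ∧ IsIso (f ∣_ (h ⁻¹ᵁ U)) := by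
  subst w
  have hf : IsProper f := IsProper.of_comp f h
  apply FibNear.exists_nhd_of_forall_fibre (P := MorphismProperty.isomorphisms Scheme) f h
    h.isClosedMap s
  intro y hy
  have hy' : y ∈ Set.range (h.fiberι s) := by rw [h.range_fiberι]; exact hy
  obtain ⟨ys, rfl⟩ := hy'
  exact exists_nhd_isIso_point f h s ys

/-- base change square for `pullback.map` over an arbitrary `b : T ⟶ S` -/
theorem isPullback_map_over {T : Scheme.{u}} (f : X ⟶ Y) (g : X ⟶ S) (h : Y ⟶ S) (w : f ≫ h = g)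
    (b : T ⟶ S) :
    IsPullback (pullback.fst g b)
      (pullback.map g b h b f (𝟙 _) (𝟙 _) ((Category.comp_id g).trans w.symm)
        ((Category.comp_id _).trans (Category.id_comp _).symm)) f (pullback.fst h b) := by
  have right : IsPullback (pullback.fst h b) (pullback.snd h b) h b := IsPullback.of_hasPullback _ _
  have big : IsPullback (pullback.fst g b) (pullback.snd g b) g b := IsPullback.of_hasPullback _ _
  have e1 : pullback.map g b h b f (𝟙 _) (𝟙 _) ((Category.comp_id g).trans w.symm)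
        ((Category.comp_id _).trans (Category.id_comp _).symm) ≫ pullback.snd h b =
      pullback.snd g b := (pullback.lift_snd _ _ _).trans (Category.comp_id _)
  have e2 : pullback.map g b h b f (𝟙 _) (𝟙 _) ((Category.comp_id g).trans w.symm)
        ((Category.comp_id _).trans (Category.id_comp _).symm) ≫ pullback.fst h b =
      pullback.fst g b ≫ f := pullback.lift_fst _ _ _
  have big' : IsPullback (pullback.map g b h b f (𝟙 _) (𝟙 _) ((Category.comp_id g).trans w.symm)
        ((Category.comp_id _).trans (Category.id_comp _).symm) ≫ pullback.snd h b)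
      (pullback.fst g b) b (f ≫ h) := by
    rw [e1, w]; exact big.flip
  exact (IsPullback.of_right big' e2 right.flip).flip

/-- A base change of `f` along a morphism landing in `V` is an isomorphism if `f ∣_ V` is. -/
theorem isIso_snd_of_isPullback_of_range_subset {P Y' : Scheme.{u}} {fst : P ⟶ X} {snd : P ⟶ Y'}
    {f : X ⟶ Y} {j : Y' ⟶ Y} (sq : IsPullback fst snd f j) (V : Y.Opens)
    (hj : Set.range j ⊆ V) (hV : IsIso (f ∣_ V)) : IsIso snd := by
  have hj' : Set.range j ⊆ Set.range V.ι := by rwa [Scheme.Opens.range_ι]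
  let j' : Y' ⟶ V.toScheme := IsOpenImmersion.lift V.ι j hj'
  have hj'fac : j' ≫ V.ι = j := IsOpenImmersion.lift_fac _ _ _
  have hfst : Set.range fst ⊆ Set.range (f ⁻¹ᵁ V).ι := by
    rw [Scheme.Opens.range_ι]
    rintro _ ⟨p, rfl⟩
    change f (fst p) ∈ V
    have : f (fst p) = j (snd p) := congr($(sq.w) p)
    rw [this]
    exact hj ⟨_, rfl⟩
  let fst' : P ⟶ (f ⁻¹ᵁ V).toScheme := IsOpenImmersion.lift (f ⁻¹ᵁ V).ι fst hfst
  have hfst'fac : fst' ≫ (f ⁻¹ᵁ V).ι = fst := IsOpenImmersion.lift_fac _ _ _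
  have big : IsPullback (fst' ≫ (f ⁻¹ᵁ V).ι) snd f (j' ≫ V.ι) := by
    rw [hfst'fac, hj'fac]; exact sq
  have hp : fst' ≫ f ∣_ V = snd ≫ j' := by
    rw [← cancel_mono V.ι, Category.assoc, Category.assoc, morphismRestrict_ι,
      ← Category.assoc, hfst'fac, hj'fac, sq.w]
  have left : IsPullback fst' snd (f ∣_ V) j' :=
    IsPullback.of_right big hp (isPullback_morphismRestrict f V).flip
  exact (MorphismProperty.isomorphisms Scheme).of_isPullback left hV

/-- S2387 -/
theorem main_noetherian (f : X ⟶ Y) (g : X ⟶ S) (h : Y ⟶ S) (w : f ≫ h = g)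
    [IsLocallyNoetherian S] [IsProper g] [IsProper h] (s : S) [Flat g]
    [IsIso (CohIII.fiberMapOver f g h w s)] :
    ∃ U : S.Opens, s ∈ U ∧ IsIso (f ∣_ (h ⁻¹ᵁ U)) := by
  have hY : IsLocallyNoetherian Y := LocallyOfFiniteType.isLocallyNoetherian h
  have hfh : LocallyOfFiniteType (f ≫ h) := by rw [w]; infer_instance
  have hf : LocallyOfFiniteType f := locallyOfFiniteType_of_comp f h
  exact exists_nhd_isIso_of_fibre_isIso f g h w s

/-- S6712 -/
theorem main_baseChange [IsNoetherian S] (s : S) (g : X ⟶ S) (h : Y ⟶ S) (p : X ⟶ Y)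
    (w : p ≫ h = g) [IsProper g] [IsProper h] [Flat g]
    (hs : IsIso (pullback.map g (S.fromSpecResidueField s) h (S.fromSpecResidueField s) p (𝟙 _)
      (𝟙 _) ((Category.comp_id g).trans w.symm)
      ((Category.comp_id _).trans (Category.id_comp _).symm))) :
    ∃ U : S.Opens, s ∈ U ∧
      IsIso (pullback.map g U.ι h U.ι p (𝟙 _) (𝟙 _) ((Category.comp_id g).trans w.symm)
        ((Category.comp_id _).trans (Category.id_comp _).symm)) := by
  have : IsIso (CohIII.fiberMapOver p g h w s) := hs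
  obtain ⟨U, hsU, hU⟩ := main_noetherian p g h w s
  refine ⟨U, hsU, ?_⟩
  refine isIso_snd_of_isPullback_of_range_subset (isPullback_map_over p g h w U.ι) (h ⁻¹ᵁ U) ?_ hU
  rintro _ ⟨q, rfl⟩
  change h (pullback.fst h U.ι q) ∈ U
  have : h (pullback.fst h U.ι q) = U.ι (pullback.snd h U.ι q) :=
    congr($(pullback.condition (f := h) (g := U.ι)) q)
  rw [this]
  exact (pullback.snd h U.ι q).2

/-- S10888 -/
theorem main_fp (g : X ⟶ S) (h : Y ⟶ S)
    [IsProper g] [LocallyOfFinitePresentation g] [Flat g] [IsProper h]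
    [LocallyOfFinitePresentation h] (f : X ⟶ Y) (w : f ≫ h = g) :
    ∃ U : S.Opens, (∀ s : S, s ∈ U ↔
        ∃ e : g.fiber s ≅ h.fiber s, e.hom ≫ h.fiberι s = g.fiberι s ≫ f) ∧
      IsIso (f ∣_ (h ⁻¹ᵁ U)) := by
  have hfh : LocallyOfFinitePresentation (f ≫ h) := by rw [w]; infer_instance
  have hf : LocallyOfFinitePresentation f :=
    Groth.Agent.Helper7.locallyOfFinitePresentation_of_comp f h hfh inferInstance
  let Uset : Set S := {s | ∃ e : g.fiber s ≅ h.fiber s, e.hom ≫ h.fiberι s = g.fiberι s ≫ f}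
  have key : ∀ s ∈ Uset, ∃ U₁ : S.Opens, s ∈ U₁ ∧ (U₁ : Set S) ⊆ Uset ∧
      IsIso (f ∣_ (h ⁻¹ᵁ U₁)) := by
    rintro s ⟨e, he⟩
    have sq := FibNear.isPullback_fiberMapOver f g h w s
    have heq : e.hom = CohIII.fiberMapOver f g h w s := by
      rw [← cancel_mono (h.fiberι s), he]; exact sq.w
    have : IsIso (CohIII.fiberMapOver f g h w s) := by rw [← heq]; infer_instance
    obtain ⟨U₁, hsU₁, hU₁⟩ := exists_nhd_isIso_of_fibre_isIso f g h w s
    refine ⟨U₁, hsU₁, ?_, hU₁⟩
    intro s' hs'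
    have sq' := FibNear.isPullback_fiberMapOver f g h w s'
    have hiso' : IsIso (CohIII.fiberMapOver f g h w s') := by
      refine isIso_snd_of_isPullback_of_range_subset sq' (h ⁻¹ᵁ U₁) ?_ hU₁
      rw [h.range_fiberι]
      intro y hy
      change h y ∈ U₁
      rw [show h y = s' from hy]
      exact hs'
    exact ⟨asIso (CohIII.fiberMapOver f g h w s'), sq'.w.symm⟩
  have hopen : IsOpen Uset := by
    rw [isOpen_iff_forall_mem_open]
    intro s hs
    obtain ⟨U₁, hsU₁, hU₁sub, -⟩ := key s hs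
    exact ⟨U₁, hU₁sub, U₁.2, hsU₁⟩
  refine ⟨⟨Uset, hopen⟩, fun s => Iff.rfl, ?_⟩
  let 𝒮 : Set Y.Opens := {V | IsIso (f ∣_ V)}
  have hW : IsIso (f ∣_ sSup 𝒮) :=
    Groth.Agent.Helper28.RestrictPB.restrict_sSup (P := MorphismProperty.isomorphisms Scheme)
      f 𝒮 fun V hV => hV
  refine FibNear.restrict_of_le (P := MorphismProperty.isomorphisms Scheme) f ?_ hW
  intro y hy
  obtain ⟨U₁, hsU₁, -, hU₁⟩ := key (h y) hy
  exact TopologicalSpace.Opens.mem_sSup.mpr ⟨h ⁻¹ᵁ U₁, hU₁, hsU₁⟩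

end Groth.Agent.Helper16.FibIso
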