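import Mathlib
import Groth.Agent.Lib.Helper16.Sch.UnrLocStr
import Groth.Agent.Lib.Helper16.Sch.FibIso
import Groth.Agent.Lib.Helper16.Sch.UnrFib
import Groth.Agent.Lib.Helper16.Sch.Birat8
import Groth.Agent.Lib.Helper7.FinPres

set_option autoImplicit false
open CategoryTheory CategoryTheory.Limits AlgebraicGeometry
universe u

namespace Groth.Agent.Helper16.EtFibCrit

variable {X Y S : Scheme.{u}}

/-- a property local at the source which holds on an open immersion through `x`, holds on an
open neighbourhood of `x` -/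
theorem exists_opens_of_isOpenImmersion {P : MorphismProperty Scheme.{u}} [P.RespectsIso]
    (f : X ⟶ Y) {T : Scheme.{u}} (j : T ⟶ X) [IsOpenImmersion j] (x : X)
    (hx : x ∈ Set.range j) (h : P (j ≫ f)) : ∃ W : X.Opens, x ∈ W ∧ P (W.ι ≫ f) := by
  refine ⟨j.opensRange, hx, ?_⟩
  rw [← j.isoOpensRange_inv_comp, Category.assoc]
  exact (P.cancel_left_of_respectsIso _ _).mpr h

/-- **Fibrewise criterion for étaleness** (source flat over the base): local form. -/
theorem exists_etale_nhd_of_fibre (g : Y ⟶ S) (f : X ⟶ Y) [LocallyOfFinitePresentation g]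
    [LocallyOfFinitePresentation (f ≫ g)] [Flat (f ≫ g)]
    (H : ∀ s : S, Etale (pullback.snd f (g.fiberι s))) (x : X) :
    ∃ W : X.Opens, x ∈ W ∧ Etale (W.ι ≫ f) := by
  have hf : LocallyOfFinitePresentation f :=
    Groth.Agent.Helper7.locallyOfFinitePresentation_of_comp f g inferInstance inferInstance
  have hunr : FormallyUnramified f :=
    (UnramLocus.formallyUnramified_iff_fibres g f).mpr (fun s => by
      have := H s
      infer_instance)
  obtain ⟨U, E, e, i, hxU, he, hi, hie⟩ := FlatLocImm.exists_closedImmersion_into_etale f x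
  let hE : E ⟶ S := e ≫ g
  let s : S := (f ≫ g) x
  have hihE : i ≫ hE = U.ι ≫ f ≫ g := by
    simp only [hE, ← Category.assoc, hie]
  have h1 : LocallyOfFinitePresentation (i ≫ hE) := by rw [hihE]; infer_instance
  have h2 : Flat (i ≫ hE) := by rw [hihE]; infer_instance
  have hElfp : LocallyOfFinitePresentation hE := inferInstance
  have hilfp : LocallyOfFinitePresentation i :=
    Groth.Agent.Helper7.locallyOfFinitePresentation_of_comp i hE h1 inferInstance
  -- fibres
  let F := CohIII.fiberMapOver i (i ≫ hE) hE rfl s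
  have sqF : IsPullback ((i ≫ hE).fiberι s) F i (hE.fiberι s) :=
    FibNear.isPullback_fiberMapOver i (i ≫ hE) hE rfl s
  let es := CohIII.fiberMapOver e hE g rfl s
  have sqe : IsPullback (hE.fiberι s) es e (g.fiberι s) :=
    FibNear.isPullback_fiberMapOver e hE g rfl s
  have hes : Etale es := MorphismProperty.of_isPullback (P := @Etale) sqe he
  have hFci : IsClosedImmersion F := MorphismProperty.of_isPullback (P := @IsClosedImmersion) sqF hi
  have big : IsPullback ((i ≫ hE).fiberι s) (F ≫ es) (U.ι ≫ f) (g.fiberι s) := by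
    have := (sqF.flip.paste_horiz sqe.flip).flip
    rwa [hie] at this
  have right : IsPullback (pullback.fst f (g.fiberι s)) (pullback.snd f (g.fiberι s)) f
      (g.fiberι s) := IsPullback.of_hasPullback _ _
  let ℓ : (i ≫ hE).fiber s ⟶ pullback f (g.fiberι s) :=
    pullback.lift ((i ≫ hE).fiberι s ≫ U.ι) (F ≫ es) (by rw [Category.assoc]; exact big.w)
  have hℓ1 : ℓ ≫ pullback.fst f (g.fiberι s) = (i ≫ hE).fiberι s ≫ U.ι := pullback.lift_fst _ _ _
  have hℓ2 : ℓ ≫ pullback.snd f (g.fiberι s) = F ≫ es := pullback.lift_snd _ _ _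
  have left : IsPullback ℓ ((i ≫ hE).fiberι s) (pullback.fst f (g.fiberι s)) U.ι := by
    refine IsPullback.of_right ?_ hℓ1 right.flip
    rw [hℓ2]; exact big.flip
  have hℓoi : IsOpenImmersion ℓ :=
    MorphismProperty.of_isPullback (P := @IsOpenImmersion) left.flip inferInstance
  have hFes : Etale (F ≫ es) := by
    have := H s
    rw [← hℓ2]; infer_instance
  have hFet : Etale F := Etale.of_comp F es
  have hFoi : IsOpenImmersion F := IsOpenImmersion.of_flat_of_mono F
  -- the point
  let x' : U.toScheme := ⟨x, hxU⟩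
  have hx's : x' ∈ Set.range ((i ≫ hE).fiberι s) := by
    rw [(i ≫ hE).range_fiberι s]
    change (i ≫ hE) x' = s
    rw [hihE]; rfl
  obtain ⟨xs, hxs⟩ := hx's
  have hinj : Function.Injective (F.stalkMap xs).hom :=
    (ConcreteCategory.bijective_of_isIso (F.stalkMap xs)).1
  have hP := FibIso.surjKerFG_stalkMap i ((i ≫ hE).fiberι s xs)
  have hiso : IsIso (i.stalkMap ((i ≫ hE).fiberι s xs)) :=
    FibIso.isIso_stalkMap_of_fibre i hE s F sqF.w.symm xs hinj hP
  obtain ⟨_, ⟨V₀, hV₀, rfl⟩, hfxV₀, -⟩ :=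
    E.isBasis_affineOpens.exists_subset_of_mem_open
      (Set.mem_univ (i ((i ≫ hE).fiberι s xs))) isOpen_univ
  obtain ⟨U'', V'', hUV, hxU'', -, hr⟩ := Birat.exists_isIso_resLE_of_isIso_stalkMap' i
    ((i ≫ hE).fiberι s xs) hV₀ hfxV₀ (Or.inr hilfp)
  refine exists_opens_of_isOpenImmersion (P := @Etale) f (U''.ι ≫ U.ι) x ?_ ?_
  · refine ⟨⟨x', ?_⟩, rfl⟩
    rw [← hxs]; exact hxU''
  · have : (U''.ι ≫ U.ι) ≫ f = i.resLE V'' U'' hUV ≫ V''.ι ≫ e := by
      rw [Scheme.Hom.resLE_comp_ι_assoc, Category.assoc, hie]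
    rw [this]; infer_instance

/-- **Fibrewise criterion for étaleness** (source flat over the base). -/
theorem etale_of_fibres (g : Y ⟶ S) (f : X ⟶ Y) [LocallyOfFinitePresentation g]
    [LocallyOfFinitePresentation (f ≫ g)] [Flat (f ≫ g)]
    (H : ∀ s : S, Etale (pullback.snd f (g.fiberι s))) : Etale f := by
  choose W hxW hW using exists_etale_nhd_of_fibre g f H
  rw [IsZariskiLocalAtSource.iff_of_iSup_eq_top (P := @Etale) W]
  · exact hW
  · rw [eq_top_iff]
    rintro x -
    simp only [TopologicalSpace.Opens.mem_iSup]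
    exact ⟨x, hxW x⟩

end Groth.Agent.Helper16.EtFibCrit
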