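import Mathlib
import Groth.Agent.Lib.Helper16.Sch.EtFibCrit

set_option autoImplicit false
open CategoryTheory CategoryTheory.Limits AlgebraicGeometry
universe u

namespace Groth.Agent.Helper16.EtFibPt

open Groth.Agent.Helper16

variable {X Y S : Scheme.{u}}

open FibStalk IsLocalRing in
/-- pointwise-flat version of `FibIso.isIso_stalkMap_of_fibre` -/
theorem isIso_stalkMap_of_fibre' (f : X ⟶ Y) (h : Y ⟶ S) (s : S)
    (F : (f ≫ h).fiber s ⟶ h.fiber s) (hF : F ≫ h.fiberι s = (f ≫ h).fiberι s ≫ f)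
    (xs : (f ≫ h).fiber s)
    (hflat : ((f ≫ h).stalkMap ((f ≫ h).fiberι s xs)).hom.Flat)
    (hinj : Function.Injective (F.stalkMap xs).hom)
    (hP : FibIso.SurjKerFG (f.stalkMap ((f ≫ h).fiberι s xs)).hom) :
    IsIso (f.stalkMap ((f ≫ h).fiberι s xs)) := by
  set x := (f ≫ h).fiberι s xs with hx
  rw [ConcreteCategory.isIso_iff_bijective]
  refine ⟨?_, hP.1⟩
  let _ : Algebra (S.presheaf.stalk (h (f x))) (Y.presheaf.stalk (f x)) :=
    (h.stalkMap (f x)).hom.toAlgebra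
  refine FlatQuot.injective_of_flat_of_ker_le (A := S.presheaf.stalk (h (f x)))
    (f.stalkMap x).hom hP.1 ?_ (maximalIdeal _) ?_ ?_ hP.2
  · have h1 := hflat
    rw [Scheme.Hom.stalkMap_comp] at h1
    exact h1
  · rw [IsLocalRing.jacobson_eq_maximalIdeal ⊥ bot_ne_top]
    exact IsLocalRing.map_maximalIdeal_le (h.stalkMap (f x)).hom
  · exact FibIso.ker_stalkMap_le_fibIdeal f h s F hF xs hinj


theorem flat_stalkMap_of_eq {T : Scheme.{u}} (j : T ⟶ X) [IsOpenImmersion j] (h : X ⟶ S)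
    (φ : T ⟶ S) (hφ : φ = j ≫ h) (t : T) (x : X) (htx : j t = x)
    (hflat : (h.stalkMap x).hom.Flat) : (φ.stalkMap t).hom.Flat := by
  subst hφ
  subst htx
  rw [Scheme.Hom.stalkMap_comp]
  exact RingHom.Flat.comp hflat
    (RingHom.Flat.of_bijective (ConcreteCategory.bijective_of_isIso (j.stalkMap t)))

theorem isIso_stalkMap_of_etale_nhd_of_mono {A B : Scheme.{u}} (F : A ⟶ B) [Mono F]
    (W : A.Opens) (a : A) (ha : a ∈ W) (hW : Etale (W.ι ≫ F)) : IsIso (F.stalkMap a) := by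
  have hoi : IsOpenImmersion (W.ι ≫ F) := IsOpenImmersion.of_flat_of_mono _
  have h1 : IsIso ((W.ι ≫ F).stalkMap (⟨a, ha⟩ : W.toScheme)) := inferInstance
  rw [Scheme.Hom.stalkMap_comp] at h1
  have h2 : IsIso (W.ι.stalkMap (⟨a, ha⟩ : W.toScheme)) := inferInstance
  exact @IsIso.of_isIso_comp_right _ _ _ _ _ (F.stalkMap (W.ι ⟨a, ha⟩))
    (W.ι.stalkMap ⟨a, ha⟩) h2 h1

/-- **Pointwise fibrewise criterion for étaleness**: if `X → S` is flat at `x` and the map of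
fibres `X_s → Y_s` is étale near `x`, then `f` is étale near `x`. -/
theorem exists_etale_nhd_of_fibre_pt (g : Y ⟶ S) (h : X ⟶ S) (f : X ⟶ Y) (w : f ≫ g = h)
    [LocallyOfFinitePresentation g] [LocallyOfFinitePresentation h] (s : S) (xs : h.fiber s)
    (hflat : (h.stalkMap (h.fiberι s xs)).hom.Flat)
    (H : ∃ V : (h.fiber s).Opens, xs ∈ V ∧ Etale (V.ι ≫ CohIII.fiberMapOver f h g w s)) :
    ∃ U : X.Opens, h.fiberι s xs ∈ U ∧ Etale (U.ι ≫ f) := by
  obtain ⟨V, hxV, hV⟩ := H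
  set x := h.fiberι s xs with hx
  set Fs := CohIII.fiberMapOver f h g w s with hFs
  have sq0 : IsPullback (h.fiberι s) Fs f (g.fiberι s) :=
    FibNear.isPullback_fiberMapOver f h g w s
  have hfg : LocallyOfFinitePresentation (f ≫ g) := by rw [w]; infer_instance
  have hf : LocallyOfFinitePresentation f :=
    Groth.Agent.Helper7.locallyOfFinitePresentation_of_comp f g inferInstance inferInstance
  have hunr1 : UnramLocus.UnrAt Fs xs := ⟨V, hxV, inferInstance⟩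
  have hunr2 : UnramLocus.UnrAt f x := (UnramLocus.unrAt_iff_of_isPullback sq0 xs).mp hunr1
  obtain ⟨U₀, hxU₀, hU₀⟩ := hunr2
  obtain ⟨U₁, E, e, i, hxU₁, he, hi, hie⟩ :=
    FlatLocImm.exists_closedImmersion_into_etale (U₀.ι ≫ f) ⟨x, hxU₀⟩
  let j : U₁.toScheme ⟶ X := U₁.ι ≫ U₀.ι
  let xT : U₁.toScheme := ⟨⟨x, hxU₀⟩, hxU₁⟩
  have hjxT : j xT = x := rfl
  have hie' : i ≫ e = j ≫ f := by rw [hie, Category.assoc]
  let hE : E ⟶ S := e ≫ g
  have hihE : i ≫ hE = j ≫ h := by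
    rw [← w]
    simp only [hE, ← Category.assoc, hie']
  have h1 : LocallyOfFinitePresentation (i ≫ hE) := by rw [hihE]; infer_instance
  have hElfp : LocallyOfFinitePresentation hE := inferInstance
  have hilfp : LocallyOfFinitePresentation i :=
    Groth.Agent.Helper7.locallyOfFinitePresentation_of_comp i hE h1 inferInstance
  -- fibres
  let F := CohIII.fiberMapOver i (i ≫ hE) hE rfl s
  have sqF : IsPullback ((i ≫ hE).fiberι s) F i (hE.fiberι s) :=
    FibNear.isPullback_fiberMapOver i (i ≫ hE) hE rfl s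
  let es := CohIII.fiberMapOver e hE g rfl s
  have sqe : IsPullback (hE.fiberι s) es e (g.fiberι s) :=
    FibNear.isPullback_fiberMapOver e hE g rfl s
  have hes : Etale es := MorphismProperty.of_isPullback (P := @Etale) sqe he
  have hFci : IsClosedImmersion F := MorphismProperty.of_isPullback (P := @IsClosedImmersion) sqF hi
  have big : IsPullback ((i ≫ hE).fiberι s) (F ≫ es) (j ≫ f) (g.fiberι s) := by
    have := (sqF.flip.paste_horiz sqe.flip).flip
    rwa [hie'] at this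
  let ℓ : (i ≫ hE).fiber s ⟶ h.fiber s :=
    sq0.lift ((i ≫ hE).fiberι s ≫ j) (F ≫ es) (by rw [Category.assoc]; exact big.w)
  have hℓ1 : ℓ ≫ h.fiberι s = (i ≫ hE).fiberι s ≫ j := sq0.lift_fst _ _ _
  have hℓ2 : ℓ ≫ Fs = F ≫ es := sq0.lift_snd _ _ _
  have left : IsPullback ℓ ((i ≫ hE).fiberι s) (h.fiberι s) j := by
    refine IsPullback.of_right ?_ hℓ1 sq0.flip
    rw [hℓ2]; exact big.flip
  have hℓoi : IsOpenImmersion ℓ :=
    MorphismProperty.of_isPullback (P := @IsOpenImmersion) left.flip inferInstance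
  -- the point
  have hx's : xT ∈ Set.range ((i ≫ hE).fiberι s) := by
    rw [(i ≫ hE).range_fiberι s]
    change (i ≫ hE) xT = s
    rw [hihE, Scheme.Hom.comp_apply, hjxT]
    exact FibStalk.apply_fiberι h s xs
  obtain ⟨xs', hxs'⟩ := hx's
  have hℓxs : ℓ xs' = xs := by
    apply (h.fiberι s).isEmbedding.injective
    rw [← Scheme.Hom.comp_apply, hℓ1, Scheme.Hom.comp_apply, hxs']
    rfl
  -- étaleness of `F` near `xs'`
  have hxs'V : xs' ∈ ℓ ⁻¹ᵁ V := by
    change ℓ xs' ∈ V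
    rw [hℓxs]; exact hxV
  have hVet : Etale ((ℓ ⁻¹ᵁ V).ι ≫ F ≫ es) := by
    have e1 : (ℓ ⁻¹ᵁ V).ι ≫ F ≫ es = (ℓ ∣_ V) ≫ V.ι ≫ Fs := by
      rw [← hℓ2]
      exact (morphismRestrict_ι_assoc ℓ V Fs).symm
    rw [e1]
    infer_instance
  have hVF : Etale ((ℓ ⁻¹ᵁ V).ι ≫ F) := by
    have hVet' : Etale (((ℓ ⁻¹ᵁ V).ι ≫ F) ≫ es) := by
      rw [Category.assoc (ℓ ⁻¹ᵁ V).ι F es]; exact hVet
    exact Etale.of_comp ((ℓ ⁻¹ᵁ V).ι ≫ F) es
  have hFiso : IsIso (F.stalkMap xs') :=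
    isIso_stalkMap_of_etale_nhd_of_mono F (ℓ ⁻¹ᵁ V) xs' hxs'V hVF
  have hinj : Function.Injective (F.stalkMap xs').hom :=
    (ConcreteCategory.bijective_of_isIso (F.stalkMap xs')).1
  have hP := FibIso.surjKerFG_stalkMap i ((i ≫ hE).fiberι s xs')
  have hfl : ((i ≫ hE).stalkMap ((i ≫ hE).fiberι s xs')).hom.Flat :=
    flat_stalkMap_of_eq j h (i ≫ hE) hihE _ x (by rw [hxs', hjxT]) hflat
  have hiso : IsIso (i.stalkMap ((i ≫ hE).fiberι s xs')) :=
    isIso_stalkMap_of_fibre' i hE s F sqF.w.symm xs' hfl hinj hP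
  obtain ⟨_, ⟨V₀, hV₀, rfl⟩, hfxV₀, -⟩ :=
    E.isBasis_affineOpens.exists_subset_of_mem_open
      (Set.mem_univ (i ((i ≫ hE).fiberι s xs'))) isOpen_univ
  obtain ⟨U'', V'', hUV, hxU'', -, hr⟩ := Birat.exists_isIso_resLE_of_isIso_stalkMap' i
    ((i ≫ hE).fiberι s xs') hV₀ hfxV₀ (Or.inr hilfp)
  refine EtFibCrit.exists_opens_of_isOpenImmersion (P := @Etale) f (U''.ι ≫ j) x ?_ ?_
  · refine ⟨⟨xT, ?_⟩, rfl⟩
    rw [← hxs']; exact hxU''
  · have : (U''.ι ≫ j) ≫ f = i.resLE V'' U'' hUV ≫ V''.ι ≫ e := by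
      rw [Scheme.Hom.resLE_comp_ι_assoc, Category.assoc, hie']
    rw [this]; infer_instance

end Groth.Agent.Helper16.EtFibPt
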