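import Mathlib
import Groth.Agent.Lib.Helper16.Sch.EtFibPt

set_option autoImplicit false
open CategoryTheory CategoryTheory.Limits AlgebraicGeometry
universe u

namespace Groth.Agent.Helper16.EtFibPt

open Groth.Agent.Helper16

variable {X Y S : Scheme.{u}}

/-- base change direction: a property stable under base change which holds for `f` near `x`
holds for the fibre map near `x`. -/
theorem exists_nhd_fibre_of_exists_nhd {P : MorphismProperty Scheme.{u}}
    [P.IsStableUnderBaseChange] (g : Y ⟶ S) (h : X ⟶ S) (f : X ⟶ Y) (w : f ≫ g = h)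
    (s : S) (xs : h.fiber s) (H : ∃ U : X.Opens, h.fiberι s xs ∈ U ∧ P (U.ι ≫ f)) :
    ∃ V : (h.fiber s).Opens, xs ∈ V ∧ P (V.ι ≫ CohIII.fiberMapOver f h g w s) := by
  obtain ⟨U, hxU, hU⟩ := H
  have sq0 : IsPullback (h.fiberι s) (CohIII.fiberMapOver f h g w s) f (g.fiberι s) :=
    FibNear.isPullback_fiberMapOver f h g w s
  refine ⟨(h.fiberι s) ⁻¹ᵁ U, hxU, ?_⟩
  have sq1 := ((isPullback_morphismRestrict (h.fiberι s) U).flip.paste_horiz sq0.flip).flip
  exact MorphismProperty.of_isPullback (P := P) sq1 hU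

/-- The pointwise criterion, in the form of an equivalence. -/
theorem exists_etale_nhd_iff_fibre (g : Y ⟶ S) (h : X ⟶ S) (f : X ⟶ Y) (w : f ≫ g = h)
    [LocallyOfFinitePresentation g] [LocallyOfFinitePresentation h] (s : S) (xs : h.fiber s)
    (hflat : (h.stalkMap (h.fiberι s xs)).hom.Flat) :
    (∃ U : X.Opens, h.fiberι s xs ∈ U ∧ Etale (U.ι ≫ f)) ↔
      ∃ V : (h.fiber s).Opens, xs ∈ V ∧ Etale (V.ι ≫ CohIII.fiberMapOver f h g w s) :=
  ⟨exists_nhd_fibre_of_exists_nhd (P := @Etale) g h f w s xs,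
    exists_etale_nhd_of_fibre_pt g h f w s xs hflat⟩

end Groth.Agent.Helper16.EtFibPt
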