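import Mathlib
import Groth.Agent.Lib.Helper16.Sch.EtFibPt2

set_option autoImplicit false
open CategoryTheory CategoryTheory.Limits AlgebraicGeometry
universe u

namespace Groth.Agent.Helper16.SmFibPt

open Groth.Agent.Helper16 AffineSpace

variable {X Y S : Scheme.{u}}

set_option backward.isDefEq.respectTransparency.types false in
/-- affine space is smooth over the base -/
instance smooth_affineSpace_over (n : Type u) [Finite n] (S : Scheme.{u}) :
    Smooth (𝔸(n; S) ↘ S) :=
  MorphismProperty.pullback_fst _ _ <| by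
  have := isIso_of_isTerminal specULiftZIsTerminal.{u} terminalIsTerminal (terminal.from _)
  rw [← terminal.comp_from (Spec.map (CommRingCat.ofHom MvPolynomial.C)),
    MorphismProperty.cancel_right_of_respectsIso (P := @Smooth),
    HasRingHomProperty.Spec_iff (P := @Smooth)]
  rw [RingHom.Smooth]
  have hsm : Algebra.Smooth (ULift.{u} ℤ) (MvPolynomial n (ULift.{u} ℤ)) := {}
  convert! hsm
  exact Algebra.algebra_ext _ _ fun _ ↦ rfl


instance isOpenImmersion_map (n : Type u) {S T : Scheme.{u}} (f : S ⟶ T) [IsOpenImmersion f] :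
    IsOpenImmersion (AffineSpace.map n f) :=
  MorphismProperty.of_isPullback (P := @IsOpenImmersion) (isPullback_map (n := n) f).flip
    inferInstance

set_option backward.isDefEq.respectTransparency.types false in
/-- A smooth morphism is, locally on the source, étale over an affine space. -/
theorem exists_etale_affineSpace {P Q : Scheme.{u}} (p : P ⟶ Q) [Smooth p] (z : P) :
    ∃ (V : P.Opens) (n : ℕ) (ψ : V.toScheme ⟶ 𝔸(ULift.{u} (Fin n); Q)),
      z ∈ V ∧ Etale ψ ∧ ψ ≫ (𝔸(ULift.{u} (Fin n); Q) ↘ Q) = V.ι ≫ p := by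
  obtain ⟨U, hU, V, hV, hzV, e, hstd⟩ := Smooth.exists_isStandardSmooth p z
  obtain ⟨n, φ, hφC, hφ⟩ := RingHom.IsStandardSmooth.exists_etale_mvPolynomial hstd
  let ρ : MvPolynomial (ULift.{u} (Fin n)) Γ(Q, U) ≃ₐ[Γ(Q, U)] MvPolynomial (Fin n) Γ(Q, U) :=
    MvPolynomial.renameEquiv _ Equiv.ulift
  let φ' : MvPolynomial (ULift.{u} (Fin n)) Γ(Q, U) →+* Γ(P, V) :=
    φ.comp ρ.toRingEquiv.toRingHom
  have hφ' : φ'.Etale := RingHom.Etale.respectsIso.2 φ ρ.toRingEquiv hφ
  have hC : CommRingCat.ofHom (MvPolynomial.C (σ := ULift.{u} (Fin n))) ≫ CommRingCat.ofHom φ' =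
      p.appLE U V e := by
    ext r
    have : φ (MvPolynomial.C r) = (p.appLE U V e).hom r := congrArg (fun ψ => ψ r) hφC
    simpa [φ', ρ] using this
  refine ⟨V, n, hV.isoSpec.hom ≫ Spec.map (CommRingCat.ofHom φ') ≫
    (SpecIso (ULift.{u} (Fin n)) Γ(Q, U)).inv ≫ AffineSpace.map _ hU.fromSpec, hzV, ?_, ?_⟩
  · haveI : Etale (Spec.map (CommRingCat.ofHom φ')) := by
      rw [HasRingHomProperty.Spec_iff (P := @Etale)]
      exact hφ'
    infer_instance
  · simp only [Category.assoc, map_over, SpecIso_inv_over_assoc]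
    rw [← Spec.map_comp_assoc, hC, hU.SpecMap_appLE_fromSpec p hV e,
      IsAffineOpen.isoSpec_hom_fromSpec_assoc]

end Groth.Agent.Helper16.SmFibPt
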