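import Mathlib

set_option autoImplicit false
open CategoryTheory CategoryTheory.Limits AlgebraicGeometry
universe u

namespace Groth.Agent.Helper16.SmFibPt

theorem exists_lift_section {T X : Scheme.{u}} (m : T ⟶ X) (z : T)
    (hsurj : Function.Surjective (m.stalkMap z).hom) (t : Γ(T, ⊤)) :
    ∃ (U : X.Opens) (t' : Γ(X, U)) (W : T.Opens), m z ∈ U ∧ z ∈ W ∧ ∃ hW : W ≤ m ⁻¹ᵁ U,
      (T.presheaf.map (homOfLE hW).op) (m.app U t') =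
        (T.presheaf.map (homOfLE (le_top : W ≤ ⊤)).op) t := by
  obtain ⟨τ, hτ⟩ := hsurj (T.presheaf.germ ⊤ z trivial t)
  obtain ⟨U, hmz, t', rfl⟩ := X.presheaf.exists_germ_eq τ
  rw [Scheme.Hom.germ_stalkMap_apply] at hτ
  obtain ⟨W, hzW, iU, iV, hW⟩ := T.presheaf.germ_eq z (U := m ⁻¹ᵁ U) (V := ⊤) hmz (Set.mem_univ z) _ _ hτ
  exact ⟨U, t', W, hmz, hzW, iU.le, hW⟩


theorem resLE_appTop_topIso_inv {T X : Scheme.{u}} (m : T ⟶ X) (U : X.Opens) (W : T.Opens)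
    (hW : W ≤ m ⁻¹ᵁ U) (U₁ : X.Opens) (hU : U ≤ U₁) :
    X.presheaf.map (homOfLE hU).op ≫ U.topIso.inv ≫ (m.resLE U W hW).appTop =
      m.appLE U₁ W (hW.trans (m.preimage_mono hU)) ≫ W.topIso.inv := by
  rw [Scheme.Hom.appTop, Scheme.Hom.resLE_app_top, Iso.inv_hom_id_assoc,
    Scheme.Hom.map_appLE_assoc]

theorem map_topIso_inv_eq_ι_appTop {T : Scheme.{u}} (W : T.Opens) :
    T.presheaf.map (homOfLE (le_top : W ≤ ⊤)).op ≫ W.topIso.inv = W.ι.appTop := by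
  change T.presheaf.map (homOfLE (le_top : W ≤ ⊤)).op ≫
    T.presheaf.map (eqToHom W.ι_image_top).op =
      T.presheaf.map (homOfLE (le_top : W.ι ''ᵁ ⊤ ≤ ⊤)).op
  rw [← Functor.map_comp]
  rfl

theorem exists_lift_sections {T X : Scheme.{u}} (m : T ⟶ X) (z : T)
    (hsurj : Function.Surjective (m.stalkMap z).hom) {ι : Type*} [Finite ι] (t : ι → Γ(T, ⊤)) :
    ∃ (U : X.Opens) (t' : ι → Γ(U.toScheme, ⊤)) (W : T.Opens), m z ∈ U ∧ z ∈ W ∧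
      ∃ hW : W ≤ m ⁻¹ᵁ U, ∀ i, (m.resLE U W hW).appTop (t' i) = W.ι.appTop (t i) := by
  choose U₁ t₁ W₁ h1 h2 hW₁ heq using fun i => exists_lift_section m z hsurj (t i)
  have hmemU : ∀ x : X, x ∈ ⨅ i, U₁ i ↔ ∀ i, x ∈ U₁ i := fun x => by
    rw [← SetLike.mem_coe, TopologicalSpace.Opens.coe_iInf, Set.mem_iInter]; rfl
  have hmemW : ∀ x : T, x ∈ ⨅ i, W₁ i ↔ ∀ i, x ∈ W₁ i := fun x => by
    rw [← SetLike.mem_coe, TopologicalSpace.Opens.coe_iInf, Set.mem_iInter]; rfl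
  have hW : (⨅ i, W₁ i) ≤ m ⁻¹ᵁ (⨅ i, U₁ i) := fun w hw =>
    (hmemU (m w)).mpr fun i => hW₁ i ((hmemW w).mp hw i)
  refine ⟨⨅ i, U₁ i, fun i => (⨅ i, U₁ i).topIso.inv
    (X.presheaf.map (homOfLE (iInf_le U₁ i)).op (t₁ i)), ⨅ i, W₁ i,
    (hmemU _).mpr h1, (hmemW _).mpr h2, hW, fun i => ?_⟩
  have e1 := resLE_appTop_topIso_inv m (⨅ i, U₁ i) (⨅ i, W₁ i) hW (U₁ i) (iInf_le U₁ i)
  have e2 := congrArg (fun φ => φ.hom (t₁ i)) e1
  simp only [CommRingCat.hom_comp, RingHom.comp_apply] at e2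
  rw [e2, ← map_topIso_inv_eq_ι_appTop]
  simp only [CommRingCat.hom_comp, RingHom.comp_apply]
  congr 1
  have e3 : m.appLE (U₁ i) (⨅ i, W₁ i) (hW.trans (m.preimage_mono (iInf_le U₁ i))) =
      m.app (U₁ i) ≫ T.presheaf.map (homOfLE (hW₁ i)).op ≫
        T.presheaf.map (homOfLE (iInf_le W₁ i)).op := by
    rw [Scheme.Hom.appLE, ← Functor.map_comp]; rfl
  rw [e3]
  simp only [CommRingCat.hom_comp, RingHom.comp_apply]
  rw [heq i, ← RingHom.comp_apply, ← CommRingCat.hom_comp, ← Functor.map_comp]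
  rfl

end Groth.Agent.Helper16.SmFibPt
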