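import Mathlib
import Groth.Agent.Lib.Helper16.Sch.EtFibPt2

set_option autoImplicit false
open CategoryTheory CategoryTheory.Limits AlgebraicGeometry
universe u

namespace Groth.Agent.Helper16.SmFibPt

open Groth.Agent.Helper16

variable {X Y S : Scheme.{u}}

theorem fiberMapOver_fiberToSpecResidueField (f : X ⟶ Y) (h : X ⟶ S) (g : Y ⟶ S) (w : f ≫ g = h)
    (s : S) : CohIII.fiberMapOver f h g w s ≫ g.fiberToSpecResidueField s =
      h.fiberToSpecResidueField s := by
  unfold CohIII.fiberMapOver Scheme.Hom.fiberToSpecResidueField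
  exact (pullback.lift_snd _ _ _).trans (Category.comp_id _)

/-- **Flexible form of the pointwise fibrewise criterion for étaleness**: the fibres may be
replaced by arbitrary pullbacks. -/
theorem exists_etale_nhd_of_isPullback (g : Y ⟶ S) (h : X ⟶ S) (f : X ⟶ Y) (w : f ≫ g = h)
    [LocallyOfFinitePresentation g] [LocallyOfFinitePresentation h] (s : S)
    {X' Y' : Scheme.{u}} (b : Y' ⟶ Y) (c : Y' ⟶ Spec (S.residueField s))
    (hb : IsPullback b c g (S.fromSpecResidueField s))
    (a : X' ⟶ X) (f' : X' ⟶ Y') (ha : IsPullback a f' f b) (x' : X')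
    (hflat : (h.stalkMap (a x')).hom.Flat)
    {W : Scheme.{u}} (l : W ⟶ X') [IsOpenImmersion l] (hx' : x' ∈ Set.range l)
    (hl : Etale (l ≫ f')) :
    ∃ U : X.Opens, a x' ∈ U ∧ Etale (U.ι ≫ f) := by
  let eY : Y' ≅ g.fiber s := hb.isoPullback
  have heY1 : eY.hom ≫ g.fiberι s = b := hb.isoPullback_hom_fst
  have heY2 : eY.hom ≫ g.fiberToSpecResidueField s = c := hb.isoPullback_hom_snd
  have hX : IsPullback a (f' ≫ c) h (S.fromSpecResidueField s) := by
    have := (ha.flip.paste_horiz hb.flip).flip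
    rwa [w] at this
  let eX : X' ≅ h.fiber s := hX.isoPullback
  have heX1 : eX.hom ≫ h.fiberι s = a := hX.isoPullback_hom_fst
  have heX2 : eX.hom ≫ h.fiberToSpecResidueField s = f' ≫ c := hX.isoPullback_hom_snd
  have sq0 : IsPullback (h.fiberι s) (CohIII.fiberMapOver f h g w s) f (g.fiberι s) :=
    FibNear.isPullback_fiberMapOver f h g w s
  have hcomm : eX.hom ≫ CohIII.fiberMapOver f h g w s = f' ≫ eY.hom := by
    apply pullback.hom_ext
    · change (_ ≫ _) ≫ g.fiberι s = (_ ≫ _) ≫ g.fiberι s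
      rw [Category.assoc, Category.assoc, ← sq0.w, reassoc_of% heX1, heY1, ha.w]
    · change (_ ≫ _) ≫ g.fiberToSpecResidueField s = (_ ≫ _) ≫ g.fiberToSpecResidueField s
      rw [Category.assoc, Category.assoc, fiberMapOver_fiberToSpecResidueField, heX2, heY2]
  obtain ⟨z, rfl⟩ := hx'
  have hpt : h.fiberι s (eX.hom (l z)) = a (l z) := by
    rw [← Scheme.Hom.comp_apply, heX1]
  have hV : ∃ V : (h.fiber s).Opens, eX.hom (l z) ∈ V ∧
      Etale (V.ι ≫ CohIII.fiberMapOver f h g w s) := by
    refine EtFibCrit.exists_opens_of_isOpenImmersion (P := @Etale) _ (l ≫ eX.hom) _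
      ⟨z, rfl⟩ ?_
    rw [Category.assoc, hcomm, ← Category.assoc]
    infer_instance
  have key := EtFibPt.exists_etale_nhd_of_fibre_pt g h f w s (eX.hom (l z))
    (by rw [hpt]; exact hflat) hV
  rwa [hpt] at key

end Groth.Agent.Helper16.SmFibPt
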