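import Mathlib
import Groth.Agent.Lib.Helper16.Sch.SmFibPt1
import Groth.Agent.Lib.Helper16.Sch.SmFibPt2
import Groth.Agent.Lib.Helper16.Sch.SmFibPt3

set_option autoImplicit false
open CategoryTheory CategoryTheory.Limits AlgebraicGeometry
universe u

namespace Groth.Agent.Helper16.SmFibPt

open Groth.Agent.Helper16 AffineSpace

variable {X Y S : Scheme.{u}}

set_option backward.isDefEq.respectTransparency.types false in
/-- **Pointwise fibrewise criterion for smoothness** (strong form): if `X → S` is flat at `x` and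
the map of fibres `X_s → Y_s` is smooth near `x`, then near `x` the morphism `f` factors as an
étale morphism to an affine space over `Y`. -/
theorem exists_etale_affineSpace_nhd_of_fibre_pt (g : Y ⟶ S) (h : X ⟶ S) (f : X ⟶ Y)
    (w : f ≫ g = h) [LocallyOfFinitePresentation g] [LocallyOfFinitePresentation h] (s : S)
    (xs : h.fiber s) (hflat : (h.stalkMap (h.fiberι s xs)).hom.Flat)
    (H : ∃ V : (h.fiber s).Opens, xs ∈ V ∧ Smooth (V.ι ≫ CohIII.fiberMapOver f h g w s)) :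
    ∃ (U : X.Opens) (n : ℕ) (Φ : U.toScheme ⟶ 𝔸(ULift.{u} (Fin n); Y)),
      h.fiberι s xs ∈ U ∧ Etale Φ ∧ Φ ≫ (𝔸(ULift.{u} (Fin n); Y) ↘ Y) = U.ι ≫ f := by
  obtain ⟨V₀, hxV₀, hV₀⟩ := H
  have sq0 : IsPullback (h.fiberι s) (CohIII.fiberMapOver f h g w s) f (g.fiberι s) :=
    FibNear.isPullback_fiberMapOver f h g w s
  obtain ⟨V₁, n, ψ, hzV₁, hψ, hψp⟩ :=
    exists_etale_affineSpace (V₀.ι ≫ CohIII.fiberMapOver f h g w s) ⟨xs, hxV₀⟩
  obtain ⟨k, hk⟩ : ∃ k : V₁.toScheme ⟶ h.fiber s, k = V₁.ι ≫ V₀.ι := ⟨_, rfl⟩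
  let zT : V₁.toScheme := ⟨⟨xs, hxV₀⟩, hzV₁⟩
  have hkz : k zT = xs := by rw [hk]; rfl
  have hkoi : IsOpenImmersion k := by rw [hk]; infer_instance
  have hψp' : ψ ≫ (𝔸(ULift.{u} (Fin n); g.fiber s) ↘ g.fiber s) =
      k ≫ CohIII.fiberMapOver f h g w s := by
    rw [hk]; exact hψp.trans (Category.assoc _ _ _).symm
  obtain ⟨m, hm⟩ : ∃ m : V₁.toScheme ⟶ X, m = k ≫ h.fiberι s := ⟨_, rfl⟩
  have hmpre : IsPreimmersion m := by rw [hm]; infer_instance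
  have hmz0 : m zT = h.fiberι s xs := by rw [hm, Scheme.Hom.comp_apply, hkz]
  have hsurj : Function.Surjective (m.stalkMap zT).hom := m.stalkMap_surjective zT
  obtain ⟨U₀, t', W, hmz, hzW, hW, heq⟩ := exists_lift_sections m zT hsurj
    (fun i => ψ.appTop (coord (g.fiber s) i))
  obtain ⟨Φ, hΦdef⟩ : ∃ Φ : U₀.toScheme ⟶ 𝔸(ULift.{u} (Fin n); Y),
      Φ = homOfVector (U₀.ι ≫ f) t' := ⟨_, rfl⟩
  have hΦ : Φ ≫ (𝔸(ULift.{u} (Fin n); Y) ↘ Y) = U₀.ι ≫ f := by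
    rw [hΦdef]; exact homOfVector_over _ _
  have hΦc : ∀ i, Φ.appTop (coord Y i) = t' i := fun i => by
    rw [hΦdef]; exact homOfVector_appTop_coord _ _ _
  obtain ⟨r, hrdef⟩ : ∃ r : W.toScheme ⟶ U₀.toScheme, r = m.resLE U₀ W hW := ⟨_, rfl⟩
  have hr : r ≫ U₀.ι = W.ι ≫ m := by rw [hrdef]; exact Scheme.Hom.resLE_comp_ι _ _
  have star : r ≫ Φ = (W.ι ≫ ψ) ≫ AffineSpace.map (ULift.{u} (Fin n)) (g.fiberι s) := by
    apply AffineSpace.hom_ext
    · have e1 : (r ≫ Φ) ≫ (𝔸(ULift.{u} (Fin n); Y) ↘ Y) = W.ι ≫ m ≫ f := by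
        rw [Category.assoc, hΦ, reassoc_of% hr]
      have e2 : ((W.ι ≫ ψ) ≫ AffineSpace.map (ULift.{u} (Fin n)) (g.fiberι s)) ≫
          (𝔸(ULift.{u} (Fin n); Y) ↘ Y) = W.ι ≫ m ≫ f := by
        rw [Category.assoc, map_over, Category.assoc, reassoc_of% hψp', ← sq0.w, hm,
          Category.assoc]
      rw [e1, e2]
    · intro i
      rw [Scheme.Hom.comp_appTop, Scheme.Hom.comp_appTop, Scheme.Hom.comp_appTop]
      simp only [CommRingCat.hom_comp, RingHom.comp_apply]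
      rw [hΦc, map_appTop_coord, hrdef]
      exact heq i
  -- set up the flexible étale criterion
  have hgA : LocallyOfFinitePresentation ((𝔸(ULift.{u} (Fin n); Y) ↘ Y) ≫ g) := inferInstance
  have hhU : LocallyOfFinitePresentation (U₀.ι ≫ h) := inferInstance
  have wA : Φ ≫ (𝔸(ULift.{u} (Fin n); Y) ↘ Y) ≫ g = U₀.ι ≫ h := by
    rw [reassoc_of% hΦ, w]
  have hb : IsPullback (AffineSpace.map (ULift.{u} (Fin n)) (g.fiberι s))
      ((𝔸(ULift.{u} (Fin n); g.fiber s) ↘ g.fiber s) ≫ g.fiberToSpecResidueField s)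
      ((𝔸(ULift.{u} (Fin n); Y) ↘ Y) ≫ g) (S.fromSpecResidueField s) :=
    (isPullback_map (n := ULift.{u} (Fin n)) (g.fiberι s)).paste_vert
      (IsPullback.of_hasPullback g (S.fromSpecResidueField s))
  have ha := IsPullback.of_hasPullback Φ (AffineSpace.map (ULift.{u} (Fin n)) (g.fiberι s))
  obtain ⟨l, hl1, hl2⟩ : ∃ l : W.toScheme ⟶ pullback Φ (AffineSpace.map (ULift.{u} (Fin n))
      (g.fiberι s)), l ≫ pullback.fst _ _ = r ∧ l ≫ pullback.snd _ _ = W.ι ≫ ψ :=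
    ⟨pullback.lift r (W.ι ≫ ψ) star, pullback.lift_fst _ _ _, pullback.lift_snd _ _ _⟩
  have hqcomm : (pullback.fst Φ (AffineSpace.map (ULift.{u} (Fin n)) (g.fiberι s)) ≫ U₀.ι) ≫ f =
      (pullback.snd Φ (AffineSpace.map (ULift.{u} (Fin n)) (g.fiberι s)) ≫
        (𝔸(ULift.{u} (Fin n); g.fiber s) ↘ g.fiber s)) ≫ g.fiberι s := by
    rw [Category.assoc, ← hΦ, pullback.condition_assoc, map_over, Category.assoc]
  obtain ⟨q, hq1, hq2⟩ : ∃ q : pullback Φ (AffineSpace.map (ULift.{u} (Fin n)) (g.fiberι s)) ⟶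
      h.fiber s, q ≫ h.fiberι s = pullback.fst _ _ ≫ U₀.ι ∧
      q ≫ CohIII.fiberMapOver f h g w s = pullback.snd _ _ ≫
        (𝔸(ULift.{u} (Fin n); g.fiber s) ↘ g.fiber s) :=
    ⟨sq0.lift _ _ hqcomm, sq0.lift_fst _ _ _, sq0.lift_snd _ _ _⟩
  have big : IsPullback (pullback.fst Φ (AffineSpace.map (ULift.{u} (Fin n)) (g.fiberι s)))
      (pullback.snd Φ (AffineSpace.map (ULift.{u} (Fin n)) (g.fiberι s)) ≫
        (𝔸(ULift.{u} (Fin n); g.fiber s) ↘ g.fiber s)) (U₀.ι ≫ f) (g.fiberι s) := by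
    have := ha.paste_vert (isPullback_map (n := ULift.{u} (Fin n)) (g.fiberι s))
    rwa [hΦ] at this
  have left : IsPullback q (pullback.fst Φ (AffineSpace.map (ULift.{u} (Fin n)) (g.fiberι s)))
      (h.fiberι s) U₀.ι := by
    refine IsPullback.of_right ?_ hq1 sq0.flip
    rw [hq2]; exact big.flip
  have hqoi : IsOpenImmersion q :=
    MorphismProperty.of_isPullback (P := @IsOpenImmersion) left.flip inferInstance
  have hlq : l ≫ q = W.ι ≫ k := by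
    apply sq0.hom_ext
    · rw [Category.assoc, hq1, reassoc_of% hl1, hr, hm, Category.assoc]
    · rw [Category.assoc, hq2, reassoc_of% hl2, Category.assoc, hψp']
  have hloi : IsOpenImmersion l := by
    have : IsOpenImmersion (l ≫ q) := by rw [hlq]; infer_instance
    exact IsOpenImmersion.of_comp l q
  have hlet : Etale (l ≫ pullback.snd Φ (AffineSpace.map (ULift.{u} (Fin n)) (g.fiberι s))) := by
    rw [hl2]; infer_instance
  have hpt : U₀.ι (pullback.fst Φ (AffineSpace.map (ULift.{u} (Fin n)) (g.fiberι s))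
      (l ⟨zT, hzW⟩)) = h.fiberι s xs := by
    rw [← Scheme.Hom.comp_apply, ← Scheme.Hom.comp_apply, reassoc_of% hl1, hr,
      Scheme.Hom.comp_apply, ← hmz0]
    rfl
  have hflat' : ((U₀.ι ≫ h).stalkMap (pullback.fst Φ (AffineSpace.map (ULift.{u} (Fin n))
      (g.fiberι s)) (l ⟨zT, hzW⟩))).hom.Flat :=
    EtFibPt.flat_stalkMap_of_eq U₀.ι h (U₀.ι ≫ h) rfl _ _ hpt hflat
  obtain ⟨U', hxU', hU'⟩ := exists_etale_nhd_of_isPullback
    ((𝔸(ULift.{u} (Fin n); Y) ↘ Y) ≫ g) (U₀.ι ≫ h) Φ wA s _ _ hb _ _ ha (l ⟨zT, hzW⟩) hflat' l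
    ⟨_, rfl⟩ hlet
  refine ⟨U₀.ι ''ᵁ U', n, (U₀.ι.isoImage U').inv ≫ U'.ι ≫ Φ, ?_, inferInstance, ?_⟩
  · rw [← hpt]
    exact ⟨_, hxU', rfl⟩
  · rw [Category.assoc, Category.assoc, hΦ, Scheme.Hom.isoImage_inv_ι_assoc]

end Groth.Agent.Helper16.SmFibPt
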