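import Mathlib
import Groth.Agent.Lib.Helper16.Sch.SmFibPt4
import Groth.Agent.Lib.Helper16.AlgSp.FlatSrc

set_option autoImplicit false
open CategoryTheory CategoryTheory.Limits AlgebraicGeometry
universe u

namespace Groth.Agent.Helper16.SmFibPt

open Groth.Agent.Helper16 AffineSpace

variable {X Y S : Scheme.{u}}

/-- flatness at a point descends along a morphism flat at the point -/
theorem flat_stalkMap_of_comp {A B C : Scheme.{u}} (φ : A ⟶ B) (ψ : B ⟶ C) (a : A)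
    (hφ : (φ.stalkMap a).hom.Flat) (hc : ((φ ≫ ψ).stalkMap a).hom.Flat) :
    (ψ.stalkMap (φ a)).hom.Flat := by
  rw [Scheme.Hom.stalkMap_comp] at hc
  have hc' : ((φ.stalkMap a).hom.comp (ψ.stalkMap (φ a)).hom).Flat := hc
  refine AS.RingHom.Flat.of_comp_faithfullyFlat _ (φ.stalkMap a).hom ?_ hc'
  algebraize [(φ.stalkMap a).hom]
  have : IsLocalHom (algebraMap (B.presheaf.stalk (φ a)) (A.presheaf.stalk a)) :=
    (inferInstance : IsLocalHom (φ.stalkMap a).hom)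
  exact Module.FaithfullyFlat.of_flat_of_isLocalHom

theorem flat_stalkMap_congr_pt {A B : Scheme.{u}} (φ : A ⟶ B) {a a' : A} (e : a = a')
    (h : (φ.stalkMap a).hom.Flat) : (φ.stalkMap a').hom.Flat := e ▸ h

/-- **Pointwise fibrewise criterion for smoothness.** -/
theorem exists_smooth_nhd_of_fibre_pt (g : Y ⟶ S) (h : X ⟶ S) (f : X ⟶ Y)
    (w : f ≫ g = h) [LocallyOfFinitePresentation g] [LocallyOfFinitePresentation h] (s : S)
    (xs : h.fiber s) (hflat : (h.stalkMap (h.fiberι s xs)).hom.Flat)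
    (H : ∃ V : (h.fiber s).Opens, xs ∈ V ∧ Smooth (V.ι ≫ CohIII.fiberMapOver f h g w s)) :
    ∃ U : X.Opens, h.fiberι s xs ∈ U ∧ Smooth (U.ι ≫ f) := by
  obtain ⟨U, n, Φ, hxU, hΦ, hΦp⟩ :=
    exists_etale_affineSpace_nhd_of_fibre_pt g h f w s xs hflat H
  refine ⟨U, hxU, ?_⟩
  rw [← hΦp]
  infer_instance

theorem exists_smooth_nhd_iff_fibre (g : Y ⟶ S) (h : X ⟶ S) (f : X ⟶ Y) (w : f ≫ g = h)
    [LocallyOfFinitePresentation g] [LocallyOfFinitePresentation h] (s : S) (xs : h.fiber s)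
    (hflat : (h.stalkMap (h.fiberι s xs)).hom.Flat) :
    (∃ U : X.Opens, h.fiberι s xs ∈ U ∧ Smooth (U.ι ≫ f)) ↔
      ∃ V : (h.fiber s).Opens, xs ∈ V ∧ Smooth (V.ι ≫ CohIII.fiberMapOver f h g w s) :=
  ⟨EtFibPt.exists_nhd_fibre_of_exists_nhd (P := @Smooth) g h f w s xs,
    exists_smooth_nhd_of_fibre_pt g h f w s xs hflat⟩

/-- Under the hypotheses of the fibrewise criterion for smoothness, `Y → S` is flat at `f x`. -/
theorem flat_stalkMap_of_fibre_pt (g : Y ⟶ S) (h : X ⟶ S) (f : X ⟶ Y)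
    (w : f ≫ g = h) [LocallyOfFinitePresentation g] [LocallyOfFinitePresentation h] (s : S)
    (xs : h.fiber s) (hflat : (h.stalkMap (h.fiberι s xs)).hom.Flat)
    (H : ∃ V : (h.fiber s).Opens, xs ∈ V ∧ Smooth (V.ι ≫ CohIII.fiberMapOver f h g w s)) :
    (g.stalkMap (f (h.fiberι s xs))).hom.Flat := by
  obtain ⟨U, n, Φ, hxU, hΦ, hΦp⟩ :=
    exists_etale_affineSpace_nhd_of_fibre_pt g h f w s xs hflat H
  let xU : U.toScheme := ⟨h.fiberι s xs, hxU⟩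
  have h1 : (Φ.stalkMap xU).hom.Flat := Flat.stalkMap Φ xU
  have h2 : ((U.ι ≫ h).stalkMap xU).hom.Flat :=
    EtFibPt.flat_stalkMap_of_eq U.ι h (U.ι ≫ h) rfl xU _ rfl hflat
  have wA : Φ ≫ (𝔸(ULift.{u} (Fin n); Y) ↘ Y) ≫ g = U.ι ≫ h := by
    rw [reassoc_of% hΦp, w]
  have h3 : ((Φ ≫ (𝔸(ULift.{u} (Fin n); Y) ↘ Y) ≫ g).stalkMap xU).hom.Flat := by
    rw [wA]; exact h2
  have h4 := flat_stalkMap_of_comp Φ _ xU h1 h3
  have h5 : ((𝔸(ULift.{u} (Fin n); Y) ↘ Y).stalkMap (Φ xU)).hom.Flat := Flat.stalkMap _ _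
  have h6 := flat_stalkMap_of_comp _ g (Φ xU) h5 h4
  refine flat_stalkMap_congr_pt g ?_ h6
  rw [← Scheme.Hom.comp_apply, hΦp]
  rfl

end Groth.Agent.Helper16.SmFibPt
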