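import Mathlib
import Groth.Agent.Lib.Helper16.Sch.SmFibPt5

set_option autoImplicit false
open CategoryTheory CategoryTheory.Limits AlgebraicGeometry
universe u

namespace Groth.Agent.Helper16.SmFibPt

open Groth.Agent.Helper16 AffineSpace

variable {X Y S : Scheme.{u}}

theorem smooth_fiberMapOver_of_smooth_snd (g : Y ⟶ S) (h : X ⟶ S) (f : X ⟶ Y) (w : f ≫ g = h)
    (s : S) (H : Smooth (pullback.snd f (g.fiberι s))) :
    Smooth (CohIII.fiberMapOver f h g w s) := by
  have sq0 : IsPullback (h.fiberι s) (CohIII.fiberMapOver f h g w s) f (g.fiberι s) :=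
    FibNear.isPullback_fiberMapOver f h g w s
  rw [← sq0.isoPullback_hom_snd]
  infer_instance

theorem etale_fiberMapOver_of_etale_snd (g : Y ⟶ S) (h : X ⟶ S) (f : X ⟶ Y) (w : f ≫ g = h)
    (s : S) (H : Etale (pullback.snd f (g.fiberι s))) :
    Etale (CohIII.fiberMapOver f h g w s) := by
  have sq0 : IsPullback (h.fiberι s) (CohIII.fiberMapOver f h g w s) f (g.fiberι s) :=
    FibNear.isPullback_fiberMapOver f h g w s
  rw [← sq0.isoPullback_hom_snd]
  infer_instance

/-- **Fibrewise criterion for smoothness** (source flat over the base). -/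
theorem smooth_of_fibres (g : Y ⟶ S) (h : X ⟶ S) (f : X ⟶ Y) (w : f ≫ g = h)
    [LocallyOfFinitePresentation g] [LocallyOfFinitePresentation h] [Flat h]
    (H : ∀ s : S, Smooth (pullback.snd f (g.fiberι s))) : Smooth f := by
  have key : ∀ x : X, ∃ U : X.Opens, x ∈ U ∧ Smooth (U.ι ≫ f) := fun x => by
    have := exists_smooth_nhd_of_fibre_pt g h f w (h x) (h.asFiber x)
      (Flat.stalkMap h _) ⟨⊤, trivial, by
        have := smooth_fiberMapOver_of_smooth_snd g h f w (h x) (H _)
        infer_instance⟩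
    rwa [Scheme.Hom.fiberι_asFiber] at this
  choose W hxW hW using key
  rw [IsZariskiLocalAtSource.iff_of_iSup_eq_top (P := @Smooth) W]
  · exact hW
  · rw [eq_top_iff]
    rintro x -
    simp only [TopologicalSpace.Opens.mem_iSup]
    exact ⟨x, hxW x⟩

theorem smooth_iff_fibres (g : Y ⟶ S) (h : X ⟶ S) (f : X ⟶ Y) (w : f ≫ g = h)
    [LocallyOfFinitePresentation g] [LocallyOfFinitePresentation h] [Flat h] :
    Smooth f ↔ ∀ s : S, Smooth (pullback.snd f (g.fiberι s)) :=
  ⟨fun _ _ => inferInstance, smooth_of_fibres g h f w⟩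

theorem flat_stalkMap_of_fibres (g : Y ⟶ S) (h : X ⟶ S) (f : X ⟶ Y) (w : f ≫ g = h)
    [LocallyOfFinitePresentation g] [LocallyOfFinitePresentation h] [Flat h]
    (H : ∀ s : S, Smooth (pullback.snd f (g.fiberι s))) (x : X) :
    (g.stalkMap (f x)).hom.Flat := by
  have := flat_stalkMap_of_fibre_pt g h f w (h x) (h.asFiber x)
    (Flat.stalkMap h _) ⟨⊤, trivial, by
      have := smooth_fiberMapOver_of_smooth_snd g h f w (h x) (H _)
      infer_instance⟩
  rwa [Scheme.Hom.fiberι_asFiber] at this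

end Groth.Agent.Helper16.SmFibPt
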