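import Mathlib
import Groth.Prelude
import Groth.Agent.Lib.Helper21.CPF11
import Groth.Agent.Lib.Helper16.Sch.SmFibPt6
import Groth.Agent.Lib.Helper16.Sch.SmoothLocusBC3
import Groth.Agent.Lib.Helper16.Sch.UnramLocus
import Groth.Agent.Lib.Helper16.Sch.FibNear

set_option autoImplicit false
set_option linter.style.haveILetI false
universe u
open CategoryTheory CategoryTheory.Limits AlgebraicGeometry Opposite TopologicalSpace Topology

noncomputable section

namespace Groth.Agent.Helper16.HomFibCrit

variable {X Y S : Scheme.{u}}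

/-- **fibrewise flatness at a point** (source flat over the base at the point). -/
theorem flat_stalkMap_iff_fibre (f : X ⟶ Y) (p : X ⟶ S) (g : Y ⟶ S) (w : f ≫ g = p)
    [LocallyOfFinitePresentation p] [LocallyOfFiniteType g] (x : X)
    (hflat : (p.stalkMap x).hom.Flat) :
    (f.stalkMap x).hom.Flat ↔
      ((CohIII.fiberMapOver f p g w (p x)).stalkMap (p.asFiber x)).hom.Flat := by
  subst w
  have key := (Groth.Agent.Helper21.CPF.critere_fibres f g
    (fun s => CohIII.fiberMapOver f (f ≫ g) g rfl s)
    (fun s => (FibNear.isPullback_fiberMapOver f (f ≫ g) g rfl s).w.symm)).1 x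
  constructor
  · intro hf
    have hg : (g.stalkMap (f x)).hom.Flat :=
      SmFibPt.flat_stalkMap_of_comp f g x hf hflat
    exact (key.mpr ⟨hg, hf⟩).2
  · intro hF
    exact (key.mp ⟨hflat, hF⟩).2

end Groth.Agent.Helper16.HomFibCrit
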