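import Mathlib
import Groth.Prelude
import Groth.Agent.Lib.Helper21.CPF11
import Groth.Agent.Lib.Helper16.Sch.SmFibPt6
import Groth.Agent.Lib.Helper16.Sch.SmoothLocusBC3
import Groth.Agent.Lib.Helper16.Sch.UnramLocus
import Groth.Agent.Lib.Helper16.Sch.FibNear

set_option autoImplicit false
set_option linter.style.haveILetI false
universe u
open CategoryTheory CategoryTheory.Limits AlgebraicGeometry Opposite TopologicalSpace Topology

noncomputable section

namespace Groth.Agent.Helper16.HomFibCrit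

variable {X Y S : Scheme.{u}}

/-- smooth on a neighbourhood iff in the smooth locus. -/
theorem exists_smooth_nhd_iff_mem_smoothLocus (f : X ⟶ Y) [LocallyOfFinitePresentation f] (x : X) :
    (∃ W : X.Opens, x ∈ W ∧ Smooth (W.ι ≫ f)) ↔ x ∈ f.smoothLocus := by
  constructor
  · rintro ⟨W, hxW, hW⟩
    have h1 : (W.ι ≫ f).smoothLocus = ⊤ := Scheme.Hom.smoothLocus_eq_top_iff.mpr hW
    rw [← Scheme.Hom.preimage_smoothLocus_eq] at h1
    have h2 : (⟨x, hxW⟩ : W.toScheme) ∈ W.ι ⁻¹ᵁ f.smoothLocus := by rw [h1]; trivial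
    exact h2
  · intro hx
    refine ⟨f.smoothLocus, hx, ?_⟩
    rw [← Scheme.Hom.smoothLocus_eq_top_iff, ← Scheme.Hom.preimage_smoothLocus_eq]
    exact Scheme.Opens.ι_preimage_self _

/-- flat at a point of an open subscheme -/
theorem flat_stalkMap_ι_comp_iff (f : X ⟶ Y) (W : X.Opens) (x : W.toScheme) :
    ((W.ι ≫ f).stalkMap x).hom.Flat ↔ (f.stalkMap (W.ι x)).hom.Flat := by
  rw [Scheme.Hom.stalkMap_comp]
  exact RingHom.Flat.respectsIso.cancel_right_isIso _ (W.ι.stalkMap x)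

/-- étale on a neighbourhood iff flat and unramified at the point. -/
theorem exists_etale_nhd_iff (f : X ⟶ Y) [LocallyOfFinitePresentation f] (x : X) :
    (∃ W : X.Opens, x ∈ W ∧ Etale (W.ι ≫ f)) ↔
      (f.stalkMap x).hom.Flat ∧ UnramLocus.UnrAt f x := by
  constructor
  · rintro ⟨W, hxW, hW⟩
    refine ⟨?_, W, hxW, inferInstance⟩
    have := Flat.stalkMap (W.ι ≫ f) ⟨x, hxW⟩
    exact (flat_stalkMap_ι_comp_iff f W ⟨x, hxW⟩).mp this
  · rintro ⟨hfl, U, hxU, hU⟩
    let F : X.Opens := ⟨{x : X | (f.stalkMap x).hom.Flat},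
      Groth.Agent.Helper21.FL.isOpen_flatLocus_scheme f⟩
    refine ⟨U ⊓ F, ⟨hxU, hfl⟩, ?_⟩
    have hfu : FormallyUnramified ((U ⊓ F).ι ≫ f) := by
      have e : (U ⊓ F).ι = X.homOfLE (inf_le_left : U ⊓ F ≤ U) ≫ U.ι := by simp
      rw [e, Category.assoc]
      infer_instance
    have hflat : Flat ((U ⊓ F).ι ≫ f) := by
      rw [Flat.iff_flat_stalkMap]
      intro z
      rw [flat_stalkMap_ι_comp_iff]
      exact z.2.2
    exact Etale.iff_flat_and_formallyUnramified.mpr ⟨hflat, hfu, inferInstance⟩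

end Groth.Agent.Helper16.HomFibCrit
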