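import Mathlib
import Groth.Prelude
import Groth.Agent.Lib.Helper21.CPF11
import Groth.Agent.Lib.Helper16.Sch.SmFibPt6
import Groth.Agent.Lib.Helper16.Sch.SmoothLocusBC3
import Groth.Agent.Lib.Helper16.Sch.UnramLocus
import Groth.Agent.Lib.Helper16.Sch.FibNear
import Groth.Agent.Lib.Helper16.Sch.HomFibA
import Groth.Agent.Lib.Helper16.Sch.HomFibA2

set_option autoImplicit false
set_option linter.style.haveILetI false
universe u
open CategoryTheory CategoryTheory.Limits AlgebraicGeometry Opposite TopologicalSpace Topology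

noncomputable section

namespace Groth.Agent.Helper16.HomFibCrit

variable {X Y S : Scheme.{u}}

theorem lfp_of_comp (f : X ⟶ Y) (p : X ⟶ S) (g : Y ⟶ S) (w : f ≫ g = p)
    [LocallyOfFinitePresentation p] [LocallyOfFiniteType g] : LocallyOfFinitePresentation f := by
  subst w
  exact Groth.Agent.Helper7.locallyOfFinitePresentation_of_comp f g inferInstance inferInstance

/-- **fibrewise smoothness at a point** (source flat over the base at the point; target only
locally of finite type). -/
theorem exists_smooth_nhd_iff_fibre (f : X ⟶ Y) (p : X ⟶ S) (g : Y ⟶ S) (w : f ≫ g = p)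
    [LocallyOfFinitePresentation p] [LocallyOfFiniteType g] (x : X)
    (hflat : (p.stalkMap x).hom.Flat) :
    (∃ W : X.Opens, x ∈ W ∧ Smooth (W.ι ≫ f)) ↔
      ∃ V : (p.fiber (p x)).Opens, p.asFiber x ∈ V ∧
        Smooth (V.ι ≫ CohIII.fiberMapOver f p g w (p x)) := by
  have hf : LocallyOfFinitePresentation f := lfp_of_comp f p g w
  have sq := FibNear.isPullback_fiberMapOver f p g w (p x)
  have hF : LocallyOfFinitePresentation (CohIII.fiberMapOver f p g w (p x)) :=
    MorphismProperty.of_isPullback sq ‹_›
  constructor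
  · intro H
    apply EtFibPt.exists_nhd_fibre_of_exists_nhd (P := @Smooth) g p f w (p x) (p.asFiber x)
    rwa [Scheme.Hom.fiberι_asFiber]
  · intro H
    rw [exists_smooth_nhd_iff_mem_smoothLocus] at H ⊢
    have h1 : ((CohIII.fiberMapOver f p g w (p x)).stalkMap (p.asFiber x)).hom.Flat :=
      SmoothFibreSch.flat_stalkMap_of_mem_smoothLocus _ _ H
    have h2 : (f.stalkMap x).hom.Flat := (flat_stalkMap_iff_fibre f p g w x hflat).mpr h1
    have h3 := SmoothLocusBC.mem_smoothLocus_of_isPullback_of_flat_at sq (p.asFiber x) H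
      (by rwa [Scheme.Hom.fiberι_asFiber])
    rwa [Scheme.Hom.fiberι_asFiber] at h3

/-- **fibrewise étaleness at a point** (source flat over the base at the point; target only
locally of finite type). -/
theorem exists_etale_nhd_iff_fibre (f : X ⟶ Y) (p : X ⟶ S) (g : Y ⟶ S) (w : f ≫ g = p)
    [LocallyOfFinitePresentation p] [LocallyOfFiniteType g] (x : X)
    (hflat : (p.stalkMap x).hom.Flat) :
    (∃ W : X.Opens, x ∈ W ∧ Etale (W.ι ≫ f)) ↔
      ∃ V : (p.fiber (p x)).Opens, p.asFiber x ∈ V ∧
        Etale (V.ι ≫ CohIII.fiberMapOver f p g w (p x)) := by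
  have hf : LocallyOfFinitePresentation f := lfp_of_comp f p g w
  have sq := FibNear.isPullback_fiberMapOver f p g w (p x)
  have hF : LocallyOfFinitePresentation (CohIII.fiberMapOver f p g w (p x)) :=
    MorphismProperty.of_isPullback sq ‹_›
  rw [exists_etale_nhd_iff, exists_etale_nhd_iff, flat_stalkMap_iff_fibre f p g w x hflat,
    UnramLocus.unrAt_iff_of_isPullback sq (p.asFiber x), Scheme.Hom.fiberι_asFiber]

end Groth.Agent.Helper16.HomFibCrit
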