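import Mathlib
import Groth.Prelude
import Groth.Agent.Lib.Helper16.Sch.OrbitFlat
import Groth.Agent.Lib.Helper16.Sch.HomFibA3
import Groth.Agent.Lib.Helper16.Sch.SmoothLocusBC2

set_option autoImplicit false
set_option linter.style.haveILetI false
universe u
open CategoryTheory CategoryTheory.Limits AlgebraicGeometry Opposite TopologicalSpace Topology
  MonoidalCategory CartesianMonoidalCategory MonObj GrpObj

noncomputable section

namespace Groth.Agent.Helper16.HomFibCrit

open Groth.Agent.Helper16.OrbitFlat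

variable {S : Scheme.{u}} {G H : Over S} [GrpObj G] [GrpObj H]

/-- **Homogeneity**: over a one-point base, a pointwise property of morphisms that is invariant
under flat base change holds at all points of a homomorphism as soon as it holds at one. -/
theorem homog [Subsingleton S] [Flat G.hom] (u : G ⟶ H) [IsMonHom u]
    [LocallyOfFinitePresentation u.left]
    (P : ∀ {X Y : Scheme.{u}} (_ : X ⟶ Y), X → Prop)
    (hP : ∀ {X Y X' Y' : Scheme.{u}} {f : X ⟶ Y} {g : Y' ⟶ Y} {f' : X' ⟶ Y'} {g' : X' ⟶ X},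
      IsPullback g' f' f g → Flat g → LocallyOfFinitePresentation f →
        ∀ x' : X', P f' x' ↔ P f (g' x'))
    (x₁ x₂ : G.left) (h : P u.left x₁) : P u.left x₂ := by
  have e := orbitMap_restrict u
  obtain ⟨w, hw1, hw2⟩ := exists_point x₁ x₂
  have hlfp : LocallyOfFinitePresentation (((selfAct H).restrict u).orbitMap η[H]).left := by
    rw [e]; infer_instance
  have h0 : P (((selfAct H).restrict u).orbitMap η[H]).left x₁ := by rw [e]; exact h
  have h1 := (hP (isPullback_snd_left ((selfAct H).restrict u) η[H]) (flat_snd_left G H) hlfp w).mpr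
    (by rw [hw1]; exact h0)
  have h2 := (hP (isPullback_mul_left ((selfAct H).restrict u) η[H])
    (flat_act_left ((selfAct H).restrict u)) hlfp w).mp h1
  rw [hw2, e] at h2
  exact h2

theorem hP_flat {X Y X' Y' : Scheme.{u}} {f : X ⟶ Y} {g : Y' ⟶ Y} {f' : X' ⟶ Y'} {g' : X' ⟶ X}
    (H : IsPullback g' f' f g) (hg : Flat g) (x' : X') :
    (f'.stalkMap x').hom.Flat ↔ (f.stalkMap (g' x')).hom.Flat :=
  FlatPt.stalkFlat_iff H x'

theorem hP_smooth {X Y X' Y' : Scheme.{u}} {f : X ⟶ Y} {g : Y' ⟶ Y} {f' : X' ⟶ Y'} {g' : X' ⟶ X}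
    (H : IsPullback g' f' f g) (hg : Flat g) (hf : LocallyOfFinitePresentation f) (x' : X') :
    (∃ W : X'.Opens, x' ∈ W ∧ Smooth (W.ι ≫ f')) ↔
      ∃ W : X.Opens, g' x' ∈ W ∧ Smooth (W.ι ≫ f) := by
  have hf' : LocallyOfFinitePresentation f' := MorphismProperty.of_isPullback H ‹_›
  rw [exists_smooth_nhd_iff_mem_smoothLocus, exists_smooth_nhd_iff_mem_smoothLocus,
    SmoothLocusBC.smoothLocus_eq_preimage_of_flat H]
  rfl

theorem hP_etale {X Y X' Y' : Scheme.{u}} {f : X ⟶ Y} {g : Y' ⟶ Y} {f' : X' ⟶ Y'} {g' : X' ⟶ X}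
    (H : IsPullback g' f' f g) (hg : Flat g) (hf : LocallyOfFinitePresentation f) (x' : X') :
    (∃ W : X'.Opens, x' ∈ W ∧ Etale (W.ι ≫ f')) ↔
      ∃ W : X.Opens, g' x' ∈ W ∧ Etale (W.ι ≫ f) := by
  have hf' : LocallyOfFinitePresentation f' := MorphismProperty.of_isPullback H ‹_›
  rw [exists_etale_nhd_iff, exists_etale_nhd_iff, FlatPt.stalkFlat_iff H x',
    UnramLocus.unrAt_iff_of_isPullback H x']

end Groth.Agent.Helper16.HomFibCrit
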