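import Mathlib
import Groth.Prelude
import Groth.Agent.Lib.Helper16.Sch.HomFibB
import Groth.Agent.Lib.Helper16.Sch.ImmSub

set_option autoImplicit false
set_option linter.style.haveILetI false
universe u
open CategoryTheory CategoryTheory.Limits AlgebraicGeometry Opposite TopologicalSpace Topology
  MonoidalCategory CartesianMonoidalCategory MonObj GrpObj

noncomputable section

namespace Groth.Agent.Helper16.HomFibCrit

variable {S : Scheme.{u}} {G H : Over S}

theorem map_left_eq (u : G ⟶ H) (s : S) :
    ((Over.pullback (S.fromSpecResidueField s)).map u).left =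
      CohIII.fiberMapOver u.left G.hom H.hom (Over.w u) s := by
  unfold CohIII.fiberMapOver
  apply pullback.hom_ext
  · exact (pullback.lift_fst _ _ _).trans (pullback.lift_fst _ _ _).symm
  · exact (pullback.lift_snd _ _ _).trans
      ((pullback.lift_snd _ _ _).trans (Category.comp_id _)).symm

instance subsingleton_specResidueField (s : S) : Subsingleton ↥(Spec (S.residueField s)) :=
  inferInstanceAs (Subsingleton (PrimeSpectrum (S.residueField s)))

variable [GrpObj G] [GrpObj H]


omit [GrpObj G] in
theorem flat_bc [Flat G.hom] (s : S) :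
    Flat ((Over.pullback (S.fromSpecResidueField s)).obj G).hom := by
  show Flat (pullback.snd _ _)
  infer_instance

omit [GrpObj G] [GrpObj H] in
theorem lfp_left (u : G ⟶ H) [LocallyOfFinitePresentation G.hom] [LocallyOfFiniteType H.hom] :
    LocallyOfFinitePresentation u.left :=
  lfp_of_comp u.left G.hom H.hom (Over.w u)

omit [GrpObj G] [GrpObj H] in
theorem lfp_map_left (u : G ⟶ H) [LocallyOfFinitePresentation G.hom] [LocallyOfFiniteType H.hom]
    (s : S) : LocallyOfFinitePresentation ((Over.pullback (S.fromSpecResidueField s)).map u).left := by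
  haveI := lfp_left u
  exact MorphismProperty.of_isPullback (ImmSub.isPullback_map u (S.fromSpecResidueField s)) ‹_›

theorem unit_hom (G : Over S) [GrpObj G] (s : S) : G.hom (η[G].left s) = s := by
  have h := Over.w η[G]
  have := congrArg (fun (f : S ⟶ S) => f s) h
  exact this

/-- **General assembly**: a pointwise property `P` invariant under flat base change, compatible
with passage to the fibres and with open locus, for a homomorphism of group schemes. -/
theorem main (u : G ⟶ H) [IsMonHom u] [Flat G.hom] [LocallyOfFinitePresentation G.hom]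
    [LocallyOfFiniteType H.hom]
    (P : ∀ {X Y : Scheme.{u}} (_ : X ⟶ Y), X → Prop)
    (Q : MorphismProperty Scheme.{u})
    (hP : ∀ {X Y X' Y' : Scheme.{u}} {f : X ⟶ Y} {g : Y' ⟶ Y} {f' : X' ⟶ Y'} {g' : X' ⟶ X},
      IsPullback g' f' f g → Flat g → LocallyOfFinitePresentation f →
        ∀ x' : X', P f' x' ↔ P f (g' x'))
    (hQ : ∀ {X Y : Scheme.{u}} (f : X ⟶ Y), LocallyOfFinitePresentation f →
      (Q f ↔ ∀ x, P f x))
    (hfib : ∀ x : G.left, P u.left x ↔
      P (CohIII.fiberMapOver u.left G.hom H.hom (Over.w u) (G.hom x)) (G.hom.asFiber x))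
    (hopen : IsOpen {x : G.left | P u.left x}) :
    IsOpen {s : S | Q ((Over.pullback (S.fromSpecResidueField s)).map u).left} ∧
    {x : G.left | P u.left x} = G.hom.base ⁻¹'
      {s : S | Q ((Over.pullback (S.fromSpecResidueField s)).map u).left} := by
  have key : ∀ x : G.left, P u.left x ↔
      Q ((Over.pullback (S.fromSpecResidueField (G.hom x))).map u).left := by
    intro x
    haveI := flat_bc (G := G) (G.hom x)
    haveI := lfp_map_left u (G.hom x)
    rw [hfib x, hQ _ (lfp_map_left u (G.hom x))]
    rw [← map_left_eq u (G.hom x)]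
    constructor
    · intro h z
      exact homog ((Over.pullback (S.fromSpecResidueField (G.hom x))).map u) P hP _ z h
    · intro h
      exact h _
  have h2 : {x : G.left | P u.left x} = G.hom.base ⁻¹'
      {s : S | Q ((Over.pullback (S.fromSpecResidueField s)).map u).left} := by
    ext x
    exact key x
  refine ⟨?_, h2⟩
  have h3 : {s : S | Q ((Over.pullback (S.fromSpecResidueField s)).map u).left} =
      (fun s : S => η[G].left s) ⁻¹' {x : G.left | P u.left x} := by
    ext s
    rw [h2]
    show _ ↔ Q ((Over.pullback (S.fromSpecResidueField (G.hom (η[G].left s)))).map u).left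
    rw [unit_hom G s]
    rfl
  rw [h3]
  exact hopen.preimage η[G].left.continuous

end Groth.Agent.Helper16.HomFibCrit
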