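import Mathlib
import Groth.Prelude
import Groth.Agent.Lib.Helper16.Sch.HomFibC

set_option autoImplicit false
set_option linter.style.haveILetI false
universe u
open CategoryTheory CategoryTheory.Limits AlgebraicGeometry Opposite TopologicalSpace Topology
  MonoidalCategory CartesianMonoidalCategory MonObj GrpObj

noncomputable section

namespace Groth.Agent.Helper16.HomFibCrit

theorem isOpen_setOf_exists_nhd {X Y : Scheme.{u}} (f : X ⟶ Y) (Q : MorphismProperty Scheme.{u}) :
    IsOpen {x : X | ∃ W : X.Opens, x ∈ W ∧ Q (W.ι ≫ f)} := by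
  rw [isOpen_iff_forall_mem_open]
  rintro x ⟨W, hxW, hW⟩
  exact ⟨W, fun y hy => ⟨W, hy, hW⟩, W.2, hxW⟩

theorem iff_forall_exists_nhd {X Y : Scheme.{u}} (f : X ⟶ Y) (Q : MorphismProperty Scheme.{u})
    [IsZariskiLocalAtSource Q] :
    Q f ↔ ∀ x : X, ∃ W : X.Opens, x ∈ W ∧ Q (W.ι ≫ f) := by
  constructor
  · intro h x
    exact ⟨⊤, trivial, IsZariskiLocalAtSource.comp h _⟩
  · intro h
    choose W hxW hW using h
    rw [IsZariskiLocalAtSource.iff_of_iSup_eq_top (P := Q) W]
    · exact hW
    · rw [eq_top_iff]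
      rintro x -
      simp only [TopologicalSpace.Opens.mem_iSup]
      exact ⟨x, hxW x⟩

variable {S : Scheme.{u}} {G H : Over S} [GrpObj G] [GrpObj H]

theorem main_flat (u : G ⟶ H) [IsMonHom u] [Flat G.hom] [LocallyOfFinitePresentation G.hom]
    [LocallyOfFiniteType H.hom] :
    IsOpen {s : S | Flat ((Over.pullback (S.fromSpecResidueField s)).map u).left} ∧
    {x : G.left | (u.left.stalkMap x).hom.Flat} = G.hom.base ⁻¹'
      {s : S | Flat ((Over.pullback (S.fromSpecResidueField s)).map u).left} := by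
  haveI := lfp_left u
  exact main u (fun f x => (f.stalkMap x).hom.Flat) @Flat
    (fun H hg _ x' => hP_flat H hg x')
    (fun f _ => Flat.iff_flat_stalkMap f)
    (fun x => flat_stalkMap_iff_fibre u.left G.hom H.hom (Over.w u) x (Flat.stalkMap G.hom x))
    (Groth.Agent.Helper21.FL.isOpen_flatLocus_scheme u.left)

theorem main_smooth (u : G ⟶ H) [IsMonHom u] [Flat G.hom] [LocallyOfFinitePresentation G.hom]
    [LocallyOfFiniteType H.hom] :
    IsOpen {s : S | Smooth ((Over.pullback (S.fromSpecResidueField s)).map u).left} ∧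
    {x : G.left | ∃ W : G.left.Opens, x ∈ W ∧ Smooth (W.ι ≫ u.left)} = G.hom.base ⁻¹'
      {s : S | Smooth ((Over.pullback (S.fromSpecResidueField s)).map u).left} := by
  exact main u (fun {X Y} f x => ∃ W : X.Opens, x ∈ W ∧ Smooth (W.ι ≫ f)) @Smooth
    (fun H hg hf x' => hP_smooth H hg hf x')
    (fun f _ => iff_forall_exists_nhd f @Smooth)
    (fun x => exists_smooth_nhd_iff_fibre u.left G.hom H.hom (Over.w u) x (Flat.stalkMap G.hom x))
    (isOpen_setOf_exists_nhd u.left @Smooth)

theorem main_etale (u : G ⟶ H) [IsMonHom u] [Flat G.hom] [LocallyOfFinitePresentation G.hom]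
    [LocallyOfFiniteType H.hom] :
    IsOpen {s : S | Etale ((Over.pullback (S.fromSpecResidueField s)).map u).left} ∧
    {x : G.left | ∃ W : G.left.Opens, x ∈ W ∧ Etale (W.ι ≫ u.left)} = G.hom.base ⁻¹'
      {s : S | Etale ((Over.pullback (S.fromSpecResidueField s)).map u).left} := by
  exact main u (fun {X Y} f x => ∃ W : X.Opens, x ∈ W ∧ Etale (W.ι ≫ f)) @Etale
    (fun H hg hf x' => hP_etale H hg hf x')
    (fun f _ => iff_forall_exists_nhd f @Etale)
    (fun x => exists_etale_nhd_iff_fibre u.left G.hom H.hom (Over.w u) x (Flat.stalkMap G.hom x))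
    (isOpen_setOf_exists_nhd u.left @Etale)

end Groth.Agent.Helper16.HomFibCrit
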