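import Mathlib
import Groth.Prelude
import Groth.Agent.Lib.Helper16.Sch.HomFibD

set_option autoImplicit false
set_option linter.style.haveILetI false
universe u
open CategoryTheory CategoryTheory.Limits AlgebraicGeometry Opposite TopologicalSpace Topology
  MonoidalCategory CartesianMonoidalCategory MonObj GrpObj

noncomputable section

namespace Groth.Agent.Helper16.HomFibCrit

/-- an étale universally injective morphism is an open immersion. -/
theorem isOpenImmersion_of_etale_of_universallyInjective {X Y : Scheme.{u}} (f : X ⟶ Y)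
    [Etale f] [UniversallyInjective f] : IsOpenImmersion f := by
  haveI : Surjective (pullback.diagonal f) := (UniversallyInjective.iff_diagonal f).mp ‹_›
  haveI : IsIso (pullback.diagonal f) :=
    (isIso_iff_isOpenImmersion_and_surjective _).mpr ⟨inferInstance, inferInstance⟩
  haveI : Mono f := (pullback.isIso_diagonal_iff f).mp inferInstance
  exact IsOpenImmersion.of_flat_of_mono f

theorem isOpenImmersion_iff_etale {X Y : Scheme.{u}} (f : X ⟶ Y) [UniversallyInjective f] :
    IsOpenImmersion f ↔ Etale f :=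
  ⟨fun _ => inferInstance, fun _ => isOpenImmersion_of_etale_of_universallyInjective f⟩

theorem exists_nhd_comp_of_exists_nhd {Q : MorphismProperty Scheme.{u}} [IsZariskiLocalAtSource Q]
    {T X Y : Scheme.{u}} (j : T ⟶ X) [IsOpenImmersion j] (f : X ⟶ Y) (t : T)
    (h : ∃ W : X.Opens, j t ∈ W ∧ Q (W.ι ≫ f)) : ∃ V : T.Opens, t ∈ V ∧ Q (V.ι ≫ j ≫ f) := by
  obtain ⟨W, htW, hW⟩ := h
  refine ⟨j ⁻¹ᵁ W, htW, ?_⟩
  rw [← Category.assoc, ← morphismRestrict_ι, Category.assoc]
  exact IsZariskiLocalAtSource.comp hW _

variable {S : Scheme.{u}} {G H : Over S} [GrpObj G] [GrpObj H]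

theorem main5317 (u : G ⟶ H) [IsMonHom u] [UniversallyInjective u.left]
    [Flat G.hom] [LocallyOfFinitePresentation G.hom] [LocallyOfFiniteType H.hom] :
    IsOpen {s : S | IsOpenImmersion ((Over.pullback (S.fromSpecResidueField s)).map u).left} ∧
    ∀ W : S.Opens, (W : Set S) ⊆
      {s : S | IsOpenImmersion ((Over.pullback (S.fromSpecResidueField s)).map u).left} →
      IsOpenImmersion ((G.hom ⁻¹ᵁ W).ι ≫ u.left) := by
  have hui : ∀ s : S, UniversallyInjective ((Over.pullback (S.fromSpecResidueField s)).map u).left :=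
    fun s => MorphismProperty.of_isPullback (ImmSub.isPullback_map u (S.fromSpecResidueField s)) ‹_›
  have hset : {s : S | IsOpenImmersion ((Over.pullback (S.fromSpecResidueField s)).map u).left} =
      {s : S | Etale ((Over.pullback (S.fromSpecResidueField s)).map u).left} := by
    ext s
    haveI := hui s
    exact isOpenImmersion_iff_etale _
  obtain ⟨h1, h2⟩ := main_etale u
  rw [hset]
  refine ⟨h1, fun W hW => ?_⟩
  haveI : UniversallyInjective ((G.hom ⁻¹ᵁ W).ι ≫ u.left) :=
    MorphismProperty.comp_mem _ _ _ inferInstance ‹_›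
  rw [isOpenImmersion_iff_etale, iff_forall_exists_nhd _ @Etale]
  intro z
  apply exists_nhd_comp_of_exists_nhd (Q := @Etale)
  have hz : (G.hom ⁻¹ᵁ W).ι z ∈ G.hom.base ⁻¹'
      {s : S | Etale ((Over.pullback (S.fromSpecResidueField s)).map u).left} := hW z.2
  rw [← h2] at hz
  exact hz

end Groth.Agent.Helper16.HomFibCrit
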