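import Mathlib
import Groth.Agent.Lib.Helper16.Sch.FlatPt
import Groth.Agent.Lib.Helper16.Alg.FlatTensorSelf

set_option autoImplicit false
set_option linter.style.haveILetI false
universe u
open CategoryTheory CategoryTheory.Limits AlgebraicGeometry Opposite TopologicalSpace Topology

namespace Groth.Agent.Helper16.KPFlat

open Groth.Agent.Helper16.SmoothLocusBC Groth.Agent.Helper16.FlatLocImm

/-- a flat morphism is injective on stalks. -/
theorem stalkMap_injective_of_flat {P Q : Scheme.{u}} (i : P ⟶ Q) [Flat i] (z : P) :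
    Function.Injective (i.stalkMap z).hom := by
  have h1 : (i.stalkMap z).hom.Flat := Flat.stalkMap i z
  algebraize [(i.stalkMap z).hom]
  haveI : IsLocalHom (algebraMap (Q.presheaf.stalk (i z)) (P.presheaf.stalk z)) :=
    inferInstanceAs (IsLocalHom (i.stalkMap z).hom)
  haveI : Module.FaithfullyFlat (Q.presheaf.stalk (i z)) (P.presheaf.stalk z) :=
    Module.FaithfullyFlat.of_flat_of_isLocalHom
  exact FaithfulSMul.algebraMap_injective _ _

variable {X Y : Scheme.{u}} (g : X ⟶ Y)

/-- vanishing of the germ of a pulled back section is independent of the point in the fibre,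
when the kernel pair of `g` has flat projections. -/
theorem germ_eq_zero_of_germ_eq_zero [Flat (pullback.fst g g)] [Flat (pullback.snd g g)]
    (V : Y.Opens) (s : Γ(Y, V)) (x₁ x₂ : X) (h₁ : g x₁ ∈ V) (h₂ : g x₂ ∈ V) (h : g x₁ = g x₂)
    (hz : X.presheaf.germ (g ⁻¹ᵁ V) x₁ h₁ (g.app V s) = 0) :
    X.presheaf.germ (g ⁻¹ᵁ V) x₂ h₂ (g.app V s) = 0 := by
  obtain ⟨w, hw1, hw2⟩ := Scheme.Pullback.exists_preimage_pullback (f := g) (g := g) x₁ x₂ h
  subst hw1 hw2
  apply stalkMap_injective_of_flat (pullback.snd g g) w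
  rw [map_zero]
  have F : ∀ (p : pullback g g ⟶ X) (q : pullback g g ⟶ Y) (hq : p ≫ g = q) (hp : g (p w) ∈ V)
      (hqw : q w ∈ V), (pullback g g).presheaf.germ (q ⁻¹ᵁ V) w hqw (q.app V s) =
        p.stalkMap w (X.presheaf.germ (g ⁻¹ᵁ V) (p w) hp (g.app V s)) := by
    intro p q hq hp hqw
    subst hq
    rw [Scheme.Hom.germ_stalkMap_apply]
    rfl
  have hq1 : (pullback.fst g g ≫ g) w ∈ V := h₁
  have e1 := F (pullback.fst g g) (pullback.fst g g ≫ g) rfl h₁ hq1
  have e2 := F (pullback.snd g g) (pullback.fst g g ≫ g) pullback.condition.symm h₂ hq1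
  rw [← e2, e1]
  erw [hz]
  exact map_zero _

omit g in
theorem germ_app_comp {W X Y : Scheme.{u}} (p : W ⟶ X) (g : X ⟶ Y) (q : W ⟶ Y) (hq : p ≫ g = q)
    (V : Y.Opens) (s : Γ(Y, V)) (w : W) (hp : g (p w) ∈ V) (hqw : q w ∈ V) :
    W.presheaf.germ (q ⁻¹ᵁ V) w hqw (q.app V s) =
      p.stalkMap w (X.presheaf.germ (g ⁻¹ᵁ V) (p w) hp (g.app V s)) := by
  subst hq
  rw [Scheme.Hom.germ_stalkMap_apply]
  rfl

/-- for a quasi-compact schematically dominant morphism whose kernel pair has flat projections,
the stalk maps at points over maximal points are injective. -/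
theorem stalkMap_injective_of_maximal [QuasiCompact g] [IsSchemeTheoreticallyDominant g]
    [Flat (pullback.fst g g)] [Flat (pullback.snd g g)] (x : X)
    (hmax : ∀ y' : Y, y' ⤳ g x → y' = g x) : Function.Injective (g.stalkMap x).hom := by
  rw [injective_iff_map_eq_zero]
  intro a ha
  obtain ⟨V, hyV, s, rfl⟩ := Y.presheaf.exists_germ_eq a
  erw [Scheme.Hom.germ_stalkMap_apply] at ha
  haveI : Flat (Y.fromSpecStalk (g x)) := flat_fromSpecStalk Y (g x)
  have hinj := Scheme.Hom.app_injective (pullback.snd g (Y.fromSpecStalk (g x)))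
    ((Y.fromSpecStalk (g x)) ⁻¹ᵁ V)
  have hzero : (pullback.snd g (Y.fromSpecStalk (g x))).app ((Y.fromSpecStalk (g x)) ⁻¹ᵁ V)
      ((Y.fromSpecStalk (g x)).app V s) = 0 := by
    apply TopCat.Presheaf.section_ext (pullback g (Y.fromSpecStalk (g x))).sheaf
    intro z hz
    refine Eq.trans ?_ (map_zero _).symm
    have hgz : g ((pullback.fst g (Y.fromSpecStalk (g x))) z) = g x := by
      apply hmax
      have h1 : g ((pullback.fst g (Y.fromSpecStalk (g x))) z) =
          (Y.fromSpecStalk (g x)) ((pullback.snd g (Y.fromSpecStalk (g x))) z) := by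
        rw [← Scheme.Hom.comp_apply, ← Scheme.Hom.comp_apply, pullback.condition]
      rw [h1]
      have h2 : (Y.fromSpecStalk (g x)) ((pullback.snd g (Y.fromSpecStalk (g x))) z) ∈
          Set.range (Y.fromSpecStalk (g x)) := ⟨_, rfl⟩
      rw [Scheme.range_fromSpecStalk] at h2
      exact h2
    have hpz : g ((pullback.fst g (Y.fromSpecStalk (g x))) z) ∈ V := by rw [hgz]; exact hyV
    have e1 := germ_app_comp (pullback.fst g (Y.fromSpecStalk (g x))) g
      (pullback.snd g (Y.fromSpecStalk (g x)) ≫ Y.fromSpecStalk (g x)) pullback.condition V s z hpz hz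
    have e2 := germ_eq_zero_of_germ_eq_zero g V s x _ hyV hpz hgz.symm ha
    rw [e2, map_zero] at e1
    exact e1
  have h3 : (Y.fromSpecStalk (g x)).app V s = 0 := hinj (by rw [hzero, map_zero])
  -- now take germs at the closed point
  have hcp : (Y.fromSpecStalk (g x)) (IsLocalRing.closedPoint (Y.presheaf.stalk (g x))) = g x :=
    Scheme.fromSpecStalk_closedPoint
  have key : ∀ (y : Y) (hy : y ∈ V),
      y = (Y.fromSpecStalk (g x)) (IsLocalRing.closedPoint (Y.presheaf.stalk (g x))) →
      Y.presheaf.germ V y hy s = 0 := by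
    rintro y hy rfl
    apply stalkMap_injective_of_flat (Y.fromSpecStalk (g x))
    erw [Scheme.Hom.germ_stalkMap_apply]
    rw [h3, map_zero, map_zero]
  exact key (g x) hyV hcp.symm

omit g in
/-- postcomposing both legs of a pullback square with a monomorphism. -/
theorem isPullback_comp_mono {C : Type*} [Category C] {P A A' Z W : C} {fst : P ⟶ A}
    {snd : P ⟶ A'} {f : A ⟶ Z} {f' : A' ⟶ Z} (h : IsPullback fst snd f f') (i : Z ⟶ W) [Mono i] :
    IsPullback fst snd (f ≫ i) (f' ≫ i) := by
  refine ⟨⟨by rw [← Category.assoc, h.w, Category.assoc]⟩, ⟨PullbackCone.IsLimit.mk _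
    (fun c => h.lift c.fst c.snd (by
      rw [← cancel_mono i, Category.assoc, Category.assoc]; exact c.condition)) ?_ ?_ ?_⟩⟩
  · intro c; exact h.lift_fst _ _ _
  · intro c; exact h.lift_snd _ _ _
  · intro c m h1 h2
    apply h.hom_ext
    · rw [h1, h.lift_fst]
    · rw [h2, h.lift_snd]

/-- if the first projection of the kernel pair of `g` is flat, so is the first projection of
`A ×_Y A'` for `A → X` arbitrary and `A' → X` flat. -/
theorem flat_fst_comp [Flat (pullback.fst g g)] {A A' : Scheme.{u}} (a : A ⟶ X) (b : A' ⟶ X)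
    [Flat b] : Flat (pullback.fst (a ≫ g) (b ≫ g)) := by
  -- step A
  have h0 := IsPullback.of_hasPullback g g
  have h1 := IsPullback.of_hasPullback g (b ≫ g)
  have hA := IsPullback.of_right' h1 h0
  haveI : Flat (h0.lift (pullback.fst g (b ≫ g)) (pullback.snd g (b ≫ g) ≫ b)
      (by rw [h1.w, Category.assoc])) := MorphismProperty.of_isPullback hA.flip inferInstance
  haveI : Flat (pullback.fst g (b ≫ g)) := by
    rw [← h0.lift_fst (pullback.fst g (b ≫ g)) (pullback.snd g (b ≫ g) ≫ b)
      (by rw [h1.w, Category.assoc])]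
    infer_instance
  -- step B
  have hP := IsPullback.of_hasPullback (a ≫ g) (b ≫ g)
  have hB := IsPullback.of_right' hP.flip h1.flip
  exact MorphismProperty.of_isPullback hB inferInstance

open TensorProduct in
/-- **Flatness at points over maximal points.** Let `g : X ⟶ Y` be quasi-compact and
schematically dominant, with `Y` locally noetherian, and suppose both projections of the kernel
pair `X ×_Y X ⇉ X` are flat. Then `g` is flat at every point lying over a maximal point. -/
theorem stalkMap_flat_of_maximal [QuasiCompact g] [IsSchemeTheoreticallyDominant g]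
    [Flat (pullback.fst g g)] [Flat (pullback.snd g g)] [IsLocallyNoetherian Y] (x : X)
    (hmax : ∀ y' : Y, y' ⤳ g x → y' = g x) : (g.stalkMap x).hom.Flat := by
  have hinj := stalkMap_injective_of_maximal g x hmax
  -- the stalk at a maximal point is artinian
  haveI : Subsingleton (PrimeSpectrum (Y.presheaf.stalk (g x))) := by
    have key : ∀ p : ↥(Spec (Y.presheaf.stalk (g x))), p = IsLocalRing.closedPoint _ := by
      intro p
      apply (Y.fromSpecStalk (g x)).isEmbedding.injective
      rw [Scheme.fromSpecStalk_closedPoint]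
      apply hmax
      have : Y.fromSpecStalk (g x) p ∈ Set.range (Y.fromSpecStalk (g x)) := ⟨p, rfl⟩
      rw [Scheme.range_fromSpecStalk] at this
      exact this
    exact ⟨fun a b => (key a).trans (key b).symm⟩
  haveI : Ring.KrullDimLE 0 (Y.presheaf.stalk (g x)) := by
    rw [Ring.krullDimLE_zero_iff]
    intro I hI
    have : (⟨I, hI⟩ : PrimeSpectrum (Y.presheaf.stalk (g x))) = IsLocalRing.closedPoint _ :=
      Subsingleton.elim _ _
    have h2 : I = IsLocalRing.maximalIdeal _ := congrArg PrimeSpectrum.asIdeal this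
    rw [h2]
    infer_instance
  haveI : IsArtinianRing (Y.presheaf.stalk (g x)) :=
    isArtinianRing_iff_isNoetherianRing_krullDimLE_zero.mpr ⟨inferInstance, inferInstance⟩
  -- flatness of the self tensor product
  haveI : Flat (X.fromSpecStalk x) := flat_fromSpecStalk X x
  have hfl : Flat (pullback.fst (X.fromSpecStalk x ≫ g) (X.fromSpecStalk x ≫ g)) :=
    flat_fst_comp g _ _
  rw [← Scheme.SpecMap_stalkMap_fromSpecStalk] at hfl
  have hP := isPullback_comp_mono (IsPullback.of_hasPullback (Spec.map (g.stalkMap x))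
    (Spec.map (g.stalkMap x))) (Y.fromSpecStalk (g x))
  have hfl2 : Flat (pullback.fst (Spec.map (g.stalkMap x)) (Spec.map (g.stalkMap x))) := by
    rw [← hP.isoPullback_hom_fst]
    infer_instance
  algebraize [(g.stalkMap x).hom]
  have hfl3 : Flat (Spec.map (CommRingCat.ofHom (algebraMap (X.presheaf.stalk x)
      ((X.presheaf.stalk x) ⊗[Y.presheaf.stalk (g x)] (X.presheaf.stalk x))))) := by
    rw [← pullbackSpecIso_inv_fst']
    have : Flat (pullback.fst
        (Spec.map (CommRingCat.ofHom (algebraMap (Y.presheaf.stalk (g x)) (X.presheaf.stalk x))))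
        (Spec.map (CommRingCat.ofHom (algebraMap (Y.presheaf.stalk (g x)) (X.presheaf.stalk x))))) :=
      hfl2
    infer_instance
  rw [HasRingHomProperty.Spec_iff (P := @Flat)] at hfl3
  haveI : Module.Flat (X.presheaf.stalk x)
      ((X.presheaf.stalk x) ⊗[Y.presheaf.stalk (g x)] (X.presheaf.stalk x)) :=
    RingHom.flat_algebraMap_iff.mp hfl3
  show Module.Flat (Y.presheaf.stalk (g x)) (X.presheaf.stalk x)
  exact FlatTensorSelf.flat_of_flat_tensor hinj

end Groth.Agent.Helper16.KPFlat
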