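import Mathlib
import Groth.Prelude
import Groth.Agent.Lib.Helper16.Sch.KPFlat
import Groth.Agent.Lib.Helper16.Sch.GrpSurj
import Groth.Agent.Lib.Helper18.GrpDesc

set_option autoImplicit false
set_option linter.style.haveILetI false
universe u
open CategoryTheory CategoryTheory.Limits AlgebraicGeometry Opposite TopologicalSpace Topology
  MonoidalCategory CartesianMonoidalCategory MonObj GrpObj

noncomputable section

namespace Groth.Agent.Helper16.HomFlat

open Groth.Agent.Helper14 Groth.Agent.Helper16

section
variable {S : Scheme.{u}} {G K : Over S} [GrpObj G] [GrpObj K] (g : G ⟶ K) [IsMonHom g]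

/-- **Flatness of schematically dominant homomorphisms** (one-point base): a quasi-compact
schematically dominant homomorphism `G → K`, with `G` flat over the base, `K` locally noetherian,
and flat kernel pair projections, is flat. -/
theorem flat_of_schDominant [Subsingleton S] [Flat G.hom] [QuasiCompact g.left]
    [IsSchemeTheoreticallyDominant g.left] [IsLocallyNoetherian K.left]
    [Flat (pullback.fst g.left g.left)] [Flat (pullback.snd g.left g.left)] (s : S) :
    Flat g.left := by
  obtain ⟨y, -, hy⟩ := GrpSurj.exists_isMaxPt ((η[K] : 𝟙_ (Over S) ⟶ K).left s)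
  haveI : IsDominant g.left := inferInstance
  obtain ⟨x, hx⟩ := hy.mem_range g.left g.left.denseRange
  have hflat : (g.left.stalkMap x).hom.Flat :=
    KPFlat.stalkMap_flat_of_maximal g.left x (by rw [hx]; exact hy)
  have e' := OrbitFlat.orbitMap_restrict g
  have := OrbitFlat.flat_orbitMap ((OrbitFlat.selfAct K).restrict g) η[K]
    ⟨x, by rw [e']; exact hflat⟩
  rwa [e'] at this

/-- the kernel pair of a homomorphism with flat kernel has flat projections. -/
theorem flat_kernelPair {N : Over S} (i : N ⟶ G) (hK : AlgGrp.IsKernel i g) [Flat N.hom] :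
    Flat (pullback.fst g.left g.left) ∧ Flat (pullback.snd g.left g.left) := by
  have h0 := Groth.Agent.Helper18.GrpFppf.isPullback_mul_of_isKernel g i hK (𝟙 G)
  have hP : IsPullback (lift (fst G N ≫ 𝟙 G) (snd G N ≫ i) ≫ μ[G]).left (fst G N).left g.left
      (𝟙 G ≫ g).left := Groth.Agent.Helper18.GrpFppf.isPullback_left h0
  rw [Category.id_comp] at hP
  haveI : Flat (fst G N).left := by
    show Flat (pullback.fst G.hom N.hom); infer_instance
  constructor
  · rw [← hP.flip.isoPullback_inv_fst]
    infer_instance
  · rw [← hP.isoPullback_inv_snd]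
    infer_instance

end

/-- over a field: a quasi-compact schematically dominant homomorphism to a locally of finite type
group scheme is flat. -/
theorem flat_of_schDominant_field {k : Type u} [Field k] {G K : Over (Spec (CommRingCat.of k))}
    [GrpObj G] [GrpObj K] (g : G ⟶ K) [IsMonHom g] [QuasiCompact g.left]
    [IsSchemeTheoreticallyDominant g.left] [LocallyOfFiniteType K.hom] : Flat g.left := by
  haveI : Subsingleton ↥(Spec (CommRingCat.of k)) := inferInstanceAs (Subsingleton (PrimeSpectrum k))
  haveI : IsLocallyNoetherian K.left := LocallyOfFiniteType.isLocallyNoetherian K.hom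
  haveI : Flat G.hom := inferInstance
  have hK : AlgGrp.IsKernel (pullback.fst g η[K]) g := by
    have := IsPullback.of_hasPullback g η[K]
    rwa [show pullback.snd g η[K] = toUnit _ from toUnit_unique _ _] at this
  haveI : Flat (pullback g η[K]).hom := inferInstance
  obtain ⟨h1, h2⟩ := flat_kernelPair g (pullback.fst g η[K]) hK
  exact flat_of_schDominant g (show PrimeSpectrum k from ⊥)

end Groth.Agent.Helper16.HomFlat
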