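import Mathlib
import Groth.Prelude
import Groth.Agent.Lib.Helper16.Sch.HomFlat
import Groth.Agent.Lib.Helper16.Sch.ImmSub
import Groth.Agent.Lib.Helper18.SchImgGrp3

set_option autoImplicit false
set_option linter.style.haveILetI false
universe u
open CategoryTheory CategoryTheory.Limits AlgebraicGeometry Opposite TopologicalSpace Topology
  MonoidalCategory CartesianMonoidalCategory MonObj GrpObj

noncomputable section

namespace Groth.Agent.Helper16.HomMono

open Groth.Agent.Helper14 Groth.Agent.Helper16

/-- over a field: factorization of a quasi-compact homomorphism into a faithfully flat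
homomorphism followed by a closed immersion. -/
theorem exists_factor_field (k : Type u) [Field k] (G H : Over (Spec (CommRingCat.of k)))
    [GrpObj G] [GrpObj H] [LocallyOfFiniteType H.hom] (u : G ⟶ H) [IsMonHom u]
    [QuasiCompact u.left] :
    ∃ (C : Over (Spec (CommRingCat.of k))) (_ : GrpObj C) (p : G ⟶ C) (i : C ⟶ H),
      IsMonHom p ∧ IsMonHom i ∧ p ≫ i = u ∧ Flat p.left ∧ Surjective p.left ∧
        QuasiCompact p.left ∧ IsClosedImmersion i.left ∧ LocallyOfFiniteType C.hom := by
  obtain ⟨H', _, i, f', hi, hf', hfi, hci, hker, hqc, hsurj⟩ :=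
    Groth.Agent.Helper18.SchImgGrp.main3 k G H u
  haveI := hi
  haveI := hf'
  haveI := hci
  haveI := hqc
  haveI : IsSchemeTheoreticallyDominant f'.left := ⟨hker⟩
  haveI : LocallyOfFiniteType H'.hom := by rw [← Over.w i]; infer_instance
  exact ⟨H', inferInstance, f', i, hf', hi, hfi, HomFlat.flat_of_schDominant_field f', hsurj, hqc,
    hci, inferInstance⟩

theorem isClosedImmersion_of_mono_field (k : Type u) [Field k]
    (G H : Over (Spec (CommRingCat.of k))) [GrpObj G] [GrpObj H] [LocallyOfFiniteType H.hom]
    (u : G ⟶ H) [IsMonHom u] [Mono u] [QuasiCompact u.left] : IsClosedImmersion u.left := by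
  obtain ⟨C, _, p, i, hp, hi, hpi, hfl, hsurj, hqc, hci, -⟩ := exists_factor_field k G H u
  haveI := hfl
  haveI := hsurj
  haveI := hqc
  haveI := hci
  haveI : Mono p := mono_of_mono_fac hpi
  haveI : Mono p.left := inferInstance
  haveI : IsIso p.left := Flat.isIso_of_surjective_of_mono p.left
  rw [← hpi, Over.comp_left]
  infer_instance

open Groth.Agent.Helper16.ImmSub in
theorem main3036 (A : Type u) [CommRing A] [IsArtinianRing A] [IsLocalRing A]
    (G H : Over (Spec (CommRingCat.of A))) [GrpObj G] [GrpObj H] [LocallyOfFiniteType G.hom]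
    [LocallyOfFiniteType H.hom] (u : G ⟶ H) [IsMonHom u] [Mono u] [QuasiCompact u.left] :
    IsClosedImmersion u.left := by
  let c : Spec (CommRingCat.of (IsLocalRing.ResidueField A)) ⟶ Spec (CommRingCat.of A) :=
    Spec.map (CommRingCat.ofHom (IsLocalRing.residue A))
  haveI : IsClosedImmersion c :=
    IsClosedImmersion.spec_of_surjective _ IsLocalRing.residue_surjective
  haveI : Subsingleton ↥(Spec (CommRingCat.of A)) := Ring.KrullDimLE.subsingleton_primeSpectrum A
  haveI : Surjective c := ⟨fun y => ⟨IsLocalRing.closedPoint _, Subsingleton.elim _ _⟩⟩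
  have hsq := isPullback_map u c
  haveI : QuasiCompact ((Over.pullback c).map u).left := MorphismProperty.of_isPullback hsq ‹_›
  haveI : LocallyOfFiniteType ((Over.pullback c).obj H).hom := by
    show LocallyOfFiniteType (pullback.snd H.hom c)
    infer_instance
  haveI : Mono ((Over.pullback c).map u) := inferInstance
  haveI hk : IsClosedImmersion ((Over.pullback c).map u).left :=
    isClosedImmersion_of_mono_field (IsLocalRing.ResidueField A) _ _ ((Over.pullback c).map u)
  haveI : Mono u.left := inferInstance
  rw [IsClosedImmersion.iff_isProper_and_mono]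
  refine ⟨?_, inferInstance⟩
  haveI : Surjective (pullback.fst G.hom c) := inferInstance
  haveI : UniversallyClosed (pullback.fst G.hom c ≫ u.left) := by
    rw [hsq.w]; infer_instance
  haveI : UniversallyClosed u.left :=
    UniversallyClosed.of_comp_surjective (pullback.fst G.hom c) u.left
  haveI : LocallyOfFiniteType (u.left ≫ H.hom) := by rw [Over.w]; infer_instance
  haveI : LocallyOfFiniteType u.left := locallyOfFiniteType_of_comp u.left H.hom
  exact {}

end Groth.Agent.Helper16.HomMono
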