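import Mathlib
import Groth.Prelude
import Groth.Agent.Lib.Helper16.Sch.HomMono

set_option autoImplicit false
set_option linter.style.haveILetI false
universe u
open CategoryTheory CategoryTheory.Limits AlgebraicGeometry Opposite TopologicalSpace Topology
  MonoidalCategory CartesianMonoidalCategory MonObj GrpObj

noncomputable section

namespace Groth.Agent.Helper16.HomKer

open Groth.Agent.Helper14 Groth.Agent.Helper16

/-- cancelling a monomorphism from both legs of a pullback square. -/
theorem isPullback_of_comp_mono {C : Type*} [Category C] {P A A' Z W : C} {fst : P ⟶ A}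
    {snd : P ⟶ A'} {f : A ⟶ Z} {f' : A' ⟶ Z} (i : Z ⟶ W) [Mono i]
    (h : IsPullback fst snd (f ≫ i) (f' ≫ i)) : IsPullback fst snd f f' := by
  have hw : fst ≫ f = snd ≫ f' := by
    rw [← cancel_mono i, Category.assoc, Category.assoc]; exact h.w
  refine ⟨⟨hw⟩, ⟨PullbackCone.IsLimit.mk _
    (fun c => h.lift c.fst c.snd (by
      rw [← Category.assoc, c.condition, Category.assoc])) ?_ ?_ ?_⟩⟩
  · intro c; exact h.lift_fst _ _ _
  · intro c; exact h.lift_snd _ _ _
  · intro c m h1 h2
    apply h.hom_ext
    · rw [h1, h.lift_fst]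
    · rw [h2, h.lift_snd]

section
variable {S : Scheme.{u}} {G H : Over S} [GrpObj G] [GrpObj H] (u : G ⟶ H) [IsMonHom u]

/-- the kernel of `u` as an object of `Over S`, built from the fibre product of schemes. -/
def ker : Over S := Over.mk (pullback.fst u.left (η[H] : 𝟙_ (Over S) ⟶ H).left ≫ G.hom)

def kerι : ker u ⟶ G := Over.homMk (pullback.fst u.left (η[H] : 𝟙_ (Over S) ⟶ H).left) rfl

omit [GrpObj G] [IsMonHom u] in
theorem ker_hom : (ker u).hom = pullback.snd u.left (η[H] : 𝟙_ (Over S) ⟶ H).left := by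
  show pullback.fst u.left (η[H] : 𝟙_ (Over S) ⟶ H).left ≫ G.hom = _
  rw [← Over.w u, ← Category.assoc, pullback.condition, Category.assoc, Over.w]
  exact Category.comp_id _

omit [GrpObj G] [IsMonHom u] in
theorem isKernel_kerι : AlgGrp.IsKernel (kerι u) u := by
  unfold AlgGrp.IsKernel
  apply IsPullback.of_map_of_faithful (F := Over.forget S)
  have h := IsPullback.of_hasPullback u.left (η[H] : 𝟙_ (Over S) ⟶ H).left
  have e : (Over.forget S).map (toUnit (ker u)) =
      pullback.snd u.left (η[H] : 𝟙_ (Over S) ⟶ H).left := by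
    have := Over.w (toUnit (ker u))
    rw [ker_hom] at this
    rw [← this]
    exact (Category.comp_id _).symm
  rw [e]
  exact h

omit [GrpObj G] [IsMonHom u] in
/-- the kernel of `p` when `u = p ≫ i` with `i` a monomorphic homomorphism. -/
theorem isKernel_of_comp_mono {N C : Over S} [GrpObj C] (i₀ : N ⟶ G) (hK : AlgGrp.IsKernel i₀ u)
    (p : G ⟶ C) (i : C ⟶ H) [IsMonHom i] [Mono i] (hpi : p ≫ i = u) : AlgGrp.IsKernel i₀ p := by
  unfold AlgGrp.IsKernel at hK ⊢
  apply isPullback_of_comp_mono i
  rw [hpi, IsMonHom.one_hom]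
  exact hK

/-- properties of the kernel pass to the projections of the kernel pair. -/
theorem prop_kernelPair (P : MorphismProperty Scheme.{u}) [P.IsStableUnderBaseChange]
    [P.RespectsIso] {N : Over S} (i : N ⟶ G) (hK : AlgGrp.IsKernel i u) (hN : P N.hom) :
    P (pullback.fst u.left u.left) ∧ P (pullback.snd u.left u.left) := by
  have h0 := Groth.Agent.Helper18.GrpFppf.isPullback_mul_of_isKernel u i hK (𝟙 G)
  have hP : IsPullback (lift (fst G N ≫ 𝟙 G) (snd G N ≫ i) ≫ μ[G]).left (fst G N).left u.left
      (𝟙 G ≫ u).left := Groth.Agent.Helper18.GrpFppf.isPullback_left h0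
  rw [Category.id_comp] at hP
  have h1 : P (fst G N).left := by
    show P (pullback.fst G.hom N.hom)
    exact P.pullback_fst _ _ hN
  constructor
  · rw [← hP.flip.isoPullback_inv_fst]
    exact (P.cancel_left_of_respectsIso _ _).mpr h1
  · rw [← hP.isoPullback_inv_snd]
    exact (P.cancel_left_of_respectsIso _ _).mpr h1

/-- fpqc descent from the kernel to a faithfully flat homomorphism. -/
theorem prop_of_kernel_fpqc (P : MorphismProperty Scheme.{u}) [P.IsStableUnderBaseChange]
    [P.RespectsIso] [P.DescendsAlong (@Surjective ⊓ @Flat ⊓ @QuasiCompact)]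
    [Flat u.left] [Surjective u.left] [QuasiCompact u.left]
    {N : Over S} (i : N ⟶ G) (hK : AlgGrp.IsKernel i u) (hN : P N.hom) : P u.left := by
  obtain ⟨h1, -⟩ := prop_kernelPair u P i hK hN
  exact MorphismProperty.of_pullback_fst_of_descendsAlong
    (P := P) (Q := @Surjective ⊓ @Flat ⊓ @QuasiCompact) (f := u.left) (g := u.left)
    ⟨⟨inferInstance, inferInstance⟩, inferInstance⟩ h1

omit [GrpObj G] [IsMonHom u] in
/-- base change of kernels. -/
theorem isKernel_map_pullback {T : Scheme.{u}} (c : T ⟶ S) {N : Over S} (i : N ⟶ G)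
    (hK : AlgGrp.IsKernel i u) :
    AlgGrp.IsKernel ((Over.pullback c).map i) ((Over.pullback c).map u) := by
  unfold AlgGrp.IsKernel at hK ⊢
  have h := hK.map (Over.pullback c)
  refine IsPullback.of_iso h (Iso.refl _) (Iso.refl _)
    (asIso (Functor.LaxMonoidal.ε (Over.pullback c))).symm (Iso.refl _) (by simp)
    (toUnit_unique _ _) (by simp) ?_
  show _ = _ ≫ (Functor.LaxMonoidal.ε (Over.pullback c) ≫ (Over.pullback c).map η[H])
  simp

end

/-- **Field case**: a property which is stable under base change and composition, holds for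
closed immersions and satisfies fpqc descent, holds for a quasi-compact homomorphism as soon as
it holds for its kernel. -/
theorem prop_of_kernel_field (P : MorphismProperty Scheme.{u}) [P.IsStableUnderBaseChange]
    [P.RespectsIso] [P.IsStableUnderComposition]
    [P.DescendsAlong (@Surjective ⊓ @Flat ⊓ @QuasiCompact)]
    (hcl : ∀ {X Y : Scheme.{u}} (f : X ⟶ Y), IsClosedImmersion f → P f)
    (k : Type u) [Field k] (G H : Over (Spec (CommRingCat.of k)))
    [GrpObj G] [GrpObj H] [LocallyOfFiniteType H.hom] (u : G ⟶ H) [IsMonHom u]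
    [QuasiCompact u.left] {N : Over (Spec (CommRingCat.of k))} (i₀ : N ⟶ G)
    (hK : AlgGrp.IsKernel i₀ u) (hN : P N.hom) : P u.left := by
  obtain ⟨C, _, p, i, hp, hi, hpi, hfl, hsurj, hqc, hci, -⟩ := HomMono.exists_factor_field k G H u
  haveI := hp
  haveI := hi
  haveI := hfl
  haveI := hsurj
  haveI := hqc
  haveI := hci
  haveI : Mono i.left := inferInstance
  haveI : Mono i := Over.mono_of_mono_left _
  have hK' := isKernel_of_comp_mono u i₀ hK p i hpi
  have h1 : P p.left := prop_of_kernel_fpqc p P i₀ hK' hN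
  rw [← hpi, Over.comp_left]
  exact P.comp_mem _ _ h1 (hcl _ hci)

end Groth.Agent.Helper16.HomKer
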