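import Mathlib
import Groth.Prelude
import Groth.Agent.Lib.Helper16.Sch.HomKer
import Groth.Agent.Lib.Helper18.GrpSchT

set_option autoImplicit false
set_option linter.style.haveILetI false
universe u
open CategoryTheory CategoryTheory.Limits AlgebraicGeometry Opposite TopologicalSpace Topology
  MonoidalCategory CartesianMonoidalCategory MonObj GrpObj

noncomputable section

namespace Groth.Agent.Helper16.HomProper

open Groth.Agent.Helper14 Groth.Agent.Helper16 Groth.Agent.Helper16.ImmSub

/-- group schemes over a local artinian ring are separated. -/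
theorem isSeparated_artinian (A : Type u) [CommRing A] [IsArtinianRing A] [IsLocalRing A]
    (G : Over (Spec (CommRingCat.of A))) [GrpObj G] : IsSeparated G.hom := by
  rw [Groth.Agent.Helper18.GrpSchOm.isSeparated_iff]
  haveI : IsImmersion ((η[G] : 𝟙_ (Over (Spec (CommRingCat.of A))) ⟶ G).left ≫ G.hom) := by
    rw [Over.w]
    show IsImmersion (𝟙 _)
    infer_instance
  haveI : IsImmersion (η[G] : 𝟙_ (Over (Spec (CommRingCat.of A))) ⟶ G).left :=
    IsImmersion.of_comp _ G.hom
  exact main5384 A G (𝟙_ (Over (Spec (CommRingCat.of A)))) η[G]

/-- over a local artinian ring, a homomorphism is universally closed as soon as its kernel is. -/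
theorem universallyClosed_of_kernel (A : Type u) [CommRing A] [IsArtinianRing A] [IsLocalRing A]
    (G H : Over (Spec (CommRingCat.of A))) [GrpObj G] [GrpObj H] [LocallyOfFiniteType H.hom]
    (u : G ⟶ H) [IsMonHom u] [QuasiCompact u.left]
    (h : UniversallyClosed
      (pullback.snd u.left (η[H] : 𝟙_ (Over (Spec (CommRingCat.of A))) ⟶ H).left)) :
    UniversallyClosed u.left := by
  let c : Spec (CommRingCat.of (IsLocalRing.ResidueField A)) ⟶ Spec (CommRingCat.of A) :=
    Spec.map (CommRingCat.ofHom (IsLocalRing.residue A))
  haveI : IsClosedImmersion c :=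
    IsClosedImmersion.spec_of_surjective _ IsLocalRing.residue_surjective
  haveI : Subsingleton ↥(Spec (CommRingCat.of A)) := Ring.KrullDimLE.subsingleton_primeSpectrum A
  haveI : Surjective c := ⟨fun y => ⟨IsLocalRing.closedPoint _, Subsingleton.elim _ _⟩⟩
  have hsq := isPullback_map u c
  haveI : QuasiCompact ((Over.pullback c).map u).left := MorphismProperty.of_isPullback hsq ‹_›
  haveI : LocallyOfFiniteType ((Over.pullback c).obj H).hom := by
    show LocallyOfFiniteType (pullback.snd H.hom c)
    infer_instance
  have hKk := HomKer.isKernel_map_pullback u c (HomKer.kerι u) (HomKer.isKernel_kerι u)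
  have hN : UniversallyClosed (HomKer.ker u).hom := by rw [HomKer.ker_hom]; exact h
  have hNk : UniversallyClosed ((Over.pullback c).obj (HomKer.ker u)).hom := by
    show UniversallyClosed (pullback.snd (HomKer.ker u).hom c)
    infer_instance
  haveI huk : UniversallyClosed ((Over.pullback c).map u).left :=
    HomKer.prop_of_kernel_field @UniversallyClosed (fun f hf => inferInstance)
      (IsLocalRing.ResidueField A) _ _ ((Over.pullback c).map u) _ hKk hNk
  haveI : Surjective (pullback.fst G.hom c) := inferInstance
  haveI : UniversallyClosed (pullback.fst G.hom c ≫ u.left) := by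
    rw [hsq.w]; infer_instance
  exact UniversallyClosed.of_comp_surjective (pullback.fst G.hom c) u.left

theorem main3035 (A : Type u) [CommRing A] [IsArtinianRing A] [IsLocalRing A]
    (G H : Over (Spec (CommRingCat.of A))) [GrpObj G] [GrpObj H] [LocallyOfFiniteType G.hom]
    [LocallyOfFiniteType H.hom] (u : G ⟶ H) [IsMonHom u] [QuasiCompact u.left] :
    IsProper u.left ↔
      IsProper (pullback.snd u.left (η[H] : 𝟙_ (Over (Spec (CommRingCat.of A))) ⟶ H).left) := by
  constructor
  · intro h
    exact MorphismProperty.pullback_snd _ _ h
  · intro h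
    haveI : UniversallyClosed u.left := universallyClosed_of_kernel A G H u inferInstance
    haveI : IsSeparated G.hom := isSeparated_artinian A G
    haveI : IsSeparated (u.left ≫ H.hom) := by rw [Over.w]; infer_instance
    haveI : IsSeparated u.left := IsSeparated.of_comp u.left H.hom
    haveI : LocallyOfFiniteType (u.left ≫ H.hom) := by rw [Over.w]; infer_instance
    haveI : LocallyOfFiniteType u.left := locallyOfFiniteType_of_comp u.left H.hom
    exact {}

end Groth.Agent.Helper16.HomProper
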