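import Mathlib
import Groth.Prelude
import Groth.Agent.Lib.Helper16.Sch.HomProper
import Groth.Agent.Lib.Helper16.Sch.GrpHomFib

set_option autoImplicit false
set_option linter.style.haveILetI false
universe u
open CategoryTheory CategoryTheory.Limits AlgebraicGeometry Opposite TopologicalSpace Topology
  MonoidalCategory CartesianMonoidalCategory MonObj GrpObj

noncomputable section

namespace Groth.Agent.Helper16.HomFinite

open Groth.Agent.Helper14 Groth.Agent.Helper16

theorem main3037 (A : Type u) [CommRing A] [IsArtinianRing A] [IsLocalRing A]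
    (G H : Over (Spec (CommRingCat.of A))) [GrpObj G] [GrpObj H] [LocallyOfFiniteType G.hom]
    [LocallyOfFiniteType H.hom] (u : G ⟶ H) [IsMonHom u] [QuasiCompact u.left] :
    IsFinite u.left ↔
      DiscreteTopology
        ↥(pullback u.left (η[H] : 𝟙_ (Over (Spec (CommRingCat.of A))) ⟶ H).left) := by
  haveI : Subsingleton ↥(Spec (CommRingCat.of A)) := Ring.KrullDimLE.subsingleton_primeSpectrum A
  haveI : LocallyOfFiniteType (u.left ≫ H.hom) := by rw [Over.w]; infer_instance
  haveI : LocallyOfFiniteType u.left := locallyOfFiniteType_of_comp u.left H.hom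
  set ps := pullback.snd u.left (η[H] : 𝟙_ (Over (Spec (CommRingCat.of A))) ⟶ H).left with hps
  haveI : LocallyOfFiniteType ps := MorphismProperty.pullback_snd _ _ inferInstance
  haveI : QuasiCompact ps := MorphismProperty.pullback_snd _ _ inferInstance
  let s : ↥(Spec (CommRingCat.of A)) := IsLocalRing.closedPoint A
  let y : ↥(𝟙_ (Over (Spec (CommRingCat.of A)))).left := s
  have hy : ∀ p, ps p = y := fun p => Subsingleton.elim (α := ↥(Spec (CommRingCat.of A))) _ _
  have huniv : ps ⁻¹' {y} = Set.univ := by
    ext p
    simp only [Set.mem_preimage, Set.mem_singleton_iff, Set.mem_univ, iff_true]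
    exact hy p
  constructor
  · intro h
    haveI : IsFinite ps := MorphismProperty.pullback_snd _ _ h
    haveI : LocallyQuasiFinite ps := inferInstance
    have h1 := ps.isDiscrete_preimage_singleton y
    rw [huniv] at h1
    exact isDiscrete_univ_iff.mp h1
  · intro h
    haveI := h
    haveI : LocallyQuasiFinite ps :=
      locallyQuasiFinite_iff_isDiscrete_preimage_singleton.mpr
        (fun x => IsDiscrete.univ.mono (Set.subset_univ _))
    haveI : IsLocallyArtinian (𝟙_ (Over (Spec (CommRingCat.of A)))).left :=
      (Scheme.isLocallyArtinianScheme_Spec (R := CommRingCat.of A)).mpr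
        (inferInstanceAs (IsArtinianRing A))
    haveI : IsFinite ps := IsFinite.of_locallyQuasiFinite ps
    haveI : IsProper ps := inferInstance
    haveI : IsProper u.left := (HomProper.main3035 A G H u).mpr inferInstance
    haveI : LocallyQuasiFinite u.left := by
      rw [FibMap.locallyQuasiFinite_iff_fibreDimAt]
      intro x
      have h0 : u.left ((η[G] : 𝟙_ (Over (Spec (CommRingCat.of A))) ⟶ G).left s) =
          (η[H] : 𝟙_ (Over (Spec (CommRingCat.of A))) ⟶ H).left s := by
        rw [← IsMonHom.one_hom (f := u), Over.comp_left]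
        rfl
      obtain ⟨p₀, hp₀, -⟩ := Scheme.Pullback.exists_preimage_pullback (f := u.left)
        (g := (η[H] : 𝟙_ (Over (Spec (CommRingCat.of A))) ⟶ H).left)
        ((η[G] : 𝟙_ (Over (Spec (CommRingCat.of A))) ⟶ G).left s) s h0
      have hsq := IsPullback.of_hasPullback u.left
        (η[H] : 𝟙_ (Over (Spec (CommRingCat.of A))) ⟶ H).left
      have h1 := FibreDimBC.fibreDimAt_eq hsq p₀
      have h2 := (FibMap.locallyQuasiFinite_iff_fibreDimAt ps).mp inferInstance p₀
      rw [GrpHomFib.fibreDimAt_const_hom u x (pullback.fst u.left _ p₀), ← h1]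
      exact h2
    exact IsFinite.of_isProper_of_locallyQuasiFinite u.left

end Groth.Agent.Helper16.HomFinite
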