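import Mathlib
import Groth.Prelude
import Groth.Agent.Lib.Helper16.Sch.HomFibE
import Groth.Agent.Lib.Helper16.Sch.GrpHomFib
import Groth.Agent.Lib.Helper16.Sch.HomFinite
import Groth.Agent.Lib.Helper16.Sch.HomDim
import Groth.Agent.Lib.Helper16.Sch.GrpSurj
import Groth.Agent.Lib.Helper16.Sch.GenGS3

set_option autoImplicit false
set_option linter.style.haveILetI false
universe u
open CategoryTheory CategoryTheory.Limits AlgebraicGeometry Opposite TopologicalSpace Topology
  MonoidalCategory CartesianMonoidalCategory MonObj GrpObj

noncomputable section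

namespace Groth.Agent.Helper16.Isog

open Groth.Agent.Helper16.HomFibCrit

variable {S : Scheme.{u}} {G H : Over S}

/-- the fibre of a homomorphism as base change: comparison with `pullback.snd`. -/
theorem prop_map_iff (P : MorphismProperty Scheme.{u}) [P.RespectsIso] (u : G ⟶ H) (s : S) :
    P ((Over.pullback (S.fromSpecResidueField s)).map u).left ↔
      P (pullback.snd u.left (H.hom.fiberι s)) := by
  have sq := ImmSub.isPullback_map u (S.fromSpecResidueField s)
  have e : sq.isoPullback.hom ≫ pullback.snd u.left (H.hom.fiberι s) =
      ((Over.pullback (S.fromSpecResidueField s)).map u).left := sq.isoPullback_hom_snd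
  rw [← e]
  exact P.cancel_left_of_respectsIso _ _

end Groth.Agent.Helper16.Isog

namespace Groth.Agent.Helper16.Isog

open Groth.Agent.Helper16.HomFibCrit

section Field

variable {k : Type u} [Field k] {G H : Over (Spec (CommRingCat.of k))} [GrpObj G] [GrpObj H]

theorem finite_surjective_field [LocallyOfFiniteType G.hom] [LocallyOfFiniteType H.hom]
    (u : G ⟶ H) [IsMonHom u] [QuasiCompact u.left] [Flat u.left]
    [LocallyOfFinitePresentation u.left] [LocallyQuasiFinite u.left] [ConnectedSpace H.left] :
    IsFinite u.left ∧ Surjective u.left := by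
  constructor
  · rw [HomFinite.main3037 k G H u]
    haveI : IsLocallyArtinian (𝟙_ (Over (Spec (CommRingCat.of k)))).left :=
      inferInstanceAs (IsLocallyArtinian (Spec (CommRingCat.of k)))
    haveI : IsLocallyArtinian
        (pullback u.left (η[H] : 𝟙_ (Over (Spec (CommRingCat.of k))) ⟶ H).left) :=
      IsLocallyArtinian.of_locallyQuasiFinite (pullback.snd _ _)
    infer_instance
  · have h1 : IsOpen (Set.range u.left.base) := u.left.isOpenMap.isOpen_range
    have h2 : IsClosed (Set.range u.left.base) := HomDim.isClosed_range_field k G H u
    have h3 : (Set.range u.left.base).Nonempty :=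
      ⟨_, ⟨η[G].left (show PrimeSpectrum k from ⊥), rfl⟩⟩
    have h4 : Set.range u.left.base = Set.univ := IsClopen.eq_univ ⟨h2, h1⟩ h3
    exact ⟨Set.range_eq_univ.mp h4⟩

theorem flat_field (u : G ⟶ H) [IsMonHom u] [QuasiCompact u.left] [Surjective u.left]
    [IsReduced H.left] : Flat u.left :=
  GrpSurj.flat_of_dense_of_isReduced u u.left.surjective.denseRange

end Field

end Groth.Agent.Helper16.Isog

namespace Groth.Agent.Helper16.Isog

open Groth.Agent.Helper16.HomFibCrit

variable {S : Scheme.{u}} {G H : Over S} [GrpObj G] [GrpObj H]

theorem fibre_finite_surjective [LocallyOfFiniteType G.hom] [QuasiCompact G.hom]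
    [LocallyOfFiniteType H.hom] [QuasiSeparated H.hom] [GeometricallyConnected H.hom]
    (u : G ⟶ H) [IsMonHom u] [Flat u.left]
    [LocallyOfFinitePresentation u.left] [LocallyQuasiFinite u.left] (s : S) :
    IsFinite ((Over.pullback (S.fromSpecResidueField s)).map u).left ∧
      Surjective ((Over.pullback (S.fromSpecResidueField s)).map u).left := by
  have sq := ImmSub.isPullback_map u (S.fromSpecResidueField s)
  haveI : Flat ((Over.pullback (S.fromSpecResidueField s)).map u).left :=
    MorphismProperty.of_isPullback sq ‹_›
  haveI : LocallyOfFinitePresentation ((Over.pullback (S.fromSpecResidueField s)).map u).left :=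
    MorphismProperty.of_isPullback sq ‹_›
  haveI : LocallyQuasiFinite ((Over.pullback (S.fromSpecResidueField s)).map u).left :=
    MorphismProperty.of_isPullback sq ‹_›
  haveI : LocallyOfFiniteType ((Over.pullback (S.fromSpecResidueField s)).obj G).hom :=
    inferInstanceAs (LocallyOfFiniteType (pullback.snd _ _))
  haveI : QuasiCompact ((Over.pullback (S.fromSpecResidueField s)).obj G).hom :=
    inferInstanceAs (QuasiCompact (pullback.snd _ _))
  haveI : LocallyOfFiniteType ((Over.pullback (S.fromSpecResidueField s)).obj H).hom :=
    inferInstanceAs (LocallyOfFiniteType (pullback.snd _ _))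
  haveI : QuasiSeparated ((Over.pullback (S.fromSpecResidueField s)).obj H).hom :=
    inferInstanceAs (QuasiSeparated (pullback.snd _ _))
  haveI : QuasiCompact ((Over.pullback (S.fromSpecResidueField s)).map u).left := by
    haveI : QuasiCompact (((Over.pullback (S.fromSpecResidueField s)).map u).left ≫
        ((Over.pullback (S.fromSpecResidueField s)).obj H).hom) := by
      rw [Over.w]; infer_instance
    exact QuasiCompact.of_comp _ ((Over.pullback (S.fromSpecResidueField s)).obj H).hom
  haveI : ConnectedSpace ((Over.pullback (S.fromSpecResidueField s)).obj H).left :=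
    inferInstanceAs (ConnectedSpace (H.hom.fiber s))
  exact finite_surjective_field (k := S.residueField s)
    (G := (Over.pullback (S.fromSpecResidueField s)).obj G)
    (H := (Over.pullback (S.fromSpecResidueField s)).obj H)
    ((Over.pullback (S.fromSpecResidueField s)).map u)

end Groth.Agent.Helper16.Isog

namespace Groth.Agent.Helper16.Isog

open Groth.Agent.Helper16.HomFibCrit

variable {S : Scheme.{u}} {G H : Over S} [GrpObj G] [GrpObj H]

theorem fibre_flat [Smooth H.hom] (u : G ⟶ H) [IsMonHom u] (s : S)
    [QuasiCompact ((Over.pullback (S.fromSpecResidueField s)).map u).left]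
    [Surjective ((Over.pullback (S.fromSpecResidueField s)).map u).left] :
    Flat ((Over.pullback (S.fromSpecResidueField s)).map u).left := by
  haveI : Smooth ((Over.pullback (S.fromSpecResidueField s)).obj H).hom :=
    inferInstanceAs (Smooth (pullback.snd _ _))
  haveI : IsReduced ((Over.pullback (S.fromSpecResidueField s)).obj H).left :=
    GenGS.isReduced_of_smooth ((Over.pullback (S.fromSpecResidueField s)).obj H).hom
  exact flat_field (k := S.residueField s)
    (G := (Over.pullback (S.fromSpecResidueField s)).obj G)
    (H := (Over.pullback (S.fromSpecResidueField s)).obj H)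
    ((Over.pullback (S.fromSpecResidueField s)).map u)

theorem main7815 (G H : Over S) [GrpObj G] [GrpObj H]
    [Smooth G.hom] [IsSeparated G.hom] [QuasiCompact G.hom] [GeometricallyConnected G.hom]
    [Smooth H.hom] [IsSeparated H.hom] [QuasiCompact H.hom] [GeometricallyConnected H.hom]
    (f : G ⟶ H) [IsMonHom f] :
    (Flat f.left ∧ LocallyQuasiFinite f.left ∧ LocallyOfFinitePresentation f.left) ↔
      ∀ s : S, IsFinite (pullback.snd f.left (H.hom.fiberι s)) ∧
        Surjective (pullback.snd f.left (H.hom.fiberι s)) := by
  constructor
  · rintro ⟨h1, h2, h3⟩ s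
    rw [← prop_map_iff @IsFinite, ← prop_map_iff @Surjective]
    exact fibre_finite_surjective f s
  · intro h
    have h' : ∀ s : S, IsFinite ((Over.pullback (S.fromSpecResidueField s)).map f).left ∧
        Surjective ((Over.pullback (S.fromSpecResidueField s)).map f).left := by
      intro s
      rw [prop_map_iff @IsFinite, prop_map_iff @Surjective]
      exact h s
    haveI := lfp_left f
    refine ⟨?_, ?_, inferInstance⟩
    · obtain ⟨-, h2⟩ := main_flat f
      rw [Flat.iff_flat_stalkMap]
      intro x
      have : x ∈ {x : G.left | (f.left.stalkMap x).hom.Flat} := by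
        rw [h2]
        show Flat ((Over.pullback (S.fromSpecResidueField (G.hom x))).map f).left
        haveI := (h' (G.hom x)).1
        haveI := (h' (G.hom x)).2
        exact fibre_flat f (G.hom x)
      exact this
    · obtain ⟨-, h3⟩ := GrpHomFib.main5315 f
      rw [iff_forall_exists_nhd _ @LocallyQuasiFinite]
      intro x
      have : x ∈ {x : G.left | ∃ W : G.left.Opens, x ∈ W ∧ LocallyQuasiFinite (W.ι ≫ f.left)} := by
        rw [h3]
        show LocallyQuasiFinite ((Over.pullback (S.fromSpecResidueField (G.hom x))).map f).left
        haveI := (h' (G.hom x)).1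
        infer_instance
      exact this

end Groth.Agent.Helper16.Isog
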