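import Mathlib
import Groth.Prelude
import Groth.Agent.Lib.Helper16.Sch.HomFibE
import Groth.Agent.Lib.Helper16.Sch.GrpHomFib
import Groth.Agent.Lib.Helper18.GrpSchT

set_option autoImplicit false
set_option linter.style.haveILetI false
universe u
open CategoryTheory CategoryTheory.Limits AlgebraicGeometry Opposite TopologicalSpace Topology
  MonoidalCategory CartesianMonoidalCategory MonObj GrpObj

noncomputable section

namespace Groth.Agent.Helper16.KerTfae

open Groth.Agent.Helper16.HomFibCrit Groth.Agent.Helper16.GrpHomFib Groth.Agent.Helper14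
  Groth.Agent.Helper16.UnramLocus

variable {S : Scheme.{u}} {G H K : Over S} [GrpObj G] [GrpObj H] [GrpObj K]

omit [GrpObj G] [GrpObj K] in
theorem toUnit_left (K : Over S) : (toUnit K).left = K.hom := by
  have := Over.w (toUnit K)
  rw [← this]
  exact (Category.comp_id _).symm

omit [GrpObj G] [GrpObj K] in
theorem isPullback_left {i : K ⟶ G} {u : G ⟶ H} (hK : AlgGrp.IsKernel i u) :
    IsPullback i.left K.hom u.left η[H].left := by
  have h := IsPullback.map (Over.forget S) hK
  have e : (Over.forget S).map (toUnit K) = K.hom := toUnit_left K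
  rw [e] at h
  exact h

theorem i_unit (i : K ⟶ G) [IsMonHom i] (s : S) : i.left (e K s) = e G s := by
  have h : η[K] ≫ i = η[G] := IsMonHom.one_hom i
  have h2 : η[K].left ≫ i.left = η[G].left := by rw [← Over.comp_left, h]
  exact congrArg (fun (f : S ⟶ G.left) => f s) h2

theorem lqf_iff_fibres (u : G ⟶ H) [IsMonHom u] [LocallyOfFiniteType u.left] :
    LocallyQuasiFinite u.left ↔
      ∀ s : S, LocallyQuasiFinite ((Over.pullback (S.fromSpecResidueField s)).map u).left := by
  constructor
  · intro h s
    exact MorphismProperty.of_isPullback (ImmSub.isPullback_map u (S.fromSpecResidueField s)) h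
  · intro h
    obtain ⟨-, h3⟩ := main5315 u
    rw [iff_forall_exists_nhd _ @LocallyQuasiFinite]
    intro x
    have : x ∈ {x : G.left | ∃ W : G.left.Opens, x ∈ W ∧ LocallyQuasiFinite (W.ι ≫ u.left)} := by
      rw [h3]
      exact h (G.hom x)
    exact this

theorem unr_iff_fibres (u : G ⟶ H) [IsMonHom u] [LocallyOfFiniteType u.left] :
    FormallyUnramified u.left ↔
      ∀ s : S, FormallyUnramified ((Over.pullback (S.fromSpecResidueField s)).map u).left := by
  constructor
  · intro h s
    exact MorphismProperty.of_isPullback (ImmSub.isPullback_map u (S.fromSpecResidueField s)) h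
  · intro h
    obtain ⟨-, h3⟩ := main5316 u
    rw [formallyUnramified_iff_forall_unrAt]
    intro x
    have : x ∈ {x : G.left | ∃ W : G.left.Opens, x ∈ W ∧ FormallyUnramified (W.ι ≫ u.left)} := by
      rw [h3]
      exact h (G.hom x)
    exact this

end Groth.Agent.Helper16.KerTfae

namespace Groth.Agent.Helper16.KerTfae

open Groth.Agent.Helper16.HomFibCrit Groth.Agent.Helper16.GrpHomFib Groth.Agent.Helper14
  Groth.Agent.Helper16.UnramLocus

variable {S : Scheme.{u}} {G H K : Over S} [GrpObj G] [GrpObj H] [GrpObj K]

theorem lqf_iff_ker (u : G ⟶ H) [IsMonHom u] [LocallyOfFiniteType u.left]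
    (i : K ⟶ G) [IsMonHom i] (hK : AlgGrp.IsKernel i u) :
    LocallyQuasiFinite u.left ↔ LocallyQuasiFinite K.hom := by
  have sq := isPullback_left hK
  haveI : LocallyOfFiniteType K.hom := MorphismProperty.of_isPullback sq ‹_›
  constructor
  · intro h
    exact MorphismProperty.of_isPullback sq h
  · intro h
    rw [lqf_iff_fibres]
    intro s
    rw [lqf_us_iff, ← i_unit i s, ← FibreDimBC.fibreDimAt_eq sq (e K s)]
    exact (FibMap.locallyQuasiFinite_iff_fibreDimAt K.hom).mp h _

theorem lqf_iff_discrete (u : G ⟶ H) [IsMonHom u] [LocallyOfFiniteType u.left]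
    (i : K ⟶ G) [IsMonHom i] (hK : AlgGrp.IsKernel i u) :
    LocallyQuasiFinite u.left ↔ ∀ s : S, DiscreteTopology ↥(K.hom.base ⁻¹' {s}) := by
  have sq := isPullback_left hK
  haveI : LocallyOfFiniteType K.hom := MorphismProperty.of_isPullback sq ‹_›
  rw [lqf_iff_ker u i hK, locallyQuasiFinite_iff_isDiscrete_preimage_singleton]
  exact forall_congr' fun s => isDiscrete_iff_discreteTopology

theorem unr_iff_ker (u : G ⟶ H) [IsMonHom u] [LocallyOfFiniteType u.left]
    (i : K ⟶ G) [IsMonHom i] (hK : AlgGrp.IsKernel i u) :
    FormallyUnramified u.left ↔ FormallyUnramified K.hom := by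
  have sq := isPullback_left hK
  haveI : LocallyOfFiniteType K.hom := MorphismProperty.of_isPullback sq ‹_›
  constructor
  · intro h
    exact MorphismProperty.of_isPullback sq h
  · intro h
    rw [unr_iff_fibres]
    intro s
    rw [unr_us_iff, ← i_unit i s, ← unrAt_iff_of_isPullback sq (e K s)]
    exact unrAt_of_formallyUnramified K.hom _

/-- for a group scheme locally of finite type, the unit section is an open immersion iff
the group is unramified. -/
theorem unit_isOpenImmersion_iff (K : Over S) [GrpObj K] [LocallyOfFiniteType K.hom] :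
    IsOpenImmersion η[K].left ↔ FormallyUnramified K.hom := by
  constructor
  · intro h
    haveI : IsOpenImmersion (pullback.diagonal K.hom) :=
      MorphismProperty.of_isPullback (Groth.Agent.Helper18.GrpSchOm.isPullback_diagonal K).flip h
    infer_instance
  · intro h
    show IsOpenImmersion (e K)
    have he : e K ≫ K.hom = 𝟙 S := Over.w η[K]
    haveI : Etale (e K ≫ K.hom) := by rw [he]; infer_instance
    haveI : Etale (e K) := Etale.of_comp (e K) K.hom
    haveI : Mono (e K) := mono_of_mono_fac he
    exact IsOpenImmersion.of_flat_of_mono _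

end Groth.Agent.Helper16.KerTfae
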