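import Groth.Agent.Lib.Helper14.GeomRedTFAE
import Groth.Prelude.Def_FDesc

set_option autoImplicit false
universe u
open CategoryTheory CategoryTheory.Limits AlgebraicGeometry
open scoped TensorProduct

namespace Groth.Agent.Helper16.BCRed

variable {k : Type u} [Field k]

/-- Affine case: the base change of `Spec R` to `K` is reduced iff `R ⊗ K` is. -/
lemma isReduced_pullback_Spec_iff (R : Type u) [CommRing R] [Algebra k R] (K : Type u) [Field K]
    [Algebra k K] :
    IsReduced (pullback (Spec.map (CommRingCat.ofHom (algebraMap k R)))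
      (Spec.map (CommRingCat.ofHom (algebraMap k K)))) ↔ _root_.IsReduced (K ⊗[k] R) := by
  have e := pullbackSpecIso k R K
  have hcomm : _root_.IsReduced (R ⊗[k] K) ↔ _root_.IsReduced (K ⊗[k] R) :=
    ⟨fun _ => isReduced_of_injective (Algebra.TensorProduct.comm k K R)
        (Algebra.TensorProduct.comm k K R).injective,
      fun _ => isReduced_of_injective (Algebra.TensorProduct.comm k R K)
        (Algebra.TensorProduct.comm k R K).injective⟩
  rw [← hcomm, ← affine_isReduced_iff (CommRingCat.of (R ⊗[k] K))]
  constructor
  · intro h; exact isReduced_of_isOpenImmersion e.inv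
  · intro h; exact isReduced_of_isOpenImmersion e.hom

variable {U : Scheme.{u}} (f : U ⟶ Spec (CommRingCat.of k))

/-- The structure ring hom of the `i`-th piece of the affine cover. -/
noncomputable def coverHom (i : U.affineCover.I₀) :
    CommRingCat.of k ⟶ Γ(U.affineCover.X i, ⊤) :=
  Spec.preimage ((U.affineCover.X i).isoSpec.inv ≫ U.affineCover.f i ≫ f)

lemma isReduced_bc_iff (K : Type u) [Field K] [Algebra k K] :
    IsReduced (FBase.bc f K) ↔
      ∀ i : U.affineCover.I₀, IsReduced (pullback (Spec.map (coverHom f i))
        (Spec.map (CommRingCat.ofHom (algebraMap k K)))) := by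
  have hiso : ∀ i : U.affineCover.I₀,
      Spec.map (coverHom f i) = (U.affineCover.X i).isoSpec.inv ≫ U.affineCover.f i ≫ f :=
    fun i => Spec.map_preimage _
  -- iso between the pieces
  have e : ∀ i : U.affineCover.I₀,
      pullback (Spec.map (coverHom f i)) (Spec.map (CommRingCat.ofHom (algebraMap k K))) ≅
        pullback (U.affineCover.f i ≫ f) (Spec.map (CommRingCat.ofHom (algebraMap k K))) := by
    intro i
    refine pullback.congrHom (hiso i) rfl ≪≫ ?_
    exact asIso (pullback.map _ _ _ _ (U.affineCover.X i).isoSpec.inv (𝟙 _) (𝟙 _)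
      (by simp) (by simp))
  unfold FBase.bc
  rw [IsReduced.iff_of_openCover _ (Scheme.Pullback.openCoverOfLeft U.affineCover f
    (Spec.map (CommRingCat.ofHom (algebraMap k K))))]
  refine forall_congr' (fun i => ?_)
  constructor
  · intro h
    have : IsReduced (pullback (U.affineCover.f i ≫ f)
        (Spec.map (CommRingCat.ofHom (algebraMap k K)))) := h
    exact isReduced_of_isOpenImmersion (e i).hom
  · intro h
    show IsReduced (pullback (U.affineCover.f i ≫ f)
        (Spec.map (CommRingCat.ofHom (algebraMap k K))))
    exact isReduced_of_isOpenImmersion (e i).inv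


lemma isReduced_bc_iff_ring (K : Type u) [Field K] [Algebra k K] :
    IsReduced (FBase.bc f K) ↔
      ∀ i : U.affineCover.I₀, (letI := (coverHom f i).hom.toAlgebra;
        _root_.IsReduced (K ⊗[k] Γ(U.affineCover.X i, ⊤))) := by
  refine (isReduced_bc_iff f K).trans (forall_congr' fun i => ?_)
  letI := (coverHom f i).hom.toAlgebra
  exact isReduced_pullback_Spec_iff Γ(U.affineCover.X i, ⊤) K

/-- (M1) A reduced scheme over a perfect field stays reduced after any field extension. -/
theorem isReduced_bc_of_perfectField [PerfectField k] [IsReduced U] (K : Type u) [Field K]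
    [Algebra k K] : IsReduced (FBase.bc f K) := by
  rw [isReduced_bc_iff_ring]
  intro i
  letI := (coverHom f i).hom.toAlgebra
  haveI : IsReduced (U.affineCover.X i) := isReduced_of_isOpenImmersion (U.affineCover.f i)
  have h : _root_.IsReduced (Γ(U.affineCover.X i, ⊤) ⊗[k] K) :=
    Groth.Agent.Helper14.isReduced_tensor_of_perfectField
  exact isReduced_of_injective (Algebra.TensorProduct.comm k K Γ(U.affineCover.X i, ⊤))
    (Algebra.TensorProduct.comm k K Γ(U.affineCover.X i, ⊤)).injective

/-- (M2) If the base change to an algebraic closure is reduced, so is every base change. -/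
theorem isReduced_bc_of_algClosure (kbar : Type u) [Field kbar] [Algebra k kbar]
    [IsAlgClosure k kbar] (h : IsReduced (FBase.bc f kbar)) (K : Type u) [Field K]
    [Algebra k K] : IsReduced (FBase.bc f K) := by
  rw [isReduced_bc_iff_ring] at h ⊢
  intro i
  letI := (coverHom f i).hom.toAlgebra
  have hi : _root_.IsReduced (kbar ⊗[k] Γ(U.affineCover.X i, ⊤)) := h i
  haveI : Algebra.IsGeometricallyReduced k Γ(U.affineCover.X i, ⊤) := by
    rw [Algebra.isGeometricallyReduced_field_iff]
    have : Algebra.IsAlgebraic k kbar := IsAlgClosure.isAlgebraic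
    let e : AlgebraicClosure k ≃ₐ[k] kbar := IsAlgClosure.equiv k _ _
    exact isReduced_of_injective _ (Algebra.TensorProduct.congr e AlgEquiv.refl).injective
  exact Groth.Agent.Helper14.isReduced_tensor_of_isGeometricallyReduced K

/-- (M3) If the base changes to finite purely inseparable extensions are reduced, so is every base
change. -/
theorem isReduced_bc_of_forall_finite_purelyInseparable
    (h : ∀ (k' : Type u) [Field k'] [Algebra k k'], Module.Finite k k' →
      IsPurelyInseparable k k' → IsReduced (FBase.bc f k')) (K : Type u) [Field K]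
    [Algebra k K] : IsReduced (FBase.bc f K) := by
  rw [isReduced_bc_iff_ring]
  intro i
  letI := (coverHom f i).hom.toAlgebra
  have h1 : ∀ (k' : Type u) [Field k'] [Algebra k k'] [Module.Finite k k']
      [IsPurelyInseparable k k'], _root_.IsReduced (k' ⊗[k] Γ(U.affineCover.X i, ⊤)) := by
    intro k' _ _ hfin hpi
    exact (isReduced_bc_iff_ring f k').mp (h k' hfin hpi) i
  haveI := Groth.Agent.Helper14.isGeometricallyReduced_of_forall_finite_purelyInseparable
    (k := k) (S := Γ(U.affineCover.X i, ⊤)) h1
  exact Groth.Agent.Helper14.isReduced_tensor_of_isGeometricallyReduced K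

end Groth.Agent.Helper16.BCRed
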