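import Groth.Agent.Lib.Helper15.AlgSpRedStalk
import Groth.Prelude.Def_FDesc

set_option autoImplicit false
universe u
open CategoryTheory CategoryTheory.Limits AlgebraicGeometry

namespace Groth.Agent.Helper16.GeomRedEt

variable {k : Type u} [Field k]

/-- The base change of a morphism of `k`-schemes to a field extension. -/
noncomputable def bcMap {W U : Over (Spec (CommRingCat.of k))} (g : W ⟶ U) (K : Type u) [Field K]
    [Algebra k K] : FBase.bc W.hom K ⟶ FBase.bc U.hom K :=
  pullback.lift (FBase.bcπ W.hom K ≫ g.left) (FBase.bcStr W.hom K)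
    (by rw [Category.assoc, Over.w g]; exact pullback.condition)

lemma bcMap_π {W U : Over (Spec (CommRingCat.of k))} (g : W ⟶ U) (K : Type u) [Field K]
    [Algebra k K] : bcMap g K ≫ FBase.bcπ U.hom K = FBase.bcπ W.hom K ≫ g.left :=
  pullback.lift_fst _ _ _

lemma bcMap_str {W U : Over (Spec (CommRingCat.of k))} (g : W ⟶ U) (K : Type u) [Field K]
    [Algebra k K] : bcMap g K ≫ FBase.bcStr U.hom K = FBase.bcStr W.hom K :=
  pullback.lift_snd _ _ _

lemma isPullback_bcMap {W U : Over (Spec (CommRingCat.of k))} (g : W ⟶ U) (K : Type u) [Field K]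
    [Algebra k K] :
    IsPullback (bcMap g K) (FBase.bcπ W.hom K) (FBase.bcπ U.hom K) g.left := by
  have right : IsPullback (FBase.bcStr U.hom K) (FBase.bcπ U.hom K)
      (Spec.map (CommRingCat.ofHom (algebraMap k K))) U.hom :=
    (IsPullback.of_hasPullback U.hom (Spec.map (CommRingCat.ofHom (algebraMap k K)))).flip
  have big : IsPullback (bcMap g K ≫ FBase.bcStr U.hom K) (FBase.bcπ W.hom K)
      (Spec.map (CommRingCat.ofHom (algebraMap k K))) (g.left ≫ U.hom) := by
    rw [bcMap_str, Over.w g]
    exact (IsPullback.of_hasPullback W.hom (Spec.map (CommRingCat.ofHom (algebraMap k K)))).flip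
  exact IsPullback.of_right big (bcMap_π g K) right

theorem isGeomReducedAt_iff_of_etale {W U : Over (Spec (CommRingCat.of k))} (g : W ⟶ U)
    [Etale g.left] (w : W.left) :
    FBase.IsGeomReducedAt W.hom w ↔ FBase.IsGeomReducedAt U.hom (g.left w) := by
  constructor
  · intro h K _ _ u' hu'
    have sq := isPullback_bcMap g K
    haveI : Etale (bcMap g K) := MorphismProperty.of_isPullback sq.flip inferInstance
    obtain ⟨w', hw1, hw2⟩ := Scheme.exists_preimage_of_isPullback sq u' w hu'
    have hred := h K w' hw2
    have := Groth.Agent.Helper15.isReduced_stalk_of_flat (bcMap g K) w' hred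
    rwa [hw1] at this
  · intro h K _ _ w' hw'
    have sq := isPullback_bcMap g K
    haveI : Etale (bcMap g K) := MorphismProperty.of_isPullback sq.flip inferInstance
    have hu' : (FBase.bcπ U.hom K).base ((bcMap g K) w') = g.left w := by
      rw [← hw']
      show ((bcMap g K) ≫ FBase.bcπ U.hom K) w' = _
      rw [bcMap_π]; rfl
    have hred := h K _ hu'
    exact Groth.Agent.Helper15.isReduced_stalk_of_etale (bcMap g K) w' hred

end Groth.Agent.Helper16.GeomRedEt
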