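import Mathlib
import Groth.Agent.Lib.Helper16.Sch.EtaleNhd
import Groth.Agent.Lib.Helper16.Sch.StalkUnr

set_option autoImplicit false
set_option linter.style.haveILetI false
universe u
open CategoryTheory CategoryTheory.Limits AlgebraicGeometry Opposite TopologicalSpace

noncomputable section

namespace Groth.Agent.Helper16.CurveEt

open Groth.Agent.Helper16.UnramLocus Groth.Agent.Helper16.SmoothLocusBC
  Groth.Agent.Helper16.SmoothFibreSch

/-- formally unramified + locally of finite presentation over a field implies étale -/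
theorem etale_of_formallyUnramified_of_field {S V : Scheme.{u}} [Subsingleton S] [IsIntegral S]
    (q : V ⟶ S) [LocallyOfFinitePresentation q] [FormallyUnramified q] :
    Etale q :=
  Etale.of_formallyUnramified_of_flat q

/-- flat at `x` and unramified near `x` implies étale near `x`. -/
theorem exists_etale_nhd_of_flat_of_unrAt {X Y : Scheme.{u}} (f : X ⟶ Y)
    [LocallyOfFinitePresentation f] (x : X) (hflat : (f.stalkMap x).hom.Flat)
    (hunr : UnrAt f x) : ∃ U : X.Opens, x ∈ U ∧ Etale (U.ι ≫ f) := by
  rw [exists_etale_nhd_iff]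
  refine ⟨?_, hunr⟩
  rw [mem_smoothLocus_iff_flat_and_fiber f x]
  refine ⟨hflat, ?_⟩
  have hpb : IsPullback (f.fiberι (f x)) (f.fiberToSpecResidueField (f x)) f
      (Y.fromSpecResidueField (f x)) := IsPullback.of_hasPullback _ _
  have h1 : UnrAt (f.fiberToSpecResidueField (f x)) (f.asFiber x) := by
    rw [unrAt_iff_of_isPullback hpb, Scheme.Hom.fiberι_asFiber]
    exact hunr
  obtain ⟨V, hzV, hV⟩ := h1
  haveI : Etale (V.ι ≫ f.fiberToSpecResidueField (f x)) :=
    etale_of_formallyUnramified_of_field _
  rw [← exists_smooth_nhd_iff]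
  exact ⟨V, hzV, inferInstance⟩

end Groth.Agent.Helper16.CurveEt
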