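import Mathlib
import Groth.Agent.Lib.Helper16.Sch.CurveEt1

set_option autoImplicit false
set_option linter.style.haveILetI false
universe u
open CategoryTheory CategoryTheory.Limits AlgebraicGeometry Opposite TopologicalSpace

noncomputable section

namespace Groth.Agent.Helper16.GenEt

open Groth.Agent.Helper16.UnramLocus Groth.Agent.Helper16.SmoothLocusBC
  Groth.Agent.Helper16.CurveEt Groth.Agent.Helper16.StalkUnr

/-- Over a point whose local ring is a field: étale near `x` iff the stalk map is
formally unramified. -/
theorem exists_etale_nhd_iff_of_isField {X Y : Scheme.{u}} (f : X ⟶ Y)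
    [LocallyOfFinitePresentation f] (x : X) (hF : IsField (Y.presheaf.stalk (f x))) :
    (∃ U : X.Opens, x ∈ U ∧ Etale (U.ι ≫ f)) ↔ (f.stalkMap x).hom.FormallyUnramified := by
  constructor
  · rintro ⟨U, hxU, hU⟩
    exact stalkMap_of_unrAt ⟨U, hxU, inferInstance⟩
  · intro h
    refine exists_etale_nhd_of_flat_of_unrAt f x ?_ (unrAt_iff_stalkMap.mpr h)
    letI := hF.toField
    algebraize [(f.stalkMap x).hom]
    show Module.Flat (Y.presheaf.stalk (f x)) (X.presheaf.stalk x)
    infer_instance

/-- Over a point whose local ring is a field: unramified near `x` iff étale near `x`. -/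
theorem exists_unr_nhd_iff_exists_etale_nhd {X Y : Scheme.{u}} (f : X ⟶ Y)
    [LocallyOfFinitePresentation f] (x : X) (hF : IsField (Y.presheaf.stalk (f x))) :
    (∃ U : X.Opens, x ∈ U ∧ FormallyUnramified (U.ι ≫ f)) ↔
      (∃ U : X.Opens, x ∈ U ∧ Etale (U.ι ≫ f)) := by
  rw [exists_etale_nhd_iff_of_isField f x hF]
  exact unrAt_iff_stalkMap

/-- stalk map into a field from a field: unramified iff separable. -/
theorem formallyUnramified_stalkMap_iff_isSeparable {X Y : Scheme.{u}} (f : X ⟶ Y)
    [LocallyOfFiniteType f] (x : X) (hF : IsField (Y.presheaf.stalk (f x)))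
    (hF' : IsField (X.presheaf.stalk x)) :
    letI := (f.stalkMap x).hom.toAlgebra
    (f.stalkMap x).hom.FormallyUnramified ↔
      Algebra.IsSeparable (Y.presheaf.stalk (f x)) (X.presheaf.stalk x) := by
  letI := hF.toField
  letI := hF'.toField
  haveI := essFiniteType_stalkMap f x
  letI := (f.stalkMap x).hom.toAlgebra
  rw [← Algebra.FormallyUnramified.iff_isSeparable]
  exact RingHom.formallyUnramified_algebraMap.symm

end Groth.Agent.Helper16.GenEt
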