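import Mathlib
import Groth.Agent.Lib.Helper16.Sch.GenEt1

set_option autoImplicit false
set_option linter.style.haveILetI false
universe u
open CategoryTheory CategoryTheory.Limits AlgebraicGeometry Opposite TopologicalSpace

noncomputable section

namespace Groth.Agent.Helper16.GenEt

lemma exists_nonempty_iff_exists_genericPoint_mem {X : Scheme.{u}} [IsIntegral X]
    (P : X.Opens → Prop) :
    (∃ U : X.Opens, (U : Set X).Nonempty ∧ P U) ↔ (∃ U : X.Opens, genericPoint X ∈ U ∧ P U) := by
  refine exists_congr fun U => and_congr_left fun _ => ?_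
  have := (genericPoint_spec X).mem_open_set_iff U.isOpen
  rw [Set.univ_inter] at this
  exact this.symm

theorem main_aux {X Y : Scheme.{u}} [IsIntegral X] (f : X ⟶ Y)
    [LocallyOfFinitePresentation f] (y : Y) (e : f (genericPoint X) = y)
    (hF : IsField (Y.presheaf.stalk y)) :
    letI := ((Y.presheaf.stalkSpecializes (specializes_of_eq e) ≫
      f.stalkMap (genericPoint X)).hom).toAlgebra
    ((∃ U : X.Opens, (U : Set X).Nonempty ∧ FormallyUnramified (U.ι ≫ f)) ↔
      (∃ U : X.Opens, (U : Set X).Nonempty ∧ Etale (U.ι ≫ f))) ∧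
    ((∃ U : X.Opens, (U : Set X).Nonempty ∧ Etale (U.ι ≫ f)) ↔
      Algebra.IsSeparable (Y.presheaf.stalk y) (X.presheaf.stalk (genericPoint X))) := by
  subst e
  have hF' : IsField (X.presheaf.stalk (genericPoint X)) :=
    (inferInstance : Field X.functionField).toIsField
  rw [exists_nonempty_iff_exists_genericPoint_mem (fun U => FormallyUnramified (U.ι ≫ f)),
    exists_nonempty_iff_exists_genericPoint_mem (fun U => Etale (U.ι ≫ f))]
  refine ⟨exists_unr_nhd_iff_exists_etale_nhd f _ hF, ?_⟩
  rw [exists_etale_nhd_iff_of_isField f _ hF,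
    formallyUnramified_stalkMap_iff_isSeparable f _ hF hF']
  refine StalkUnr.isSeparable_congr_algebra ?_
  congr 1
  rw [TopCat.Presheaf.stalkSpecializes_refl, Category.id_comp]

end Groth.Agent.Helper16.GenEt
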