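import Mathlib
import Groth.Agent.Lib.Helper16.Sch.GenEt2

set_option autoImplicit false
set_option linter.style.haveILetI false
universe u
open CategoryTheory CategoryTheory.Limits AlgebraicGeometry Opposite TopologicalSpace

noncomputable section

namespace Groth.Agent.Helper16.GenEt

open Groth.Agent.Helper16.StalkUnr

/-- stalk map into a field from a field: unramified iff finite separable. -/
theorem formallyUnramified_stalkMap_iff_finite_isSeparable {X Y : Scheme.{u}} (f : X ⟶ Y)
    [LocallyOfFiniteType f] (x : X) (hF : IsField (Y.presheaf.stalk (f x)))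
    (hF' : IsField (X.presheaf.stalk x)) :
    letI := (f.stalkMap x).hom.toAlgebra
    (f.stalkMap x).hom.FormallyUnramified ↔
      (Module.Finite (Y.presheaf.stalk (f x)) (X.presheaf.stalk x) ∧
      Algebra.IsSeparable (Y.presheaf.stalk (f x)) (X.presheaf.stalk x)) := by
  letI := hF.toField
  letI := hF'.toField
  haveI := essFiniteType_stalkMap f x
  letI := (f.stalkMap x).hom.toAlgebra
  constructor
  · intro h
    haveI : Algebra.FormallyUnramified (Y.presheaf.stalk (f x)) (X.presheaf.stalk x) :=
      RingHom.formallyUnramified_algebraMap.mp h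
    exact ⟨Algebra.FormallyUnramified.finite_of_free _ _,
      (Algebra.FormallyUnramified.iff_isSeparable _ _).mp inferInstance⟩
  · rintro ⟨-, h⟩
    exact RingHom.formallyUnramified_algebraMap.mpr
      ((Algebra.FormallyUnramified.iff_isSeparable _ _).mpr h)

lemma finite_isSeparable_congr_algebra {K L : Type*} [CommRing K] [Ring L] {a b : Algebra K L}
    (h : a = b) : (@Module.Finite K L _ _ a.toModule ∧ @Algebra.IsSeparable K L _ _ a) ↔
      (@Module.Finite K L _ _ b.toModule ∧ @Algebra.IsSeparable K L _ _ b) := by
  subst h; rfl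

theorem main_aux' {X Y : Scheme.{u}} [IsIntegral X] (f : X ⟶ Y)
    [LocallyOfFinitePresentation f] (y : Y) (e : f (genericPoint X) = y)
    (hF : IsField (Y.presheaf.stalk y)) :
    letI := ((Y.presheaf.stalkSpecializes (specializes_of_eq e) ≫
      f.stalkMap (genericPoint X)).hom).toAlgebra
    ((∃ U : X.Opens, (U : Set X).Nonempty ∧ FormallyUnramified (U.ι ≫ f)) ↔
      (∃ U : X.Opens, (U : Set X).Nonempty ∧ Etale (U.ι ≫ f))) ∧
    ((∃ U : X.Opens, (U : Set X).Nonempty ∧ Etale (U.ι ≫ f)) ↔
      (Module.Finite (Y.presheaf.stalk y) (X.presheaf.stalk (genericPoint X)) ∧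
      Algebra.IsSeparable (Y.presheaf.stalk y) (X.presheaf.stalk (genericPoint X)))) := by
  subst e
  have hF' : IsField (X.presheaf.stalk (genericPoint X)) :=
    (inferInstance : Field X.functionField).toIsField
  rw [exists_nonempty_iff_exists_genericPoint_mem (fun U => FormallyUnramified (U.ι ≫ f)),
    exists_nonempty_iff_exists_genericPoint_mem (fun U => Etale (U.ι ≫ f))]
  refine ⟨exists_unr_nhd_iff_exists_etale_nhd f _ hF, ?_⟩
  rw [exists_etale_nhd_iff_of_isField f _ hF,
    formallyUnramified_stalkMap_iff_finite_isSeparable f _ hF hF']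
  refine finite_isSeparable_congr_algebra ?_
  congr 1
  rw [TopCat.Presheaf.stalkSpecializes_refl, Category.id_comp]

end Groth.Agent.Helper16.GenEt
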