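import Mathlib
import Groth.Agent.Lib.Helper16.Alg.NormalSmooth2
import Groth.Agent.Lib.Helper16.Sch.SmoothFibreSch
import Groth.Agent.Lib.Helper14.EtaleReduced
set_option autoImplicit false
set_option linter.style.haveILetI false
open CategoryTheory CategoryTheory.Limits AlgebraicGeometry Opposite TopologicalSpace TensorProduct
universe u

namespace Groth.Agent.Helper16.NormalSmooth

attribute [local instance] Algebra.TensorProduct.rightAlgebra in
theorem isReduced_of_smooth_atPrime (A B : Type u) [CommRing A] [CommRing B] [Algebra A B]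
    [Algebra.Smooth A B] (p : Ideal A) [p.IsPrime] (q : Ideal B) [q.IsPrime] [hlo : q.LiesOver p]
    (Rp T : Type u) [CommRing Rp] [CommRing T] [Algebra A Rp] [IsLocalization.AtPrime Rp p]
    [Algebra B T] [IsLocalization.AtPrime T q] [Algebra Rp T] [Algebra A T]
    [IsScalarTower A Rp T] [IsScalarTower A B T]
    [IsReduced Rp] : IsReduced T := by
  let φ : Rp ⊗[A] B →ₐ[Rp] T :=
    Algebra.TensorProduct.lift (Algebra.ofId Rp T) (IsScalarTower.toAlgHom A B T)
      (fun _ _ => Commute.all _ _)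
  letI : Algebra (Rp ⊗[A] B) T := φ.toRingHom.toAlgebra
  haveI : IsScalarTower Rp (Rp ⊗[A] B) T := IsScalarTower.of_algebraMap_eq' φ.comp_algebraMap.symm
  haveI : IsScalarTower B (Rp ⊗[A] B) T := by
    refine IsScalarTower.of_algebraMap_eq (fun b => ?_)
    show _ = φ (1 ⊗ₜ b)
    simp [φ]
  haveI : IsLocalization (Algebra.algebraMapSubmonoid B p.primeCompl) (Rp ⊗[A] B) := inferInstance
  have hle : Algebra.algebraMapSubmonoid B p.primeCompl ≤ q.primeCompl := by
    rintro _ ⟨a, ha, rfl⟩
    intro hmem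
    apply ha
    rw [hlo.over]
    exact hmem
  haveI := IsLocalization.isLocalization_of_submonoid_le (Rp ⊗[A] B) T _ _ hle
  haveI : IsReduced (Rp ⊗[A] B) := Groth.Agent.Helper14.isReduced_of_smooth Rp _
  exact isReduced_localizationPreserves (q.primeCompl.map (algebraMap B (Rp ⊗[A] B))) T
    inferInstance

set_option backward.defeqAttrib.useBackward true in
set_option backward.isDefEq.respectTransparency false in
/-- ascent of normality and reducedness at a smooth point -/
theorem stalk_ascent_of_mem_smoothLocus {X Y : Scheme.{u}} (f : X ⟶ Y)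
    [LocallyOfFinitePresentation f] (x : X) (hx : x ∈ f.smoothLocus) :
    (IsReduced (Y.presheaf.stalk (f x)) → IsReduced (X.presheaf.stalk x)) ∧
    ((IsDomain (Y.presheaf.stalk (f x)) ∧ IsIntegrallyClosed (Y.presheaf.stalk (f x))) →
      (IsDomain (X.presheaf.stalk x) ∧ IsIntegrallyClosed (X.presheaf.stalk x))) := by
  obtain ⟨V, hV, U, hU, hUV, hxU, Hsm⟩ := exists_smooth_of_formallySmooth_stalk f x hx
  have hxV : f x ∈ V := hUV hxU
  algebraize [(f.appLE V U hUV).hom]
  letI := Y.presheaf.algebra_section_stalk ⟨f x, hxV⟩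
  haveI := hV.isLocalization_stalk ⟨f x, hxV⟩
  letI := X.presheaf.algebra_section_stalk ⟨x, hxU⟩
  haveI := hU.isLocalization_stalk ⟨x, hxU⟩
  letI : Algebra (Y.presheaf.stalk (f x)) (X.presheaf.stalk x) := (f.stalkMap x).hom.toAlgebra
  letI : Algebra Γ(Y, V) (X.presheaf.stalk x) :=
    ((algebraMap Γ(X, U) (X.presheaf.stalk x)).comp (algebraMap Γ(Y, V) Γ(X, U))).toAlgebra
  haveI : IsScalarTower Γ(Y, V) Γ(X, U) (X.presheaf.stalk x) := IsScalarTower.of_algebraMap_eq' rfl
  haveI : IsScalarTower Γ(Y, V) (Y.presheaf.stalk (f x)) (X.presheaf.stalk x) := by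
    refine IsScalarTower.of_algebraMap_eq' ?_
    ext a
    simp only [RingHom.algebraMap_toAlgebra, RingHom.comp_apply]
    show X.presheaf.germ U x hxU (f.appLE V U hUV a) =
      f.stalkMap x (Y.presheaf.germ V (f x) hxV a)
    rw [Scheme.Hom.appLE, CommRingCat.comp_apply, TopCat.Presheaf.germ_res_apply,
      ← Scheme.Hom.germ_stalkMap_apply]
  let p := (hV.primeIdealOf ⟨f x, hxV⟩).asIdeal
  let q := (hU.primeIdealOf ⟨x, hxU⟩).asIdeal
  have hlo : q.LiesOver p :=
    ⟨congr($(IsAffineOpen.comap_primeIdealOf_appLE V hV U hU hUV hxU).1).symm⟩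
  constructor
  · intro hred
    exact isReduced_of_smooth_atPrime Γ(Y, V) Γ(X, U) p q (Y.presheaf.stalk (f x))
      (X.presheaf.stalk x)
  · rintro ⟨h1, h2⟩
    exact normal_of_smooth_atPrime Γ(Y, V) Γ(X, U) p q (Y.presheaf.stalk (f x))
      (X.presheaf.stalk x)

/-- descent of normality and reducedness at a flat point -/
theorem stalk_descent_of_flat_stalkMap {X Y : Scheme.{u}} (f : X ⟶ Y) (x : X)
    (hflat : (f.stalkMap x).hom.Flat) :
    (IsReduced (X.presheaf.stalk x) → IsReduced (Y.presheaf.stalk (f x))) ∧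
    ((IsDomain (X.presheaf.stalk x) ∧ IsIntegrallyClosed (X.presheaf.stalk x)) →
      (IsDomain (Y.presheaf.stalk (f x)) ∧ IsIntegrallyClosed (Y.presheaf.stalk (f x)))) := by
  letI : Algebra (Y.presheaf.stalk (f x)) (X.presheaf.stalk x) := (f.stalkMap x).hom.toAlgebra
  haveI : Module.Flat (Y.presheaf.stalk (f x)) (X.presheaf.stalk x) := hflat
  haveI : IsLocalHom (algebraMap (Y.presheaf.stalk (f x)) (X.presheaf.stalk x)) :=
    inferInstanceAs <| IsLocalHom (f.stalkMap x).hom
  haveI : Module.FaithfullyFlat (Y.presheaf.stalk (f x)) (X.presheaf.stalk x) :=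
    Module.FaithfullyFlat.of_flat_of_isLocalHom
  constructor
  · intro hred
    exact isReduced_of_injective (algebraMap (Y.presheaf.stalk (f x)) (X.presheaf.stalk x))
      (FaithfulSMul.algebraMap_injective _ _)
  · rintro ⟨h1, h2⟩
    exact ⟨Groth.Agent.Helper29.NormDesc.isDomain_of_faithfullyFlat _ (X.presheaf.stalk x),
      Groth.Agent.Helper29.NormDesc.isIntegrallyClosed_of_faithfullyFlat _ (X.presheaf.stalk x)⟩

end Groth.Agent.Helper16.NormalSmooth
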