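import Mathlib
set_option autoImplicit false
set_option linter.style.haveILetI false
set_option linter.dupNamespace false
open TensorProduct CategoryTheory CategoryTheory.Limits AlgebraicGeometry
universe u

namespace Groth.Agent.Helper16.SplitSch

/-- the affine chart `Spec (R' ⊗ Γ(X,V)) ⟶ X ×_S Spec R'` -/
theorem chart {X S : Scheme.{u}} (f : X ⟶ S) {U : S.Opens} (hU : IsAffineOpen U)
    {V : X.Opens} (hV : IsAffineOpen V) (hUV : V ≤ f ⁻¹ᵁ U)
    (R' : Type u) [CommRing R'] [Algebra Γ(S, U) R'] :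
    letI : Algebra Γ(S, U) Γ(X, V) := (f.appLE U V hUV).hom.toAlgebra
    ∃ γ : Spec (.of (R' ⊗[Γ(S, U)] Γ(X, V))) ⟶
        pullback f (Spec.map (CommRingCat.ofHom (algebraMap Γ(S, U) R')) ≫ hU.fromSpec),
      IsOpenImmersion γ ∧
      γ ≫ pullback.snd _ _ =
        Spec.map (CommRingCat.ofHom (algebraMap R' (R' ⊗[Γ(S, U)] Γ(X, V)))) ∧
      γ ≫ pullback.fst _ _ =
        Spec.map (CommRingCat.ofHom
          (Algebra.TensorProduct.includeRight : Γ(X, V) →ₐ[Γ(S, U)] R' ⊗[Γ(S, U)] Γ(X, V)).toRingHom)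
          ≫ hV.fromSpec ∧
      Set.range γ = (pullback.fst f
        (Spec.map (CommRingCat.ofHom (algebraMap Γ(S, U) R')) ≫ hU.fromSpec)) ⁻¹' (V : Set X) := by
  letI : Algebra Γ(S, U) Γ(X, V) := (f.appLE U V hUV).hom.toAlgebra
  let φ : Γ(S, U) ⟶ .of R' := CommRingCat.ofHom <| algebraMap Γ(S, U) R'
  let e₁ : Spec (.of (R' ⊗[Γ(S, U)] Γ(X, V))) ≅ pullback (Spec.map (f.appLE U V hUV)) (Spec.map φ) :=
    (pullbackSpecIso _ _ _).symm ≪≫ pullbackSymmetry _ _
  have he₁ : e₁.hom ≫ pullback.fst _ _ =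
      Spec.map (CommRingCat.ofHom Algebra.TensorProduct.includeRight.toRingHom) := by
    dsimp [e₁, RingHom.algebraMap_toAlgebra]
    rw [Category.assoc, pullbackSymmetry_hom_comp_fst]
    exact pullbackSpecIso_inv_snd ..
  have he₂ : e₁.hom ≫ pullback.snd _ _ =
      Spec.map (CommRingCat.ofHom (algebraMap R' (R' ⊗[Γ(S, U)] Γ(X, V)))) := by
    dsimp [e₁, RingHom.algebraMap_toAlgebra]
    rw [Category.assoc, pullbackSymmetry_hom_comp_snd]
    exact pullbackSpecIso_inv_fst ..
  let m := pullback.map (Spec.map (f.appLE U V hUV)) (Spec.map φ) f (Spec.map φ ≫ hU.fromSpec)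
      hV.fromSpec (𝟙 _) hU.fromSpec
      (IsAffineOpen.SpecMap_appLE_fromSpec ..) (by simp)
  refine ⟨e₁.hom ≫ m, inferInstance, ?_, ?_, ?_⟩
  · rw [Category.assoc]
    have : m ≫ pullback.snd _ _ = pullback.snd _ _ := by
      show pullback.map _ _ _ _ _ _ _ _ _ ≫ _ = _
      rw [pullback.lift_snd, Category.comp_id]
    rw [this, he₂]
  · rw [Category.assoc]
    have : m ≫ pullback.fst _ _ = pullback.fst _ _ ≫ hV.fromSpec := by
      show pullback.map _ _ _ _ _ _ _ _ _ ≫ _ = _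
      rw [pullback.lift_fst]
    rw [this, reassoc_of% he₁]
  · rw [Scheme.Hom.comp_base, TopCat.coe_comp, Set.range_comp,
      Set.range_eq_univ.mpr (show Function.Surjective e₁.hom from e₁.hom.homeomorph.surjective),
      Set.image_univ,
      Scheme.Pullback.range_map]
    simp [hV.range_fromSpec]
    rfl

/-- surjection with kernel generated by `1 - δ`, `δ` idempotent, is an open immersion on `Spec` -/
theorem isOpenImmersion_of_idem {P Q : Type u} [CommRing P] [CommRing Q] (ρ : P →+* Q)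
    (hsurj : Function.Surjective ρ) (δ : P) (hδ : IsIdempotentElem δ)
    (hker : RingHom.ker ρ = Ideal.span {1 - δ}) :
    IsOpenImmersion (Spec.map (CommRingCat.ofHom ρ)) := by
  letI : Algebra P Q := ρ.toAlgebra
  haveI : IsLocalization.Away δ Q := IsLocalization.away_of_isIdempotentElem hδ hker hsurj
  exact IsOpenImmersion.of_isLocalization δ

section prod
variable {J : Type} [Finite J] (Q : J → Type u) [∀ j, CommRing (Q j)] (B : Type u) [CommRing B]

/-- the projection `(∏ Q j) × B → Q j` -/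
def proj (j : J) : ((∀ j, Q j) × B) →+* Q j :=
  (Pi.evalRingHom Q j).comp (RingHom.fst (∀ j, Q j) B)

theorem proj_surjective (j : J) : Function.Surjective (proj Q B j) := by
  classical
  intro y
  exact ⟨(Pi.single j y, 0), by simp [proj]⟩

theorem proj_ker (j : J) [DecidableEq J] :
    RingHom.ker (proj Q B j) =
      Ideal.span {1 - ((Pi.single j 1, 0) : (∀ j, Q j) × B)} := by
  apply le_antisymm
  · rintro ⟨x, b⟩ hx
    rw [RingHom.mem_ker] at hx
    have hx' : x j = 0 := hx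
    rw [Ideal.mem_span_singleton']
    refine ⟨(x, b), ?_⟩
    apply Prod.ext
    · funext i
      show x i * (1 - (Pi.single j (1 : Q j) : ∀ j, Q j) i) = x i
      by_cases hj : i = j
      · subst hj; simp [hx']
      · simp [Pi.single_eq_of_ne hj]
    · show b * (1 - 0) = b
      simp
  · rw [Ideal.span_le, Set.singleton_subset_iff]
    show ((1 - ((Pi.single j 1, 0) : (∀ j, Q j) × B)).1 : ∀ j, Q j) j = 0
    simp

theorem idem_single (j : J) [DecidableEq J] :
    IsIdempotentElem ((Pi.single j 1, 0) : (∀ j, Q j) × B) := by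
  show _ * _ = _
  apply Prod.ext
  · show (Pi.single j (1 : Q j) : ∀ j, Q j) * Pi.single j 1 = Pi.single j 1
    rw [← Pi.single_mul, mul_one]
  · show (0 : B) * 0 = 0
    rw [mul_zero]

theorem isOpenImmersion_proj (j : J) :
    IsOpenImmersion (Spec.map (CommRingCat.ofHom (proj Q B j))) := by
  classical
  exact isOpenImmersion_of_idem _ (proj_surjective Q B j) _ (idem_single Q B j) (proj_ker Q B j)

/-- primes of `(∏ Q j) × B` -/
theorem prime_cases (c : Ideal ((∀ j, Q j) × B)) [c.IsPrime] :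
    (∃ (j : J) (q : Ideal (Q j)) (_ : q.IsPrime), c = q.comap (proj Q B j)) ∨
      ∃ (q : Ideal B) (_ : q.IsPrime), c = q.comap (RingHom.snd (∀ j, Q j) B) := by
  classical
  by_cases h1 : ((1, 0) : (∀ j, Q j) × B) ∈ c
  · right
    have hker : RingHom.ker (RingHom.snd (∀ j, Q j) B) ≤ c := by
      rintro ⟨x, b⟩ hx
      have hb : b = 0 := hx
      have : ((x, b) : (∀ j, Q j) × B) = (x, b) * (1, 0) := by
        apply Prod.ext
        · simp
        · simp [hb]
      rw [this]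
      exact c.mul_mem_left _ h1
    have hs : Function.Surjective (RingHom.snd (∀ j, Q j) B) := Prod.snd_surjective
    refine ⟨c.map (RingHom.snd (∀ j, Q j) B), Ideal.map_isPrime_of_surjective hs hker, ?_⟩
    rw [Ideal.comap_map_of_surjective _ hs]
    exact (sup_eq_left.mpr hker).symm
  · left
    have h2 : ((0, 1) : (∀ j, Q j) × B) ∈ c := by
      have : ((1, 0) : (∀ j, Q j) × B) * (0, 1) ∈ c := by
        have : ((1, 0) : (∀ j, Q j) × B) * (0, 1) = 0 := by
          apply Prod.ext <;> simp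
        rw [this]; exact c.zero_mem
      exact (‹c.IsPrime›.mem_or_mem this).resolve_left h1
    let c₁ : Ideal (∀ j, Q j) := c.map (RingHom.fst (∀ j, Q j) B)
    have hker : RingHom.ker (RingHom.fst (∀ j, Q j) B) ≤ c := by
      rintro ⟨x, b⟩ hx
      have hb : x = 0 := hx
      have : ((x, b) : (∀ j, Q j) × B) = (x, b) * (0, 1) := by
        apply Prod.ext
        · simp [hb]
        · simp
      rw [this]
      exact c.mul_mem_left _ h2
    have hs : Function.Surjective (RingHom.fst (∀ j, Q j) B) := Prod.fst_surjective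
    haveI : c₁.IsPrime := Ideal.map_isPrime_of_surjective hs hker
    obtain ⟨j, q, hq⟩ := PrimeSpectrum.exists_comap_evalRingHom_eq ⟨c₁, inferInstance⟩
    refine ⟨j, q.asIdeal, q.2, ?_⟩
    have h3 : c₁ = q.asIdeal.comap (Pi.evalRingHom Q j) := congrArg PrimeSpectrum.asIdeal hq.symm
    show c = (q.asIdeal.comap (Pi.evalRingHom Q j)).comap (RingHom.fst (∀ j, Q j) B)
    rw [← h3, Ideal.comap_map_of_surjective _ hs]
    exact (sup_eq_left.mpr hker).symm

end prod

/-- the pieces of `X ×_S Spec R'` cut out by a product decomposition of `R' ⊗ Γ(X,V)` -/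
theorem pieces {X S : Scheme.{u}} (f : X ⟶ S) {U : S.Opens} (hU : IsAffineOpen U)
    {V : X.Opens} (hV : IsAffineOpen V) (hUV : V ≤ f ⁻¹ᵁ U)
    (R' : Type u) [CommRing R'] [Algebra Γ(S, U) R'] (p' : Ideal R') [p'.IsPrime]
    {J : Type} [Finite J] (Q : J → Type u) [∀ j, CommRing (Q j)] [∀ j, Algebra R' (Q j)]
    (B : Type u) [CommRing B] [Algebra R' B] :
    letI : Algebra Γ(S, U) Γ(X, V) := (f.appLE U V hUV).hom.toAlgebra
    ∀ (E : (R' ⊗[Γ(S, U)] Γ(X, V)) ≃ₐ[R'] ((∀ j, Q j) × B))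
      (hB : ∀ (q : Ideal B) [q.IsPrime], q.comap (algebraMap R' B) ≠ p'),
    ∃ h : ∀ j, Spec (.of (Q j)) ⟶
        pullback f (Spec.map (CommRingCat.ofHom (algebraMap Γ(S, U) R')) ≫ hU.fromSpec),
      (∀ j, IsOpenImmersion (h j)) ∧
      (∀ j, h j ≫ pullback.snd _ _ = Spec.map (CommRingCat.ofHom (algebraMap R' (Q j)))) ∧
      (∀ j j', j ≠ j' → Disjoint (Set.range (h j)) (Set.range (h j'))) ∧
      (∀ j, Set.range (h j) ⊆ (pullback.fst f
        (Spec.map (CommRingCat.ofHom (algebraMap Γ(S, U) R')) ≫ hU.fromSpec)) ⁻¹' (V : Set X)) ∧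
      (∀ w : ↑(pullback f (Spec.map (CommRingCat.ofHom (algebraMap Γ(S, U) R')) ≫ hU.fromSpec)),
        pullback.snd f (Spec.map (CommRingCat.ofHom (algebraMap Γ(S, U) R')) ≫ hU.fromSpec) w =
          (⟨p', inferInstance⟩ : PrimeSpectrum R') →
        pullback.fst f (Spec.map (CommRingCat.ofHom (algebraMap Γ(S, U) R')) ≫ hU.fromSpec) w ∈ V →
        ∃ j, w ∈ Set.range (h j)) := by
  classical
  letI : Algebra Γ(S, U) Γ(X, V) := (f.appLE U V hUV).hom.toAlgebra
  intro E hB
  obtain ⟨γ, hγ, hγs, hγf, hγr⟩ := chart f hU hV hUV R'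
  let π : ∀ j, (R' ⊗[Γ(S, U)] Γ(X, V)) →+* Q j := fun j => (proj Q B j).comp E.toRingEquiv.toRingHom
  have hπalg : ∀ j, (π j).comp (algebraMap R' (R' ⊗[Γ(S, U)] Γ(X, V))) = algebraMap R' (Q j) := by
    intro j
    ext r
    show ((E (algebraMap R' _ r)).1 : ∀ j, Q j) j = algebraMap R' (Q j) r
    rw [E.commutes]
    rfl
  haveI hoi : ∀ j, IsOpenImmersion (Spec.map (CommRingCat.ofHom (π j))) := by
    intro j
    have : CommRingCat.ofHom (π j) =
        E.toRingEquiv.toCommRingCatIso.hom ≫ CommRingCat.ofHom (proj Q B j) := rfl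
    rw [this, Spec.map_comp]
    haveI := isOpenImmersion_proj Q B j
    infer_instance
  refine ⟨fun j => Spec.map (CommRingCat.ofHom (π j)) ≫ γ, fun j => inferInstance, ?_, ?_, ?_, ?_⟩
  · intro j
    rw [Category.assoc, hγs, ← Spec.map_comp, ← CommRingCat.ofHom_comp, hπalg]
  · intro j j' hjj'
    rw [Set.disjoint_iff_forall_ne]
    rintro _ ⟨a, rfl⟩ _ ⟨b, rfl⟩ hab
    have hab' : Spec.map (CommRingCat.ofHom (π j)) a = Spec.map (CommRingCat.ofHom (π j')) b :=
      γ.isOpenEmbedding.injective hab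
    let x : R' ⊗[Γ(S, U)] Γ(X, V) := E.symm (Pi.single j 1, 0)
    have h1 : π j x = 1 := by
      show ((E (E.symm (Pi.single j 1, 0))).1 : ∀ j, Q j) j = 1
      rw [E.apply_symm_apply]; simp
    have h2 : π j' x = 0 := by
      show ((E (E.symm (Pi.single j 1, 0))).1 : ∀ j, Q j) j' = 0
      rw [E.apply_symm_apply]; simp [Pi.single_eq_of_ne (Ne.symm hjj')]
    have h3 : x ∈ (Spec.map (CommRingCat.ofHom (π j')) b).asIdeal := by
      show π j' x ∈ b.asIdeal
      rw [h2]; exact b.asIdeal.zero_mem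
    rw [← hab'] at h3
    have h4 : π j x ∈ a.asIdeal := h3
    rw [h1] at h4
    exact a.2.one_notMem h4
  · rintro j _ ⟨a, rfl⟩
    have : (Spec.map (CommRingCat.ofHom (π j)) ≫ γ) a ∈ Set.range γ := ⟨_, rfl⟩
    rw [hγr] at this
    exact this
  · intro w hw hwV
    have hwr : w ∈ Set.range γ := by rw [hγr]; exact hwV
    obtain ⟨c, rfl⟩ := hwr
    have hc : c.asIdeal.comap (algebraMap R' (R' ⊗[Γ(S, U)] Γ(X, V))) = p' := by
      have h1 : (γ ≫ pullback.snd _ _) c = (⟨p', inferInstance⟩ : PrimeSpectrum R') := hw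
      rw [hγs] at h1
      exact congrArg PrimeSpectrum.asIdeal h1
    let c' : Ideal ((∀ j, Q j) × B) := c.asIdeal.comap E.symm.toRingEquiv.toRingHom
    haveI : c'.IsPrime := Ideal.comap_isPrime _ _
    have hcc' : c.asIdeal = c'.comap E.toRingEquiv.toRingHom := by
      ext y
      show y ∈ c.asIdeal ↔ E.symm (E y) ∈ c.asIdeal
      rw [E.symm_apply_apply]
    rcases prime_cases Q B c' with ⟨j, q, hq, hcq⟩ | ⟨q, hq, hcq⟩
    · refine ⟨j, ⟨⟨q, hq⟩, ?_⟩⟩
      show γ (Spec.map (CommRingCat.ofHom (π j)) ⟨q, hq⟩) = γ c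
      congr 1
      apply PrimeSpectrum.ext
      show q.comap (π j) = c.asIdeal
      rw [hcc', hcq, Ideal.comap_comap]
    · exfalso
      apply hB q
      rw [← hc, hcc', hcq, Ideal.comap_comap, Ideal.comap_comap]
      congr 1
      ext r
      show algebraMap R' B r = (E (algebraMap R' _ r)).2
      rw [E.commutes]
      rfl


/-- scheme-level piece data over a chart `V` of `X` -/
def PieceData (P : MorphismProperty Scheme.{u}) {X S U : Scheme.{u}} (f : X ⟶ S) (g : U ⟶ S)
    (u : U) (V : X.Opens) : Prop :=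
  ∃ (J : Type) (_ : Finite J) (T : J → Scheme.{u}) (h : ∀ j, T j ⟶ pullback f g) (t : ∀ j, T j),
    (∀ j, IsOpenImmersion (h j)) ∧ (∀ j, P (h j ≫ pullback.snd f g)) ∧
    (∀ j (a b : T j), pullback.snd f g (h j a) = pullback.snd f g (h j b) → a = b) ∧
    (∀ j, pullback.snd f g (h j (t j)) = u) ∧
    (∀ j j', j ≠ j' → Disjoint (Set.range (h j)) (Set.range (h j'))) ∧
    (∀ w : ↑(pullback f g), pullback.snd f g w = u → pullback.fst f g w ∈ V →
      ∃ j, w ∈ Set.range (h j))

theorem combine (P : MorphismProperty Scheme.{u}) [P.RespectsIso] {X S U : Scheme.{u}} (f : X ⟶ S)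
    (g : U ⟶ S) (u : U) {ι : Type} [Finite ι] (x : ι → ↑X) (hinj : Function.Injective x)
    (V : ι → X.Opens) (hxV : ∀ i, x i ∈ V i) (hpd : ∀ i, PieceData P f g u (V i)) :
    ∃ (K : Type) (_ : Finite K) (lab : K → ι) (V : K → (pullback f g).Opens),
        (∀ k, P ((V k).ι ≫ pullback.snd f g) ∧
          ∃ w : ↑(pullback f g), w ∈ V k ∧ pullback.snd f g w = u) ∧
        (∀ (k k' : K) (w : ↑(pullback f g)), w ∈ V k → w ∈ V k' → pullback.snd f g w = u → k = k') ∧
        (∀ (w : ↑(pullback f g)) (i : ι), pullback.snd f g w = u → pullback.fst f g w = x i →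
          ∃ k, lab k = i ∧ w ∈ V k) := by
  choose J hJ T h t hoi hP hinjh ht hdisj hcov using hpd
  haveI := hJ
  haveI := hoi
  let K := {k : Σ i, J i // pullback.fst f g (h k.1 k.2 (t k.1 k.2)) = x k.1}
  -- key: a point of a piece over `u` is the marked point
  have key : ∀ i j (w : ↑(pullback f g)), w ∈ Set.range (h i j) → pullback.snd f g w = u →
      w = h i j (t i j) := by
    rintro i j _ ⟨a, rfl⟩ hw
    rw [hinjh i j a (t i j) (hw.trans (ht i j).symm)]
  refine ⟨K, inferInstance, fun k => k.1.1, fun k => (h k.1.1 k.1.2).opensRange, ?_, ?_, ?_⟩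
  · rintro ⟨⟨i, j⟩, hk⟩
    refine ⟨?_, h i j (t i j), ⟨_, rfl⟩, ht i j⟩
    rw [← P.cancel_left_of_respectsIso (h i j).isoOpensRange.hom,
      Scheme.Hom.isoOpensRange_hom_ι_assoc]
    exact hP i j
  · rintro ⟨⟨i, j⟩, hk⟩ ⟨⟨i', j'⟩, hk'⟩ w hw hw' hwu
    have h1 := key i j w hw hwu
    have h2 := key i' j' w hw' hwu
    have hii' : i = i' := by
      apply hinj
      rw [← hk, ← hk']
      show pullback.fst f g (h i j (t i j)) = pullback.fst f g (h i' j' (t i' j'))
      rw [← h1, ← h2]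
    subst hii'
    have hjj' : j = j' := by
      by_contra hne
      exact Set.disjoint_iff_forall_ne.mp (hdisj i j j' hne) hw hw' rfl
    subst hjj'
    rfl
  · intro w i hwu hwx
    obtain ⟨j, hj⟩ := hcov i w hwu (by rw [hwx]; exact hxV i)
    have h1 := key i j w hj hwu
    refine ⟨⟨⟨i, j⟩, ?_⟩, rfl, hj⟩
    show pullback.fst f g (h i j (t i j)) = x i
    rw [← h1, hwx]


/-- from a product decomposition of `R' ⊗ Γ(X,V)` to piece data -/
theorem pieceData_of_split (P : MorphismProperty Scheme.{u}) {X S : Scheme.{u}} (f : X ⟶ S)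
    {U : S.Opens} (hU : IsAffineOpen U) {V : X.Opens} (hV : IsAffineOpen V) (hUV : V ≤ f ⁻¹ᵁ U)
    (R' : Type u) [CommRing R'] [Algebra Γ(S, U) R'] (p' : Ideal R') [p'.IsPrime]
    {J : Type} [Finite J] (Q : J → Type u) [∀ j, CommRing (Q j)] [∀ j, Algebra R' (Q j)]
    (hQs : ∀ j, Function.Surjective (algebraMap R' (Q j)))
    (hQk : ∀ j, RingHom.ker (algebraMap R' (Q j)) ≤ p')
    (hQP : ∀ j, P (Spec.map (CommRingCat.ofHom (algebraMap R' (Q j)))))
    (B : Type u) [CommRing B] [Algebra R' B] :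
    letI : Algebra Γ(S, U) Γ(X, V) := (f.appLE U V hUV).hom.toAlgebra
    ∀ (_ : (R' ⊗[Γ(S, U)] Γ(X, V)) ≃ₐ[R'] ((∀ j, Q j) × B))
      (_ : ∀ (q : Ideal B) [q.IsPrime], q.comap (algebraMap R' B) ≠ p'),
    PieceData P f (Spec.map (CommRingCat.ofHom (algebraMap Γ(S, U) R')) ≫ hU.fromSpec)
      (⟨p', inferInstance⟩ : PrimeSpectrum R') V := by
  letI : Algebra Γ(S, U) Γ(X, V) := (f.appLE U V hUV).hom.toAlgebra
  intro E hB
  obtain ⟨h, hoi, hsnd, hdisj, -, hcov⟩ := pieces f hU hV hUV R' p' Q B E hB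
  have hcm : ∀ j, (p'.map (algebraMap R' (Q j))).comap (algebraMap R' (Q j)) = p' := by
    intro j
    rw [Ideal.comap_map_of_surjective _ (hQs j)]
    exact sup_eq_left.mpr (hQk j)
  have hpr : ∀ j, (p'.map (algebraMap R' (Q j))).IsPrime := fun j =>
    Ideal.map_isPrime_of_surjective (hQs j) (hQk j)
  have hval : ∀ j (a : Spec (.of (Q j))), pullback.snd f
      (Spec.map (CommRingCat.ofHom (algebraMap Γ(S, U) R')) ≫ hU.fromSpec) (h j a) =
      Spec.map (CommRingCat.ofHom (algebraMap R' (Q j))) a := by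
    intro j a
    rw [← hsnd j]
    rfl
  refine ⟨_, inferInstance, fun j => Spec (.of (Q j)), h,
    fun j => (⟨p'.map (algebraMap R' (Q j)), hpr j⟩ : PrimeSpectrum (Q j)), hoi, ?_, ?_, ?_,
    hdisj, hcov⟩
  · intro j
    rw [hsnd]
    exact hQP j
  · intro j a b hab
    rw [hval, hval] at hab
    exact PrimeSpectrum.comap_injective_of_surjective _ (hQs j) hab
  · intro j
    rw [hval]
    exact PrimeSpectrum.ext (hcm j)

end Groth.Agent.Helper16.SplitSch
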