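import Mathlib
import Groth.Agent.Lib.Helper16.Alg.SplitData
import Groth.Agent.Lib.Helper16.Sch.SplitSch
set_option autoImplicit false
set_option linter.style.haveILetI false
set_option linter.dupNamespace false
open TensorProduct CategoryTheory CategoryTheory.Limits AlgebraicGeometry
universe u

namespace Groth.Agent.Helper16.SplitMain
open Groth.Agent.Helper16.SplitD Groth.Agent.Helper16.SplitSch

/-- ring-level property on affine opens inside a neighbourhood where the property holds -/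
theorem appLE_of_nhd {P : MorphismProperty Scheme.{u}}
    {Q : ∀ {R S : Type u} [CommRing R] [CommRing S], (R →+* S) → Prop} [HasRingHomProperty P Q]
    {X Y : Scheme.{u}} (φ : X ⟶ Y) (W : X.Opens) (hW : P (W.ι ≫ φ))
    (V : Y.Opens) (hV : IsAffineOpen V) (U : X.Opens) (hU : IsAffineOpen U) (hUW : U ≤ W)
    (e : U ≤ φ ⁻¹ᵁ V) : Q (φ.appLE V U e).hom := by
  have hUP : P (U.ι ≫ φ) := by
    rw [← X.homOfLE_ι hUW, Category.assoc]
    exact IsZariskiLocalAtSource.comp hW _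
  have e' : (⊤ : U.toScheme.Opens) ≤ (U.ι ≫ φ) ⁻¹ᵁ V := by
    rintro ⟨y, hy⟩ -
    exact e hy
  haveI : IsAffine U.toScheme := hU
  have h1 := HasRingHomProperty.appLE (P := P) (U.ι ≫ φ) hUP ⟨V, hV⟩
    ⟨⊤, isAffineOpen_top U.toScheme⟩ e'
  have e'' : (⊤ : U.toScheme.Opens) ≤ U.ι ⁻¹ᵁ U := by
    rintro ⟨y, hy⟩ -
    exact hy
  have h2 : φ.appLE V U e ≫ U.ι.appLE U ⊤ e'' = (U.ι ≫ φ).appLE V ⊤ e' :=
    Scheme.Hom.appLE_comp_appLE _ _ _ _ _ _ _
  haveI : IsIso (U.ι.appLE U ⊤ e'') := by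
    rw [Scheme.Opens.ι_appLE]
    have hle : U ≤ U.ι ''ᵁ ⊤ := by simp
    have hle' : U.ι ''ᵁ ⊤ ≤ U := by simp
    haveI : IsIso (homOfLE hle') :=
      ⟨homOfLE hle, Subsingleton.elim _ _, Subsingleton.elim _ _⟩
    haveI : IsIso (homOfLE hle').op := inferInstance
    exact Functor.map_isIso X.presheaf (homOfLE hle').op
  rw [← h2] at h1
  exact ((HasRingHomProperty.isLocal_ringHomProperty P).respectsIso.cancel_right_isIso _
    (U.ι.appLE U ⊤ e'')).mp h1

/-- common set-up: affine charts around the points -/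
theorem exists_charts {X S : Scheme.{u}} (f : X ⟶ S) (s : S) {ι : Type} (x : ι → ↑X)
    (hs : ∀ i, f (x i) = s) (W : ι → X.Opens) (hxW : ∀ i, x i ∈ W i) {U : S.Opens} (hsU : s ∈ U) :
    ∃ V : ι → X.Opens, (∀ i, IsAffineOpen (V i)) ∧ (∀ i, x i ∈ V i) ∧ (∀ i, V i ≤ W i) ∧
      ∀ i, V i ≤ f ⁻¹ᵁ U := by
  have hV : ∀ i, ∃ V : X.Opens, IsAffineOpen V ∧ x i ∈ V ∧ V ≤ W i ∧ V ≤ f ⁻¹ᵁ U := by
    intro i
    obtain ⟨_, ⟨V, hV, rfl⟩, hxV, hVle⟩ := X.isBasis_affineOpens.exists_subset_of_mem_open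
      (show x i ∈ (W i ⊓ f ⁻¹ᵁ U : X.Opens) from
        ⟨hxW i, by show f (x i) ∈ U; rw [hs]; exact hsU⟩) (W i ⊓ f ⁻¹ᵁ U).2
    exact ⟨V, hV, hxV, fun y hy => (hVle hy).1, fun y hy => (hVle hy).2⟩
  choose V h1 h2 h3 h4 using hV
  exact ⟨V, h1, h2, h3, h4⟩

theorem map_point {S : Scheme.{u}} {U : S.Opens} (hU : IsAffineOpen U) (s : S) (hsU : s ∈ U)
    (R' : Type u) [CommRing R'] [Algebra Γ(S, U) R'] (p' : Ideal R') [p'.IsPrime]
    [p'.LiesOver (hU.primeIdealOf ⟨s, hsU⟩).asIdeal] :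
    (Spec.map (CommRingCat.ofHom (algebraMap Γ(S, U) R')) ≫ hU.fromSpec)
      (⟨p', inferInstance⟩ : PrimeSpectrum R') = s := by
  have h1 : Spec.map (CommRingCat.ofHom (algebraMap Γ(S, U) R'))
      (⟨p', inferInstance⟩ : PrimeSpectrum R') = hU.primeIdealOf ⟨s, hsU⟩ :=
    PrimeSpectrum.ext (Ideal.over_def p' (hU.primeIdealOf ⟨s, hsU⟩).asIdeal).symm
  rw [Scheme.Hom.comp_apply, h1]
  exact hU.fromSpec_primeIdealOf ⟨s, hsU⟩

theorem main_unr {X S : Scheme.{u}} (f : X ⟶ S) (s : S)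
    {ι : Type} [Finite ι] (x : ι → ↑X) (hinj : Function.Injective x) (hs : ∀ i, f (x i) = s)
    (hx : ∀ i, ∃ W : X.Opens, x i ∈ W ∧ LocallyOfFiniteType (W.ι ≫ f) ∧
      FormallyUnramified (W.ι ≫ f)) :
    ∃ (U : Scheme.{u}) (g : U ⟶ S) (u : U), Etale g ∧ g u = s ∧
      ∃ (K : Type) (_ : Finite K) (lab : K → ι) (V : K → (pullback f g).Opens),
        (∀ k, IsClosedImmersion ((V k).ι ≫ pullback.snd f g) ∧
          ∃ w : ↑(pullback f g), w ∈ V k ∧ pullback.snd f g w = u) ∧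
        (∀ (k k' : K) (w : ↑(pullback f g)), w ∈ V k → w ∈ V k' → pullback.snd f g w = u → k = k') ∧
        (∀ (w : ↑(pullback f g)) (i : ι), pullback.snd f g w = u → pullback.fst f g w = x i →
          ∃ k, lab k = i ∧ w ∈ V k) := by
  obtain ⟨_, ⟨U, hU, rfl⟩, hsU, -⟩ := S.isBasis_affineOpens.exists_subset_of_mem_open
    (Set.mem_univ s) isOpen_univ
  choose W hxW hlft hunr using hx
  obtain ⟨V, hVaff, hxV, hVW, hUV⟩ := exists_charts f s x hs W hxW hsU
  letI : ∀ i, Algebra Γ(S, U) Γ(X, V i) := fun i => (f.appLE U (V i) (hUV i)).hom.toAlgebra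
  haveI : ∀ i, Algebra.Unramified Γ(S, U) Γ(X, V i) := fun i =>
    { formallyUnramified := appLE_of_nhd (P := @FormallyUnramified) f (W i) (hunr i) U hU (V i)
        (hVaff i) (hVW i) (hUV i)
      finiteType := appLE_of_nhd (P := @LocallyOfFiniteType) f (W i) (hlft i) U hU (V i)
        (hVaff i) (hVW i) (hUV i) }
  obtain ⟨R', _, _, _, p', _, _, hsd⟩ :=
    family_splitData' Γ(S, U) (hU.primeIdealOf ⟨s, hsU⟩).asIdeal (fun i => Γ(X, V i))
  haveI : Etale (Spec.map (CommRingCat.ofHom (algebraMap Γ(S, U) R'))) :=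
    HasRingHomProperty.Spec_iff.mpr (RingHom.etale_algebraMap.mpr inferInstance)
  have hpd : ∀ i, PieceData @IsClosedImmersion f
      (Spec.map (CommRingCat.ofHom (algebraMap Γ(S, U) R')) ≫ hU.fromSpec)
      (⟨p', inferInstance⟩ : PrimeSpectrum R') (V i) := by
    intro i
    obtain ⟨J, _, I, ⟨B, _, _, ⟨E⟩, hB⟩, hI⟩ := hsd i
    exact pieceData_of_split @IsClosedImmersion f hU (hVaff i) (hUV i) R' p'
      (fun j => R' ⧸ I j) (fun j => Ideal.Quotient.mk_surjective)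
      (fun j => by rw [Ideal.Quotient.algebraMap_eq, Ideal.mk_ker]; exact hI j)
      (fun j => IsClosedImmersion.spec_of_surjective _ Ideal.Quotient.mk_surjective) B E hB
  exact ⟨Spec (.of R'), _, (⟨p', inferInstance⟩ : PrimeSpectrum R'), inferInstance,
    map_point hU s hsU R' p',
    combine @IsClosedImmersion f _ _ x hinj V hxV hpd⟩

theorem main_et {X S : Scheme.{u}} (f : X ⟶ S) (s : S)
    {ι : Type} [Finite ι] (x : ι → ↑X) (hinj : Function.Injective x) (hs : ∀ i, f (x i) = s)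
    (hx : ∀ i, ∃ W : X.Opens, x i ∈ W ∧ Etale (W.ι ≫ f)) :
    ∃ (U : Scheme.{u}) (g : U ⟶ S) (u : U), Etale g ∧ g u = s ∧
      ∃ (K : Type) (_ : Finite K) (lab : K → ι) (V : K → (pullback f g).Opens),
        (∀ k, IsIso ((V k).ι ≫ pullback.snd f g) ∧
          ∃ w : ↑(pullback f g), w ∈ V k ∧ pullback.snd f g w = u) ∧
        (∀ (k k' : K) (w : ↑(pullback f g)), w ∈ V k → w ∈ V k' → pullback.snd f g w = u → k = k') ∧
        (∀ (w : ↑(pullback f g)) (i : ι), pullback.snd f g w = u → pullback.fst f g w = x i →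
          ∃ k, lab k = i ∧ w ∈ V k) := by
  obtain ⟨_, ⟨U, hU, rfl⟩, hsU, -⟩ := S.isBasis_affineOpens.exists_subset_of_mem_open
    (Set.mem_univ s) isOpen_univ
  choose W hxW het using hx
  obtain ⟨V, hVaff, hxV, hVW, hUV⟩ := exists_charts f s x hs W hxW hsU
  letI : ∀ i, Algebra Γ(S, U) Γ(X, V i) := fun i => (f.appLE U (V i) (hUV i)).hom.toAlgebra
  haveI : ∀ i, Algebra.Etale Γ(S, U) Γ(X, V i) := fun i =>
    appLE_of_nhd (P := @Etale) f (W i) (het i) U hU (V i) (hVaff i) (hVW i) (hUV i)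
  obtain ⟨R', _, _, _, p', _, _, hsd⟩ :=
    family_splitDataEt' Γ(S, U) (hU.primeIdealOf ⟨s, hsU⟩).asIdeal (fun i => Γ(X, V i))
  haveI : Etale (Spec.map (CommRingCat.ofHom (algebraMap Γ(S, U) R'))) :=
    HasRingHomProperty.Spec_iff.mpr (RingHom.etale_algebraMap.mpr inferInstance)
  have hpd : ∀ i, PieceData (MorphismProperty.isomorphisms Scheme.{u}) f
      (Spec.map (CommRingCat.ofHom (algebraMap Γ(S, U) R')) ≫ hU.fromSpec)
      (⟨p', inferInstance⟩ : PrimeSpectrum R') (V i) := by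
    intro i
    obtain ⟨J, _, B, _, _, ⟨E⟩, hB⟩ := hsd i
    exact pieceData_of_split (MorphismProperty.isomorphisms Scheme.{u}) f hU (hVaff i) (hUV i)
      R' p' (fun _ : J => R') (fun j => Function.surjective_id)
      (fun j => by
        intro r hr
        have : r = 0 := hr
        rw [this]; exact p'.zero_mem)
      (fun j => by
        rw [MorphismProperty.isomorphisms.iff]
        have : CommRingCat.ofHom (algebraMap R' R') = 𝟙 (CommRingCat.of R') := rfl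
        rw [this, Spec.map_id]
        infer_instance) B E hB
  obtain ⟨K, hK, lab, Vk, h1, h2, h3⟩ :=
    combine (MorphismProperty.isomorphisms Scheme.{u}) f _ _ x hinj V hxV hpd
  exact ⟨Spec (.of R'), _, (⟨p', inferInstance⟩ : PrimeSpectrum R'), inferInstance,
    map_point hU s hsU R' p', K, hK, lab, Vk,
    fun k => ⟨(MorphismProperty.isomorphisms.iff _).mp (h1 k).1, (h1 k).2⟩, h2, h3⟩

end Groth.Agent.Helper16.SplitMain
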