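import Mathlib
import Groth.Agent.Lib.Helper16.Alg.ENR
import Groth.Agent.Lib.Helper16.Alg.ResEW
import Groth.Agent.Lib.Helper16.Sch.SplitMain

set_option autoImplicit false
universe u

namespace Groth.Agent.Helper16.SmoothSec

open MvPolynomial

/-- a nonzero polynomial over a field has a non-root with coordinates in a finite separable
extension -/
theorem exists_sep_point (k : Type u) [Field k] (n : ℕ) (F : MvPolynomial (Fin n) k) (hF : F ≠ 0) :
    ∃ (k' : Type u) (_ : Field k') (_ : Algebra k k') (_ : FiniteDimensional k k')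
      (_ : Algebra.IsSeparable k k') (a : Fin n → k'), MvPolynomial.aeval a F ≠ 0 := by
  rcases finite_or_infinite k with hfin | hinf
  · -- finite field: perfect
    let K := AlgebraicClosure k
    have hF' : MvPolynomial.map (algebraMap k K) F ≠ 0 := by
      intro h
      apply hF
      apply MvPolynomial.map_injective _ (algebraMap k K).injective
      rw [h, map_zero]
    obtain ⟨a, ha⟩ : ∃ a : Fin n → K,
        MvPolynomial.eval a (MvPolynomial.map (algebraMap k K) F) ≠ 0 := by
      by_contra hcon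
      push_neg at hcon
      apply hF'
      apply MvPolynomial.funext
      intro a
      rw [hcon a, map_zero]
    let k' : IntermediateField k K := IntermediateField.adjoin k (Set.range a)
    have hfd : FiniteDimensional k k' :=
      IntermediateField.finiteDimensional_adjoin (fun x _ => Algebra.IsIntegral.isIntegral x)
    have hsep : Algebra.IsSeparable k k' := Algebra.IsAlgebraic.isSeparable_of_perfectField
    refine ⟨k', inferInstance, inferInstance, hfd, hsep,
      fun i => ⟨a i, IntermediateField.subset_adjoin _ _ ⟨i, rfl⟩⟩, ?_⟩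
    intro h0
    apply ha
    have h1 := congrArg (algebraMap k' K) h0
    rw [map_zero] at h1
    rw [← h1, MvPolynomial.eval_map, ← MvPolynomial.aeval_def]
    rw [← MvPolynomial.aeval_algebraMap_apply]
    rfl
  · refine ⟨k, inferInstance, inferInstance, inferInstance, inferInstance, ?_⟩
    by_contra hcon
    push_neg at hcon
    apply hF
    apply MvPolynomial.funext
    intro a
    have := hcon a
    simpa [MvPolynomial.aeval_def] using this


/-- finite separable ring hom between fields -/
def FinSep {K L : Type*} [Field K] [Field L] (f : K →+* L) : Prop :=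
  letI := f.toAlgebra
  FiniteDimensional K L ∧ Algebra.IsSeparable K L

theorem FinSep.comp {K L M : Type*} [Field K] [Field L] [Field M] {f : K →+* L} {g : L →+* M}
    (hf : FinSep f) (hg : FinSep g) : FinSep (g.comp f) := by
  letI := f.toAlgebra
  letI := g.toAlgebra
  letI := (g.comp f).toAlgebra
  haveI : IsScalarTower K L M := IsScalarTower.of_algebraMap_eq fun _ => rfl
  obtain ⟨h1, h2⟩ := hf
  obtain ⟨h3, h4⟩ := hg
  exact ⟨Module.Finite.trans L M, Algebra.IsSeparable.trans K L M⟩

theorem FinSep.of_comp {K L M : Type*} [Field K] [Field L] [Field M] {f : K →+* L} {g : L →+* M}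
    (h : FinSep (g.comp f)) : FinSep f := by
  letI := f.toAlgebra
  letI := g.toAlgebra
  letI := (g.comp f).toAlgebra
  haveI : IsScalarTower K L M := IsScalarTower.of_algebraMap_eq fun _ => rfl
  obtain ⟨h1, h2⟩ := h
  exact ⟨FiniteDimensional.left K L M, Algebra.isSeparable_tower_bot_of_isSeparable K L M⟩

theorem FinSep.of_algebra {K L : Type*} [Field K] [Field L] [inst : Algebra K L]
    [h1 : FiniteDimensional K L] [h2 : Algebra.IsSeparable K L] : FinSep (algebraMap K L) := by
  have : (algebraMap K L).toAlgebra = inst := Algebra.algebra_ext _ _ fun _ => rfl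
  unfold FinSep
  rw [this]
  exact ⟨h1, h2⟩


set_option backward.isDefEq.respectTransparency.types false in
theorem exists_sep_prime {A B : Type u} [CommRing A] [CommRing B] [Algebra A B] (n : ℕ)
    (g : MvPolynomial (Fin n) A →+* B) (hgC : g.comp MvPolynomial.C = algebraMap A B) (hg : g.Etale)
    (p : Ideal A) [p.IsPrime] (q : Ideal B) [q.IsPrime] (hq : q.comap (algebraMap A B) = p) :
    ∃ (Q : Ideal B) (_ : Q.IsPrime) (hQ : p = Q.comap (algebraMap A B)),
      FinSep (Ideal.ResidueField.map p Q (algebraMap A B) hQ) := by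
  classical
  algebraize [g]
  have hopen : IsOpenMap (PrimeSpectrum.comap (algebraMap (MvPolynomial (Fin n) A) B)) :=
    PrimeSpectrum.isOpenMap_comap_of_hasGoingDown_of_finitePresentation
  have hW : IsOpen (Set.range (PrimeSpectrum.comap g)) := hopen.isOpen_range
  let k := p.ResidueField
  let θ : MvPolynomial (Fin n) A →+* MvPolynomial (Fin n) k := MvPolynomial.map (algebraMap A k)
  have hkerθ : RingHom.ker θ = Ideal.map MvPolynomial.C p := by
    rw [MvPolynomial.ker_map, Ideal.ker_algebraMap_residueField]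
  let η : PrimeSpectrum (MvPolynomial (Fin n) k) := ⟨⊥, Ideal.isPrime_bot⟩
  have hη : PrimeSpectrum.comap θ η ∈ Set.range (PrimeSpectrum.comap g) := by
    have hsp : PrimeSpectrum.comap θ η ⤳ PrimeSpectrum.comap g ⟨q, inferInstance⟩ := by
      rw [← PrimeSpectrum.le_iff_specializes]
      show (⊥ : Ideal _).comap θ ≤ q.comap g
      rw [← RingHom.ker_eq_comap_bot, hkerθ, Ideal.map_le_iff_le_comap, Ideal.comap_comap, hgC, hq]
    exact hsp.mem_open hW ⟨_, rfl⟩
  have hW' : IsOpen ((PrimeSpectrum.comap θ) ⁻¹' Set.range (PrimeSpectrum.comap g)) :=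
    hW.preimage (PrimeSpectrum.continuous_comap θ)
  obtain ⟨_, ⟨F, rfl⟩, hFη, hFW⟩ :=
    PrimeSpectrum.isTopologicalBasis_basic_opens.exists_subset_of_mem_open
      (show η ∈ (PrimeSpectrum.comap θ) ⁻¹' Set.range (PrimeSpectrum.comap g) from hη) hW'
  have hF0 : F ≠ 0 := by
    rintro rfl
    exact hFη (by simp)
  obtain ⟨k', _, _, hfd, hsep, a, ha⟩ := exists_sep_point k n F hF0
  let φ : MvPolynomial (Fin n) k →ₐ[k] k' := MvPolynomial.aeval a
  let m' : PrimeSpectrum (MvPolynomial (Fin n) k) :=
    ⟨RingHom.ker φ.toRingHom, RingHom.ker_isPrime _⟩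
  have hm' : m' ∈ (PrimeSpectrum.basicOpen F : Set _) := by
    show F ∉ RingHom.ker φ.toRingHom
    exact ha
  obtain ⟨Qpt, hQpt⟩ := hFW hm'
  let Q : Ideal B := Qpt.asIdeal
  haveI : Q.IsPrime := Qpt.isPrime
  let Φ : MvPolynomial (Fin n) A →+* k' := φ.toRingHom.comp θ
  have hm : Q.comap g = RingHom.ker Φ := by
    have h := congrArg PrimeSpectrum.asIdeal hQpt
    rw [PrimeSpectrum.comap_asIdeal, PrimeSpectrum.comap_asIdeal] at h
    rw [h]
    exact RingHom.comap_ker φ.toRingHom θ
  have hΦC : ∀ c : A, Φ (MvPolynomial.C c) = algebraMap k k' (algebraMap A k c) := by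
    intro c
    show φ (MvPolynomial.map (algebraMap A k) (MvPolynomial.C c)) = _
    rw [MvPolynomial.map_C]
    show MvPolynomial.aeval a (MvPolynomial.C (algebraMap A k c)) = _
    rw [MvPolynomial.aeval_C]
  have hQ : p = Q.comap (algebraMap A B) := by
    rw [← hgC, ← Ideal.comap_comap, hm]
    ext c
    rw [Ideal.mem_comap, RingHom.mem_ker, hΦC, map_eq_zero, Ideal.algebraMap_residueField_eq_zero]
  let m : Ideal (MvPolynomial (Fin n) A) := RingHom.ker Φ
  haveI : m.IsPrime := RingHom.ker_isPrime Φ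
  have hmQ : m = Q.comap (algebraMap (MvPolynomial (Fin n) A) B) := hm.symm
  have hpm : p = m.comap (MvPolynomial.C) := by
    rw [hQ, ← hgC, ← Ideal.comap_comap, hm]
  have h1 : FinSep (Ideal.ResidueField.map m Q (algebraMap _ B) hmQ) := by
    haveI : Q.LiesOver m := ⟨hmQ⟩
    letI a1 : Algebra (Localization.AtPrime m) (Localization.AtPrime Q) :=
      Localization.AtPrime.algebraOfLiesOver m Q
    letI inst1 : Algebra m.ResidueField Q.ResidueField := inferInstance
    have hf : @Module.Finite m.ResidueField Q.ResidueField _ _ inst1.toModule := inferInstance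
    have hs : @Algebra.IsSeparable m.ResidueField Q.ResidueField _ _ inst1 := inferInstance
    letI inst2 := (Ideal.ResidueField.map m Q (algebraMap _ B) hmQ).toAlgebra
    refine ⟨?_, ?_⟩
    · refine @Module.Finite.of_equiv_equiv m.ResidueField Q.ResidueField m.ResidueField
        Q.ResidueField _ _ _ _ inst1 inst2 (RingEquiv.refl _) (RingEquiv.refl _) ?_ hf
      rfl
    · refine @Algebra.IsSeparable.of_equiv_equiv m.ResidueField Q.ResidueField m.ResidueField
        Q.ResidueField _ _ _ _ inst1 inst2 (RingEquiv.refl _) (RingEquiv.refl _) ?_ hs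
      rfl
  have h2 : FinSep (Ideal.ResidueField.map p m MvPolynomial.C hpm) := by
    let ι : m.ResidueField →+* k' := Ideal.ResidueField.lift m Φ le_rfl (by
      intro b hb
      show IsUnit (Φ b)
      rw [isUnit_iff_ne_zero]
      exact hb)
    have hι : ι.comp (Ideal.ResidueField.map p m MvPolynomial.C hpm) = algebraMap k k' := by
      apply Ideal.ResidueField.ringHom_ext
      ext c
      show ι (Ideal.ResidueField.map p m MvPolynomial.C hpm (algebraMap A p.ResidueField c)) =
        algebraMap k k' (algebraMap A k c)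
      rw [Ideal.ResidueField.map_algebraMap, Ideal.ResidueField.lift_algebraMap, hΦC]
    apply FinSep.of_comp (g := ι)
    rw [hι]
    exact FinSep.of_algebra
  refine ⟨Q, inferInstance, hQ, ?_⟩
  have hcomp : Ideal.ResidueField.map p Q (algebraMap A B) hQ =
      (Ideal.ResidueField.map m Q (algebraMap _ B) hmQ).comp
        (Ideal.ResidueField.map p m MvPolynomial.C hpm) := by
    apply Ideal.ResidueField.ringHom_ext
    ext c
    show Ideal.ResidueField.map p Q (algebraMap A B) hQ (algebraMap A p.ResidueField c) =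
      Ideal.ResidueField.map m Q (algebraMap _ B) hmQ
        (Ideal.ResidueField.map p m MvPolynomial.C hpm (algebraMap A p.ResidueField c))
    rw [Ideal.ResidueField.map_algebraMap, Ideal.ResidueField.map_algebraMap,
      Ideal.ResidueField.map_algebraMap]
    congr 1
    exact (congrArg (fun f => f c) hgC).symm
  rw [hcomp]
  exact h2.comp h1


open TensorProduct in
set_option backward.isDefEq.respectTransparency.types false in
/-- ring-level: a smooth chart (étale over a polynomial ring) has a section over an étale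
neighbourhood of any prime in the image -/
theorem exists_etale_section {A B : Type u} [CommRing A] [CommRing B] [Algebra A B] (n : ℕ)
    (g : MvPolynomial (Fin n) A →+* B) (hgC : g.comp MvPolynomial.C = algebraMap A B) (hg : g.Etale)
    (p : Ideal A) [p.IsPrime] (q : Ideal B) [q.IsPrime] (hq : q.comap (algebraMap A B) = p) :
    ∃ (C : Type u) (_ : CommRing C) (ι : A →+* C) (φ : B →+* C), ι.Etale ∧
      φ.comp (algebraMap A B) = ι ∧ ∃ (P : Ideal C) (_ : P.IsPrime), P.comap ι = p := by
  classical
  obtain ⟨Q, hQp, hQ, hfs⟩ := exists_sep_prime n g hgC hg p q hq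
  letI := (Ideal.ResidueField.map p Q (algebraMap A B) hQ).toAlgebra
  obtain ⟨h1, h2⟩ := hfs
  obtain ⟨A₁, _, _, hA₁, p₁, _, hp₁, σ, hσ⟩ := ENR.exists_etale_residue_ext A p Q.ResidueField
  let ψ₁ : B →+* p₁.ResidueField := σ.comp (algebraMap B Q.ResidueField)
  have hψ₁ : ∀ c : A, ψ₁ (algebraMap A B c) =
      algebraMap A₁ p₁.ResidueField (algebraMap A A₁ c) := by
    intro c
    show σ (algebraMap B Q.ResidueField (algebraMap A B c)) = _
    rw [← Ideal.ResidueField.map_algebraMap p Q (algebraMap A B) hQ c]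
    have := congrArg (fun f => f (algebraMap A p.ResidueField c)) hσ
    simp only [RingHom.comp_apply] at this
    rw [Ideal.ResidueField.map_algebraMap] at this
    rw [← this]
    rfl
  have hex : ∀ i : Fin n, ∃ b s : A₁, s ∉ p₁ ∧
      ψ₁ (g (MvPolynomial.X i)) * algebraMap A₁ p₁.ResidueField s =
        algebraMap A₁ p₁.ResidueField b := fun i => ResEW.exists_frac p₁ _
  choose b s hs hbs using hex
  let s₀ : A₁ := ∏ i, s i
  have hs₀ : s₀ ∉ p₁ := by
    intro h
    obtain ⟨i, -, hi⟩ := (Ideal.IsPrime.prod_mem_iff).mp h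
    exact hs i hi
  let A₂ := Localization.Away s₀
  have hunit : ∀ i, IsUnit (algebraMap A₁ A₂ (s i)) := by
    intro i
    apply isUnit_of_dvd_unit (map_dvd (algebraMap A₁ A₂) (Finset.dvd_prod_of_mem s (Finset.mem_univ i)))
    exact IsLocalization.Away.algebraMap_isUnit s₀
  let χ : A₂ →+* p₁.ResidueField := IsLocalization.Away.lift s₀ (g := algebraMap A₁ p₁.ResidueField)
    (by
      rw [isUnit_iff_ne_zero, Ne, Ideal.algebraMap_residueField_eq_zero]
      exact hs₀)
  have hχ : ∀ c : A₁, χ (algebraMap A₁ A₂ c) = algebraMap A₁ p₁.ResidueField c := fun c =>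
    IsLocalization.Away.lift_eq _ _ c
  let ã : Fin n → A₂ := fun i => algebraMap A₁ A₂ (b i) * ↑(hunit i).unit⁻¹
  have hã : ∀ i, χ (ã i) = ψ₁ (g (MvPolynomial.X i)) := by
    intro i
    have hne : algebraMap A₁ p₁.ResidueField (s i) ≠ 0 := by
      rw [Ne, Ideal.algebraMap_residueField_eq_zero]
      exact hs i
    apply mul_right_cancel₀ hne
    rw [hbs i, ← hχ (s i), ← map_mul, ← hχ (b i)]
    congr 1
    show algebraMap A₁ A₂ (b i) * ↑(hunit i).unit⁻¹ * algebraMap A₁ A₂ (s i) = _
    rw [mul_assoc, IsUnit.val_inv_mul, mul_one]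
  -- the section
  let α : MvPolynomial (Fin n) A →ₐ[A] A₂ := MvPolynomial.aeval ã
  letI : Algebra (MvPolynomial (Fin n) A) A₂ := α.toRingHom.toAlgebra
  letI : Algebra (MvPolynomial (Fin n) A) B := g.toAlgebra
  haveI : Algebra.Etale (MvPolynomial (Fin n) A) B := RingHom.etale_algebraMap.mp hg
  let C := A₂ ⊗[MvPolynomial (Fin n) A] B
  have hC : Algebra.Etale A₂ C := inferInstance
  have hA₂ : Algebra.Etale A₁ A₂ := Algebra.Etale.of_isLocalizationAway s₀
  let ι : A →+* C := (algebraMap A₂ C).comp ((algebraMap A₁ A₂).comp (algebraMap A A₁))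
  have hι : ι.Etale :=
    RingHom.Etale.stableUnderComposition _ _
      (RingHom.Etale.stableUnderComposition _ _ (RingHom.etale_algebraMap.mpr hA₁)
        (RingHom.etale_algebraMap.mpr hA₂))
      (RingHom.etale_algebraMap.mpr hC)
  let φ : B →+* C := (Algebra.TensorProduct.includeRight
    (R := MvPolynomial (Fin n) A) (A := A₂) (B := B)).toRingHom
  have hαC : ∀ c : A, α (MvPolynomial.C c) = algebraMap A₁ A₂ (algebraMap A A₁ c) := by
    intro c
    show MvPolynomial.aeval ã (MvPolynomial.C c) = _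
    rw [MvPolynomial.aeval_C, IsScalarTower.algebraMap_apply A A₁ A₂]
  have hφι : φ.comp (algebraMap A B) = ι := by
    ext c
    show (1 : A₂) ⊗ₜ[MvPolynomial (Fin n) A] (algebraMap A B c) =
      algebraMap A₂ C (algebraMap A₁ A₂ (algebraMap A A₁ c))
    rw [← hgC]
    show (1 : A₂) ⊗ₜ[MvPolynomial (Fin n) A]
      (algebraMap (MvPolynomial (Fin n) A) B (MvPolynomial.C c)) = _
    rw [Algebra.algebraMap_eq_smul_one, ← TensorProduct.smul_tmul, Algebra.smul_def, mul_one]
    show (α (MvPolynomial.C c)) ⊗ₜ[MvPolynomial (Fin n) A] (1 : B) = _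
    rw [hαC]
    rfl
  letI : Algebra (MvPolynomial (Fin n) A) p₁.ResidueField := (χ.comp α.toRingHom).toAlgebra
  let χ' : A₂ →ₐ[MvPolynomial (Fin n) A] p₁.ResidueField := { χ with commutes' := fun _ => rfl }
  have hcomm : ψ₁.comp g = χ.comp α.toRingHom := by
    apply MvPolynomial.ringHom_ext
    · intro c
      show ψ₁ (g (MvPolynomial.C c)) = χ (α (MvPolynomial.C c))
      rw [hαC, hχ, ← hψ₁, ← hgC]
      rfl
    · intro i
      show ψ₁ (g (MvPolynomial.X i)) = χ (MvPolynomial.aeval ã (MvPolynomial.X i))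
      rw [MvPolynomial.aeval_X, hã]
  let ψ₁' : B →ₐ[MvPolynomial (Fin n) A] p₁.ResidueField :=
    { ψ₁ with commutes' := fun x => congrArg (fun f => f x) hcomm }
  let Ψ : C →ₐ[MvPolynomial (Fin n) A] p₁.ResidueField :=
    Algebra.TensorProduct.productMap χ' ψ₁'
  refine ⟨C, inferInstance, ι, φ, hι, hφι, RingHom.ker Ψ.toRingHom, RingHom.ker_isPrime _, ?_⟩
  ext c
  rw [Ideal.mem_comap, RingHom.mem_ker]
  have : Ψ.toRingHom (ι c) = algebraMap A₁ p₁.ResidueField (algebraMap A A₁ c) := by
    show Ψ ((algebraMap A₁ A₂ (algebraMap A A₁ c)) ⊗ₜ 1) = _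
    rw [Algebra.TensorProduct.productMap_apply_tmul, map_one, mul_one]
    exact hχ _
  rw [this, Ideal.algebraMap_residueField_eq_zero, hp₁.over]
  rfl


open AlgebraicGeometry CategoryTheory in
/-- a smooth morphism has sections étale-locally on the target, through any point of the image -/
theorem smooth_section {X S : Scheme.{u}} (f : X ⟶ S) [Smooth f] (s : S) (hs : s ∈ Set.range f) :
    ∃ (S' : Scheme.{u}) (g : S' ⟶ S) (s' : S'), Etale g ∧ g s' = s ∧ ∃ h : S' ⟶ X, h ≫ f = g := by
  obtain ⟨x, rfl⟩ := hs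
  obtain ⟨U, hU, V, hV, hxV, e, hstd⟩ := Smooth.exists_isStandardSmooth f x
  obtain ⟨n, g, hgC, hg⟩ := hstd.exists_etale_mvPolynomial
  letI : Algebra Γ(S, U) Γ(X, V) := (f.appLE U V e).hom.toAlgebra
  have hsq := hU.SpecMap_appLE_fromSpec f hV e
  let qpt := hV.primeIdealOf ⟨x, hxV⟩
  have hfx : f x ∈ U := e hxV
  let ppt := hU.primeIdealOf ⟨f x, hfx⟩
  have hpq : Spec.map (f.appLE U V e) qpt = ppt := by
    apply hU.fromSpec.isOpenEmbedding.injective
    rw [← Scheme.Hom.comp_apply, hsq, Scheme.Hom.comp_apply, hV.fromSpec_primeIdealOf,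
      hU.fromSpec_primeIdealOf]
  have hq : qpt.asIdeal.comap (algebraMap Γ(S, U) Γ(X, V)) = ppt.asIdeal := by
    have := congrArg PrimeSpectrum.asIdeal hpq
    exact this
  obtain ⟨C, _, ι, φ, hι, hφι, P, hP, hPp⟩ :=
    exists_etale_section n g hgC hg ppt.asIdeal qpt.asIdeal hq
  letI : Algebra Γ(S, U) C := ι.toAlgebra
  haveI : P.LiesOver ppt.asIdeal := ⟨hPp.symm⟩
  refine ⟨Spec (CommRingCat.of C), Spec.map (CommRingCat.ofHom ι) ≫ hU.fromSpec,
    (⟨P, hP⟩ : PrimeSpectrum C), ?_, ?_, Spec.map (CommRingCat.ofHom φ) ≫ hV.fromSpec, ?_⟩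
  · haveI : Etale (Spec.map (CommRingCat.ofHom ι)) :=
      (HasRingHomProperty.Spec_iff (P := @Etale)).mpr hι
    infer_instance
  · exact SplitMain.map_point hU (f x) hfx C P
  · rw [Category.assoc, ← hsq, ← Category.assoc, ← Spec.map_comp]
    congr 2
    rw [← hφι]
    rfl

end Groth.Agent.Helper16.SmoothSec
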