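import Mathlib
import Groth.Agent.Lib.Helper14.LimFlat
import Groth.Agent.Lib.Helper16.Sch.ConsFD1

/-!
# Noetherian flat models of flat finitely presented algebras (helper16)
-/

set_option autoImplicit false
set_option linter.style.haveILetI false
set_option linter.unusedSectionVars false
universe u
open TensorProduct

namespace Groth.Agent.Helper16.FlatModel

attribute [local instance] Algebra.TensorProduct.rightAlgebra

/-- **EGA IV 11.2.6 packaged**: a flat finitely presented algebra is the base change of a flat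
finitely presented algebra over a Noetherian ring. -/
theorem exists_flat_model (R B : Type u) [CommRing R] [CommRing B] [Algebra R B]
    [Algebra.FinitePresentation R B] [Module.Flat R B] :
    ∃ (R₁ : Type u) (_ : CommRing R₁) (_ : Algebra R₁ R) (B₁ : Type u) (_ : CommRing B₁)
      (_ : Algebra R₁ B₁) (_ : Algebra B₁ B) (_ : Algebra R₁ B) (_ : IsScalarTower R₁ R B)
      (_ : IsScalarTower R₁ B₁ B),
      IsNoetherianRing R₁ ∧ Algebra.FinitePresentation R₁ B₁ ∧ Module.Flat R₁ B₁ ∧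
        Algebra.IsPushout R₁ R B₁ B := by
  classical
  obtain ⟨R₀, _, _, B₀, _, _, _, _, _, _, hR₀, hB₀, hpo⟩ :=
    Groth.Agent.Helper16.ConsFD.exists_model R B
  haveI := hB₀
  haveI := hpo
  -- the directed system of finitely generated subalgebras
  let ι := {S : Subalgebra R₀ R // S.FG}
  haveI : Nonempty ι := ⟨⟨⊥, Subalgebra.fg_bot⟩⟩
  haveI : IsDirected ι (· ≤ ·) :=
    ⟨fun a b => ⟨⟨a.1 ⊔ b.1, a.2.sup b.2⟩, le_sup_left (a := a.1), le_sup_right (b := b.1)⟩⟩
  let G : ι → Type u := fun i => ↥i.1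
  have hflat : Module.Flat R (R ⊗[R₀] B₀) := by
    have e : R ⊗[R₀] B₀ ≃ₐ[R] B := Algebra.IsPushout.equiv R₀ R B₀ B
    exact Module.Flat.of_linearEquiv e.toLinearEquiv
  have hsurj : ∀ a : R, ∃ i : ι, ∃ x : G i, i.1.val x = a := by
    intro a
    have hfg : (Algebra.adjoin R₀ ({a} : Set R)).FG := by
      have := Subalgebra.fg_adjoin_finset (R := R₀) ({a} : Finset R)
      simpa using this
    exact ⟨⟨Algebra.adjoin R₀ {a}, hfg⟩, ⟨a, Algebra.subset_adjoin (Set.mem_singleton a)⟩, rfl⟩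
  have hker : ∀ (i : ι) (x : G i), i.1.val x = 0 →
      ∃ j, ∃ h : i ≤ j, (Subalgebra.inclusion h : G i →ₐ[R₀] G j) x = 0 := by
    intro i x hx
    refine ⟨i, le_rfl, ?_⟩
    have : x = 0 := Subtype.ext hx
    rw [this, map_zero]
  obtain ⟨i, hi⟩ := Groth.Agent.Helper14.LimFlat.flat_descends (A₀ := R₀) G
    (fun i j h => Subalgebra.inclusion h) R (fun i => i.1.val)
    (fun i j h => by ext x; rfl) hsurj hker (B₀ := B₀) B₀ hflat
  -- the new model
  let R₁ : Type u := ↥i.1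
  haveI t1 : IsScalarTower R₁ R B := inferInstance
  haveI t2 : IsScalarTower R₀ R₁ B := IsScalarTower.of_algebraMap_eq fun x => by
    change algebraMap R₀ B x = algebraMap R B (algebraMap R₁ R (algebraMap R₀ R₁ x))
    rw [IsScalarTower.algebraMap_apply R₀ R B]
    rfl
  let ψ : R₁ ⊗[R₀] B₀ →ₐ[R₁] B :=
    Algebra.TensorProduct.lift (Algebra.ofId R₁ B) (IsScalarTower.toAlgHom R₀ B₀ B)
      (fun _ _ => Commute.all _ _)
  letI aB₁B : Algebra (R₁ ⊗[R₀] B₀) B := ψ.toRingHom.toAlgebra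
  haveI t3 : IsScalarTower R₁ (R₁ ⊗[R₀] B₀) B :=
    IsScalarTower.of_algebraMap_eq fun x => (ψ.commutes x).symm
  haveI t4 : IsScalarTower R₀ (R₁ ⊗[R₀] B₀) B := IsScalarTower.of_algebraMap_eq fun x => by
    change algebraMap R₀ B x = ψ (algebraMap R₀ (R₁ ⊗[R₀] B₀) x)
    rw [Algebra.TensorProduct.algebraMap_apply, Algebra.TensorProduct.lift_tmul, map_one,
      mul_one]
    change algebraMap R₀ B x = algebraMap R₁ B (algebraMap R₀ R₁ x)
    rw [← IsScalarTower.algebraMap_apply R₀ R₁ B]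
  haveI t5 : IsScalarTower B₀ (R₁ ⊗[R₀] B₀) B := IsScalarTower.of_algebraMap_eq fun b => by
    change algebraMap B₀ B b = ψ ((1 : R₁) ⊗ₜ b)
    rw [Algebra.TensorProduct.lift_tmul, map_one, one_mul]
    rfl
  haveI hfgR₁ : Algebra.FiniteType R₀ R₁ := (Subalgebra.fg_iff_finiteType i.1).mp i.2
  haveI : Algebra.FiniteType ℤ R₀ := hR₀
  haveI hnoeth : IsNoetherianRing R₁ := by
    haveI : Algebra.FiniteType ℤ R₁ := Algebra.FiniteType.trans hR₀ hfgR₁
    exact Algebra.FiniteType.isNoetherianRing ℤ R₁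
  have hpo' : Algebra.IsPushout R₁ R (R₁ ⊗[R₀] B₀) B :=
    (Algebra.IsPushout.comp_iff R₀ R₁ B₀ (S' := R₁ ⊗[R₀] B₀) (T := R) (T' := B)).mp hpo
  exact ⟨R₁, inferInstance, inferInstance, R₁ ⊗[R₀] B₀, inferInstance, inferInstance, aB₁B,
    inferInstance,
    t1, t3, hnoeth, inferInstance, hi, hpo'⟩

end Groth.Agent.Helper16.FlatModel
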