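import Mathlib
set_option autoImplicit false
universe u
open CategoryTheory CategoryTheory.Limits AlgebraicGeometry TopologicalSpace Topology

namespace Groth.Agent.Helper16.QFCodim

variable {U V : Scheme.{u}} (h : U ⟶ V)

/-- For `h` locally of finite type: quasi-finite at `u` iff some open neighbourhood of `u` is
locally quasi-finite over `V`. -/
theorem quasiFiniteAt_iff_exists_opens [LocallyOfFiniteType h] (u : U) :
    h.QuasiFiniteAt u ↔ ∃ W : U.Opens, u ∈ W ∧ LocallyQuasiFinite (W.ι ≫ h) ∧
      LocallyOfFiniteType (W.ι ≫ h) := by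
  constructor
  · intro hu
    refine ⟨h.quasiFiniteLocus, hu, ?_, inferInstance⟩
    rw [← Scheme.Hom.quasiFiniteLocus_eq_top_iff, Scheme.Hom.quasiFiniteLocus_comp]
    ext x
    constructor
    · intro _; trivial
    · intro _; exact x.2
  · rintro ⟨W, huW, hW, -⟩
    have h1 : (W.ι ≫ h).QuasiFiniteAt ⟨u, huW⟩ := (W.ι ≫ h).quasiFiniteAt _
    rwa [Scheme.Hom.quasiFiniteAt_comp_iff_of_isOpenImmersion] at h1

theorem quasiFiniteAt_iff_isOpen_singleton [LocallyOfFiniteType h] (u : U) :
    h.QuasiFiniteAt u ↔ IsOpen ({⟨u, rfl⟩} : Set ↥(h ⁻¹' {h u})) := by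
  rw [Scheme.Hom.quasiFiniteAt_iff_isOpen_singleton_asFiber,
    ← (h.fiberHomeo (h u)).isOpen_image]
  simp only [Set.image_singleton, Scheme.Hom.asFiber, Homeomorph.apply_symm_apply]

/-- `u` has no proper generization. -/
def NoGen {X : Type*} [TopologicalSpace X] (x : X) : Prop := ∀ x' : X, x' ⤳ x → x' = x

theorem exists_noGen_specializes {X : Type*} [TopologicalSpace X] [QuasiSober X] [T0Space X]
    (x : X) : ∃ x' : X, x' ⤳ x ∧ NoGen x' := by
  have hZ := irreducibleComponent_mem_irreducibleComponents x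
  obtain ⟨x', hx'⟩ := QuasiSober.sober isIrreducible_irreducibleComponent
    (isClosed_irreducibleComponent (x := x))
  have hcl : closure ({x'} : Set X) = irreducibleComponent x := hx'
  refine ⟨x', ?_, ?_⟩
  · rw [specializes_iff_mem_closure, hcl]; exact mem_irreducibleComponent
  · intro x'' hx''
    have h1 : irreducibleComponent x ≤ closure ({x''} : Set X) := by
      rw [← hcl]; exact specializes_iff_closure_subset.1 hx''
    have h2 : closure ({x''} : Set X) ≤ irreducibleComponent x :=
      hZ.2 isIrreducible_singleton.closure h1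
    rw [← hcl] at h2
    have h3 : x' ⤳ x'' := specializes_iff_closure_subset.2 h2
    exact (h3.antisymm hx'').eq.symm

theorem noGen_iff_ringKrullDim_stalk (u : U) :
    ringKrullDim (U.presheaf.stalk u) = 0 ↔ NoGen u := by
  rw [ringKrullDim_stalk_eq_coheight]
  have : ((Order.coheight u : ℕ∞) : WithBot ℕ∞) = 0 ↔ Order.coheight u = 0 := by
    exact_mod_cast Iff.rfl
  rw [this, Order.coheight_eq_zero]
  constructor
  · intro hmax u' hu'
    have h1 : u ≤ u' := hu'
    have h2 : u' ≤ u := hmax h1
    exact (Specializes.antisymm hu' h2).eq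
  · intro hng u' hu'
    have : u' = u := hng u' hu'
    rw [this]

/-- (a) -/
theorem noGen_of_quasiFiniteAt [LocallyOfFiniteType h] (u : U) (hu : h.QuasiFiniteAt u)
    (hv : NoGen (h u)) : NoGen u := by
  intro u' hu'
  have h1 : h u' = h u := hv _ (hu'.map h.continuous)
  rw [quasiFiniteAt_iff_isOpen_singleton] at hu
  have h2 : (⟨u', h1⟩ : ↥(h ⁻¹' {h u})) ⤳ ⟨u, rfl⟩ := (subtype_specializes_iff _ _).2 hu'
  have h3 := h2.mem_open hu rfl
  exact congrArg Subtype.val h3

theorem topologicalKrullDim_le_zero_of_forall_noGen {X : Type*} [TopologicalSpace X]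
    [QuasiSober X] (hX : ∀ x : X, NoGen x) : topologicalKrullDim X ≤ 0 := by
  unfold topologicalKrullDim
  rw [Order.krullDim_nonpos_iff_forall_isMax]
  intro Z Z' hZZ'
  obtain ⟨z, hz⟩ := QuasiSober.sober Z.isIrreducible Z.isClosed
  obtain ⟨z', hz'⟩ := QuasiSober.sober Z'.isIrreducible Z'.isClosed
  have hzcl : closure ({z} : Set X) = (Z : Set X) := hz
  have hz'cl : closure ({z'} : Set X) = (Z' : Set X) := hz'
  have h1 : z' ⤳ z := by
    rw [specializes_iff_mem_closure, hz'cl]
    apply hZZ'
    show z ∈ (Z : Set X)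
    rw [← hzcl]; exact subset_closure rfl
  have h2 : z' = z := hX z z' h1
  intro a ha
  have : a ∈ closure ({z'} : Set X) := by rw [hz'cl]; exact ha
  rw [h2, hzcl] at this
  exact this

/-- (b) -/
theorem quasiFiniteAt_of_forall_noGen [LocallyOfFiniteType h] (v : V)
    (hmax : ∀ u : U, h u = v → NoGen u) (u : U) (hu : h u = v) : h.QuasiFiniteAt u := by
  subst hu
  haveI : LocallyOfFiniteType (h.fiberToSpecResidueField (h u)) :=
    MorphismProperty.pullback_snd _ _ inferInstance
  haveI : IsLocallyNoetherian (h.fiber (h u)) :=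
    LocallyOfFiniteType.isLocallyNoetherian (h.fiberToSpecResidueField (h u))
  have hng : ∀ x : h.fiber (h u), NoGen x := by
    intro x x' hx'
    have h1 : h.fiberι (h u) x' ⤳ h.fiberι (h u) x := hx'.map (h.fiberι (h u)).continuous
    have h2 : h (h.fiberι (h u) x) = h u := by
      have : h.fiberι (h u) x ∈ Set.range (h.fiberι (h u)) := ⟨x, rfl⟩
      rw [Scheme.Hom.range_fiberι] at this
      exact this
    have h3 := hmax _ h2 _ h1
    exact (h.fiberι (h u)).isEmbedding.injective h3
  have hd := topologicalKrullDim_le_zero_of_forall_noGen hng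
  haveI := IsLocallyArtinian.of_topologicalKrullDim_le_zero (X := h.fiber (h u)) hd
  rw [Scheme.Hom.quasiFiniteAt_iff_isOpen_singleton_asFiber]
  exact isOpen_discrete _

/-- (c) -/
theorem noGen_of_forall_quasiFiniteAt [LocallyOfFiniteType h] (v : V) (hv : NoGen v)
    (hq : ∀ u : U, h u = v → NoGen u → h.QuasiFiniteAt u) (u : U) (hu : h u = v) : NoGen u := by
  obtain ⟨u', hu'u, hu'⟩ := exists_noGen_specializes u
  have h1 : h u' = v := by
    have := hu'u.map h.continuous
    rw [hu] at this
    exact hv _ this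
  subst h1
  have hqf := hq u' rfl hu'
  have hcl : IsClosed ({h.asFiber u'} : Set (h.fiber (h u'))) :=
    hqf.isClopen_singleton_asFiber.1
  set uF : h.fiber (h u') := (h.fiberHomeo (h u')).symm ⟨u, hu⟩ with huF
  have h2 : h.fiberι (h u') uF = u := h.fiberι_fiberHomeo_symm _ _
  have h3 : h.asFiber u' ⤳ uF := by
    rw [← (h.fiberι (h u')).isEmbedding.isInducing.specializes_iff, h2, Scheme.Hom.fiberι_asFiber]
    exact hu'u
  have h4 : uF ∈ closure ({h.asFiber u'} : Set (h.fiber (h u'))) :=
    specializes_iff_mem_closure.1 h3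
  rw [hcl.closure_eq, Set.mem_singleton_iff] at h4
  have h5 : u = u' := by
    rw [← h2, h4, Scheme.Hom.fiberι_asFiber]
  rw [h5]; exact hu'

end Groth.Agent.Helper16.QFCodim
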