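import Mathlib
import Groth.Agent.Lib.Helper16.Sch.QFCodim

set_option autoImplicit false
universe u

namespace Groth.Agent.Helper16.QFBC

open AlgebraicGeometry CategoryTheory Limits in
theorem qf_of_pullback {X S X' S' : Scheme.{u}} (f : X ⟶ S) [LocallyOfFiniteType f] (g : S' ⟶ S)
    (g' : X' ⟶ X) (f' : X' ⟶ S') (hsq : IsPullback g' f' f g) (x' : X')
    (h : f.QuasiFiniteAt (g' x')) : f'.QuasiFiniteAt x' := by
  haveI : LocallyOfFiniteType f' := MorphismProperty.of_isPullback hsq ‹_›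
  obtain ⟨W, hxW, hW, hWft⟩ :=
    (Groth.Agent.Helper16.QFCodim.quasiFiniteAt_iff_exists_opens f (g' x')).mp h
  rw [Groth.Agent.Helper16.QFCodim.quasiFiniteAt_iff_exists_opens]
  have hpb : IsPullback (g' ∣_ W) ((g' ⁻¹ᵁ W).ι ≫ f') (W.ι ≫ f) g :=
    (isPullback_morphismRestrict g' W).paste_vert hsq
  exact ⟨g' ⁻¹ᵁ W, hxW, MorphismProperty.of_isPullback hpb hW,
    MorphismProperty.of_isPullback hpb hWft⟩

open AlgebraicGeometry CategoryTheory Limits in
theorem isOpen_fibre_of_qf {X S : Scheme.{u}} (f : X ⟶ S) [LocallyOfFiniteType f] (x : X) (s : S)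
    (hx : f x = s) : f.QuasiFiniteAt x ↔ IsOpen ({⟨x, hx⟩} : Set ↥(f ⁻¹' {s})) := by
  subst hx
  exact Groth.Agent.Helper16.QFCodim.quasiFiniteAt_iff_isOpen_singleton f x

open AlgebraicGeometry CategoryTheory Limits in
theorem qf_of_qf_pullback {X S X' S' : Scheme.{u}} (f : X ⟶ S) [LocallyOfFiniteType f] (g : S' ⟶ S)
    (g' : X' ⟶ X) (f' : X' ⟶ S') (hsq : IsPullback g' f' f g) (x' : X')
    (h : f'.QuasiFiniteAt x') : f.QuasiFiniteAt (g' x') := by
  haveI : LocallyOfFiniteType f' := MorphismProperty.of_isPullback hsq ‹_›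
  have hx : f (g' x') = g (f' x') := by
    rw [← Scheme.Hom.comp_apply, ← Scheme.Hom.comp_apply, hsq.w]
  rw [isOpen_fibre_of_qf f (g' x') (g (f' x')) hx]
  rw [isOpen_fibre_of_qf f' x' (f' x') rfl] at h
  -- the map of fibres
  have hpb := isPullback_fiberToSpecResidueField_of_isPullback hsq (f' x')
  obtain ⟨m, hm⟩ : ∃ m : f'.fiber (f' x') ⟶ f.fiber (g (f' x')),
      m = pullback.map _ _ _ _ g' (Spec.map (g.residueFieldMap (f' x'))) g hsq.w.symm (by simp) :=
    ⟨_, rfl⟩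
  rw [← hm] at hpb
  haveI : UniversallyOpen (Spec.map (g.residueFieldMap (f' x'))) := inferInstance
  haveI : UniversallyOpen m := MorphismProperty.of_isPullback hpb.flip inferInstance
  have hmι : m ≫ f.fiberι (g (f' x')) = f'.fiberι (f' x') ≫ g' := by
    rw [hm]
    exact pullback.lift_fst _ _ _
  -- transport openness
  rw [← (f'.fiberHomeo (f' x')).symm.isOpen_image, Set.image_singleton] at h
  have h2 := m.isOpenMap _ h
  rw [Set.image_singleton] at h2
  rw [← (f.fiberHomeo (g (f' x'))).symm.isOpen_image, Set.image_singleton]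
  convert h2 using 2
  apply (f.fiberι (g (f' x'))).isEmbedding.injective
  rw [Scheme.Hom.fiberι_fiberHomeo_symm]
  have h3 : (f.fiberι (g (f' x'))) (m ((f'.fiberHomeo (f' x')).symm ⟨x', rfl⟩)) =
      (m ≫ f.fiberι (g (f' x'))) ((f'.fiberHomeo (f' x')).symm ⟨x', rfl⟩) := rfl
  rw [h3, hmι, Scheme.Hom.comp_apply, Scheme.Hom.fiberι_fiberHomeo_symm]

end Groth.Agent.Helper16.QFBC
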