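import Groth.Agent.Lib.Helper16.Alg.SectionDVR
import Groth.Agent.Lib.Helper16.Sch.FibStalk
import Groth.Prelude.Def_BlowUp2

set_option autoImplicit false
set_option linter.style.haveILetI false
universe u
open CategoryTheory CategoryTheory.Limits AlgebraicGeometry Opposite TopologicalSpace IsLocalRing

noncomputable section

namespace Groth.Agent.Helper16.SectionDVRSch

open Groth.Agent.Helper16.FibStalk

/-- The kernel of the stalk map of a closed immersion is generated by the germ of a generator of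
the ideal on an affine open. -/
theorem ker_stalkMap_eq_span {X V : Scheme.{u}} (j : X ⟶ V) [IsClosedImmersion j] (x : X)
    (U : V.affineOpens) (hxU : j x ∈ U.1) (f : Γ(V, U.1))
    (hf : j.ker.ideal U = Ideal.span {f}) :
    RingHom.ker (j.stalkMap x).hom = Ideal.span {V.presheaf.germ U.1 (j x) hxU f} := by
  have hU : IsAffineOpen U.1 := U.2
  have hker : RingHom.ker (j.app U.1).hom = Ideal.span {f} := by rw [← hf, Scheme.Hom.ker_apply]
  have hW : IsAffineOpen (j ⁻¹ᵁ U.1) := hU.preimage j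
  have hxW : x ∈ j ⁻¹ᵁ U.1 := hxU
  letI aV := TopCat.Presheaf.algebra_section_stalk V.presheaf (⟨j x, hxU⟩ : U.1)
  letI aX := TopCat.Presheaf.algebra_section_stalk X.presheaf (⟨x, hxW⟩ : (j ⁻¹ᵁ U.1 : X.Opens))
  haveI lV := hU.isLocalization_stalk ⟨j x, hxU⟩
  haveI lX := hW.isLocalization_stalk ⟨x, hxW⟩
  set p := (hU.primeIdealOf ⟨j x, hxU⟩).asIdeal with hp
  set q := (hW.primeIdealOf ⟨x, hxW⟩).asIdeal with hq
  have hgerm : ∀ s : Γ(V, U.1), (j.stalkMap x).hom (algebraMap Γ(V, U.1) (V.presheaf.stalk (j x)) s) =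
      algebraMap Γ(X, j ⁻¹ᵁ U.1) (X.presheaf.stalk x) ((j.app U.1).hom s) := by
    intro s
    exact Scheme.Hom.germ_stalkMap_apply j U.1 x hxU s
  apply le_antisymm
  · intro b hb
    rw [RingHom.mem_ker] at hb
    obtain ⟨⟨s, g⟩, hsg⟩ := IsLocalization.surj p.primeCompl b
    change b * algebraMap Γ(V, U.1) (V.presheaf.stalk (j x)) g =
      algebraMap Γ(V, U.1) (V.presheaf.stalk (j x)) s at hsg
    have hgu : IsUnit (algebraMap Γ(V, U.1) (V.presheaf.stalk (j x)) (g : Γ(V, U.1))) :=
      IsLocalization.map_units _ g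
    obtain ⟨gi, hgi⟩ := hgu.exists_left_inv
    have hs : (j.stalkMap x).hom (algebraMap Γ(V, U.1) (V.presheaf.stalk (j x)) s) = 0 := by
      rw [← hsg, map_mul, hb, zero_mul]
    rw [hgerm, IsLocalization.map_eq_zero_iff q.primeCompl] at hs
    obtain ⟨⟨g', hg'⟩, hg's⟩ := hs
    obtain ⟨g'', rfl⟩ := j.app_surjective U.1 hU g'
    have hmem : g'' * s ∈ RingHom.ker (j.app U.1).hom := by
      rw [RingHom.mem_ker, map_mul]; exact hg's
    rw [hker, Ideal.mem_span_singleton'] at hmem
    obtain ⟨c, hc⟩ := hmem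
    have hunit : IsUnit (algebraMap Γ(V, U.1) (V.presheaf.stalk (j x)) g'') := by
      have h1 : IsUnit (algebraMap Γ(X, j ⁻¹ᵁ U.1) (X.presheaf.stalk x) ((j.app U.1).hom g'')) :=
        (IsLocalization.AtPrime.isUnit_to_map_iff (X.presheaf.stalk x) q _).mpr hg'
      rw [← hgerm] at h1
      exact isUnit_of_map_unit (j.stalkMap x).hom _ h1
    obtain ⟨w, hw⟩ := hunit.exists_left_inv
    have e1 : algebraMap Γ(V, U.1) (V.presheaf.stalk (j x)) s =
        w * algebraMap Γ(V, U.1) (V.presheaf.stalk (j x)) c *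
          algebraMap Γ(V, U.1) (V.presheaf.stalk (j x)) f := by
      rw [mul_assoc, ← map_mul, hc, map_mul, ← mul_assoc, hw, one_mul]
    have e2 : b = gi * algebraMap Γ(V, U.1) (V.presheaf.stalk (j x)) s := by
      rw [← hsg, mul_comm b, ← mul_assoc, hgi, one_mul]
    rw [Ideal.mem_span_singleton']
    refine ⟨gi * (w * algebraMap Γ(V, U.1) (V.presheaf.stalk (j x)) c), ?_⟩
    change _ * algebraMap Γ(V, U.1) (V.presheaf.stalk (j x)) f = _
    rw [e2, e1]
    ring
  · rw [Ideal.span_le, Set.singleton_subset_iff]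
    change (j.stalkMap x).hom (algebraMap Γ(V, U.1) (V.presheaf.stalk (j x)) f) = 0
    rw [hgerm]
    have : f ∈ RingHom.ker (j.app U.1).hom := by rw [hker]; exact Ideal.mem_span_singleton_self f
    rw [RingHom.mem_ker] at this
    rw [this, map_zero]

end Groth.Agent.Helper16.SectionDVRSch

namespace Groth.Agent.Helper16.SectionDVRSch

open Groth.Agent.Helper16.FibStalk Groth.Agent.Helper16.SectionDVR

theorem germ_mem_nonZeroDivisors {V : Scheme.{u}} (U : V.affineOpens) (v : V) (hv : v ∈ U.1)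
    (f : Γ(V, U.1)) (hf : f ∈ nonZeroDivisors Γ(V, U.1)) :
    V.presheaf.germ U.1 v hv f ∈ nonZeroDivisors (V.presheaf.stalk v) := by
  letI aV := TopCat.Presheaf.algebra_section_stalk V.presheaf (⟨v, hv⟩ : U.1)
  haveI lV := U.2.isLocalization_stalk ⟨v, hv⟩
  exact IsLocalization.map_nonZeroDivisors_le (U.2.primeIdealOf ⟨v, hv⟩).asIdeal.primeCompl
    (V.presheaf.stalk v) (Submonoid.mem_map_of_mem _ hf)

theorem main {X V : Scheme.{u}} (π : V ⟶ X) [LocallyOfFiniteType π]
    (j : X ⟶ V) [IsClosedImmersion j] (hj : j ≫ π = 𝟙 X) (hJ : BlowUp.IsEffCartierIdeal j.ker)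
    (x : X) :
    ∃ _ : IsDomain ((π.fiber (π (j x))).presheaf.stalk (π.asFiber (j x))),
      IsDiscreteValuationRing ((π.fiber (π (j x))).presheaf.stalk (π.asFiber (j x))) := by
  set v := j x with hv
  have hπv : π v = x := by
    have := congrArg (fun f : X ⟶ X => f x) hj
    simpa using this
  obtain ⟨U, hvU, f, hfnzd, hfker⟩ := hJ v
  let A := X.presheaf.stalk (π v)
  let B := V.presheaf.stalk v
  let φ : A →+* B := (π.stalkMap v).hom
  let e := X.presheaf.stalkCongr (Inseparable.of_eq hπv.symm)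
  let ψ : B →+* A := e.hom.hom.comp (j.stalkMap x).hom
  let t : B := V.presheaf.germ U.1 v hvU f
  have ht : t ∈ nonZeroDivisors B := germ_mem_nonZeroDivisors U v hvU f hfnzd
  have hψφ : ∀ a, ψ (φ a) = a := by
    intro a
    have h1 := Scheme.Hom.stalkMap_comp j π x
    have h2 := Scheme.Hom.stalkMap_congr_hom (j ≫ π) (𝟙 X) hj x
    rw [h1] at h2
    have h3 : π.stalkMap v ≫ j.stalkMap x ≫ e.hom = 𝟙 _ := by
      rw [← Category.assoc]
      erw [h2]
      simp [e, TopCat.Presheaf.stalkCongr_hom]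
    exact congrArg (fun q => q.hom a) h3
  have hker : RingHom.ker ψ = Ideal.span {t} := by
    rw [← ker_stalkMap_eq_span j x U hvU f hfker]
    ext b
    simp only [RingHom.mem_ker, ψ, RingHom.comp_apply]
    constructor
    · intro h
      have : e.inv.hom (e.hom.hom ((j.stalkMap x).hom b)) = 0 := by rw [h, map_zero]
      have h' : e.inv.hom (e.hom.hom ((j.stalkMap x).hom b)) = (j.stalkMap x).hom b := by
        change (e.hom ≫ e.inv).hom _ = _
        rw [e.hom_inv_id]; rfl
      rwa [h'] at this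
    · intro h
      rw [h, map_zero]
  haveI : IsLocalHom φ := inferInstanceAs (IsLocalHom (π.stalkMap v).hom)
  let F := B ⧸ fibIdeal π v
  haveI : IsLocalRing (B ⧸ Ideal.map φ (maximalIdeal A)) :=
    inferInstanceAs (IsLocalRing (V.presheaf.stalk v ⧸ fibIdeal π v))
  have hmax : maximalIdeal F = Ideal.span {Ideal.Quotient.mk (fibIdeal π v) t} :=
    maximalIdeal_quotient_eq φ ψ hψφ t hker
  have hnil : ¬ IsNilpotent (Ideal.Quotient.mk (fibIdeal π v) t) :=
    not_isNilpotent_mk φ ψ hψφ t ht hker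
  let E := fibStalkEquiv π v
  haveI : LocallyOfFiniteType (π.fiberToSpecResidueField (π v)) :=
    MorphismProperty.pullback_snd _ _ inferInstance
  haveI : IsLocallyNoetherian (π.fiber (π v)) :=
    LocallyOfFiniteType.isLocallyNoetherian (π.fiberToSpecResidueField (π v))
  haveI : IsNoetherianRing F := isNoetherianRing_of_ringEquiv _ E.symm
  haveI hdomF : IsDomain F := isDomain_of_principal_maximalIdeal _ hmax hnil
  haveI hdvrF : IsDiscreteValuationRing F :=
    isDiscreteValuationRing_of_principal_maximalIdeal _ hmax hnil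
  haveI hdom : IsDomain ((π.fiber (π v)).presheaf.stalk (π.asFiber v)) :=
    E.symm.toMulEquiv.isDomain _
  refine ⟨hdom, ?_⟩
  exact IsDiscreteValuationRing.RingEquivClass.isDiscreteValuationRing E

end Groth.Agent.Helper16.SectionDVRSch
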