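import Mathlib
import Groth.Prelude.Def_MoreMor
import Groth.Agent.Lib.Helper12.CMBC
import Groth.Agent.Lib.Helper14.SectionComp2
import Groth.Agent.Lib.Helper16.Sch.FibStalk

set_option autoImplicit false
set_option linter.style.haveILetI false
set_option linter.unusedSectionVars false
universe u

open CategoryTheory AlgebraicGeometry Limits IsLocalRing

namespace Groth.Agent.Helper16.CMCons

open Groth.Agent.Helper16.FibStalk

/-- the local ring at `x` of the fibre of `f` through `x` is Cohen–Macaulay. -/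
def FibCM {X S : Scheme.{u}} (f : X ⟶ S) (x : X) : Prop :=
  LocCoh.IsCohenMacaulayLocalRing ((f.fiber (f x)).presheaf.stalk (f.asFiber x))

theorem fibCM_iff_quot {X S : Scheme.{u}} (f : X ⟶ S) (x : X) :
    FibCM f x ↔ LocCoh.IsCohenMacaulayLocalRing (X.presheaf.stalk x ⧸ fibIdeal f x) :=
  Groth.Agent.Helper12.CMBC.cm_fibre_stalk_iff_quot f (f x) (f.asFiber x) x (f.fiberι_asFiber x)

theorem fibCM_of_eq {X S : Scheme.{u}} {f f' : X ⟶ S} (h : f = f') (x : X) :
    FibCM f x ↔ FibCM f' x := by subst h; rfl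

theorem isCMAt_iff_fibCM {X S : Scheme.{u}} (f : X ⟶ S) [Flat f] (x : X) :
    MoreMor.IsCMAt f x ↔ FibCM f x :=
  ⟨fun h => h.2, fun h => ⟨Flat.stalkMap f x, h⟩⟩

section BC

variable {X Y X' Y' : Scheme.{u}} {f : X ⟶ Y} {g : Y' ⟶ Y} {f' : X' ⟶ Y'} {g' : X' ⟶ X}

theorem fibCM_bc [LocallyOfFiniteType f] (hsq : IsPullback g' f' f g) (x' : X') :
    FibCM f' x' ↔ FibCM f (g' x') := by
  haveI hft' : LocallyOfFiniteType f' := MorphismProperty.of_isPullback hsq ‹_›
  haveI := Groth.Agent.Helper14.SectionComp.isLocallyNoetherian_fiber f (f (g' x'))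
  haveI := Groth.Agent.Helper14.SectionComp.isLocallyNoetherian_fiber f' (f' x')
  exact Groth.Agent.Helper12.CMBC.cm_fibre_baseChange_iff hsq x' inferInstance inferInstance
    (Or.inr ‹_›)

end BC

theorem fibCM_comp_mono {X Y Y' : Scheme.{u}} (f : X ⟶ Y') (j : Y' ⟶ Y) [Mono j]
    [LocallyOfFiniteType (f ≫ j)] (z : X) :
    FibCM f z ↔ FibCM (f ≫ j) z := by
  have h1 : IsPullback (𝟙 Y') (𝟙 Y') j j := (IsKernelPair.id_of_mono j)
  have h2 : IsPullback (𝟙 X) f f (𝟙 Y') := IsPullback.of_horiz_isIso ⟨by simp⟩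
  have hsq : IsPullback (𝟙 X) f (f ≫ j) j := by
    have := h2.paste_vert h1
    simpa using this
  have := fibCM_bc hsq z
  simpa using this

theorem fibCM_openImmersion_comp {U X S : Scheme.{u}} (j : U ⟶ X) [IsOpenImmersion j] (f : X ⟶ S)
    (u : U) : FibCM (j ≫ f) u ↔ FibCM f (j u) := by
  rw [fibCM_iff_quot, fibCM_iff_quot]
  let e : X.presheaf.stalk (j u) ≃+* U.presheaf.stalk u :=
    (asIso (j.stalkMap u)).commRingCatIsoToRingEquiv
  have hI : fibIdeal (j ≫ f) u = (fibIdeal f (j u)).map (e : X.presheaf.stalk (j u) →+* _) := by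
    unfold fibIdeal
    rw [Ideal.map_map]
    congr 1
    show ((j ≫ f).stalkMap u).hom = (j.stalkMap u).hom.comp (f.stalkMap (j u)).hom
    rw [Scheme.Hom.stalkMap_comp]
    rfl
  exact (Groth.Agent.Helper12.CMBC.cm_iff_of_ringEquiv
    (Ideal.quotientEquiv (fibIdeal f (j u)) (fibIdeal (j ≫ f) u) e hI)).symm

theorem fibCM_fromSpec {X S : Scheme.{u}} (f : X ⟶ S) {U : X.Opens}
    (hU : IsAffineOpen U) (z : Spec Γ(X, U)) :
    FibCM (hU.fromSpec ≫ f) z ↔ FibCM f (hU.fromSpec z) :=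
  fibCM_openImmersion_comp hU.fromSpec f z

end Groth.Agent.Helper16.CMCons
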