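import Mathlib

set_option autoImplicit false
set_option linter.style.haveILetI false
universe u
open CategoryTheory CategoryTheory.Limits AlgebraicGeometry Opposite TopologicalSpace MvPolynomial

noncomputable section

namespace Groth.Agent.Helper16.AffDict

variable {n : Type u} {S : Scheme.{u}}

set_option backward.isDefEq.respectTransparency.types false in
/-- affine space over `S` is smooth over `S` -/
instance smooth_over [Finite n] : Smooth (𝔸(n; S) ↘ S) :=
  MorphismProperty.pullback_fst _ _ <| by
  have := isIso_of_isTerminal specULiftZIsTerminal.{u} terminalIsTerminal (terminal.from _)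
  rw [← terminal.comp_from (Spec.map (CommRingCat.ofHom C)),
    MorphismProperty.cancel_right_of_respectsIso (P := @Smooth),
    HasRingHomProperty.Spec_iff (P := @Smooth), RingHom.Smooth]
  haveI : Algebra.Smooth (ULift.{u} ℤ) (MvPolynomial n (ULift.{u} ℤ)) := {}
  convert! (inferInstance : Algebra.Smooth (ULift.{u} ℤ) (MvPolynomial n (ULift.{u} ℤ)))
  exact Algebra.algebra_ext _ _ fun _ ↦ rfl

set_option backward.isDefEq.respectTransparency.types false in
/-- a morphism from an affine scheme to affine space over an affine base is étale iff the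
corresponding map from the polynomial ring is étale -/
theorem etale_homOfVector_iff [IsAffine S] {X : Scheme.{u}} [IsAffine X] (g : X ⟶ S)
    (v : n → Γ(X, ⊤)) :
    Etale (AffineSpace.homOfVector g v) ↔
      (eval₂Hom g.appTop.hom v : MvPolynomial n Γ(S, ⊤) →+* Γ(X, ⊤)).Etale := by
  rw [← MorphismProperty.cancel_right_of_respectsIso (P := @Etale) _
    (AffineSpace.isoOfIsAffine n S).hom,
    HasRingHomProperty.iff_of_isAffine (P := @Etale), Scheme.Hom.comp_appTop,
    AffineSpace.isoOfIsAffine_hom_appTop, Category.assoc, CommRingCat.hom_comp,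
    RingHom.Etale.respectsIso.cancel_left_isIso]
  have : (CommRingCat.ofHom (eval₂Hom ((𝔸(n; S) ↘ S).appTop).hom (AffineSpace.coord S)) ≫
      (AffineSpace.homOfVector g v).appTop).hom = eval₂Hom g.appTop.hom v := by
    apply MvPolynomial.ringHom_ext
    · intro a
      simp only [CommRingCat.hom_comp, CommRingCat.hom_ofHom, RingHom.comp_apply, coe_eval₂Hom,
        eval₂_C]
      rw [← CommRingCat.comp_apply, ← Scheme.Hom.comp_appTop, AffineSpace.homOfVector_over]
    · intro i
      simp only [CommRingCat.hom_comp, CommRingCat.hom_ofHom, RingHom.comp_apply, coe_eval₂Hom,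
        eval₂_X]
      exact AffineSpace.homOfVector_appTop_coord g v i
  rw [this]

end Groth.Agent.Helper16.AffDict
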