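import Mathlib
import Groth.Prelude.Def_MoreMor
import Groth.Agent.Lib.Helper16.Sch.FibCM3
import Groth.Agent.Lib.Helper16.Sch.AffDict
import Groth.Agent.Lib.Helper12.SmoothNhd
import Groth.Agent.Lib.Helper9.RegLocExt
import Groth.Agent.Lib.Helper14.SectionComp2

set_option autoImplicit false
set_option linter.style.haveILetI false
universe u

open CategoryTheory AlgebraicGeometry Limits IsLocalRing

namespace Groth.Agent.Helper16.CMSch

open Groth.Agent.Helper16.FibStalk Groth.Agent.Helper16.FibCM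

/-- an Artinian local ring is Cohen–Macaulay. -/
theorem isCM_of_isArtinianRing (A : Type u) [CommRing A] [IsLocalRing A] [IsArtinianRing A] :
    LocCoh.IsCohenMacaulayLocalRing A := by
  haveI : IsNoetherianRing A := inferInstance
  refine { supportDim_eq_depth := ?_ }
  have h0 : ringKrullDim A = 0 := ringKrullDimZero_iff_ringKrullDim_eq_zero.mp inferInstance
  have h1 := Groth.Agent.Lead.Depth.depth_le_supportDim (R := A) A
  rw [Module.supportDim_self_eq_ringKrullDim, h0] at h1 ⊢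
  have h2 : LocCoh.depth A A = 0 := by
    have : ((LocCoh.depth A A : ℕ∞) : WithBot ℕ∞) ≤ ((0 : ℕ∞) : WithBot ℕ∞) := h1
    exact le_antisymm (WithBot.coe_le_coe.mp this) zero_le
  rw [h2]
  rfl

/-- a regular local ring is Cohen–Macaulay. -/
theorem isCM_of_isRegularLocalRing (A : Type u) [CommRing A] [IsRegularLocalRing A] :
    LocCoh.IsCohenMacaulayLocalRing A :=
  { supportDim_eq_depth := Groth.Agent.Helper9.RegLocExt.isCM_self }

/-- stalks of locally Artinian schemes are Artinian. -/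
theorem isArtinianRing_stalk (Z : Scheme.{u}) [IsLocallyArtinian Z] (z : Z) :
    IsArtinianRing (Z.presheaf.stalk z) := by
  obtain ⟨U, hU, hzU, -⟩ := TopologicalSpace.Opens.isBasis_iff_nbhd.mp Z.isBasis_affineOpens
    (TopologicalSpace.Opens.mem_top z)
  haveI : IsArtinianRing Γ(Z, U) := IsLocallyArtinian.isArtinianRing_presheaf_obj ⟨U, hU⟩
  letI := Z.presheaf.algebra_section_stalk ⟨z, hzU⟩
  haveI := hU.isLocalization_stalk ⟨z, hzU⟩
  exact IsArtinianRing.localization_artinian (hU.primeIdealOf ⟨z, hzU⟩).asIdeal.primeCompl _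

/-- a locally quasi-finite morphism is Cohen–Macaulay at every point where it is flat. -/
theorem isCMAt_of_locallyQuasiFinite {X Y : Scheme.{u}} (g : X ⟶ Y) [LocallyQuasiFinite g] (x : X)
    (hfl : (g.stalkMap x).hom.Flat) : MoreMor.IsCMAt g x := by
  refine ⟨hfl, ?_⟩
  haveI := isArtinianRing_stalk (g.fiber (g x)) (g.asFiber x)
  exact isCM_of_isArtinianRing _

/-- affine space is Cohen–Macaulay over its base at every point. -/
theorem isCMAt_affineSpace {n : Type u} [Finite n] (Y : Scheme.{u}) (a : 𝔸(n; Y)) :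
    MoreMor.IsCMAt (𝔸(n; Y) ↘ Y) a := by
  haveI : Smooth (𝔸(n; Y) ↘ Y) := Groth.Agent.Helper16.AffDict.smooth_over
  refine ⟨Flat.stalkMap (𝔸(n; Y) ↘ Y) a, ?_⟩
  haveI := Groth.Agent.Helper12.SmoothNhd.isRegularLocalRing_fibre_of_smooth (𝔸(n; Y) ↘ Y) a
  haveI := isCM_of_isRegularLocalRing (𝔸(n; Y).presheaf.stalk a ⧸ fibIdeal (𝔸(n; Y) ↘ Y) a)
  exact isCM_of_ringEquiv (fibStalkEquiv (𝔸(n; Y) ↘ Y) a)

end Groth.Agent.Helper16.CMSch
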