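import Mathlib
import Groth.Prelude.Def_MoreMor
import Groth.Agent.Lib.Helper16.Sch.CMSch1

set_option autoImplicit false
set_option linter.style.haveILetI false
universe u

open CategoryTheory AlgebraicGeometry Limits IsLocalRing

namespace Groth.Agent.Helper16.CMSch

open Groth.Agent.Helper16.FibStalk Groth.Agent.Helper16.FibCM

/-- (b) ⇒ (a): a morphism admitting, near `x`, a locally quasi-finite map to affine space over the
base which is flat at `x`, is Cohen–Macaulay at `x`. -/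
theorem isCMAt_of_qf_flat_to_affineSpace {X Y : Scheme.{u}} (f : X ⟶ Y)
    [LocallyOfFinitePresentation f] (x : X) (n : ℕ) (U : X.Opens) (hx : x ∈ U)
    (g : (U : Scheme.{u}) ⟶ 𝔸(ULift.{u} (Fin n); Y))
    (hcomm : g ≫ (𝔸(ULift.{u} (Fin n); Y) ↘ Y) = U.ι ≫ f) [LocallyQuasiFinite g]
    (hfl : (g.stalkMap ⟨x, hx⟩).hom.Flat) : MoreMor.IsCMAt f x := by
  have h1 := isCMAt_of_locallyQuasiFinite g ⟨x, hx⟩ hfl
  have h2 := isCMAt_affineSpace Y (g ⟨x, hx⟩)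
  haveI : LocallyOfFiniteType (g ≫ (𝔸(ULift.{u} (Fin n); Y) ↘ Y)) := by
    rw [hcomm]; infer_instance
  have hN : IsLocallyNoetherian ((g ≫ (𝔸(ULift.{u} (Fin n); Y) ↘ Y)).fiber
      ((𝔸(ULift.{u} (Fin n); Y) ↘ Y) (g ⟨x, hx⟩))) :=
    Groth.Agent.Helper14.SectionComp.isLocallyNoetherian_fiber _ _
  have h3 := isCMAt_comp g (𝔸(ULift.{u} (Fin n); Y) ↘ Y) ⟨x, hx⟩ hN h1 h2
  rw [hcomm] at h3
  have hNf : IsLocallyNoetherian (f.fiber (f (U.ι ⟨x, hx⟩))) :=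
    Groth.Agent.Helper14.SectionComp.isLocallyNoetherian_fiber f _
  have h4 := isCMAt_of_comp U.ι f ⟨x, hx⟩ hNf h3 (Flat.stalkMap U.ι ⟨x, hx⟩)
  exact h4.2

end Groth.Agent.Helper16.CMSch
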