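import Mathlib
import Groth.Agent.Lib.Helper16.Sch.AffDict

set_option autoImplicit false
set_option linter.style.haveILetI false
universe u
open CategoryTheory CategoryTheory.Limits AlgebraicGeometry Opposite TopologicalSpace MvPolynomial

noncomputable section

namespace Groth.Agent.Helper16.AffDict

variable {n : Type u} {S : Scheme.{u}}

theorem homOfVector_comp_map {X T : Scheme.{u}} (f : X ⟶ S) (v : n → Γ(X, ⊤)) (g : S ⟶ T) :
    AffineSpace.homOfVector f v ≫ AffineSpace.map n g = AffineSpace.homOfVector (f ≫ g) v := by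
  ext1
  · simp
  · rename_i i
    rw [Scheme.Hom.comp_appTop, CommRingCat.comp_apply, AffineSpace.map_appTop_coord,
      AffineSpace.homOfVector_appTop_coord, AffineSpace.homOfVector_appTop_coord]

instance isOpenImmersion_map {T : Scheme.{u}} (g : S ⟶ T) [IsOpenImmersion g] :
    IsOpenImmersion (AffineSpace.map n g) :=
  MorphismProperty.of_isPullback (P := @IsOpenImmersion) (AffineSpace.isPullback_map g).flip ‹_›

/-- étale chart on a basic open -/
theorem etale_basicOpen_ι_comp_homOfVector [IsAffine S] {X : Scheme.{u}} [IsAffine X] (f : X ⟶ S)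
    (v : n → Γ(X, ⊤)) (g : Γ(X, ⊤))
    (h : ((algebraMap Γ(X, ⊤) Γ(X.basicOpen g, ⊤)).comp
      (eval₂Hom f.appTop.hom v : MvPolynomial n Γ(S, ⊤) →+* Γ(X, ⊤))).Etale) :
    Etale ((X.basicOpen g).ι ≫ AffineSpace.homOfVector f v) := by
  haveI : IsAffine (X.basicOpen g).toScheme := (isAffineOpen_top X).basicOpen g
  rw [AffineSpace.comp_homOfVector, etale_homOfVector_iff]
  convert h using 1
  apply MvPolynomial.ringHom_ext
  · intro a
    simp only [coe_eval₂Hom, eval₂_C, RingHom.comp_apply, Scheme.Hom.comp_appTop,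
      CommRingCat.hom_comp]
    rfl
  · intro i
    simp only [coe_eval₂Hom, eval₂_X, RingHom.comp_apply, Function.comp_apply]
    rfl

end Groth.Agent.Helper16.AffDict
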