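import Mathlib
import Groth.Prelude.Def_MoreMor
import Groth.Agent.Lib.Helper16.Alg.CMCoord6
import Groth.Agent.Lib.Helper16.Sch.FibCM
import Groth.Agent.Lib.Helper16.Sch.AffDict2

set_option autoImplicit false
set_option linter.style.haveILetI false
set_option linter.unusedSectionVars false
universe u

open CategoryTheory AlgebraicGeometry Limits

namespace Groth.Agent.Helper16.CMSch

set_option maxHeartbeats 1600000 in
set_option synthInstance.maxHeartbeats 400000 in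
/-- (a) ⇒ (b): near a Cohen–Macaulay point there is a flat locally quasi-finite morphism to affine
space over the base. -/
theorem exists_qf_flat_to_affineSpace {X Y : Scheme.{u}} (f : X ⟶ Y)
    [LocallyOfFinitePresentation f] (x : X) (hcm : MoreMor.IsCMAt f x) :
    ∃ (n : ℕ) (U : X.Opens) (_ : x ∈ U) (g : (U : Scheme.{u}) ⟶ 𝔸(ULift.{u} (Fin n); Y)),
      g ≫ (𝔸(ULift.{u} (Fin n); Y) ↘ Y) = U.ι ≫ f ∧ LocallyQuasiFinite g ∧ Flat g := by
  obtain ⟨hflat, hCMfib⟩ := hcm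
  obtain ⟨W, hW, hfx, -⟩ := TopologicalSpace.Opens.isBasis_iff_nbhd.mp Y.isBasis_affineOpens
    (TopologicalSpace.Opens.mem_top (f x))
  obtain ⟨V, hV, hxV, eV⟩ := TopologicalSpace.Opens.isBasis_iff_nbhd.mp X.isBasis_affineOpens
    (show x ∈ f ⁻¹ᵁ W from hfx)
  have hfp : (f.appLE W V eV).hom.FinitePresentation :=
    HasRingHomProperty.appLE @LocallyOfFinitePresentation f inferInstance ⟨W, hW⟩ ⟨V, hV⟩ eV
  algebraize [(f.appLE W V eV).hom]
  letI aΛ := Y.presheaf.algebra_section_stalk ⟨f x, hfx⟩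
  letI aLX := X.presheaf.algebra_section_stalk ⟨x, hxV⟩
  haveI lΛ := hW.isLocalization_stalk ⟨f x, hfx⟩
  haveI lLX := hV.isLocalization_stalk ⟨x, hxV⟩
  have hp : (hW.primeIdealOf ⟨f x, hfx⟩).asIdeal =
      (hV.primeIdealOf ⟨x, hxV⟩).asIdeal.comap (algebraMap Γ(Y, W) Γ(X, V)) := by
    have h3 := IsAffineOpen.comap_primeIdealOf_appLE (f := f) W hW V hV eV hxV
    exact congr($(h3).1).symm
  have hα : (f.stalkMap x).hom.comp (algebraMap Γ(Y, W) (Y.presheaf.stalk (f x))) =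
      (algebraMap Γ(X, V) (X.presheaf.stalk x)).comp (algebraMap Γ(Y, W) Γ(X, V)) := by
    ext a
    simp only [RingHom.comp_apply, RingHom.algebraMap_toAlgebra,
      Scheme.Hom.germ_stalkMap_apply, Scheme.Hom.appLE,
      homOfLE_leOfHom, CommRingCat.hom_comp, X.presheaf.germ_res_apply]
  letI aRLX : Algebra Γ(Y, W) (X.presheaf.stalk x) :=
    ((algebraMap Γ(X, V) (X.presheaf.stalk x)).comp (algebraMap Γ(Y, W) Γ(X, V))).toAlgebra
  haveI tRCLX : IsScalarTower Γ(Y, W) Γ(X, V) (X.presheaf.stalk x) :=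
    IsScalarTower.of_algebraMap_eq fun _ => rfl
  haveI hRLX : Module.Flat Γ(Y, W) (X.presheaf.stalk x) := by
    have h1 : (algebraMap Γ(Y, W) (Y.presheaf.stalk (f x))).Flat :=
      RingHom.flat_algebraMap_iff.mpr
        (IsLocalization.flat _ (hW.primeIdealOf ⟨f x, hfx⟩).asIdeal.primeCompl)
    have h2 := RingHom.Flat.comp h1 hflat
    rw [hα] at h2
    exact h2
  have hIX : Ideal.map (f.stalkMap x).hom (IsLocalRing.maximalIdeal (Y.presheaf.stalk (f x))) =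
      ((hV.primeIdealOf ⟨x, hxV⟩).asIdeal.comap (algebraMap Γ(Y, W) Γ(X, V))).map
        (algebraMap Γ(Y, W) (X.presheaf.stalk x)) := by
    rw [← hp, ← IsLocalization.AtPrime.map_eq_maximalIdeal (hW.primeIdealOf ⟨f x, hfx⟩).asIdeal
      (Y.presheaf.stalk (f x)), Ideal.map_map, hα]
    rfl
  haveI hCM : LocCoh.IsCohenMacaulayLocalRing (X.presheaf.stalk x ⧸ Ideal.map (f.stalkMap x).hom
      (IsLocalRing.maximalIdeal (Y.presheaf.stalk (f x)))) :=
    Groth.Agent.Helper16.FibCM.isCM_of_ringEquiv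
      (Groth.Agent.Helper16.FibStalk.fibStalkEquiv f x).symm
  obtain ⟨n, c, g₀, hgQ, hg⟩ := Groth.Agent.Helper16.CMCoord.cm_coords_nhd
    (hV.primeIdealOf ⟨x, hxV⟩).asIdeal (LX := X.presheaf.stalk x) _ hIX
  have hUaff : IsAffineOpen (X.basicOpen g₀) := hV.basicOpen g₀
  have hxU : x ∈ X.basicOpen g₀ := (X.mem_basicOpen g₀ x hxV).mpr
    (IsLocalization.map_units (X.presheaf.stalk x)
      (⟨g₀, hgQ⟩ : (hV.primeIdealOf ⟨x, hxV⟩).asIdeal.primeCompl))
  haveI lCg : IsLocalization.Away g₀ Γ(X, X.basicOpen g₀) := hV.isLocalization_basicOpen g₀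
  obtain ⟨hfl, hqf⟩ := hg Γ(X, X.basicOpen g₀)
  have eU : X.basicOpen g₀ ≤ f ⁻¹ᵁ W := (X.basicOpen_le g₀).trans eV
  have happ : (f.appLE W (X.basicOpen g₀) eU).hom =
      (algebraMap Γ(X, V) Γ(X, X.basicOpen g₀)).comp (algebraMap Γ(Y, W) Γ(X, V)) := by
    rw [← Scheme.Hom.appLE_map f eV (homOfLE (X.basicOpen_le g₀)).op]
    rfl
  set ψ : MvPolynomial (ULift.{u} (Fin n)) Γ(Y, W) →+* Γ(X, X.basicOpen g₀) :=
    (algebraMap Γ(X, V) Γ(X, X.basicOpen g₀)).comp
      (MvPolynomial.eval₂Hom (algebraMap Γ(Y, W) Γ(X, V)) c) with hψ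
  have hψC : CommRingCat.ofHom (MvPolynomial.C : Γ(Y, W) →+* MvPolynomial (ULift.{u} (Fin n)) Γ(Y, W)) ≫
      CommRingCat.ofHom ψ = f.appLE W (X.basicOpen g₀) eU := by
    ext a
    change ψ (MvPolynomial.C a) = (f.appLE W (X.basicOpen g₀) eU).hom a
    rw [happ, hψ, RingHom.comp_apply, MvPolynomial.eval₂Hom_C]
    rfl
  haveI : IsOpenImmersion (AffineSpace.map (ULift.{u} (Fin n)) hW.fromSpec) :=
    Groth.Agent.Helper16.AffDict.isOpenImmersion_map hW.fromSpec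
  haveI : Flat (Spec.map (CommRingCat.ofHom ψ)) :=
    (HasRingHomProperty.Spec_iff (P := @Flat)).mpr hfl
  haveI : LocallyQuasiFinite (Spec.map (CommRingCat.ofHom ψ)) :=
    (HasRingHomProperty.Spec_iff (P := @LocallyQuasiFinite)).mpr hqf
  refine ⟨n, X.basicOpen g₀, hxU,
    hUaff.isoSpec.hom ≫ Spec.map (CommRingCat.ofHom ψ) ≫
      (AffineSpace.SpecIso (ULift.{u} (Fin n)) Γ(Y, W)).inv ≫
      AffineSpace.map (ULift.{u} (Fin n)) hW.fromSpec, ?_, inferInstance, inferInstance⟩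
  simp only [Category.assoc]
  rw [AffineSpace.map_over, AffineSpace.SpecIso_inv_over_assoc, ← Spec.map_comp_assoc, hψC,
    IsAffineOpen.SpecMap_appLE_fromSpec f hW hUaff eU, ← Category.assoc]
  congr 1
  rw [IsAffineOpen.fromSpec, Iso.hom_inv_id_assoc]

end Groth.Agent.Helper16.CMSch
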