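import Mathlib
import Groth.Prelude.Def_MoreMor
import Groth.Agent.Lib.Helper16.Sch.CMCons1
import Groth.Agent.Lib.Helper16.Alg.GenRF5
import Groth.Agent.Lib.Helper4.Constr
import Groth.Agent.S4961

set_option autoImplicit false
set_option linter.style.haveILetI false
set_option linter.unusedSectionVars false
universe u

open CategoryTheory AlgebraicGeometry Limits IsLocalRing TensorProduct Topology

namespace Groth.Agent.Helper16.CMCons

theorem range_of_isPullback {X Y X' Y' : Scheme.{u}} {f : X ⟶ Y} {g : Y' ⟶ Y} {f' : X' ⟶ Y'}
    {g' : X' ⟶ X} (hsq : IsPullback g' f' f g) : Set.range g' = f ⁻¹' Set.range g := by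
  have h1 : g' = hsq.isoPullback.hom ≫ pullback.fst f g := by simp
  have hs : Function.Surjective hsq.isoPullback.hom := hsq.isoPullback.hom.homeomorph.surjective
  rw [h1, Scheme.Hom.comp_base, TopCat.coe_comp, Set.range_comp,
    Set.range_eq_univ.mpr hs, Set.image_univ,
    Scheme.Pullback.range_fst]

variable (R B : Type u) [CommRing R] [CommRing B] [Algebra R B]

/-- the fibrewise Cohen–Macaulay locus of `Spec B → Spec R`. -/
def cmLocus : Set (Spec (CommRingCat.of B)) :=
  {x | FibCM (Spec.map (CommRingCat.ofHom (algebraMap R B))) x}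

section pushout

variable {R B} (R' B' : Type u) [CommRing R'] [CommRing B'] [Algebra R R'] [Algebra R B']
  [Algebra R' B'] [Algebra B B'] [IsScalarTower R R' B'] [IsScalarTower R B B']

theorem isPullback_of_isPushout (hpo : Algebra.IsPushout R R' B B') :
    IsPullback (Spec.map (CommRingCat.ofHom (algebraMap B B')))
      (Spec.map (CommRingCat.ofHom (algebraMap R' B')))
      (Spec.map (CommRingCat.ofHom (algebraMap R B)))
      (Spec.map (CommRingCat.ofHom (algebraMap R R'))) := by
  have hpo' := (CommRingCat.isPushout_iff_isPushout (R := R) (R' := R') (S := B) (S' := B')).mpr hpo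
  exact (isPullback_SpecMap_of_isPushout _ _ _ _ hpo').flip

variable [Algebra.FiniteType R B]

theorem lft_SpecMap : LocallyOfFiniteType (Spec.map (CommRingCat.ofHom (algebraMap R B))) := by
  rw [HasRingHomProperty.Spec_iff (P := @LocallyOfFiniteType)]
  exact RingHom.finiteType_algebraMap.mpr inferInstance

theorem preimage_cmLocus (hpo : Algebra.IsPushout R R' B B') :
    (Spec.map (CommRingCat.ofHom (algebraMap B B'))) ⁻¹' cmLocus R B = cmLocus R' B' := by
  haveI := lft_SpecMap (R := R) (B := B)
  ext x
  exact (fibCM_bc (isPullback_of_isPushout R' B' hpo) x).symm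

theorem image_cmLocus (hpo : Algebra.IsPushout R R' B B') :
    (Spec.map (CommRingCat.ofHom (algebraMap B B'))) '' cmLocus R' B' =
      cmLocus R B ∩ (Spec.map (CommRingCat.ofHom (algebraMap R B))) ⁻¹'
        Set.range (Spec.map (CommRingCat.ofHom (algebraMap R R'))) := by
  rw [← preimage_cmLocus R' B' hpo, Set.image_preimage_eq_inter_range,
    range_of_isPullback (isPullback_of_isPushout R' B' hpo)]

end pushout

end Groth.Agent.Helper16.CMCons
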