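import Mathlib
import Groth.Prelude.Def_MoreMor
import Groth.Agent.Lib.Helper16.Sch.CMCons2

set_option autoImplicit false
set_option linter.style.haveILetI false
set_option linter.unusedSectionVars false
universe u

open CategoryTheory AlgebraicGeometry Limits IsLocalRing TensorProduct Topology

namespace Groth.Agent.Helper16.CMCons

attribute [local instance] Algebra.TensorProduct.rightAlgebra

variable (R B : Type u) [CommRing R] [CommRing B] [Algebra R B]

theorem isOpen_cmLocus_of_flat [Module.Flat R B] [Algebra.FinitePresentation R B] :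
    IsOpen (cmLocus R B) := by
  haveI : Flat (Spec.map (CommRingCat.ofHom (algebraMap R B))) := by
    rw [Flat.SpecMap_iff]
    exact RingHom.flat_algebraMap_iff.mpr inferInstance
  haveI : LocallyOfFinitePresentation (Spec.map (CommRingCat.ofHom (algebraMap R B))) := by
    rw [HasRingHomProperty.Spec_iff (P := @LocallyOfFinitePresentation)]
    exact RingHom.finitePresentation_algebraMap.mpr inferInstance
  have := Groth.Agent.S4961.result (Spec.map (CommRingCat.ofHom (algebraMap R B)))
  convert this using 1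
  ext x
  exact (isCMAt_iff_fibCM _ x).symm

theorem range_comap_quotient_away (p : Ideal R) (a : R) :
    Set.range (PrimeSpectrum.comap (algebraMap R (Localization.Away (Ideal.Quotient.mk p a)))) =
      PrimeSpectrum.zeroLocus p ∩ PrimeSpectrum.basicOpen a := by
  have h1 : algebraMap R (Localization.Away (Ideal.Quotient.mk p a)) =
      (algebraMap (R ⧸ p) (Localization.Away (Ideal.Quotient.mk p a))).comp
        (Ideal.Quotient.mk p) := IsScalarTower.algebraMap_eq _ _ _
  have h2 := PrimeSpectrum.localization_away_comap_range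
    (Localization.Away (Ideal.Quotient.mk p a)) (Ideal.Quotient.mk p a)
  have h3 := _root_.range_comap_of_surjective (R ⧸ p) (Ideal.Quotient.mk p)
    Ideal.Quotient.mk_surjective
  rw [Ideal.mk_ker] at h3
  ext q
  constructor
  · rintro ⟨q', rfl⟩
    rw [h1, PrimeSpectrum.comap_comp_apply]
    refine ⟨?_, ?_⟩
    · rw [← h3]; exact ⟨_, rfl⟩
    · have : PrimeSpectrum.comap (algebraMap (R ⧸ p) _) q' ∈
          (PrimeSpectrum.basicOpen (Ideal.Quotient.mk p a) : Set _) := by
        rw [← h2]; exact ⟨_, rfl⟩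
      exact this
  · rintro ⟨hq1, hq2⟩
    rw [← h3] at hq1
    obtain ⟨q₁, rfl⟩ := hq1
    have : q₁ ∈ (PrimeSpectrum.basicOpen (Ideal.Quotient.mk p a) : Set _) := hq2
    rw [← h2] at this
    obtain ⟨q', rfl⟩ := this
    exact ⟨q', by rw [h1, PrimeSpectrum.comap_comp_apply]⟩


section noeth

variable [IsNoetherianRing R] [Algebra.FiniteType R B]

set_option maxHeartbeats 800000 in
set_option synthInstance.maxHeartbeats 200000 in
theorem exists_generic_piece (p : Ideal R) [hp : p.IsPrime] :
    ∃ a : R, a ∉ p ∧ IsConstructible (cmLocus R B ∩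
      (Spec.map (CommRingCat.ofHom (algebraMap R B))) ⁻¹'
        ((PrimeSpectrum.zeroLocus p ∩ PrimeSpectrum.basicOpen a : Set (PrimeSpectrum R)))) := by
  obtain ⟨s, hs, hfree, -⟩ := Groth.Agent.Helper16.GenRF.exists_free_fp_away (R ⧸ p) ((R ⧸ p) ⊗[R] B)
  obtain ⟨a, rfl⟩ := Ideal.Quotient.mk_surjective s
  have ha : a ∉ p := by
    intro hmem
    apply hs
    rw [Ideal.Quotient.eq_zero_iff_mem.mpr hmem]
    exact IsNilpotent.zero
  refine ⟨a, ha, ?_⟩
  set R' := Localization.Away (Ideal.Quotient.mk p a) with hR'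
  haveI : Module.Flat R' (R' ⊗[R] B) := by
    haveI : Module.Free R' (R' ⊗[R ⧸ p] ((R ⧸ p) ⊗[R] B)) := hfree
    exact Module.Flat.of_linearEquiv
      (TensorProduct.AlgebraTensorModule.cancelBaseChange R (R ⧸ p) R' R' B).symm
  haveI : IsNoetherianRing R' :=
    IsLocalization.isNoetherianRing (Submonoid.powers (Ideal.Quotient.mk p a)) R' inferInstance
  haveI : Algebra.FinitePresentation R' (R' ⊗[R] B) :=
    Algebra.FinitePresentation.of_finiteType.mp inferInstance
  have hopen := isOpen_cmLocus_of_flat R' (R' ⊗[R] B)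
  haveI : IsNoetherianRing (R' ⊗[R] B) := Algebra.FiniteType.isNoetherianRing R' (R' ⊗[R] B)
  haveI : TopologicalSpace.NoetherianSpace (Spec (CommRingCat.of (R' ⊗[R] B))) :=
    inferInstanceAs (TopologicalSpace.NoetherianSpace (PrimeSpectrum (R' ⊗[R] B)))
  have hcons := Groth.Agent.Helper4.Constr.isConstructible_of_isOpen hopen
  have hfpB : (algebraMap B (R' ⊗[R] B)).FinitePresentation := by
    haveI : IsNoetherianRing B := Algebra.FiniteType.isNoetherianRing R B
    haveI : Algebra.FiniteType R R' :=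
      Algebra.FiniteType.trans (inferInstance : Algebra.FiniteType R (R ⧸ p))
        (IsLocalization.finiteType_of_monoid_fg (Submonoid.powers (Ideal.Quotient.mk p a)) R')
    haveI : Algebra.FiniteType R (R' ⊗[R] B) :=
      Algebra.FiniteType.trans (inferInstance : Algebra.FiniteType R R') inferInstance
    haveI : Algebra.FiniteType B (R' ⊗[R] B) :=
      Algebra.FiniteType.of_restrictScalars_finiteType R B (R' ⊗[R] B)
    exact RingHom.finitePresentation_algebraMap.mpr
      (Algebra.FinitePresentation.of_finiteType.mp inferInstance)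
  have himg := PrimeSpectrum.isConstructible_comap_image hfpB hcons
  have hpo : Algebra.IsPushout R R' B (R' ⊗[R] B) := inferInstance
  have himg2 := image_cmLocus R' (R' ⊗[R] B) hpo
  have h6 : ((PrimeSpectrum.zeroLocus p ∩ PrimeSpectrum.basicOpen a : Set (PrimeSpectrum R)) :
      Set (Spec (CommRingCat.of R))) =
      Set.range (Spec.map (CommRingCat.ofHom (algebraMap R R'))) :=
    (range_comap_quotient_away R p a).symm
  have h4 : cmLocus R B ∩ (Spec.map (CommRingCat.ofHom (algebraMap R B))) ⁻¹'
      ((PrimeSpectrum.zeroLocus p ∩ PrimeSpectrum.basicOpen a : Set (PrimeSpectrum R))) =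
      (Spec.map (CommRingCat.ofHom (algebraMap B (R' ⊗[R] B)))) '' cmLocus R' (R' ⊗[R] B) :=
    (congrArg (fun Z => cmLocus R B ∩ (Spec.map (CommRingCat.ofHom (algebraMap R B))) ⁻¹' Z)
      h6).trans himg2.symm
  rw [h4]
  exact himg


omit [IsNoetherianRing R] [Algebra.FiniteType R B] [Algebra R B] [CommRing B] in
theorem aux_split (Z : Set (PrimeSpectrum R)) (hZcl : IsClosed Z)
    (hp : (PrimeSpectrum.vanishingIdeal Z).IsPrime) (a : R)
    (ha : a ∉ PrimeSpectrum.vanishingIdeal Z) :
    Z ∩ PrimeSpectrum.zeroLocus {a} ⊂ Z ∧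
      Z = (Z ∩ PrimeSpectrum.zeroLocus {a}) ∪
        (PrimeSpectrum.zeroLocus (PrimeSpectrum.vanishingIdeal Z) ∩ PrimeSpectrum.basicOpen a) := by
  have hZp : PrimeSpectrum.zeroLocus (PrimeSpectrum.vanishingIdeal Z) = Z := by
    rw [PrimeSpectrum.zeroLocus_vanishingIdeal_eq_closure]
    exact IsClosed.closure_eq hZcl
  refine ⟨⟨Set.inter_subset_left, fun h => ha ?_⟩, ?_⟩
  · have hgen : (⟨_, hp⟩ : PrimeSpectrum R) ∈
        PrimeSpectrum.zeroLocus (PrimeSpectrum.vanishingIdeal Z : Set R) :=
      (PrimeSpectrum.mem_zeroLocus _ _).mpr le_rfl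
    rw [hZp] at hgen
    have := (h hgen).2
    rw [PrimeSpectrum.mem_zeroLocus] at this
    exact this (Set.mem_singleton a)
  · rw [hZp]
    ext q
    constructor
    · intro hq
      by_cases haq : a ∈ q.asIdeal
      · left
        refine ⟨hq, ?_⟩
        rw [PrimeSpectrum.mem_zeroLocus]
        intro b hb
        rw [Set.mem_singleton_iff.mp hb]
        exact haq
      · right
        exact ⟨hq, haq⟩
    · rintro (h | h)
      · exact h.1
      · exact h.1

theorem isConstructible_cmLocus_inter :
    ∀ Z : Set (Spec (CommRingCat.of R)), IsClosed Z → IsConstructible (cmLocus R B ∩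
      (Spec.map (CommRingCat.ofHom (algebraMap R B))) ⁻¹' Z) := by
  haveI : TopologicalSpace.NoetherianSpace (Spec (CommRingCat.of R)) :=
    inferInstanceAs (TopologicalSpace.NoetherianSpace (PrimeSpectrum R))
  apply Groth.Agent.Helper4.Constr.noeth_induction
  · intro Z hZcl hZirr ih
    have hp : (PrimeSpectrum.vanishingIdeal (Z : Set (PrimeSpectrum R))).IsPrime :=
      PrimeSpectrum.isIrreducible_iff_vanishingIdeal_isPrime.mp hZirr
    obtain ⟨a, ha, hcons⟩ := exists_generic_piece R B
      (PrimeSpectrum.vanishingIdeal (Z : Set (PrimeSpectrum R)))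
    obtain ⟨hZ'lt, hZeq⟩ := aux_split R (Z : Set (PrimeSpectrum R)) hZcl hp a ha
    have hZ'cl : IsClosed (Z ∩ (PrimeSpectrum.zeroLocus {a} : Set (PrimeSpectrum R))) :=
      hZcl.inter (PrimeSpectrum.isClosed_zeroLocus _)
    have h1 := ih _ hZ'cl hZ'lt
    have hsplit : cmLocus R B ∩ (Spec.map (CommRingCat.ofHom (algebraMap R B))) ⁻¹' Z =
        (cmLocus R B ∩ (Spec.map (CommRingCat.ofHom (algebraMap R B))) ⁻¹'
          (Z ∩ (PrimeSpectrum.zeroLocus {a} : Set (PrimeSpectrum R)))) ∪
        (cmLocus R B ∩ (Spec.map (CommRingCat.ofHom (algebraMap R B))) ⁻¹'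
          ((PrimeSpectrum.zeroLocus (PrimeSpectrum.vanishingIdeal (Z : Set (PrimeSpectrum R))) ∩
            PrimeSpectrum.basicOpen a : Set (PrimeSpectrum R)))) := by
      rw [← Set.inter_union_distrib_left, ← Set.preimage_union]
      exact congrArg (fun W => cmLocus R B ∩
        (Spec.map (CommRingCat.ofHom (algebraMap R B))) ⁻¹' W) hZeq
    rw [hsplit]
    exact h1.union hcons
  · intro S hS hScl hSQ
    have : cmLocus R B ∩ (Spec.map (CommRingCat.ofHom (algebraMap R B))) ⁻¹' (⋃₀ S) =
        ⋃ t ∈ S, cmLocus R B ∩ (Spec.map (CommRingCat.ofHom (algebraMap R B))) ⁻¹' t := by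
      ext x
      simp only [Set.mem_inter_iff, Set.mem_preimage, Set.mem_sUnion, Set.mem_iUnion, exists_prop]
      constructor
      · rintro ⟨h1, t, ht, h2⟩
        exact ⟨t, ht, h1, h2⟩
      · rintro ⟨t, ht, h1, h2⟩
        exact ⟨h1, t, ht, h2⟩
    rw [this]
    exact IsConstructible.biUnion hS hSQ

theorem isConstructible_cmLocus_noeth : IsConstructible (cmLocus R B) := by
  have := isConstructible_cmLocus_inter R B Set.univ isClosed_univ
  simpa using this

end noeth

end Groth.Agent.Helper16.CMCons
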