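import Mathlib

set_option autoImplicit false
set_option linter.style.haveILetI false
universe u
open CategoryTheory CategoryTheory.Limits AlgebraicGeometry Opposite TopologicalSpace TensorProduct

noncomputable section

namespace Groth.Agent.Helper16.GenGS

variable {X Y : Scheme.{u}}

/-- the algebra structure on `L` induced by `Spec L ⟶ Spec Γ(Y, W) ⟶ Y` -/
theorem appLE_specMap_fromSpec' {L : Type u} [CommRing L] (W : Y.Opens) (hW : IsAffineOpen W)
    (φ : Γ(Y, W) →+* L) (hc : ⊤ ≤ (Spec.map (CommRingCat.ofHom φ) ≫ hW.fromSpec) ⁻¹ᵁ W) :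
    (((Spec.map (CommRingCat.ofHom φ) ≫ hW.fromSpec).appLE W ⊤ hc) ≫
      (Scheme.ΓSpecIso (.of L)).hom).hom = φ := by
  have h1 : ((Spec.map (CommRingCat.ofHom φ) ≫ hW.fromSpec).appLE W ⊤ hc) ≫
      (Scheme.ΓSpecIso (.of L)).hom = CommRingCat.ofHom φ := by
    rw [Scheme.Hom.comp_appLE, hW.fromSpec_app_self, Category.assoc, Category.assoc,
      Scheme.Hom.map_appLE_assoc]
    have h2 : ∀ e, (Spec.map (CommRingCat.ofHom φ)).appLE ⊤ ⊤ e =
        (Spec.map (CommRingCat.ofHom φ)).appTop := by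
      intro e
      simp [Scheme.Hom.appLE]
    rw [h2, ← Scheme.ΓSpecIso_inv_naturality_assoc, Iso.inv_hom_id, Category.comp_id]
  rw [h1]
  rfl

theorem le_preimage_specMap_fromSpec {L : Type u} [CommRing L] (W : Y.Opens) (hW : IsAffineOpen W)
    (φ : Γ(Y, W) →+* L) : ⊤ ≤ (Spec.map (CommRingCat.ofHom φ) ≫ hW.fromSpec) ⁻¹ᵁ W := by
  intro z _
  show (Spec.map (CommRingCat.ofHom φ) ≫ hW.fromSpec) z ∈ W
  rw [Scheme.Hom.comp_apply, ← SetLike.mem_coe, ← hW.range_fromSpec]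
  exact ⟨_, rfl⟩

/-- lifting field-valued points through `Spec A' ⟶ Spec Γ(Y, W) ⟶ Y` -/
theorem exists_lift (W : Y.Opens) (hW : IsAffineOpen W) {A' : Type u} [CommRing A']
    (ψ : Γ(Y, W) →+* A')
    (h1 : ∀ (K : Type u) [Field K] (φ : Γ(Y, W) →+* K) (q : PrimeSpectrum A'),
      RingHom.ker φ = q.asIdeal.comap ψ → ∃ φ'' : A' →+* K, φ''.comp ψ = φ)
    (h2 : Function.Injective (PrimeSpectrum.comap ψ))
    (K : Type u) [Field K] (c : Spec (.of K) ⟶ Y) (y' : Spec (.of A'))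
    (hc : c (IsLocalRing.closedPoint K) = (Spec.map (CommRingCat.ofHom ψ) ≫ hW.fromSpec) y') :
    ∃ c'' : Spec (.of K) ⟶ Spec (.of A'),
      c'' ≫ (Spec.map (CommRingCat.ofHom ψ) ≫ hW.fromSpec) = c ∧
        c'' (IsLocalRing.closedPoint K) = y' := by
  have hcW : Set.range c ⊆ Set.range hW.fromSpec := by
    rintro _ ⟨z, rfl⟩
    have hz : z = IsLocalRing.closedPoint K := Subsingleton.elim _ _
    rw [hz, hc, Scheme.Hom.comp_apply]
    exact ⟨_, rfl⟩
  let c₁ : Spec (.of K) ⟶ Spec Γ(Y, W) := IsOpenImmersion.lift hW.fromSpec c hcW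
  have hc₁ : c₁ ≫ hW.fromSpec = c := IsOpenImmersion.lift_fac _ _ _
  obtain ⟨φ, hφ⟩ : ∃ φ : Γ(Y, W) ⟶ .of K, Spec.map φ = c₁ := ⟨Spec.preimage c₁, Spec.map_preimage _⟩
  have hpt : Spec.map φ (IsLocalRing.closedPoint K) = Spec.map (CommRingCat.ofHom ψ) y' := by
    apply hW.fromSpec.isOpenEmbedding.injective
    rw [← Scheme.Hom.comp_apply, ← Scheme.Hom.comp_apply, hφ, hc₁, hc]
  have hker : RingHom.ker φ.hom = Ideal.comap ψ y'.asIdeal := by
    have := congrArg PrimeSpectrum.asIdeal hpt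
    rw [RingHom.ker_eq_comap_bot, ← IsLocalRing.maximalIdeal_eq_bot]
    exact this
  obtain ⟨φ'', hφ''⟩ := h1 K φ.hom y' hker
  have hcomp : CommRingCat.ofHom ψ ≫ CommRingCat.ofHom φ'' = φ := by
    ext x
    exact congrArg (fun g => g x) hφ''
  refine ⟨Spec.map (CommRingCat.ofHom φ''), ?_, ?_⟩
  · rw [← hc₁, ← hφ, ← Category.assoc, ← Spec.map_comp, hcomp]
  · apply h2
    have h3 : Spec.map (CommRingCat.ofHom ψ) (Spec.map (CommRingCat.ofHom φ'')
        (IsLocalRing.closedPoint K)) = Spec.map φ (IsLocalRing.closedPoint K) := by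
      rw [← Scheme.Hom.comp_apply, ← Spec.map_comp, hcomp]
    rw [hpt] at h3
    exact h3

end Groth.Agent.Helper16.GenGS
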