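import Mathlib
import Groth.Agent.Lib.Helper16.Sch.FibMap2

set_option autoImplicit false
set_option linter.style.haveILetI false
universe u
open CategoryTheory CategoryTheory.Limits AlgebraicGeometry Opposite TopologicalSpace Topology

noncomputable section

namespace Groth.Agent.Helper16.FibMap

open Groth.Agent.Helper16.ConsFD

section general

variable {X Y X' Y' : Scheme.{u}} {f : X ⟶ Y} {j : Y' ⟶ Y} {p : X' ⟶ X} {f' : X' ⟶ Y'}

/-- the map on self fibre products induced by a base change square -/
abbrev sqMap (hsq : IsPullback p f' f j) : pullback f' f' ⟶ pullback f f :=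
  pullback.map f' f' f f p p j hsq.w.symm hsq.w.symm

theorem sqMap_fst (hsq : IsPullback p f' f j) :
    sqMap hsq ≫ pullback.fst f f = pullback.fst f' f' ≫ p := pullback.lift_fst _ _ _

theorem sqMap_snd (hsq : IsPullback p f' f j) :
    sqMap hsq ≫ pullback.snd f f = pullback.snd f' f' ≫ p := pullback.lift_snd _ _ _

theorem isPullback_sqMap_fst (hsq : IsPullback p f' f j) :
    IsPullback (sqMap hsq) (pullback.fst f' f') (pullback.fst f f) p := by
  have h1 : IsPullback (pullback.snd f' f') (pullback.fst f' f') f' f' :=
    (IsPullback.of_hasPullback f' f').flip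
  have h2 : IsPullback (pullback.snd f' f' ≫ p) (pullback.fst f' f') f (f' ≫ j) :=
    h1.paste_horiz hsq
  have h3 : IsPullback (pullback.snd f f) (pullback.fst f f) f f :=
    (IsPullback.of_hasPullback f f).flip
  have e1 : pullback.snd f' f' ≫ p = sqMap hsq ≫ pullback.snd f f := (sqMap_snd hsq).symm
  have e2 : f' ≫ j = p ≫ f := hsq.w.symm
  rw [e1, e2] at h2
  exact IsPullback.of_right h2 (sqMap_fst hsq) h3

theorem isPullback_diagonal (hsq : IsPullback p f' f j) :
    IsPullback (pullback.diagonal f') p (sqMap hsq) (pullback.diagonal f) := by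
  have hr := (isPullback_sqMap_fst hsq).flip
  -- hr : IsPullback (fst') (sqMap) p (fst)
  have houter : IsPullback (pullback.diagonal f' ≫ pullback.fst f' f') p p
      (pullback.diagonal f ≫ pullback.fst f f) := by
    rw [pullback.diagonal_fst, pullback.diagonal_fst]
    exact IsPullback.of_horiz_isIso ⟨by simp⟩
  refine IsPullback.of_right houter ?_ hr
  apply pullback.hom_ext
  · rw [Category.assoc, sqMap_fst, ← Category.assoc, pullback.diagonal_fst, Category.assoc,
      pullback.diagonal_fst]
    simp
  · rw [Category.assoc, sqMap_snd, ← Category.assoc, pullback.diagonal_snd, Category.assoc,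
      pullback.diagonal_snd]
    simp

theorem isPullback_sqMap_base (hsq : IsPullback p f' f j) :
    IsPullback (sqMap hsq) (pullback.fst f' f' ≫ f') (pullback.fst f f ≫ f) j :=
  (isPullback_sqMap_fst hsq).paste_vert hsq

/-- **Fibrewise criterion**: a base change `f'` of `f` along `j` is universally injective iff every
point of `X ×_Y X` lying over the image of `j` is in the image of the diagonal. -/
theorem universallyInjective_iff_of_isPullback (hsq : IsPullback p f' f j) :
    UniversallyInjective f' ↔
      ∀ z : ↥(pullback f f), (pullback.fst f f ≫ f) z ∈ Set.range j →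
        z ∈ Set.range (pullback.diagonal f) := by
  rw [UniversallyInjective.iff_diagonal, surjective_iff]
  constructor
  · intro h z hz
    obtain ⟨y', hy'⟩ := hz
    obtain ⟨z', hz', -⟩ := Groth.Agent.Helper14.exists_preimage_of_isPullback
      (isPullback_sqMap_base hsq) z y' hy'.symm
    obtain ⟨x', rfl⟩ := h z'
    refine ⟨p x', ?_⟩
    rw [← hz', ← Scheme.Hom.comp_apply, ← Scheme.Hom.comp_apply, (isPullback_diagonal hsq).w]
  · intro h z'
    have hz : (pullback.fst f f ≫ f) (sqMap hsq z') ∈ Set.range j := by
      refine ⟨(pullback.fst f' f' ≫ f') z', ?_⟩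
      rw [← Scheme.Hom.comp_apply, ← Scheme.Hom.comp_apply, (isPullback_sqMap_base hsq).w]
    obtain ⟨x, hx⟩ := h _ hz
    obtain ⟨x', -, hx'⟩ := Groth.Agent.Helper14.exists_preimage_of_isPullback
      (isPullback_diagonal hsq).flip x z' hx
    exact ⟨x', ‹_›⟩

end general

variable {X Y S : Scheme.{u}}

/-- **S3444**: the locus where the fibre morphism is universally injective is locally
constructible. -/
theorem isLocallyConstructible_universallyInjective (f : X ⟶ Y) (g : Y ⟶ S)
    [LocallyOfFinitePresentation g] [QuasiSeparated g]
    [LocallyOfFinitePresentation (f ≫ g)] [QuasiCompact (f ≫ g)] [QuasiSeparated (f ≫ g)] :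
    IsLocallyConstructible {s : S | UniversallyInjective (fibMap f g s)} := by
  haveI := lfp_of_comp f g
  haveI : QuasiCompact f := QuasiCompact.of_comp f g
  haveI : QuasiSeparated f := QuasiSeparated.of_comp f g
  haveI : LocallyOfFinitePresentation (pullback.diagonal f) := by
    apply Groth.Agent.Helper7.locallyOfFinitePresentation_of_comp (pullback.diagonal f)
      (pullback.fst f f) _ inferInstance
    rw [pullback.diagonal_fst]
    infer_instance
  have h1 := (pullback.diagonal f).isLocallyConstructible_image IsLocallyConstructible.univ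
  have h2 := (pullback.fst f f ≫ (f ≫ g)).isLocallyConstructible_image
    (isLocallyConstructible_compl h1)
  have h3 := isLocallyConstructible_compl h2
  convert h3 using 1
  ext s
  simp only [Set.mem_setOf_eq, universallyInjective_iff_of_isPullback (isPullback_fibMap f g s),
    range_fst, Set.image_univ, Set.mem_compl_iff, Set.mem_image, not_exists, not_and,
    Set.mem_preimage, Set.mem_singleton_iff, Scheme.Hom.comp_apply]
  constructor
  · intro h z hz hgz
    exact hz (h z hgz)
  · intro h z hgz
    by_contra hcon
    exact h z hcon hgz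

end Groth.Agent.Helper16.FibMap
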