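import Mathlib
import Groth.Agent.Lib.Helper16.Alg.TriDim
import Groth.Agent.Lib.Helper16.Sch.FTDim1
import Groth.Agent.Lib.Helper16.Sch.FibStalk
import Groth.Agent.Lib.Helper14.EquidimAt
import Groth.Agent.Lib.Helper14.FibreGeneric
import Groth.Agent.Lib.Helper14.SectionComp2

set_option autoImplicit false
set_option linter.style.haveILetI false
universe u
open CategoryTheory CategoryTheory.Limits AlgebraicGeometry Opposite TopologicalSpace Topology

noncomputable section

namespace Groth.Agent.Helper16.FibComp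

open Groth.Agent.Helper14 Groth.Agent.Helper16 Groth.Agent.Helper16.FTDim
open Groth.Agent.Helper16.FibStalk IsLocalRing

variable {X Y S : Scheme.{u}}

theorem fibreDimAt_eq_quot_add_td (f : X ⟶ Y) [LocallyOfFiniteType f] (x : X) :
    FlatMor.fibreDimAt f x =
      ringKrullDim (X.presheaf.stalk x ⧸ fibIdeal f x) + (td f x : WithBot ℕ∞) := by
  rw [FibreGeneric.fibreDimAt_eq_stalk_add_trdeg f x (td f x) (td_spec f x)]
  congr 1
  exact (ringKrullDim_eq_of_ringEquiv (fibStalkEquiv f x)).symm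

theorem isNoetherianRing_quot_fibIdeal (f : X ⟶ Y) [LocallyOfFiniteType f] (x : X) :
    IsNoetherianRing (X.presheaf.stalk x ⧸ fibIdeal f x) := by
  haveI := SectionComp.isLocallyNoetherian_fiber f (f x)
  exact isNoetherianRing_of_ringEquiv _ (fibStalkEquiv f x).symm

variable (f : X ⟶ Y) (g : Y ⟶ S) [LocallyOfFiniteType f] [LocallyOfFiniteType g]

theorem fibreDimAt_comp_le (x : X) :
    FlatMor.fibreDimAt (f ≫ g) x ≤ FlatMor.fibreDimAt f x + FlatMor.fibreDimAt g (f x) := by
  obtain ⟨ζ, N, hζx, -, -, hN, hdim⟩ := EquidimAt.exists_maximal_trdeg_eq_fibreDimAt (f ≫ g) x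
  have hN' : td (f ≫ g) ζ = N := td_eq _ _ _ hN
  rw [td_comp] at hN'
  have h1 := EquidimAt.trdeg_le_fibreDimAt f x ζ hζx (td f ζ) (td_spec f ζ)
  have h2 := EquidimAt.trdeg_le_fibreDimAt g (f x) (f ζ) (hζx.map f.continuous) (td g (f ζ))
    (td_spec g (f ζ))
  rw [hdim, ← hN']
  push_cast
  rw [add_comm]
  exact add_le_add h1 h2

theorem fibreDimAt_comp_eq (x : X) (hflat : (f.stalkMap x).hom.Flat) :
    FlatMor.fibreDimAt (f ≫ g) x = FlatMor.fibreDimAt f x + FlatMor.fibreDimAt g (f x) := by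
  letI algAB : Algebra (S.presheaf.stalk (g (f x))) (Y.presheaf.stalk (f x)) :=
    (g.stalkMap (f x)).hom.toAlgebra
  letI algBC : Algebra (Y.presheaf.stalk (f x)) (X.presheaf.stalk x) :=
    (f.stalkMap x).hom.toAlgebra
  letI algAC : Algebra (S.presheaf.stalk (g (f x))) (X.presheaf.stalk x) :=
    ((f ≫ g).stalkMap x).hom.toAlgebra
  haveI : IsScalarTower (S.presheaf.stalk (g (f x))) (Y.presheaf.stalk (f x))
      (X.presheaf.stalk x) := by
    refine IsScalarTower.of_algebraMap_eq' ?_
    show ((f ≫ g).stalkMap x).hom = (f.stalkMap x).hom.comp (g.stalkMap (f x)).hom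
    rw [Scheme.Hom.stalkMap_comp]
    rfl
  haveI : IsLocalHom (algebraMap (S.presheaf.stalk (g (f x))) (Y.presheaf.stalk (f x))) :=
    inferInstanceAs (IsLocalHom (g.stalkMap (f x)).hom)
  haveI : IsLocalHom (algebraMap (Y.presheaf.stalk (f x)) (X.presheaf.stalk x)) :=
    inferInstanceAs (IsLocalHom (f.stalkMap x).hom)
  haveI : Module.Flat (Y.presheaf.stalk (f x)) (X.presheaf.stalk x) := hflat
  have hIg : fibIdeal g (f x) =
      (maximalIdeal (S.presheaf.stalk (g (f x)))).map
        (algebraMap (S.presheaf.stalk (g (f x))) (Y.presheaf.stalk (f x))) := rfl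
  have hIf : fibIdeal f x = (maximalIdeal (Y.presheaf.stalk (f x))).map
      (algebraMap (Y.presheaf.stalk (f x)) (X.presheaf.stalk x)) := rfl
  have hIfg : fibIdeal (f ≫ g) x = ((maximalIdeal (S.presheaf.stalk (g (f x)))).map
      (algebraMap (S.presheaf.stalk (g (f x))) (Y.presheaf.stalk (f x)))).map
        (algebraMap (Y.presheaf.stalk (f x)) (X.presheaf.stalk x)) := by
    rw [Ideal.map_map, ← IsScalarTower.algebraMap_eq]
    rfl
  have hB : IsNoetherianRing (Y.presheaf.stalk (f x) ⧸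
      (maximalIdeal (S.presheaf.stalk (g (f x)))).map
        (algebraMap (S.presheaf.stalk (g (f x))) (Y.presheaf.stalk (f x)))) :=
    isNoetherianRing_quot_fibIdeal g (f x)
  have hC : IsNoetherianRing (X.presheaf.stalk x ⧸
      ((maximalIdeal (S.presheaf.stalk (g (f x)))).map
        (algebraMap (S.presheaf.stalk (g (f x))) (Y.presheaf.stalk (f x)))).map
          (algebraMap (Y.presheaf.stalk (f x)) (X.presheaf.stalk x))) := by
    haveI := isNoetherianRing_quot_fibIdeal (f ≫ g) x
    exact isNoetherianRing_of_ringEquiv _ (Ideal.quotEquivOfEq hIfg)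
  have key := TriDim.tri_dim (A := S.presheaf.stalk (g (f x))) (B := Y.presheaf.stalk (f x))
    (C := X.presheaf.stalk x) hB hC
  rw [fibreDimAt_eq_quot_add_td (f ≫ g) x, fibreDimAt_eq_quot_add_td f x,
    fibreDimAt_eq_quot_add_td g (f x), td_comp,
    ringKrullDim_eq_of_ringEquiv (Ideal.quotEquivOfEq hIfg), key, ← hIg, ← hIf]
  push_cast
  abel

end Groth.Agent.Helper16.FibComp
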