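import Mathlib
import Groth.Agent.Lib.Helper16.Sch.ConsFD2

set_option autoImplicit false
set_option linter.style.haveILetI false
universe u
open CategoryTheory CategoryTheory.Limits AlgebraicGeometry Opposite TopologicalSpace Topology

noncomputable section

namespace Groth.Agent.Helper16.RetroLC

/-- a constructible subset of a prime spectrum is compact. -/
theorem isCompact_of_isConstructible_primeSpectrum {R : Type u} [CommRing R]
    {s : Set (PrimeSpectrum R)} (hs : IsConstructible s) : IsCompact s := by
  obtain ⟨S, _, f, rfl⟩ := PrimeSpectrum.exists_range_eq_of_isConstructible hs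
  exact isCompact_range (PrimeSpectrum.continuous_comap f)

/-- a locally constructible subset of a scheme is retrocompact. -/
theorem isRetrocompact_of_isLocallyConstructible {X : Scheme.{u}} {A : Set X}
    (hA : IsLocallyConstructible A) : IsRetrocompact A := by
  intro U hUc hUo
  obtain ⟨s, hs, rfl⟩ := isCompact_and_isOpen_iff_finite_and_eq_biUnion_affineOpens.mp ⟨hUc, hUo⟩
  rw [Set.inter_iUnion₂]
  refine hs.isCompact_biUnion fun W _ => ?_
  have hW : IsAffineOpen (W : X.Opens) := W.2
  have hemb := hW.fromSpec.isOpenEmbedding
  have hc : IsConstructible (hW.fromSpec ⁻¹' A) :=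
    (hA.preimage_of_isOpenEmbedding hemb).isConstructible
  have hcomp : IsCompact (hW.fromSpec ⁻¹' A) := isCompact_of_isConstructible_primeSpectrum hc
  have himg := hcomp.image hW.fromSpec.continuous
  rw [Set.image_preimage_eq_inter_range, hW.range_fromSpec] at himg
  exact himg

theorem main9355 {X S : Scheme.{u}} (f : X ⟶ S) [LocallyOfFinitePresentation f] (n : ℕ) :
    IsRetrocompact {x : ↑X | FlatMor.fibreDimAt f x ≤ n} :=
  isRetrocompact_of_isLocallyConstructible (ConsFD.isLocallyConstructible_fibreDimAt_le f n)

end Groth.Agent.Helper16.RetroLC
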