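import Mathlib
import Groth.Agent.Lib.Helper16.Sch.RetroLC
import Groth.Agent.Lib.Helper14.FibreChart
import Groth.Agent.S0402

set_option autoImplicit false
set_option linter.style.haveILetI false
universe u
open CategoryTheory CategoryTheory.Limits AlgebraicGeometry Opposite TopologicalSpace Topology
open scoped TensorProduct

noncomputable section

namespace Groth.Agent.Helper16.RingFibDim

open Groth.Agent.Helper14 Groth.Agent.Helper16

variable (R S : Type u) [CommRing R] [CommRing S] [Algebra R S]

/-- the morphism of spectra of an algebra. -/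
abbrev specMap : Spec (CommRingCat.of S) ⟶ Spec (CommRingCat.of R) :=
  Spec.map (CommRingCat.ofHom (algebraMap R S))

/-- the homeomorphism from the spectrum of the fibre ring to the scheme-theoretic fibre. -/
def fibreHomeo (q : PrimeSpectrum S) :
    PrimeSpectrum ((PrimeSpectrum.comap (algebraMap R S) q).asIdeal.Fiber S) ≃ₜ
      ↥((specMap R S).fiber ((specMap R S) q)) :=
  (PrimeSpectrum.preimageHomeomorphFiber R S (PrimeSpectrum.comap (algebraMap R S) q)).symm.trans
    ((specMap R S).fiberHomeo ((specMap R S) q)).symm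

theorem fibreHomeo_apply (q : PrimeSpectrum S)
    (Q : PrimeSpectrum ((PrimeSpectrum.comap (algebraMap R S) q).asIdeal.Fiber S))
    (hQ : Q.asIdeal.comap (Algebra.TensorProduct.includeRight.toRingHom) = q.asIdeal) :
    fibreHomeo R S q Q = (specMap R S).asFiber q := by
  unfold fibreHomeo
  rw [Homeomorph.trans_apply]
  have h1 : (PrimeSpectrum.preimageHomeomorphFiber R S
      (PrimeSpectrum.comap (algebraMap R S) q)).symm Q = ⟨q, rfl⟩ := by
    apply Subtype.ext
    apply PrimeSpectrum.ext
    exact hQ
  rw [h1]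
  rfl

theorem localDim_eq_fibreDimAt (q : PrimeSpectrum S)
    (Q : PrimeSpectrum ((PrimeSpectrum.comap (algebraMap R S) q).asIdeal.Fiber S))
    (hQ : Q.asIdeal.comap (Algebra.TensorProduct.includeRight.toRingHom) = q.asIdeal) :
    FlatMor.localDim (PrimeSpectrum ((PrimeSpectrum.comap (algebraMap R S) q).asIdeal.Fiber S)) Q =
      FlatMor.fibreDimAt (specMap R S) q := by
  have := FibreChart.localDim_openEmbedding _ (fibreHomeo R S q).isOpenEmbedding Q
  rw [← this, fibreHomeo_apply R S q Q hQ]
  rfl


theorem setOf_eq (n : ℕ) :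
    {q : PrimeSpectrum S | ∀ Q : PrimeSpectrum ((q.asIdeal.under R).Fiber S),
        Q.asIdeal.comap (Algebra.TensorProduct.includeRight.toRingHom) = q.asIdeal →
          FlatMor.localDim (PrimeSpectrum ((q.asIdeal.under R).Fiber S)) Q ≤ (n : WithBot ℕ∞)} =
      {q : PrimeSpectrum S | FlatMor.fibreDimAt (specMap R S) q ≤ (n : WithBot ℕ∞)} := by
  ext q
  simp only [Set.mem_ofPred_eq]
  constructor
  · intro h
    let Q₀ : PrimeSpectrum ((PrimeSpectrum.comap (algebraMap R S) q).asIdeal.Fiber S) :=
      PrimeSpectrum.preimageHomeomorphFiber R S (PrimeSpectrum.comap (algebraMap R S) q) ⟨q, rfl⟩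
    have hQ₀ : Q₀.asIdeal.comap (Algebra.TensorProduct.includeRight.toRingHom) = q.asIdeal := by
      have := (PrimeSpectrum.preimageHomeomorphFiber R S
        (PrimeSpectrum.comap (algebraMap R S) q)).symm_apply_apply ⟨q, rfl⟩
      exact congrArg (fun z => z.1.asIdeal) this
    rw [← localDim_eq_fibreDimAt R S q Q₀ hQ₀]
    exact h Q₀ hQ₀
  · intro h Q hQ
    have := localDim_eq_fibreDimAt R S q Q hQ
    exact this.le.trans h

theorem main9176 [Algebra.FinitePresentation R S] (n : ℕ) :
    IsOpen {q : PrimeSpectrum S | ∀ Q : PrimeSpectrum ((q.asIdeal.under R).Fiber S),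
        Q.asIdeal.comap (Algebra.TensorProduct.includeRight.toRingHom) = q.asIdeal →
          FlatMor.localDim (PrimeSpectrum ((q.asIdeal.under R).Fiber S)) Q ≤ (n : WithBot ℕ∞)} ∧
      IsCompact {q : PrimeSpectrum S | ∀ Q : PrimeSpectrum ((q.asIdeal.under R).Fiber S),
        Q.asIdeal.comap (Algebra.TensorProduct.includeRight.toRingHom) = q.asIdeal →
          FlatMor.localDim (PrimeSpectrum ((q.asIdeal.under R).Fiber S)) Q ≤ (n : WithBot ℕ∞)} := by
  rw [setOf_eq]
  haveI : LocallyOfFinitePresentation (specMap R S) := by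
    rw [HasRingHomProperty.Spec_iff (P := @LocallyOfFinitePresentation)]
    exact (RingHom.finitePresentation_algebraMap (A := R) (B := S)).mpr inferInstance
  refine ⟨Groth.Agent.S0402.result (specMap R S) n, ?_⟩
  have h := RetroLC.main9355 (specMap R S) n
  have h2 := h isCompact_univ isOpen_univ
  rwa [Set.inter_univ] at h2

end Groth.Agent.Helper16.RingFibDim
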