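import Mathlib
import Groth.Agent.Lib.Helper16.Sch.RingFibDim
import Groth.Agent.Lib.Helper16.Sch.FibComp1
import Groth.Agent.Lib.Helper14.TrdegBridge
import Groth.Prelude.Def_EGA4b

set_option autoImplicit false
set_option linter.style.haveILetI false
universe u
open CategoryTheory CategoryTheory.Limits AlgebraicGeometry Opposite TopologicalSpace Topology
open scoped TensorProduct

noncomputable section

namespace Groth.Agent.Helper16.SpecFib

open Groth.Agent.Helper14 Groth.Agent.Helper16 Groth.Agent.Helper16.RingFibDim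
open Groth.Agent.Helper16.FibStalk Groth.Agent.Helper16.FTDim

variable (R S : Type u) [CommRing R] [CommRing S] [Algebra R S]

/-- the canonical map from a ring to the stalk of its spectrum, in scheme notation. -/
def toSt (A : Type u) [CommRing A] (x : ↥(Spec (CommRingCat.of A))) :
    CommRingCat.of A ⟶ (Spec (CommRingCat.of A)).presheaf.stalk x :=
  StructureSheaf.toStalk A x

theorem fromSpecStalk_eq (A : Type u) [CommRing A] (x : ↥(Spec (CommRingCat.of A))) :
    (Spec (CommRingCat.of A)).fromSpecStalk x = Spec.map (toSt A x) :=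
  Spec.fromSpecStalk_eq' _ _

theorem toSt_comp_stalkMap (q : ↥(Spec (CommRingCat.of S))) :
    toSt R ((specMap R S) q) ≫ (specMap R S).stalkMap q =
      CommRingCat.ofHom (algebraMap R S) ≫ toSt S q := by
  have h := Scheme.SpecMap_stalkMap_fromSpecStalk (specMap R S) (x := q)
  rw [fromSpecStalk_eq, fromSpecStalk_eq] at h
  apply Spec.map_injective
  rw [Spec.map_comp, Spec.map_comp]
  exact h

/-- the algebra structure of the stalk over the ring. -/
@[reducible] def stAlg (A : Type u) [CommRing A] (x : ↥(Spec (CommRingCat.of A))) :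
    Algebra A ((Spec (CommRingCat.of A)).presheaf.stalk x) := (toSt A x).hom.toAlgebra

theorem isLocalization_st (A : Type u) [CommRing A] (x : ↥(Spec (CommRingCat.of A))) :
    @IsLocalization.AtPrime A _ ((Spec (CommRingCat.of A)).presheaf.stalk x) _ (stAlg A x)
      (PrimeSpectrum.asIdeal x) _ :=
  StructureSheaf.IsLocalization.to_stalk (R := A) x

theorem asIdeal_specMap (q : ↥(Spec (CommRingCat.of S))) :
    PrimeSpectrum.asIdeal ((specMap R S) q) =
      (PrimeSpectrum.asIdeal q).comap (algebraMap R S) := rfl

theorem fibIdeal_eq (q : ↥(Spec (CommRingCat.of S))) :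
    fibIdeal (specMap R S) q =
      ((PrimeSpectrum.asIdeal q).comap (algebraMap R S)).map
        ((toSt S q).hom.comp (algebraMap R S)) := by
  rw [fibIdeal_def]
  letI := stAlg R ((specMap R S) q)
  haveI := isLocalization_st R ((specMap R S) q)
  rw [← IsLocalization.AtPrime.map_eq_maximalIdeal (PrimeSpectrum.asIdeal ((specMap R S) q))
    ((Spec (CommRingCat.of R)).presheaf.stalk ((specMap R S) q)), Ideal.map_map]
  have h := congrArg CommRingCat.Hom.hom (toSt_comp_stalkMap R S q)
  rw [CommRingCat.hom_comp, CommRingCat.hom_comp] at h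
  have h' : ((specMap R S).stalkMap q).hom.comp
      (algebraMap R ((Spec (CommRingCat.of R)).presheaf.stalk ((specMap R S) q))) =
      (toSt S q).hom.comp (algebraMap R S) := h
  rw [h', asIdeal_specMap]

theorem ringKrullDim_quot_fibIdeal (q : ↥(Spec (CommRingCat.of S))) :
    ringKrullDim ((Spec (CommRingCat.of S)).presheaf.stalk q ⧸ fibIdeal (specMap R S) q) =
      ringKrullDim (EGA4.FibLocRing R S (PrimeSpectrum.asIdeal q)) := by
  letI := stAlg S q
  haveI := isLocalization_st S q
  let e : (Spec (CommRingCat.of S)).presheaf.stalk q ≃ₐ[S]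
      Localization.AtPrime (PrimeSpectrum.asIdeal q) :=
    IsLocalization.algEquiv (PrimeSpectrum.asIdeal q).primeCompl _ _
  have hI : Ideal.map (algebraMap R (Localization.AtPrime (PrimeSpectrum.asIdeal q)))
      ((PrimeSpectrum.asIdeal q).comap (algebraMap R S)) =
      Ideal.map (e.toRingEquiv : _ →+* _) (fibIdeal (specMap R S) q) := by
    rw [fibIdeal_eq, Ideal.map_map]
    congr 1
    ext r
    show algebraMap R (Localization.AtPrime (PrimeSpectrum.asIdeal q)) r =
      e (algebraMap S _ (algebraMap R S r))
    rw [e.commutes, ← IsScalarTower.algebraMap_apply]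
  exact ringKrullDim_eq_of_ringEquiv (Ideal.quotientEquiv _ _ e.toRingEquiv hI)

/-- the evaluation map from a ring to the residue field at a point of its spectrum. -/
def evalRes (A : Type u) [CommRing A] (x : ↥(Spec (CommRingCat.of A))) :
    A →+* (Spec (CommRingCat.of A)).residueField x :=
  ((Spec (CommRingCat.of A)).residue x).hom.comp (toSt A x).hom

theorem ker_evalRes (A : Type u) [CommRing A] (x : ↥(Spec (CommRingCat.of A))) :
    RingHom.ker (evalRes A x) = PrimeSpectrum.asIdeal x := by
  letI := stAlg A x
  haveI := isLocalization_st A x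
  ext r
  rw [RingHom.mem_ker]
  change IsLocalRing.residue ((Spec (CommRingCat.of A)).presheaf.stalk x)
    (algebraMap A _ r) = 0 ↔ _
  rw [IsLocalRing.residue_eq_zero_iff]
  exact IsLocalization.AtPrime.to_map_mem_maximal_iff _ (PrimeSpectrum.asIdeal x) r

theorem frac_evalRes (A : Type u) [CommRing A] (x : ↥(Spec (CommRingCat.of A)))
    (z : (Spec (CommRingCat.of A)).residueField x) :
    ∃ r s, evalRes A x s ≠ 0 ∧ z * evalRes A x s = evalRes A x r := by
  letI := stAlg A x
  haveI := isLocalization_st A x
  obtain ⟨w, rfl⟩ := (Spec (CommRingCat.of A)).residue_surjective x z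
  obtain ⟨⟨r, s⟩, hrs⟩ := IsLocalization.surj (PrimeSpectrum.asIdeal x).primeCompl w
  refine ⟨r, s, ?_, ?_⟩
  · intro h0
    have : (s : A) ∈ RingHom.ker (evalRes A x) := h0
    rw [ker_evalRes] at this
    exact s.2 this
  · have := congrArg ((Spec (CommRingCat.of A)).residue x).hom hrs
    rw [map_mul] at this
    exact this

theorem evalRes_comm (q : ↥(Spec (CommRingCat.of S))) :
    ((specMap R S).residueFieldMap q).hom.comp (evalRes R ((specMap R S) q)) =
      (evalRes S q).comp (algebraMap R S) := by
  have h1 := congrArg CommRingCat.Hom.hom (Scheme.residue_residueFieldMap (specMap R S) q)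
  have h2 := congrArg CommRingCat.Hom.hom (toSt_comp_stalkMap R S q)
  rw [CommRingCat.hom_comp, CommRingCat.hom_comp] at h1 h2
  unfold evalRes
  rw [← RingHom.comp_assoc, h1, RingHom.comp_assoc, h2]
  rfl

theorem trdeg_residueField_eq (q : ↥(Spec (CommRingCat.of S))) (p : Ideal R) [p.IsPrime]
    [hlo : (PrimeSpectrum.asIdeal q).LiesOver p] :
    @Algebra.trdeg ((Spec (CommRingCat.of R)).residueField ((specMap R S) q))
      ((Spec (CommRingCat.of S)).residueField q) _ _
      ((specMap R S).residueFieldMap q).hom.toAlgebra =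
      Algebra.trdeg (R ⧸ p) (S ⧸ PrimeSpectrum.asIdeal q) := by
  refine TrdegBridge.trdeg_eq_of_fraction p (PrimeSpectrum.asIdeal q)
    (evalRes R ((specMap R S) q)) ?_ (evalRes S q) (ker_evalRes S q)
    ((specMap R S).residueFieldMap q).hom (evalRes_comm R S q)
    (frac_evalRes R _) (frac_evalRes S q)
  rw [ker_evalRes, asIdeal_specMap, hlo.over]

instance [Algebra.FiniteType R S] : LocallyOfFiniteType (specMap R S) := by
  rw [HasRingHomProperty.Spec_iff (P := @LocallyOfFiniteType)]
  exact (RingHom.finiteType_algebraMap (A := R) (B := S)).mpr inferInstance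

/-- **Affine fibre dimension formula**: for a ring map of finite type `R → S` and a prime `q`
of `S` over `p`, the local fibre dimension of `Spec S → Spec R` at `q` is
`dim (S_q / p S_q) + trdeg κ(q)/κ(p)`. -/
theorem fibreDimAt_eq [Algebra.FiniteType R S] (q : ↥(Spec (CommRingCat.of S))) (p : Ideal R)
    [p.IsPrime] [(PrimeSpectrum.asIdeal q).LiesOver p] (n : ℕ)
    (hn : Algebra.trdeg (R ⧸ p) (S ⧸ PrimeSpectrum.asIdeal q) = n) :
    FlatMor.fibreDimAt (specMap R S) q =
      ringKrullDim (EGA4.FibLocRing R S (PrimeSpectrum.asIdeal q)) + (n : WithBot ℕ∞) := by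
  rw [FibComp.fibreDimAt_eq_quot_add_td, ringKrullDim_quot_fibIdeal,
    FTDim.td_eq (specMap R S) q n (by rw [trdeg_residueField_eq R S q p, hn])]

end Groth.Agent.Helper16.SpecFib
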