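import Mathlib
import Groth.Agent.Lib.Helper12.CMBC
import Groth.Agent.Lib.Lead.Fib3
import Groth.Agent.Lib.Helper16.Sch.SpecFib

/-!
# Dimension and depth of fibre local rings under base change (helper16)
-/

set_option autoImplicit false
set_option linter.style.haveILetI false
set_option linter.unusedSectionVars false
universe u

open AlgebraicGeometry CategoryTheory Limits IsLocalRing TensorProduct

namespace Groth.Agent.Helper16.FibDepth

open Groth.Agent.Helper16.FibStalk Groth.Agent.Helper16.FibCM Groth.Agent.Helper12.GorBC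
open Groth.Agent.Lead.Fib Groth.Agent.Lead.Depth

/-- flat local homomorphism of Noetherian local rings with Cohen–Macaulay closed fibre: dimension
and depth both increase by the dimension of the closed fibre. -/
theorem exists_dim_depth_add {R S : Type u} [CommRing R] [CommRing S] [IsLocalRing R]
    [IsLocalRing S] [IsNoetherianRing R] [IsNoetherianRing S] [Algebra R S]
    [IsLocalHom (algebraMap R S)] [Module.Flat R S]
    (I : Ideal S) (hI : I = (maximalIdeal R).map (algebraMap R S)) [IsLocalRing (S ⧸ I)]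
    (hCM : LocCoh.IsCohenMacaulayLocalRing (S ⧸ I)) :
    ∃ d : ℕ, ringKrullDim S = ringKrullDim R + (d : WithBot ℕ∞) ∧
      LocCoh.depth S S = LocCoh.depth R R + (d : ℕ∞) := by
  have hd := depth_eq_add_fibre (R := R) (S := S) I hI
  have hh := height_eq_add_fibre (R := R) (S := S) I hI
  have h2 := (isCMLocal_iff (S ⧸ I)).mp hCM
  have h1 : (maximalIdeal (S ⧸ I)).height ≠ ⊤ := Ideal.height_ne_top_of_isPrime
  obtain ⟨d, hd'⟩ := ENat.ne_top_iff_exists.mp h1
  refine ⟨d, ?_, ?_⟩
  · rw [← IsLocalRing.maximalIdeal_height_eq_ringKrullDim,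
      ← IsLocalRing.maximalIdeal_height_eq_ringKrullDim, hh, ← hd']
    push_cast
    rfl
  · rw [hd, ← h2, ← hd']

section BC

variable {X Y X' Y' : Scheme.{u}} {f : X ⟶ Y} {g : Y' ⟶ Y} {f' : X' ⟶ Y'} {g' : X' ⟶ X}

/-- **Base change of dimension and depth of fibre local rings**: both increase by the same
natural number. -/
theorem dim_depth_baseChange (hsq : IsPullback g' f' f g) (x' : X')
    (hN' : IsNoetherianRing ((f'.fiber (f' x')).presheaf.stalk (f'.asFiber x')))
    (hN : IsNoetherianRing ((f.fiber (f (g' x'))).presheaf.stalk (f.asFiber (g' x'))))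
    (hfin : (g.residueFieldMap (f' x')).hom.EssFiniteType ∨ LocallyOfFiniteType f) :
    ∃ d : ℕ,
      ringKrullDim ((f'.fiber (f' x')).presheaf.stalk (f'.asFiber x')) =
        ringKrullDim ((f.fiber (f (g' x'))).presheaf.stalk (f.asFiber (g' x'))) +
          (d : WithBot ℕ∞) ∧
      LocCoh.depth ((f'.fiber (f' x')).presheaf.stalk (f'.asFiber x'))
          ((f'.fiber (f' x')).presheaf.stalk (f'.asFiber x')) =
        LocCoh.depth ((f.fiber (f (g' x'))).presheaf.stalk (f.asFiber (g' x')))
          ((f.fiber (f (g' x'))).presheaf.stalk (f.asFiber (g' x'))) + (d : ℕ∞) := by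
  set y' := f' x' with hy'
  let h : f'.fiber y' ⟶ f.fiber (g y') :=
    pullback.map _ _ _ _ g' (Spec.map (g.residueFieldMap y')) g hsq.w.symm (by simp)
  have sqh : IsPullback h (f'.fiberToSpecResidueField y') (f.fiberToSpecResidueField (g y'))
      (Spec.map (g.residueFieldMap y')) := isPullback_fiberToSpecResidueField_of_isPullback hsq y'
  let z' : f'.fiber y' := f'.asFiber x'
  have hcomp : h ≫ f.fiberι (g y') = f'.fiberι y' ≫ g' := pullback.lift_fst _ _ _
  have hz : f.fiberι (g y') (h z') = g' x' := by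
    rw [← Scheme.Hom.comp_apply, hcomp, Scheme.Hom.comp_apply]
    exact congrArg g' (f'.fiberι_asFiber x')
  haveI : IsNoetherianRing ((f'.fiber y').presheaf.stalk z') := hN'
  haveI : IsNoetherianRing ((f.fiber (g y')).presheaf.stalk (h z')) := by
    rw [isNoetherianRing_fibre_stalk_iff_quot f (g y') (h z') (g' x') hz,
      ← isNoetherianRing_fibre_stalk_iff_quot f (f (g' x')) (f.asFiber (g' x')) (g' x')
        (f.fiberι_asFiber _)]
    exact hN
  haveI hflat : Flat h := by
    have h0 : Flat (Spec.map (g.residueFieldMap y')) := by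
      rw [Flat.SpecMap_iff]
      letI := (g.residueFieldMap y').hom.toAlgebra
      exact RingHom.flat_algebraMap_iff.mpr inferInstance
    exact MorphismProperty.of_isPullback sqh.flip h0
  -- the closed fibre of the stalk map of `h` is Cohen–Macaulay
  have hCM : LocCoh.IsCohenMacaulayLocalRing
      ((h.fiber (h z')).presheaf.stalk (h.asFiber z')) := by
    obtain ⟨ψ, hψ1, hψ2⟩ := exists_residueField_hom (k := Y.residueField (g y'))
      (f.fiberToSpecResidueField (g y')) (h z')
    have hG := gor_fibre_of_field_baseChange (k := Y.residueField (g y'))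
      (K := Y'.residueField y') h
      (f'.fiberToSpecResidueField y') (f.fiberToSpecResidueField (g y'))
      (g.residueFieldMap y').hom sqh (h z') ψ hψ1 ?_ (h.asFiber z')
    · haveI := hG
      exact Groth.Agent.Lead.Depth.isCohenMacaulayLocalRing_of_isGorensteinLocalRing _
    rcases hfin with h1 | h2
    · exact Or.inl h1
    · refine Or.inr (hψ2 ?_)
      exact MorphismProperty.pullback_snd _ _ h2
  letI : Algebra ((f.fiber (g y')).presheaf.stalk (h z')) ((f'.fiber y').presheaf.stalk z') :=
    (h.stalkMap z').hom.toAlgebra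
  haveI : IsLocalHom (algebraMap ((f.fiber (g y')).presheaf.stalk (h z'))
      ((f'.fiber y').presheaf.stalk z')) :=
    inferInstanceAs (IsLocalHom (h.stalkMap z').hom)
  haveI : Module.Flat ((f.fiber (g y')).presheaf.stalk (h z'))
      ((f'.fiber y').presheaf.stalk z') := Flat.stalkMap h z'
  haveI : IsLocalRing ((f'.fiber y').presheaf.stalk z' ⧸ fibIdeal h z') :=
    isLocalRing_quotient _ (fibIdeal_le h z')
  have hCM' : LocCoh.IsCohenMacaulayLocalRing
      ((f'.fiber y').presheaf.stalk z' ⧸ fibIdeal h z') :=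
    @isCM_of_ringEquiv _ _ _ _ (fibStalkEquiv h z').symm hCM
  obtain ⟨d, hd1, hd2⟩ := exists_dim_depth_add
    (R := (f.fiber (g y')).presheaf.stalk (h z')) (S := (f'.fiber y').presheaf.stalk z')
    (fibIdeal h z') rfl hCM'
  let e : (f.fiber (g y')).presheaf.stalk (h z') ≃+*
      (f.fiber (f (g' x'))).presheaf.stalk (f.asFiber (g' x')) :=
    (quotEquivStalkFiberOfEq f (g y') (h z') (g' x') hz).symm.trans
      (quotEquivStalkFiberOfEq f (f (g' x')) (f.asFiber (g' x')) (g' x') (f.fiberι_asFiber _))
  refine ⟨d, ?_, ?_⟩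
  · rw [hd1, ringKrullDim_eq_of_ringEquiv e]
  · rw [hd2, depth_self_eq_of_ringEquiv (R₁ := (f.fiber (g y')).presheaf.stalk (h z'))
      (R₂ := (f.fiber (f (g' x'))).presheaf.stalk (f.asFiber (g' x'))) e]

end BC

section OI

/-- the fibre local ring is unchanged by restricting to an open subscheme of the source. -/
noncomputable def fsOpenImmersionEquiv {U X S : Scheme.{u}} (j : U ⟶ X) [IsOpenImmersion j]
    (f : X ⟶ S) (u : U) :
    (f.fiber (f (j u))).presheaf.stalk (f.asFiber (j u)) ≃+*
      ((j ≫ f).fiber ((j ≫ f) u)).presheaf.stalk ((j ≫ f).asFiber u) :=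
  let e : X.presheaf.stalk (j u) ≃+* U.presheaf.stalk u :=
    (asIso (j.stalkMap u)).commRingCatIsoToRingEquiv
  have hI : fibIdeal (j ≫ f) u = (fibIdeal f (j u)).map (e : X.presheaf.stalk (j u) →+* _) := by
    unfold fibIdeal
    rw [Ideal.map_map]
    congr 1
    show ((j ≫ f).stalkMap u).hom = (j.stalkMap u).hom.comp (f.stalkMap (j u)).hom
    rw [Scheme.Hom.stalkMap_comp]
    rfl
  (fibStalkEquiv f (j u)).symm.trans
    ((Ideal.quotientEquiv (fibIdeal f (j u)) (fibIdeal (j ≫ f) u) e hI).trans
      (fibStalkEquiv (j ≫ f) u))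

end OI

section Aff

open Groth.Agent.Helper16.RingFibDim Groth.Agent.Helper16.SpecFib

/-- the fibre local ring of `Spec S → Spec R` at `q` is `S_q / p S_q`. -/
noncomputable def fsSpecEquiv (R S : Type u) [CommRing R] [CommRing S] [Algebra R S]
    (q : ↥(Spec (CommRingCat.of S))) :
    ((specMap R S).fiber ((specMap R S) q)).presheaf.stalk ((specMap R S).asFiber q) ≃+*
      EGA4.FibLocRing R S (PrimeSpectrum.asIdeal q) :=
  letI := stAlg S q
  haveI := isLocalization_st S q
  let e : (Spec (CommRingCat.of S)).presheaf.stalk q ≃ₐ[S]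
      Localization.AtPrime (PrimeSpectrum.asIdeal q) :=
    IsLocalization.algEquiv (PrimeSpectrum.asIdeal q).primeCompl _ _
  have hI : Ideal.map (algebraMap R (Localization.AtPrime (PrimeSpectrum.asIdeal q)))
      ((PrimeSpectrum.asIdeal q).comap (algebraMap R S)) =
      Ideal.map (e.toRingEquiv : _ →+* _) (fibIdeal (specMap R S) q) := by
    rw [fibIdeal_eq, Ideal.map_map]
    congr 1
    ext r
    show algebraMap R (Localization.AtPrime (PrimeSpectrum.asIdeal q)) r =
      e (algebraMap S _ (algebraMap R S r))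
    rw [e.commutes, ← IsScalarTower.algebraMap_apply]
  (fibStalkEquiv (specMap R S) q).symm.trans (Ideal.quotientEquiv _ _ e.toRingEquiv hI)

end Aff

end Groth.Agent.Helper16.FibDepth
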