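import Mathlib
import Groth.Agent.Lib.Helper13.PullbackStalk
import Groth.Agent.Lib.Helper16.Sch.FibStalk
import Groth.Agent.Lib.Helper16.Alg.FibModAlg1
import Groth.Prelude.Def_FlatMod2

/-!
# The stalk of the restriction of a module to a fibre (helper16)

`(ι^* ℱ)_w` over `𝒪_{X_y, w}` has the same support dimension and depth as `ℱ_x / 𝔪_y ℱ_x` over
`𝒪_{X,x}`, `x = ι w`.
-/

set_option autoImplicit false
set_option linter.style.haveILetI false
set_option linter.unusedSectionVars false
universe u

open AlgebraicGeometry CategoryTheory Limits IsLocalRing TensorProduct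

namespace Groth.Agent.Helper16.FibMod

open Groth.Agent.Helper16.FibStalk Groth.Agent.Helper16.FibModAlg

variable {X Y : Scheme.{u}} (f : X ⟶ Y) (ℱ : X.Modules)

/-- the fibre quotient `ℱ_x / 𝔪_{f x} ℱ_x` of the stalk, a module over `𝒪_{X,x}`. -/
abbrev FQ (x : X) : Type u :=
  ℱ.presheaf.stalk x ⧸
    (fibIdeal f x • (⊤ : Submodule (X.presheaf.stalk x) (ℱ.presheaf.stalk x)))

/-- **Bridge I.** -/
theorem bridge1 [ℱ.IsQuasicoherent] (y : Y) (w : f.fiber y)
    [Module.Finite (X.presheaf.stalk (f.fiberι y w)) (ℱ.presheaf.stalk (f.fiberι y w))] :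
    Module.supportDim ((f.fiber y).presheaf.stalk w)
        (((Scheme.Modules.pullback (f.fiberι y)).obj ℱ).presheaf.stalk w) =
      Module.supportDim (X.presheaf.stalk (f.fiberι y w)) (FQ f ℱ (f.fiberι y w)) ∧
    LocCoh.depth ((f.fiber y).presheaf.stalk w)
        (((Scheme.Modules.pullback (f.fiberι y)).obj ℱ).presheaf.stalk w) =
      LocCoh.depth (X.presheaf.stalk (f.fiberι y w)) (FQ f ℱ (f.fiberι y w)) := by
  letI alg : Algebra (X.presheaf.stalk (f.fiberι y w)) ((f.fiber y).presheaf.stalk w) :=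
    ((f.fiberι y).stalkMap w).hom.toAlgebra
  have hsurj : Function.Surjective (algebraMap (X.presheaf.stalk (f.fiberι y w))
      ((f.fiber y).presheaf.stalk w)) := stalkMap_fiberι_surjective f y w
  obtain ⟨e₁⟩ := Groth.Agent.Helper13.Pullback.exists_stalk_pullback_equiv (f.fiberι y) ℱ w
  letI modT : Module (X.presheaf.stalk (f.fiberι y w))
      (((Scheme.Modules.pullback (f.fiberι y)).obj ℱ).presheaf.stalk w) :=
    Module.compHom _ (algebraMap (X.presheaf.stalk (f.fiberι y w))
      ((f.fiber y).presheaf.stalk w))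
  haveI : IsScalarTower (X.presheaf.stalk (f.fiberι y w)) ((f.fiber y).presheaf.stalk w)
      (((Scheme.Modules.pullback (f.fiberι y)).obj ℱ).presheaf.stalk w) :=
    IsScalarTower.of_algebraMap_smul fun r x => rfl
  haveI : Module.Finite ((f.fiber y).presheaf.stalk w)
      (((Scheme.Modules.pullback (f.fiberι y)).obj ℱ).presheaf.stalk w) :=
    Module.Finite.equiv e₁.symm
  -- the quotient description of the fibre ring
  have hker : RingHom.ker (algebraMap (X.presheaf.stalk (f.fiberι y w))
      ((f.fiber y).presheaf.stalk w)) = fibIdeal f (f.fiberι y w) := ker_stalkMap_fiberι f y w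
  let ρ : ((f.fiber y).presheaf.stalk w) ≃ₗ[X.presheaf.stalk (f.fiberι y w)]
      (X.presheaf.stalk (f.fiberι y w) ⧸ fibIdeal f (f.fiberι y w)) :=
    ((Ideal.quotientKerAlgEquivOfSurjective (f := Algebra.ofId (X.presheaf.stalk (f.fiberι y w))
      ((f.fiber y).presheaf.stalk w)) hsurj).symm.trans
      (Ideal.quotientEquivAlgOfEq _ hker)).toLinearEquiv
  let ψ : (((Scheme.Modules.pullback (f.fiberι y)).obj ℱ).presheaf.stalk w)
      ≃ₗ[X.presheaf.stalk (f.fiberι y w)] FQ f ℱ (f.fiberι y w) :=
    (e₁.restrictScalars (X.presheaf.stalk (f.fiberι y w))).trans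
      ((TensorProduct.congr ρ (LinearEquiv.refl _ _)).trans
        (TensorProduct.quotTensorEquivQuotSMul _ _))
  exact invariants_eq_of_surjective hsurj _ _ ψ

end Groth.Agent.Helper16.FibMod
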