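import Mathlib
import Groth.Agent.Lib.Helper16.Sch.FibMod1
import Groth.Agent.Lib.Helper16.Sch.FibDepth1
import Groth.Agent.Lib.Helper13.InvTensor
import Groth.Agent.Lib.Helper13.PullbackLocal
import Groth.Agent.Lib.Lead.Fib4
import Groth.Agent.Lib.Lead.DimF2
import Groth.Agent.Lib.Helper16.Alg.FibModAlg2

/-!
# Base change of the fibre invariants of a module (helper16)
-/

set_option autoImplicit false
set_option linter.style.haveILetI false
set_option linter.unusedSectionVars false
universe u

open AlgebraicGeometry CategoryTheory Limits IsLocalRing TensorProduct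

namespace Groth.Agent.Helper16.FibMod

open Groth.Agent.Helper16.FibStalk Groth.Agent.Helper16.FibModAlg Groth.Agent.Helper16.FibCM
open Groth.Agent.Helper12.GorBC Groth.Agent.Lead.Fib Groth.Agent.Lead.Depth
open Groth.Agent.Lead.DimF

section Defs

variable {X Y : Scheme.{u}} (f : X ⟶ Y) (ℱ : X.Modules)

/-- the dimension of the support of the fibre quotient of the stalk. -/
noncomputable def cdim (x : X) : WithBot ℕ∞ :=
  Module.supportDim (X.presheaf.stalk x) (FQ f ℱ x)

/-- the depth of the fibre quotient of the stalk. -/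
noncomputable def cdepth (x : X) : ℕ∞ :=
  LocCoh.depth (X.presheaf.stalk x) (FQ f ℱ x)

/-- the dimension of the fibre local ring. -/
noncomputable def fdim (x : X) : WithBot ℕ∞ :=
  ringKrullDim ((f.fiber (f x)).presheaf.stalk (f.asFiber x))

end Defs

section Fib

variable {X Y X' Y' : Scheme.{u}} {f : X ⟶ Y} {g : Y' ⟶ Y} {f' : X' ⟶ Y'} {g' : X' ⟶ X}

/-- the morphism between fibres induced by a base change, with its properties. -/
theorem exists_fibre_hom (hsq : IsPullback g' f' f g) (x' : X')
    (hfin : (g.residueFieldMap (f' x')).hom.EssFiniteType ∨ LocallyOfFiniteType f) :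
    ∃ h : f'.fiber (f' x') ⟶ f.fiber (g (f' x')),
      h ≫ f.fiberι (g (f' x')) = f'.fiberι (f' x') ≫ g' ∧ Flat h ∧
      LocCoh.IsCohenMacaulayLocalRing
        ((h.fiber (h (f'.asFiber x'))).presheaf.stalk (h.asFiber (f'.asFiber x'))) := by
  set y' := f' x' with hy'
  let h : f'.fiber y' ⟶ f.fiber (g y') :=
    pullback.map _ _ _ _ g' (Spec.map (g.residueFieldMap y')) g hsq.w.symm (by simp)
  have sqh : IsPullback h (f'.fiberToSpecResidueField y') (f.fiberToSpecResidueField (g y'))
      (Spec.map (g.residueFieldMap y')) := isPullback_fiberToSpecResidueField_of_isPullback hsq y'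
  let z' : f'.fiber y' := f'.asFiber x'
  have hcomp : h ≫ f.fiberι (g y') = f'.fiberι y' ≫ g' := pullback.lift_fst _ _ _
  haveI hflat : Flat h := by
    have h0 : Flat (Spec.map (g.residueFieldMap y')) := by
      rw [Flat.SpecMap_iff]
      letI := (g.residueFieldMap y').hom.toAlgebra
      exact RingHom.flat_algebraMap_iff.mpr inferInstance
    exact MorphismProperty.of_isPullback sqh.flip h0
  refine ⟨h, hcomp, hflat, ?_⟩
  obtain ⟨ψ, hψ1, hψ2⟩ := exists_residueField_hom (k := Y.residueField (g y'))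
    (f.fiberToSpecResidueField (g y')) (h z')
  have hG := gor_fibre_of_field_baseChange (k := Y.residueField (g y'))
    (K := Y'.residueField y') h
    (f'.fiberToSpecResidueField y') (f.fiberToSpecResidueField (g y'))
    (g.residueFieldMap y').hom sqh (h z') ψ hψ1 ?_ (h.asFiber z')
  · haveI := hG
    exact Groth.Agent.Lead.Depth.isCohenMacaulayLocalRing_of_isGorensteinLocalRing _
  rcases hfin with h1 | h2
  · exact Or.inl h1
  · refine Or.inr (hψ2 ?_)
    exact MorphismProperty.pullback_snd _ _ h2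

end Fib

section BC

variable {X Y X' Y' : Scheme.{u}} {f : X ⟶ Y} {g : Y' ⟶ Y} {f' : X' ⟶ Y'} {g' : X' ⟶ X}

theorem isNoetherianRing_fiber_stalk (f : X ⟶ Y) [LocallyOfFiniteType f] (y : Y)
    (w : f.fiber y) : IsNoetherianRing ((f.fiber y).presheaf.stalk w) := by
  haveI : LocallyOfFiniteType (f.fiberToSpecResidueField y) :=
    MorphismProperty.pullback_snd _ _ ‹LocallyOfFiniteType f›
  haveI : IsLocallyNoetherian (f.fiber y) :=
    LocallyOfFiniteType.isLocallyNoetherian (f.fiberToSpecResidueField _)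
  infer_instance

/-- stalks of a pullback of a module with finite stalks are finite. -/
theorem finite_stalk_pullback {X X' : Scheme.{u}} (g' : X' ⟶ X) (ℱ : X.Modules)
    [ℱ.IsQuasicoherent]
    (hfin : ∀ x : X, Module.Finite (X.presheaf.stalk x) (ℱ.presheaf.stalk x)) (x' : X') :
    Module.Finite (X'.presheaf.stalk x')
      (((Scheme.Modules.pullback g').obj ℱ).presheaf.stalk x') := by
  letI := (g'.stalkMap x').hom.toAlgebra
  obtain ⟨e⟩ := Groth.Agent.Helper13.Pullback.exists_stalk_pullback_equiv g' ℱ x'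
  haveI := hfin (g' x')
  exact Module.Finite.equiv e.symm

/-- **Base change of the fibre invariants of a module.** -/
theorem invariants_baseChange [LocallyOfFiniteType f] (hsq : IsPullback g' f' f g)
    (ℱ : X.Modules) [ℱ.IsQuasicoherent]
    (hfin : ∀ x : X, Module.Finite (X.presheaf.stalk x) (ℱ.presheaf.stalk x)) (x' : X') :
    ∃ d : ℕ, fdim f' x' = fdim f (g' x') + (d : WithBot ℕ∞) ∧
      cdim f' ((Scheme.Modules.pullback g').obj ℱ) x' = cdim f ℱ (g' x') + (d : WithBot ℕ∞) ∧
      cdepth f' ((Scheme.Modules.pullback g').obj ℱ) x' = cdepth f ℱ (g' x') + (d : ℕ∞) := by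
  haveI hft' : LocallyOfFiniteType f' :=
    MorphismProperty.of_isPullback hsq ‹LocallyOfFiniteType f›
  obtain ⟨h, hcomp, hflat, hCM⟩ := exists_fibre_hom hsq x' (Or.inr inferInstance)
  have hz : f.fiberι (g (f' x')) (h (f'.asFiber x')) = g' x' := by
    rw [← Scheme.Hom.comp_apply, hcomp, Scheme.Hom.comp_apply]
    exact congrArg g' (f'.fiberι_asFiber x')
  have hz2 : f'.fiberι (f' x') (f'.asFiber x') = x' := f'.fiberι_asFiber x'
  haveI := isNoetherianRing_fiber_stalk f (g (f' x')) (h (f'.asFiber x'))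
  haveI := isNoetherianRing_fiber_stalk f' (f' x') (f'.asFiber x')
  letI : Algebra ((f.fiber (g (f' x'))).presheaf.stalk (h (f'.asFiber x'))) ((f'.fiber (f' x')).presheaf.stalk (f'.asFiber x')) :=
    (h.stalkMap (f'.asFiber x')).hom.toAlgebra
  haveI : IsLocalHom (algebraMap ((f.fiber (g (f' x'))).presheaf.stalk (h (f'.asFiber x')))
      ((f'.fiber (f' x')).presheaf.stalk (f'.asFiber x'))) :=
    inferInstanceAs (IsLocalHom (h.stalkMap (f'.asFiber x')).hom)
  haveI : Module.Flat ((f.fiber (g (f' x'))).presheaf.stalk (h (f'.asFiber x')))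
      ((f'.fiber (f' x')).presheaf.stalk (f'.asFiber x')) := Flat.stalkMap h (f'.asFiber x')
  haveI : IsLocalRing ((f'.fiber (f' x')).presheaf.stalk (f'.asFiber x') ⧸ fibIdeal h (f'.asFiber x')) :=
    isLocalRing_quotient _ (fibIdeal_le h (f'.asFiber x'))
  have hCM' : LocCoh.IsCohenMacaulayLocalRing
      ((f'.fiber (f' x')).presheaf.stalk (f'.asFiber x') ⧸ fibIdeal h (f'.asFiber x')) :=
    @isCM_of_ringEquiv _ _ _ _ (fibStalkEquiv h (f'.asFiber x')).symm hCM
  obtain ⟨d, hd1, -, hd3⟩ := tensor_invariants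
    (R := (f.fiber (g (f' x'))).presheaf.stalk (h (f'.asFiber x'))) (S := (f'.fiber (f' x')).presheaf.stalk (f'.asFiber x'))
    (fibIdeal h (f'.asFiber x')) rfl hCM'
  refine ⟨d, ?_, ?_, ?_⟩
  · -- ring dimensions
    have e : (f.fiber (g (f' x'))).presheaf.stalk (h (f'.asFiber x')) ≃+*
        (f.fiber (f (g' x'))).presheaf.stalk (f.asFiber (g' x')) :=
      (quotEquivStalkFiberOfEq f (g (f' x')) (h (f'.asFiber x')) (g' x') hz).symm.trans
        (quotEquivStalkFiberOfEq f (f (g' x')) (f.asFiber (g' x')) (g' x') (f.fiberι_asFiber _))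
    unfold fdim
    rw [← ringKrullDim_eq_of_ringEquiv e]
    exact hd1
  all_goals
    -- the modules
    haveI := hfin (f.fiberι (g (f' x')) (h (f'.asFiber x')))
    have hfin' := finite_stalk_pullback g' ℱ hfin
    haveI := hfin' (f'.fiberι (f' x') (f'.asFiber x'))
    obtain ⟨b1, b2⟩ := bridge1 f ℱ (g (f' x')) (h (f'.asFiber x'))
    obtain ⟨b1', b2'⟩ := bridge1 f' ((Scheme.Modules.pullback g').obj ℱ) (f' x') (f'.asFiber x')
    haveI : Module.Finite ((f.fiber (g (f' x'))).presheaf.stalk (h (f'.asFiber x')))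
        (((Scheme.Modules.pullback (f.fiberι (g (f' x')))).obj ℱ).presheaf.stalk (h (f'.asFiber x'))) :=
      finite_stalk_pullback (f.fiberι (g (f' x'))) ℱ hfin (h (f'.asFiber x'))
    obtain ⟨t1, t2⟩ := hd3 (((Scheme.Modules.pullback (f.fiberι (g (f' x')))).obj ℱ).presheaf.stalk (h (f'.asFiber x')))
    -- the comparison isomorphism
    let α : (Scheme.Modules.pullback h).obj ((Scheme.Modules.pullback (f.fiberι (g (f' x')))).obj ℱ) ≅
        (Scheme.Modules.pullback (f'.fiberι (f' x'))).obj ((Scheme.Modules.pullback g').obj ℱ) :=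
      ((Scheme.Modules.pullbackComp h (f.fiberι (g (f' x')))).app ℱ).trans
        (((Scheme.Modules.pullbackCongr hcomp).app ℱ).trans
          ((Scheme.Modules.pullbackComp (f'.fiberι (f' x')) g').app ℱ).symm)
    have eα := Groth.Agent.Helper13.Inv.stalkLinearEquiv α (f'.asFiber x')
    obtain ⟨e₁⟩ := Groth.Agent.Helper13.Pullback.exists_stalk_pullback_equiv h
      ((Scheme.Modules.pullback (f.fiberι (g (f' x')))).obj ℱ) (f'.asFiber x')
    have eT := eα.symm.trans e₁
  · unfold cdim
    have k1 := congrArg (cdim f ℱ) hz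
    have k2 := congrArg (cdim f' ((Scheme.Modules.pullback g').obj ℱ)) hz2
    unfold cdim at k1 k2
    rw [← k1, ← k2, ← b1, ← b1', ← t1]
    exact Module.supportDim_eq_of_equiv eT
  · unfold cdepth
    have k1 := congrArg (cdepth f ℱ) hz
    have k2 := congrArg (cdepth f' ((Scheme.Modules.pullback g').obj ℱ)) hz2
    unfold cdepth at k1 k2
    rw [← k1, ← k2, ← b2, ← b2', ← t2]
    exact idealDepth_congr _ eT

end BC

end Groth.Agent.Helper16.FibMod
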