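import Mathlib
import Groth.Agent.Lib.Helper16.Sch.FibMod2
import Groth.Agent.Lib.Helper16.Alg.FibModAlg3
import Groth.Agent.Lib.Helper13.QCohLoc

/-!
# The fibre invariants of a module in affine charts (helper16)
-/

set_option autoImplicit false
set_option linter.style.haveILetI false
set_option linter.unusedSectionVars false
universe u

open AlgebraicGeometry CategoryTheory Limits IsLocalRing TensorProduct

namespace Groth.Agent.Helper16.FibMod

open Groth.Agent.Helper16.FibStalk Groth.Agent.Helper16.FibModAlg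
open Groth.Agent.Helper13.QCohLoc

variable {X Y : Scheme.{u}} (f : X ⟶ Y) (ℱ : X.Modules) [ℱ.IsQuasicoherent]
  {U : X.Opens} (hU : IsAffineOpen U) {V : Y.Opens} (hV : IsAffineOpen V) (e : U ≤ f ⁻¹ᵁ V)

include hU hV in
/-- the fibre ideal in a chart. -/
theorem fibIdeal_chart (x : U) :
    letI := (f.appLE V U e).hom.toAlgebra
    fibIdeal f (x : X) =
      (((hU.primeIdealOf x).asIdeal.comap (algebraMap Γ(Y, V) Γ(X, U))).map
        (algebraMap Γ(Y, V) Γ(X, U))).map (algebraMap Γ(X, U) (X.presheaf.stalk (x : X))) := by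
  letI := (f.appLE V U e).hom.toAlgebra
  have hfx : f (x : X) ∈ V := e x.2
  letI algAAq : Algebra Γ(Y, V) (Y.presheaf.stalk (f (x : X))) :=
    Y.presheaf.algebra_section_stalk ⟨f x, hfx⟩
  haveI h3 : IsLocalization.AtPrime (Y.presheaf.stalk (f (x : X)))
      (hV.primeIdealOf (⟨f x, hfx⟩ : V)).asIdeal := hV.isLocalization_stalk ⟨f x, hfx⟩
  haveI h4 : IsLocalization.AtPrime (X.presheaf.stalk (x : X))
      (hU.primeIdealOf x).asIdeal := hU.isLocalization_stalk x
  -- compatibility of germs with the stalk map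
  have hcomm : ∀ r : Γ(Y, V),
      (f.stalkMap (x : X)).hom (algebraMap Γ(Y, V) (Y.presheaf.stalk (f (x : X))) r) =
      algebraMap Γ(X, U) (X.presheaf.stalk (x : X)) (algebraMap Γ(Y, V) Γ(X, U) r) := by
    intro r
    change f.stalkMap (x : X) (Y.presheaf.germ V (f x) hfx r) =
      X.presheaf.germ U x x.2 (f.appLE V U e r)
    rw [Scheme.Hom.germ_stalkMap_apply, Scheme.Hom.appLE, CommRingCat.comp_apply,
      TopCat.Presheaf.germ_res_apply]
  have hcomp : (f.stalkMap (x : X)).hom.comp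
      (algebraMap Γ(Y, V) (Y.presheaf.stalk (f (x : X)))) =
      (algebraMap Γ(X, U) (X.presheaf.stalk (x : X))).comp (algebraMap Γ(Y, V) Γ(X, U)) :=
    RingHom.ext hcomm
  -- the prime of the image point
  have hprime : (hV.primeIdealOf (⟨f x, hfx⟩ : V)).asIdeal =
      (hU.primeIdealOf x).asIdeal.comap (algebraMap Γ(Y, V) Γ(X, U)) := by
    ext a
    rw [Ideal.mem_comap,
      ← IsLocalization.AtPrime.to_map_mem_maximal_iff (Y.presheaf.stalk (f (x : X)))
        (hV.primeIdealOf (⟨f x, hfx⟩ : V)).asIdeal a,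
      ← IsLocalization.AtPrime.to_map_mem_maximal_iff (X.presheaf.stalk (x : X))
        (hU.primeIdealOf x).asIdeal (algebraMap Γ(Y, V) Γ(X, U) a), ← hcomm]
    rw [mem_maximalIdeal, mem_maximalIdeal, mem_nonunits_iff, mem_nonunits_iff]
    exact (not_congr (isUnit_map_iff (f.stalkMap (x : X)).hom _)).symm
  rw [fibIdeal_def, ← IsLocalization.AtPrime.map_eq_maximalIdeal
    (hV.primeIdealOf (⟨f x, hfx⟩ : V)).asIdeal (Y.presheaf.stalk (f (x : X))), Ideal.map_map, hcomp,
    ← Ideal.map_map, hprime]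

include hU hV in
/-- **Bridge II**: the fibre invariants of a quasi-coherent module computed in an affine chart. -/
theorem chart (x : U) [hfinM : Module.Finite Γ(X, U) Γ(ℱ, U)] :
    letI := (f.appLE V U e).hom.toAlgebra
    cdim f ℱ (x : X) = adim Γ(Y, V) Γ(X, U) (hU.primeIdealOf x).asIdeal Γ(ℱ, U) ∧
      cdepth f ℱ (x : X) = adepth Γ(Y, V) Γ(X, U) (hU.primeIdealOf x).asIdeal Γ(ℱ, U) := by
  letI := (f.appLE V U e).hom.toAlgebra
  haveI h4 : IsLocalization.AtPrime (X.presheaf.stalk (x : X))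
      (hU.primeIdealOf x).asIdeal := hU.isLocalization_stalk x
  letI modN : Module Γ(X, U) (ℱ.presheaf.stalk (x : X)) := modStalk ℱ x
  haveI : IsScalarTower Γ(X, U) (X.presheaf.stalk (x : X)) (ℱ.presheaf.stalk (x : X)) :=
    isScalarTower_stalk ℱ x
  haveI := isLocalizedModule_germ ℱ hU x
  exact chart_invariants (A := Γ(Y, V)) (B := Γ(X, U)) (hU.primeIdealOf x).asIdeal
    (fibIdeal f (x : X)) (fibIdeal_chart f hU hV e x) (germLin ℱ x)

end Groth.Agent.Helper16.FibMod
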