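import Mathlib
import Groth.Agent.Lib.Helper16.Alg.ResEW
set_option autoImplicit false
set_option linter.style.haveILetI false
set_option linter.dupNamespace false
open CategoryTheory CategoryTheory.Limits AlgebraicGeometry
universe u

namespace Groth.Agent.Helper16.SpecRes

/-- evaluation of a ring element at a point of `Spec R` -/
noncomputable def ev (R : CommRingCat.{u}) (x : Spec R) : R →+* (Spec R).residueField x :=
  ((Scheme.ΓSpecIso R).inv ≫ (Spec R).Γevaluation x).hom

theorem ev_eq_zero_iff (R : CommRingCat.{u}) (x : Spec R) (a : R) :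
    ev R x a = 0 ↔ a ∈ x.asIdeal := by
  show (Spec R).evaluation ⊤ x trivial ((Scheme.ΓSpecIso R).inv a) = 0 ↔ _
  rw [Scheme.evaluation_eq_zero_iff_notMem_basicOpen, basicOpen_eq_of_affine]
  exact not_not

theorem ev_eq_residueFieldIso (R : CommRingCat.{u}) (x : Spec R) (a : R) :
    ev R x a = (Scheme.Spec.residueFieldIso R x).inv (algebraMap R x.asIdeal.ResidueField a) := by
  have := Scheme.Spec.algebraMap_residueFieldIso_inv R x
  exact (ConcreteCategory.congr_hom this a).symm

theorem exists_frac_ev (R : CommRingCat.{u}) (x : Spec R) (c : (Spec R).residueField x) :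
    ∃ a b : R, b ∉ x.asIdeal ∧ c * ev R x b = ev R x a := by
  obtain ⟨a, b, hb, hab⟩ := Groth.Agent.Helper16.ResEW.exists_frac x.asIdeal
    ((Scheme.Spec.residueFieldIso R x).hom c)
  refine ⟨a, b, hb, ?_⟩
  rw [ev_eq_residueFieldIso, ev_eq_residueFieldIso, ← hab, map_mul]
  congr 1
  exact (ConcreteCategory.congr_hom (Scheme.Spec.residueFieldIso R x).hom_inv_id c).symm

theorem ev_naturality {R R' : CommRingCat.{u}} (φ : R ⟶ R') (u : Spec R') (a : R) :
    (Spec.map φ).residueFieldMap u (ev R (Spec.map φ u) a) = ev R' u (φ a) := by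
  show (Spec.map φ).residueFieldMap u ((Spec R).Γevaluation _ ((Scheme.ΓSpecIso R).inv a)) =
    (Spec R').Γevaluation u ((Scheme.ΓSpecIso R').inv (φ a))
  rw [Scheme.Γevaluation_naturality_apply]
  congr 1
  exact (ConcreteCategory.congr_hom (Scheme.ΓSpecIso_inv_naturality φ) a).symm

theorem residueFieldMap_surjective_of_ew {R R' : CommRingCat.{u}} (φ : R ⟶ R') (u : Spec R')
    (hew : ∀ a' b' : R', b' ∉ u.asIdeal →
      ∃ a b : R, b ∉ (Spec.map φ u).asIdeal ∧ a' * φ b - b' * φ a ∈ u.asIdeal) :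
    Function.Surjective ((Spec.map φ).residueFieldMap u) := by
  intro c
  obtain ⟨a', b', hb', hab'⟩ := exists_frac_ev R' u c
  obtain ⟨a, b, hb, hab⟩ := hew a' b' hb'
  have hb0 : ev R (Spec.map φ u) b ≠ 0 := by
    rw [Ne, ev_eq_zero_iff]; exact hb
  have hb'0 : ev R' u b' ≠ 0 := by
    rw [Ne, ev_eq_zero_iff]; exact hb'
  have hφb0 : ev R' u (φ b) ≠ 0 := by
    rw [Ne, ev_eq_zero_iff]; exact hb
  refine ⟨ev R (Spec.map φ u) a / ev R (Spec.map φ u) b, ?_⟩
  rw [map_div₀, ev_naturality, ev_naturality]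
  have h1 : ev R' u (a' * φ b - b' * φ a) = 0 := (ev_eq_zero_iff R' u _).mpr hab
  rw [map_sub, map_mul, map_mul, sub_eq_zero] at h1
  rw [div_eq_iff hφb0]
  have h2 : c = ev R' u a' / ev R' u b' := by rw [eq_div_iff hb'0, hab']
  rw [h2, div_mul_eq_mul_div, eq_div_iff hb'0, h1]
  ring

end Groth.Agent.Helper16.SpecRes
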