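import Mathlib

set_option autoImplicit false
universe u
open CategoryTheory AlgebraicGeometry Limits

namespace Groth.Agent.Helper16.PBRes

/-- a field-valued point through which `Spec κ(t) → P` factors has `K → κ(t)` surjective -/
theorem surjective_of_comp_eq_fromSpecResidueField {P : Scheme.{u}} (t : P) (K : Type u) [Field K]
    (ψ : Spec (.of K) ⟶ P) (σ₀ : CommRingCat.of K ⟶ P.residueField t)
    (h : Spec.map σ₀ ≫ ψ = P.fromSpecResidueField t) : Function.Surjective σ₀ := by
  obtain ⟨t', d, hd⟩ : ∃ (t' : P) (d : P.residueField t' ⟶ .of K),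
      Spec.map d ≫ P.fromSpecResidueField t' = ψ :=
    ⟨_, _, Scheme.descResidueField_stalkClosedPointTo_fromSpecResidueField K P ψ⟩
  have ht : t' = t := by
    have h1 := congr($h (default : Spec (P.residueField t)))
    rw [Scheme.fromSpecResidueField_apply, ← hd] at h1
    simp only [Scheme.Hom.comp_apply, Scheme.fromSpecResidueField_apply] at h1
    exact h1
  subst ht
  rw [← hd] at h
  have h2 : Spec.map σ₀ ≫ Spec.map d = 𝟙 _ := by
    rw [← cancel_mono (P.fromSpecResidueField t'), Category.assoc, h, Category.id_comp]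
  rw [← Spec.map_comp, ← Spec.map_id, Spec.map_inj] at h2
  intro z
  refine ⟨d z, ?_⟩
  have := congr($h2 z)
  simpa using this

theorem surjective_residueFieldMap_fst {X Y S : Scheme.{u}} (f : X ⟶ S) (g : Y ⟶ S)
    (t : ↑(pullback f g))
    (hy : Function.Surjective (g.residueFieldMap (pullback.snd f g t))) :
    Function.Surjective ((pullback.fst f g).residueFieldMap t) := by
  let T := Scheme.Pullback.Triplet.ofPoint t
  have hb : IsIso (g.residueFieldMap T.y) := by
    rw [ConcreteCategory.isIso_iff_bijective]
    exact ⟨(g.residueFieldMap (pullback.snd f g t)).hom.injective, hy⟩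
  have hb' : IsIso ((S.residueFieldCongr T.hy).inv ≫ g.residueFieldMap T.y) := inferInstance
  have hinl : IsIso T.tensorInl := by
    unfold Scheme.Pullback.Triplet.tensorInl
    exact pushout_inl_iso_of_right_iso _ _
  have h1 : T.tensorInl ≫ Scheme.Pullback.ofPointTensor t =
      (pullback.fst f g).residueFieldMap t := pushout.inl_desc _ _ _
  have h2 : Scheme.Pullback.ofPointTensor t = inv T.tensorInl ≫
      (pullback.fst f g).residueFieldMap t := by
    rw [← h1, IsIso.inv_hom_id_assoc]
  have h3 := Scheme.Pullback.ofPointTensor_SpecTensorTo t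
  rw [h2, Spec.map_comp, Category.assoc] at h3
  obtain ⟨ψ, hψ⟩ : ∃ ψ : Spec (X.residueField (pullback.fst f g t)) ⟶ pullback f g,
      ψ = Spec.map (inv T.tensorInl) ≫ T.SpecTensorTo := ⟨_, rfl⟩
  rw [← hψ] at h3
  exact surjective_of_comp_eq_fromSpecResidueField t (X.residueField (pullback.fst f g t))
    ψ ((pullback.fst f g).residueFieldMap t) h3

end Groth.Agent.Helper16.PBRes
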