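import Mathlib
import Groth.Agent.Lib.Helper16.Sch.ConsFD3
import Groth.Agent.Lib.Helper14.PullbackPts

set_option autoImplicit false
set_option linter.style.haveILetI false
universe u
open CategoryTheory CategoryTheory.Limits AlgebraicGeometry Opposite TopologicalSpace Topology

noncomputable section

namespace Groth.Agent.Helper16.ConsFD

open Groth.Agent.Helper14

/-- the dimension of a fibre is invariant under arbitrary base change -/
theorem dim_fiber_eq_of_isPullback {X S X' S' : Scheme.{u}} {f : X ⟶ S} {g : S' ⟶ S}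
    {g' : X' ⟶ X} {f' : X' ⟶ S'} [LocallyOfFiniteType f] (hsq : IsPullback g' f' f g) (s' : S') :
    topologicalKrullDim (f'.fiber s') = topologicalKrullDim (f.fiber (g s')) := by
  haveI : LocallyOfFiniteType f' := FibreDimBC.locallyOfFiniteType_of_isPullback hsq
  have key : ∀ m : WithBot ℕ∞, topologicalKrullDim (f'.fiber s') ≤ m ↔
      topologicalKrullDim (f.fiber (g s')) ≤ m := by
    intro m
    rw [dim_fiber_le_iff, dim_fiber_le_iff]
    constructor
    · intro h x hx
      obtain ⟨x', hx', hfx'⟩ := exists_preimage_of_isPullback hsq x s' hx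
      rw [← hx', ← FibreDimBC.fibreDimAt_eq hsq x']
      exact h x' hfx'
    · intro h x' hx'
      rw [FibreDimBC.fibreDimAt_eq hsq x']
      apply h
      rw [← hx', ← Scheme.Hom.comp_apply, ← Scheme.Hom.comp_apply, hsq.w]
  exact le_antisymm ((key _).mpr le_rfl) ((key _).mp le_rfl)

open PrimeSpectrum in
/-- If the preimage of a constructible subset of `Spec R₀` in `Spec R` is empty, then it is already
empty in `Spec R₁` for all subalgebras `R₁ ⊆ R` containing a suitable finite set. -/
theorem exists_finset_preimage_eq_empty {R₀ R : Type u} [CommRing R₀] [CommRing R] [Algebra R₀ R]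
    (C : ConstructibleSetData R₀) (h : comap (algebraMap R₀ R) ⁻¹' C.toSet = ∅) :
    ∃ T : Finset R, ∀ R₁ : Subalgebra R₀ R, (T : Set R) ⊆ R₁ →
      comap (algebraMap R₀ R₁) ⁻¹' C.toSet = ∅ := by
  classical
  have hbasic : ∀ c ∈ C, ∃ T : Finset R, ∀ R₁ : Subalgebra R₀ R, (T : Set R) ⊆ R₁ →
      comap (algebraMap R₀ R₁) ⁻¹' c.toSet = ∅ := by
    intro c hc
    have h1 : comap (algebraMap R₀ R) ⁻¹' c.toSet = ∅ := by
      rw [Set.eq_empty_iff_forall_notMem] at h ⊢
      intro x hx
      exact h x (Set.mem_biUnion hc hx)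
    rw [← BasicConstructibleSetData.toSet_map, BasicConstructibleSetData.toSet,
      Set.sdiff_eq_empty, ← zeroLocus_span, ← zeroLocus_span {_},
      zeroLocus_subset_zeroLocus_iff, Ideal.span_le, Set.singleton_subset_iff,
      SetLike.mem_coe] at h1
    obtain ⟨n, hn⟩ := h1
    rw [Ideal.mem_span_range_iff_exists_fun] at hn
    obtain ⟨a, ha⟩ := hn
    refine ⟨Finset.univ.image a, fun R₁ hT => ?_⟩
    have haR : ∀ i, a i ∈ R₁ := fun i => hT (by simp)
    rw [← BasicConstructibleSetData.toSet_map, BasicConstructibleSetData.toSet,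
      Set.sdiff_eq_empty, ← zeroLocus_span, ← zeroLocus_span {_},
      zeroLocus_subset_zeroLocus_iff, Ideal.span_le, Set.singleton_subset_iff,
      SetLike.mem_coe]
    refine ⟨n, ?_⟩
    rw [Ideal.mem_span_range_iff_exists_fun]
    refine ⟨fun i => ⟨a i, haR i⟩, ?_⟩
    apply Subtype.val_injective
    simp only [BasicConstructibleSetData.map_f, BasicConstructibleSetData.map_g,
      Function.comp_apply] at ha ⊢
    rw [Subalgebra.coe_pow, AddSubmonoidClass.coe_finset_sum]
    simp only [Subalgebra.coe_mul]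
    exact ha
  choose! T hT using hbasic
  refine ⟨C.biUnion T, fun R₁ hR₁ => ?_⟩
  rw [Set.eq_empty_iff_forall_notMem]
  intro x hx
  simp only [ConstructibleSetData.toSet, Set.preimage_iUnion, Set.mem_iUnion] at hx
  obtain ⟨c, hc, hx⟩ := hx
  have := hT c hc R₁ (fun t ht => hR₁ (by
    simp only [Finset.coe_biUnion, Set.mem_iUnion]
    exact ⟨c, hc, ht⟩))
  rw [Set.eq_empty_iff_forall_notMem] at this
  exact this x hx

end Groth.Agent.Helper16.ConsFD
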