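import Mathlib
import Groth.Agent.Lib.Helper16.Sch.ConsFD4
import Groth.Agent.Lib.Helper11.HTopV3
import Groth.Agent.Lib.Helper14.ValRingFibre

set_option autoImplicit false
universe u
open CategoryTheory CategoryTheory.Limits AlgebraicGeometry Opposite TopologicalSpace Topology

noncomputable section

namespace Groth.Agent.Helper16.FTOpen

open Groth.Agent.Helper14 Groth.Agent.Helper16

variable {X S : Scheme.{u}}

/-- a locally constructible subset of a scheme which is stable under generization is open. -/
theorem isOpen_of_isLocallyConstructible_of_stableUnderGeneralization {E : Set S}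
    (hE : IsLocallyConstructible E) (hg : StableUnderGeneralization E) : IsOpen E := by
  rw [isOpen_iff_forall_mem_open]
  intro x hx
  obtain ⟨U, hU, hxU, -⟩ := exists_isAffineOpen_mem_and_subset (x := x) (U := (⊤ : S.Opens)) trivial
  have hemb := hU.fromSpec.isOpenEmbedding
  have hc : IsConstructible (hU.fromSpec ⁻¹' E) :=
    (hE.preimage_of_isOpenEmbedding hemb).isConstructible
  have hg' : StableUnderGeneralization (hU.fromSpec ⁻¹' E) := by
    intro p p' hpp' hp
    exact hg (hpp'.map hU.fromSpec.continuous) hp
  have ho : IsOpen (hU.fromSpec ⁻¹' E) :=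
    PrimeSpectrum.isOpen_of_stableUnderGeneralization_of_isConstructible hg' hc
  refine ⟨hU.fromSpec '' (hU.fromSpec ⁻¹' E), ?_, hemb.isOpenMap _ ho, ?_⟩
  · rintro _ ⟨p, hp, rfl⟩
    exact hp
  · refine ⟨hU.primeIdealOf ⟨x, hxU⟩, ?_, hU.fromSpec_primeIdealOf ⟨x, hxU⟩⟩
    show hU.fromSpec (hU.primeIdealOf ⟨x, hxU⟩) ∈ E
    rw [hU.fromSpec_primeIdealOf ⟨x, hxU⟩]
    exact hx

end Groth.Agent.Helper16.FTOpen

namespace Groth.Agent.Helper16.FTOpen

open Groth.Agent.Helper14 Groth.Agent.Helper16

variable {X S : Scheme.{u}}

/-- over a valuation ring, fibre dimensions of a flat morphism do not go up under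
specialization. -/
theorem lt_dim_fiber_of_specializes_valuationRing {A : Type u} [CommRing A] [IsDomain A]
    [ValuationRing A] (g : X ⟶ Spec (CommRingCat.of A)) [Flat g] [LocallyOfFiniteType g]
    [QuasiCompact g] (c : WithBot ℕ∞) (s₀ s₁ : Spec (CommRingCat.of A)) (hs : s₁ ⤳ s₀)
    (h : c < topologicalKrullDim (g.fiber s₀)) : c < topologicalKrullDim (g.fiber s₁) := by
  have hne : ∃ x : X, g x = s₀ := by
    by_contra hcon
    push Not at hcon
    rw [FibreConst.dim_fiber_eq_bot g s₀ hcon] at h
    exact absurd h (by simp)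
  obtain ⟨ζ, N, hζ, hg, hdim, -⟩ := FibreConst.exists_isGen_dim_eq g s₀ hne
  rw [← hζ] at hs
  obtain ⟨ξ, hξζ, hξ⟩ := (Flat.generalizingMap (f := g)) hs
  have h1 := ValRingFibre.trdeg_le_of_specializes_Spec g ξ ζ hξζ
  obtain ⟨n, hn⟩ := ResFieldBridge.exists_nat_trdeg_residueField g ξ
  rw [hg.2, hn] at h1
  have hNn : N ≤ n := by exact_mod_cast h1
  have h2 := EquidimAt.trdeg_le_fibreDimAt g ξ ξ specializes_rfl n hn
  have h3 := GenDim.fibreDimAt_le_dim_fiber g ξ s₁ hξ
  rw [hdim] at h
  refine lt_of_lt_of_le h (le_trans ?_ (h2.trans h3))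
  exact_mod_cast hNn

/-- for a flat morphism of finite presentation, the locus of large fibre dimension is stable
under generization. -/
theorem stableUnderGeneralization_lt_dim_fiber (f : X ⟶ S) [Flat f] [LocallyOfFiniteType f]
    [QuasiCompact f] (c : WithBot ℕ∞) :
    StableUnderGeneralization {s : S | c < topologicalKrullDim (f.fiber s)} := by
  intro s₀ s₁ hs h
  obtain ⟨A, hA1, hA2, a, ha0, ha1⟩ := Groth.Agent.Helper11.HTopV.exists_valuationRing_of_specializes hs
  have hsq : IsPullback (pullback.fst f a) (pullback.snd f a) f a := IsPullback.of_hasPullback f a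
  have e0 := ConsFD.dim_fiber_eq_of_isPullback hsq (IsLocalRing.closedPoint A)
  have e1 := ConsFD.dim_fiber_eq_of_isPullback hsq (Groth.Agent.Helper11.HTopV.botPt A)
  rw [ha0] at e0
  rw [ha1] at e1
  show c < topologicalKrullDim (f.fiber s₁)
  rw [← e1]
  have h' : c < topologicalKrullDim (f.fiber s₀) := h
  rw [← e0] at h'
  refine lt_dim_fiber_of_specializes_valuationRing (A := A) (pullback.snd f a) c _ _ ?_ h'
  exact IsLocalRing.specializes_closedPoint (R := A) _

theorem main0404 (f : X ⟶ S) [Flat f] [LocallyOfFinitePresentation f] [QuasiCompact f]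
    (c : WithBot ℕ∞) :
    IsOpen {s : S | c < topologicalKrullDim (f.fiber s)} := by
  apply isOpen_of_isLocallyConstructible_of_stableUnderGeneralization
  · induction c using WithBot.recBotCoe with
    | bot =>
      have h := ConsFD.isLocallyConstructible_compl (ConsFD.isLocallyConstructible_dim_fiber_eq_bot f)
      convert h using 1
      ext s
      simp only [Set.mem_ofPred_eq, Set.mem_compl_iff, bot_lt_iff_ne_bot]
    | coe w =>
      induction w using ENat.recTopCoe with
      | top =>
        convert (IsLocallyConstructible.empty (X := S)) using 1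
        · ext s
          simp only [Set.mem_ofPred_eq, Set.mem_empty_iff_false, iff_false, not_lt]
          exact le_top
      | coe n =>
        have h := ConsFD.isLocallyConstructible_compl (ConsFD.isLocallyConstructible_dim_fiber_le f n)
        convert h using 1
        ext s
        simp only [Set.mem_ofPred_eq, Set.mem_compl_iff, not_le]
        rfl
  · exact stableUnderGeneralization_lt_dim_fiber f c

end Groth.Agent.Helper16.FTOpen
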