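import Mathlib
import Groth.Agent.Lib.Helper16.Sch.FTOpen1
import Groth.Agent.Lib.Helper14.QuasiSection

set_option autoImplicit false
universe u
open CategoryTheory CategoryTheory.Limits AlgebraicGeometry Opposite TopologicalSpace Topology

noncomputable section

namespace Groth.Agent.Helper16.FTOpen

open Groth.Agent.Helper14 Groth.Agent.Helper16

/-- every point of the spectrum has a generization in a given dense quasi-compact open. -/
theorem exists_generization_mem_of_dense (R : Type u) [CommRing R] (t : Finset R)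
    (hd : Dense ((PrimeSpectrum.zeroLocus (t : Set R))ᶜ)) (p : PrimeSpectrum R) :
    ∃ q : PrimeSpectrum R, q ≤ p ∧ q ∈ (PrimeSpectrum.zeroLocus (t : Set R))ᶜ := by
  classical
  by_contra hcon
  push Not at hcon
  have hnil : ∀ a ∈ t, ∃ u : R, u ∉ p.asIdeal ∧ ∃ n : ℕ, u * a ^ n = 0 := by
    intro a ha
    have h1 : IsNilpotent (algebraMap R (Localization.AtPrime p.asIdeal) a) := by
      rw [nilpotent_iff_mem_prime]
      intro J hJ
      let q : PrimeSpectrum R := ⟨J.comap (algebraMap R (Localization.AtPrime p.asIdeal)),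
        Ideal.comap_isPrime _ _⟩
      have hq : q ≤ p := by
        show q.asIdeal ≤ p.asIdeal
        have h2 : J ≤ IsLocalRing.maximalIdeal (Localization.AtPrime p.asIdeal) :=
          IsLocalRing.le_maximalIdeal hJ.ne_top
        have h3 := Ideal.comap_mono (f := algebraMap R (Localization.AtPrime p.asIdeal)) h2
        have h3' : Ideal.comap (algebraMap R (Localization.AtPrime p.asIdeal))
            (IsLocalRing.maximalIdeal (Localization.AtPrime p.asIdeal)) = p.asIdeal :=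
          Localization.AtPrime.under_maximalIdeal (I := p.asIdeal)
        rwa [h3'] at h3
      have h4 := hcon q hq
      rw [Set.mem_compl_iff, not_not, PrimeSpectrum.mem_zeroLocus] at h4
      exact h4 ha
    obtain ⟨n, hn⟩ := h1
    rw [← map_pow, IsLocalization.map_eq_zero_iff p.asIdeal.primeCompl] at hn
    obtain ⟨m, hm⟩ := hn
    exact ⟨m.1, m.2, n, hm⟩
  choose! u hu n hn using hnil
  set v : R := ∏ a ∈ t, u a with hv
  have hvp : v ∉ p.asIdeal := by
    intro h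
    obtain ⟨a, ha, hua⟩ := (Ideal.IsPrime.prod_mem_iff).mp h
    exact hu a ha hua
  have hopen : IsOpen (PrimeSpectrum.basicOpen v : Set (PrimeSpectrum R)) :=
    (PrimeSpectrum.basicOpen v).isOpen
  obtain ⟨q, hqv, hqt⟩ := hd.inter_open_nonempty _ hopen ⟨p, hvp⟩
  rw [Set.mem_compl_iff, PrimeSpectrum.mem_zeroLocus, Set.not_subset] at hqt
  obtain ⟨a, ha, haq⟩ := hqt
  have h5 : u a * a ^ n a ∈ q.asIdeal := by rw [hn a ha]; exact q.asIdeal.zero_mem
  rcases q.isPrime.mem_or_mem h5 with h6 | h6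
  · apply hqv
    show v ∈ q.asIdeal
    exact Ideal.mem_of_dvd _ (Finset.dvd_prod_of_mem u ha) h6
  · exact haq (q.isPrime.mem_of_pow_mem _ h6)

end Groth.Agent.Helper16.FTOpen

namespace Groth.Agent.Helper16.FTOpen

open Groth.Agent.Helper14 Groth.Agent.Helper16

variable {X S : Scheme.{u}}

/-- every point has a generization in a given dense retrocompact open. -/
theorem exists_generization_mem_of_retrocompact (U : S.Opens) (hU : Dense (U : Set S))
    (hr : IsRetrocompact (U : Set S)) (s : S) : ∃ s₁ : S, s₁ ∈ U ∧ s₁ ⤳ s := by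
  obtain ⟨S₀, hS₀, hsS₀, -⟩ :=
    exists_isAffineOpen_mem_and_subset (x := s) (U := (⊤ : S.Opens)) trivial
  have hemb := hS₀.fromSpec.isOpenEmbedding
  set V : Set (PrimeSpectrum Γ(S, S₀)) := hS₀.fromSpec ⁻¹' (U : Set S) with hV
  have hVo : IsOpen V := U.isOpen.preimage hS₀.fromSpec.continuous
  have hVc : IsCompact V := by
    have h1 : IsCompact ((U : Set S) ∩ (S₀ : Set S)) := hr hS₀.isCompact S₀.isOpen
    have h2 : V = hS₀.fromSpec ⁻¹' ((U : Set S) ∩ (S₀ : Set S)) := by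
      ext p
      have hp : hS₀.fromSpec p ∈ (S₀ : Set S) := by
        have : hS₀.fromSpec p ∈ Set.range hS₀.fromSpec := ⟨p, rfl⟩
        rwa [hS₀.range_fromSpec] at this
      constructor
      · intro h
        exact ⟨h, hp⟩
      · intro h
        exact h.1
    rw [h2]
    refine hemb.isInducing.isCompact_preimage' h1 ?_
    rw [hS₀.range_fromSpec]
    exact Set.inter_subset_right
  have hVd : Dense V := hU.preimage hemb.isOpenMap
  obtain ⟨t, ht⟩ := (PrimeSpectrum.isCompact_isOpen_iff).mp ⟨hVc, hVo⟩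
  rw [← ht] at hVd
  obtain ⟨q, hq, hqV⟩ := exists_generization_mem_of_dense Γ(S, S₀) t hVd
    (hS₀.primeIdealOf ⟨s, hsS₀⟩)
  rw [ht] at hqV
  refine ⟨hS₀.fromSpec q, hqV, ?_⟩
  have h3 : q ⤳ hS₀.primeIdealOf ⟨s, hsS₀⟩ := (PrimeSpectrum.le_iff_specializes _ _).mp hq
  have h4 := h3.map hS₀.fromSpec.continuous
  rwa [hS₀.fromSpec_primeIdealOf ⟨s, hsS₀⟩] at h4

theorem fibreDimAt_resLE (f : X ⟶ S) [LocallyOfFiniteType f] (S₀ : S.Opens) (X₀ : X.Opens)
    (e₀ : X₀ ≤ f ⁻¹ᵁ S₀) (z : X₀) :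
    FlatMor.fibreDimAt (f.resLE S₀ X₀ e₀) z = FlatMor.fibreDimAt f z.1 := by
  rw [ConsFD.fibreDimAt_comp_mono (f.resLE S₀ X₀ e₀) S₀.ι z]
  have h : f.resLE S₀ X₀ e₀ ≫ S₀.ι = X₀.ι ≫ f := Scheme.Hom.resLE_comp_ι f e₀
  have h2 : FlatMor.fibreDimAt (f.resLE S₀ X₀ e₀ ≫ S₀.ι) z = FlatMor.fibreDimAt (X₀.ι ≫ f) z := by
    congr 1
  rw [h2]
  exact QuasiSection.fibreDimAt_opens f X₀ z

end Groth.Agent.Helper16.FTOpen

namespace Groth.Agent.Helper16.FTOpen

open Groth.Agent.Helper14 Groth.Agent.Helper16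

variable {X S : Scheme.{u}}

theorem main1240 (f : X ⟶ S) [Flat f] [LocallyOfFiniteType f]
    (U : S.Opens) (hU : Dense (U : Set S)) (e : ℕ)
    (hle : ∀ x : X, f.base x ∈ U → FlatMor.fibreDimAt f x ≤ e)
    (h : LocallyOfFinitePresentation f ∨ IsRetrocompact (U : Set S)) (x : X) :
    FlatMor.fibreDimAt f x ≤ e := by
  by_contra hcon
  obtain ⟨S₀, hS₀, hsS₀, -⟩ :=
    exists_isAffineOpen_mem_and_subset (x := f x) (U := (⊤ : S.Opens)) trivial
  obtain ⟨X₀, hX₀, hxX₀, e₀⟩ :=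
    exists_isAffineOpen_mem_and_subset (x := x) (U := f ⁻¹ᵁ S₀) hsS₀
  set f₀ := f.resLE S₀ X₀ e₀ with hf₀
  haveI : IsAffine (S₀ : Scheme.{u}) := hS₀
  haveI : IsAffine (X₀ : Scheme.{u}) := hX₀
  haveI : QuasiCompact f₀ :=
    (HasAffineProperty.iff_of_isAffine (P := @QuasiCompact)).mpr
      (inferInstance : CompactSpace (X₀ : Scheme.{u}))
  have hpt : ∀ z : X₀, (f₀ z).1 = f z.1 := by
    intro z
    have h1 : f₀ ≫ S₀.ι = X₀.ι ≫ f := Scheme.Hom.resLE_comp_ι f e₀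
    have h2 := congrArg (fun g => g.base z) h1
    exact h2
  -- the bad set on `S₀`
  set E : Set S₀ := {s' | (e : WithBot ℕ∞) < topologicalKrullDim (f₀.fiber s')} with hE
  have hsE : (⟨f x, hsS₀⟩ : S₀) ∈ E := by
    show (e : WithBot ℕ∞) < topologicalKrullDim (f₀.fiber ⟨f x, hsS₀⟩)
    have h1 : f₀ ⟨x, hxX₀⟩ = ⟨f x, hsS₀⟩ := Subtype.ext (hpt ⟨x, hxX₀⟩)
    have h2 := GenDim.fibreDimAt_le_dim_fiber f₀ ⟨x, hxX₀⟩ _ h1
    rw [fibreDimAt_resLE] at h2
    exact lt_of_lt_of_le (not_le.mp hcon) h2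
  -- a point of `E` over `U`
  have key : ∃ s' : S₀, s' ∈ E ∧ s'.1 ∈ U := by
    rcases h with h | h
    · have hopen : IsOpen E := main0404 f₀ e
      have hd : Dense (Subtype.val ⁻¹' (U : Set S) : Set S₀) :=
        hU.preimage S₀.isOpen.isOpenMap_subtype_val
      obtain ⟨s', hs'E, hs'U⟩ := hd.inter_open_nonempty E hopen ⟨_, hsE⟩
      exact ⟨s', hs'E, hs'U⟩
    · obtain ⟨s₁, hs₁U, hs₁⟩ := exists_generization_mem_of_retrocompact U hU h (f x)
      have hs₁S₀ : s₁ ∈ S₀ := hs₁.mem_open S₀.isOpen hsS₀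
      have hsp : (⟨s₁, hs₁S₀⟩ : S₀) ⤳ ⟨f x, hsS₀⟩ := (subtype_specializes_iff _ _).mpr hs₁
      exact ⟨⟨s₁, hs₁S₀⟩, stableUnderGeneralization_lt_dim_fiber f₀ e hsp hsE, hs₁U⟩
  obtain ⟨s', hs'E, hs'U⟩ := key
  have h3 : ¬ topologicalKrullDim (f₀.fiber s') ≤ (e : WithBot ℕ∞) := not_le.mpr hs'E
  rw [ConsFD.dim_fiber_le_iff] at h3
  push Not at h3
  obtain ⟨z, hz, hzd⟩ := h3
  rw [fibreDimAt_resLE] at hzd
  apply not_le.mpr hzd
  apply hle
  show f z.1 ∈ U
  rw [← hpt z, hz]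
  exact hs'U

end Groth.Agent.Helper16.FTOpen
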