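import Mathlib
import Groth.Agent.Lib.Helper16.Alg.FibPD4
import Groth.Agent.S0402

/-!
# Openness of the fibrewise codepth loci: the Noetherian affine case (helper16)
-/

set_option autoImplicit false
set_option linter.style.haveILetI false
set_option linter.unusedSectionVars false
universe u
open TensorProduct CategoryTheory IsLocalRing AlgebraicGeometry

namespace Groth.Agent.Helper16.FibCodepth

open Groth.Agent.Lead.Fib Groth.Agent.Lead.PD Groth.Agent.Lead.Depth
open Groth.Agent.Helper16.RingFibDim Groth.Agent.Helper16.FibPD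

variable (A B : Type u) [CommRing A] [CommRing B] [Algebra A B] [IsNoetherianRing A]
  [Algebra.FiniteType A B]

/-- the local fibre dimension of a morphism of finite type of Noetherian affine schemes is a
natural number. -/
theorem exists_nat_fibreDimAt (q : PrimeSpectrum B) :
    ∃ d : ℕ, FlatMor.fibreDimAt (specMap A B) q = (d : WithBot ℕ∞) := by
  haveI : IsNoetherianRing B := Algebra.FiniteType.isNoetherianRing A B
  let q' : Spec (CommRingCat.of B) := q
  haveI : (PrimeSpectrum.asIdeal q').LiesOver (q.asIdeal.under A) :=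
    inferInstanceAs (q.asIdeal.LiesOver (q.asIdeal.under A))
  have htd := Groth.Agent.Helper16.SpecFib.trdeg_residueField_eq A B q' (q.asIdeal.under A)
  rw [Groth.Agent.Helper16.FTDim.td_spec (specMap A B) q'] at htd
  have hR3 := Groth.Agent.Helper16.SpecFib.fibreDimAt_eq A B q' (q.asIdeal.under A) _ htd.symm
  obtain ⟨c, hc⟩ : ∃ c : ℕ, ringKrullDim (FL (q.asIdeal.under A) q.asIdeal) =
      (c : WithBot ℕ∞) := by
    have h1 : (maximalIdeal (FL (q.asIdeal.under A) q.asIdeal)).height ≠ ⊤ :=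
      Ideal.height_ne_top_of_isPrime
    obtain ⟨c, hc⟩ := ENat.ne_top_iff_exists.mp h1
    refine ⟨c, ?_⟩
    rw [← IsLocalRing.maximalIdeal_height_eq_ringKrullDim, ← hc]
    rfl
  refine ⟨c + Groth.Agent.Helper16.FTDim.td (specMap A B) q', ?_⟩
  rw [hR3]
  change ringKrullDim (FL (q.asIdeal.under A) q.asIdeal) + _ = _
  rw [hc]
  push_cast
  rfl

variable [Module.Flat A B]

/-- **Openness of the fibrewise codepth loci**, Noetherian affine flat case. -/
theorem isOpen_codepth_le (m : ℕ) :
    IsOpen {q : PrimeSpectrum B | ringKrullDim (FL (q.asIdeal.under A) q.asIdeal) ≤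
      ((LocCoh.depth (FL (q.asIdeal.under A) q.asIdeal) (FL (q.asIdeal.under A) q.asIdeal) : ℕ∞) :
        WithBot ℕ∞) + (m : WithBot ℕ∞)} := by
  obtain ⟨N, φ, hφ⟩ := Algebra.FiniteType.iff_quotient_mvPolynomial''.mp
    (inferInstance : Algebra.FiniteType A B)
  letI : Algebra (MvPolynomial (Fin N) A) B := φ.toRingHom.toAlgebra
  haveI : IsScalarTower A (MvPolynomial (Fin N) A) B :=
    IsScalarTower.of_algebraMap_eq fun a => (φ.commutes a).symm
  have hsurj : Function.Surjective (algebraMap (MvPolynomial (Fin N) A) B) := hφ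
  haveI : Module.Finite (MvPolynomial (Fin N) A) B :=
    Module.Finite.of_surjective (Algebra.linearMap (MvPolynomial (Fin N) A) B) hsurj
  rw [isOpen_iff_forall_mem_open]
  intro q₀ hq₀
  obtain ⟨d₀, hd₀⟩ := exists_nat_fibreDimAt A B q₀
  obtain ⟨e₀, D, c, n, hpd, hD, hc, hN, hd, hdN, -⟩ := pointwise N hsurj q₀ d₀ hd₀
  rw [Set.mem_ofPred_eq, hc, hD] at hq₀
  have hq₀' : c ≤ D + m := by exact_mod_cast hq₀
  refine ⟨{q | FlatMor.fibreDimAt (specMap A B) q ≤ (d₀ : WithBot ℕ∞)} ∩
    PrimeSpectrum.comap (algebraMap (MvPolynomial (Fin N) A) B) ⁻¹'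
      pdLocus (N - d₀ + m) (ModuleCat.of (MvPolynomial (Fin N) A) B), ?_, ?_, ?_⟩
  · rintro q ⟨hq1, hq2⟩
    obtain ⟨d, hd'⟩ := exists_nat_fibreDimAt A B q
    obtain ⟨e₀', D', c', n', hpd', hD', hc', hN', hd'', hdN', -⟩ := pointwise N hsurj q d hd'
    rw [Set.mem_ofPred_eq, hd'] at hq1
    have hq1' : d ≤ d₀ := by exact_mod_cast hq1
    have h2 := (hpd' _).mp hq2
    rw [Set.mem_ofPred_eq, hc', hD']
    have : c' ≤ D' + m := by omega
    exact_mod_cast this
  · exact (Groth.Agent.S0402.result (specMap A B) d₀).inter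
      ((isOpen_pdLocus _ B).preimage (PrimeSpectrum.continuous_comap _))
  · refine ⟨?_, ?_⟩
    · rw [Set.mem_ofPred_eq, hd₀]
    · exact (hpd _).mpr (by omega)

end Groth.Agent.Helper16.FibCodepth
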