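import Mathlib
import Groth.Agent.Lib.Helper16.Sch.CMCons3
import Groth.Agent.Lib.Helper16.Alg.GenRF5
import Groth.Agent.Lib.Helper4.Constr
import Groth.Agent.Lib.Helper16.Sch.ConsFD1

/-!
# A template for local constructibility of fibrewise properties (helper16)

A "fibrewise property" `Q.P f x` of points of the source of a morphism which
* is invariant under base change (for `f` locally of finite type),
* is insensitive to restricting the source to an open subscheme,
* defines an open set when `f` is flat and locally of finite presentation,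
defines a locally constructible subset of the source of any morphism locally of finite
presentation (`FibProp.isLocallyConstructible`).
-/

set_option autoImplicit false
set_option linter.style.haveILetI false
set_option linter.unusedSectionVars false
universe u

open CategoryTheory AlgebraicGeometry Limits IsLocalRing TensorProduct Topology

namespace Groth.Agent.Helper16.FibCons

open Groth.Agent.Helper16.CMCons

/-- a fibrewise property of points of the source of a morphism of schemes. -/
structure FibProp where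
  /-- the property -/
  P : ∀ {X S : Scheme.{u}} (_ : X ⟶ S), X → Prop
  bc : ∀ {X Y X' Y' : Scheme.{u}} {f : X ⟶ Y} {g : Y' ⟶ Y} {f' : X' ⟶ Y'} {g' : X' ⟶ X}
    [LocallyOfFiniteType f] (_ : IsPullback g' f' f g) (x' : X'), P f' x' ↔ P f (g' x')
  oi : ∀ {U X S : Scheme.{u}} (j : U ⟶ X) [IsOpenImmersion j] (f : X ⟶ S)
    [LocallyOfFiniteType f] (u : U), P (j ≫ f) u ↔ P f (j u)
  open_flat : ∀ {X S : Scheme.{u}} (f : X ⟶ S) [Flat f] [LocallyOfFinitePresentation f],
    IsOpen {x | P f x}

namespace FibProp

variable (Q : FibProp.{u})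

theorem of_eq {X S : Scheme.{u}} {f f' : X ⟶ S} (h : f = f') (x : X) :
    Q.P f x ↔ Q.P f' x := by subst h; rfl

theorem comp_mono {X Y Y' : Scheme.{u}} (f : X ⟶ Y') (j : Y' ⟶ Y) [Mono j]
    [LocallyOfFiniteType (f ≫ j)] (z : X) :
    Q.P f z ↔ Q.P (f ≫ j) z := by
  have h1 : IsPullback (𝟙 Y') (𝟙 Y') j j := (IsKernelPair.id_of_mono j)
  have h2 : IsPullback (𝟙 X) f f (𝟙 Y') := IsPullback.of_horiz_isIso ⟨by simp⟩
  have hsq : IsPullback (𝟙 X) f (f ≫ j) j := by
    have := h2.paste_vert h1
    simpa using this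
  have := Q.bc hsq z
  simpa using this

variable (R B : Type u) [CommRing R] [CommRing B] [Algebra R B]

/-- the locus of the property for `Spec B → Spec R`. -/
def locus : Set (Spec (CommRingCat.of B)) :=
  {x | Q.P (Spec.map (CommRingCat.ofHom (algebraMap R B))) x}

section pushout

variable {R B} (R' B' : Type u) [CommRing R'] [CommRing B'] [Algebra R R'] [Algebra R B']
  [Algebra R' B'] [Algebra B B'] [IsScalarTower R R' B'] [IsScalarTower R B B']
  [Algebra.FiniteType R B]

theorem preimage_locus (hpo : Algebra.IsPushout R R' B B') :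
    (Spec.map (CommRingCat.ofHom (algebraMap B B'))) ⁻¹' Q.locus R B = Q.locus R' B' := by
  haveI := lft_SpecMap (R := R) (B := B)
  ext x
  exact (Q.bc (isPullback_of_isPushout R' B' hpo) x).symm

theorem image_locus (hpo : Algebra.IsPushout R R' B B') :
    (Spec.map (CommRingCat.ofHom (algebraMap B B'))) '' Q.locus R' B' =
      Q.locus R B ∩ (Spec.map (CommRingCat.ofHom (algebraMap R B))) ⁻¹'
        Set.range (Spec.map (CommRingCat.ofHom (algebraMap R R'))) := by
  rw [← Q.preimage_locus R' B' hpo, Set.image_preimage_eq_inter_range,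
    range_of_isPullback (isPullback_of_isPushout R' B' hpo)]

end pushout

attribute [local instance] Algebra.TensorProduct.rightAlgebra

theorem isOpen_locus_of_flat [Module.Flat R B] [Algebra.FinitePresentation R B] :
    IsOpen (Q.locus R B) := by
  haveI : Flat (Spec.map (CommRingCat.ofHom (algebraMap R B))) := by
    rw [Flat.SpecMap_iff]
    exact RingHom.flat_algebraMap_iff.mpr inferInstance
  haveI : LocallyOfFinitePresentation (Spec.map (CommRingCat.ofHom (algebraMap R B))) := by
    rw [HasRingHomProperty.Spec_iff (P := @LocallyOfFinitePresentation)]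
    exact RingHom.finitePresentation_algebraMap.mpr inferInstance
  exact Q.open_flat (Spec.map (CommRingCat.ofHom (algebraMap R B)))

section noeth

variable [IsNoetherianRing R] [Algebra.FiniteType R B]

set_option maxHeartbeats 800000 in
set_option synthInstance.maxHeartbeats 200000 in
theorem exists_generic_piece (p : Ideal R) [hp : p.IsPrime] :
    ∃ a : R, a ∉ p ∧ IsConstructible (Q.locus R B ∩
      (Spec.map (CommRingCat.ofHom (algebraMap R B))) ⁻¹'
        ((PrimeSpectrum.zeroLocus p ∩ PrimeSpectrum.basicOpen a : Set (PrimeSpectrum R)))) := by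
  obtain ⟨s, hs, hfree, -⟩ := Groth.Agent.Helper16.GenRF.exists_free_fp_away (R ⧸ p) ((R ⧸ p) ⊗[R] B)
  obtain ⟨a, rfl⟩ := Ideal.Quotient.mk_surjective s
  have ha : a ∉ p := by
    intro hmem
    apply hs
    rw [Ideal.Quotient.eq_zero_iff_mem.mpr hmem]
    exact IsNilpotent.zero
  refine ⟨a, ha, ?_⟩
  set R' := Localization.Away (Ideal.Quotient.mk p a) with hR'
  haveI : Module.Flat R' (R' ⊗[R] B) := by
    haveI : Module.Free R' (R' ⊗[R ⧸ p] ((R ⧸ p) ⊗[R] B)) := hfree
    exact Module.Flat.of_linearEquiv
      (TensorProduct.AlgebraTensorModule.cancelBaseChange R (R ⧸ p) R' R' B).symm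
  haveI : IsNoetherianRing R' :=
    IsLocalization.isNoetherianRing (Submonoid.powers (Ideal.Quotient.mk p a)) R' inferInstance
  haveI : Algebra.FinitePresentation R' (R' ⊗[R] B) :=
    Algebra.FinitePresentation.of_finiteType.mp inferInstance
  have hopen := Q.isOpen_locus_of_flat R' (R' ⊗[R] B)
  haveI : IsNoetherianRing (R' ⊗[R] B) := Algebra.FiniteType.isNoetherianRing R' (R' ⊗[R] B)
  haveI : TopologicalSpace.NoetherianSpace (Spec (CommRingCat.of (R' ⊗[R] B))) :=
    inferInstanceAs (TopologicalSpace.NoetherianSpace (PrimeSpectrum (R' ⊗[R] B)))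
  have hcons := Groth.Agent.Helper4.Constr.isConstructible_of_isOpen hopen
  have hfpB : (algebraMap B (R' ⊗[R] B)).FinitePresentation := by
    haveI : IsNoetherianRing B := Algebra.FiniteType.isNoetherianRing R B
    haveI : Algebra.FiniteType R R' :=
      Algebra.FiniteType.trans (inferInstance : Algebra.FiniteType R (R ⧸ p))
        (IsLocalization.finiteType_of_monoid_fg (Submonoid.powers (Ideal.Quotient.mk p a)) R')
    haveI : Algebra.FiniteType R (R' ⊗[R] B) :=
      Algebra.FiniteType.trans (inferInstance : Algebra.FiniteType R R') inferInstance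
    haveI : Algebra.FiniteType B (R' ⊗[R] B) :=
      Algebra.FiniteType.of_restrictScalars_finiteType R B (R' ⊗[R] B)
    exact RingHom.finitePresentation_algebraMap.mpr
      (Algebra.FinitePresentation.of_finiteType.mp inferInstance)
  have himg := PrimeSpectrum.isConstructible_comap_image hfpB hcons
  have hpo : Algebra.IsPushout R R' B (R' ⊗[R] B) := inferInstance
  have himg2 := Q.image_locus R' (R' ⊗[R] B) hpo
  have h6 : ((PrimeSpectrum.zeroLocus p ∩ PrimeSpectrum.basicOpen a : Set (PrimeSpectrum R)) :
      Set (Spec (CommRingCat.of R))) =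
      Set.range (Spec.map (CommRingCat.ofHom (algebraMap R R'))) :=
    (range_comap_quotient_away R p a).symm
  have h4 : Q.locus R B ∩ (Spec.map (CommRingCat.ofHom (algebraMap R B))) ⁻¹'
      ((PrimeSpectrum.zeroLocus p ∩ PrimeSpectrum.basicOpen a : Set (PrimeSpectrum R))) =
      (Spec.map (CommRingCat.ofHom (algebraMap B (R' ⊗[R] B)))) '' Q.locus R' (R' ⊗[R] B) :=
    (congrArg (fun Z => Q.locus R B ∩ (Spec.map (CommRingCat.ofHom (algebraMap R B))) ⁻¹' Z)
      h6).trans himg2.symm
  rw [h4]
  exact himg

theorem isConstructible_locus_inter :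
    ∀ Z : Set (Spec (CommRingCat.of R)), IsClosed Z → IsConstructible (Q.locus R B ∩
      (Spec.map (CommRingCat.ofHom (algebraMap R B))) ⁻¹' Z) := by
  haveI : TopologicalSpace.NoetherianSpace (Spec (CommRingCat.of R)) :=
    inferInstanceAs (TopologicalSpace.NoetherianSpace (PrimeSpectrum R))
  apply Groth.Agent.Helper4.Constr.noeth_induction
  · intro Z hZcl hZirr ih
    have hp : (PrimeSpectrum.vanishingIdeal (Z : Set (PrimeSpectrum R))).IsPrime :=
      PrimeSpectrum.isIrreducible_iff_vanishingIdeal_isPrime.mp hZirr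
    obtain ⟨a, ha, hcons⟩ := Q.exists_generic_piece R B
      (PrimeSpectrum.vanishingIdeal (Z : Set (PrimeSpectrum R)))
    obtain ⟨hZ'lt, hZeq⟩ := aux_split R (Z : Set (PrimeSpectrum R)) hZcl hp a ha
    have hZ'cl : IsClosed (Z ∩ (PrimeSpectrum.zeroLocus {a} : Set (PrimeSpectrum R))) :=
      hZcl.inter (PrimeSpectrum.isClosed_zeroLocus _)
    have h1 := ih _ hZ'cl hZ'lt
    have hsplit : Q.locus R B ∩ (Spec.map (CommRingCat.ofHom (algebraMap R B))) ⁻¹' Z =
        (Q.locus R B ∩ (Spec.map (CommRingCat.ofHom (algebraMap R B))) ⁻¹'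
          (Z ∩ (PrimeSpectrum.zeroLocus {a} : Set (PrimeSpectrum R)))) ∪
        (Q.locus R B ∩ (Spec.map (CommRingCat.ofHom (algebraMap R B))) ⁻¹'
          ((PrimeSpectrum.zeroLocus (PrimeSpectrum.vanishingIdeal (Z : Set (PrimeSpectrum R))) ∩
            PrimeSpectrum.basicOpen a : Set (PrimeSpectrum R)))) := by
      rw [← Set.inter_union_distrib_left, ← Set.preimage_union]
      exact congrArg (fun W => Q.locus R B ∩
        (Spec.map (CommRingCat.ofHom (algebraMap R B))) ⁻¹' W) hZeq
    rw [hsplit]
    exact h1.union hcons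
  · intro S hS hScl hSQ
    have : Q.locus R B ∩ (Spec.map (CommRingCat.ofHom (algebraMap R B))) ⁻¹' (⋃₀ S) =
        ⋃ t ∈ S, Q.locus R B ∩ (Spec.map (CommRingCat.ofHom (algebraMap R B))) ⁻¹' t := by
      ext x
      simp only [Set.mem_inter_iff, Set.mem_preimage, Set.mem_sUnion, Set.mem_iUnion, exists_prop]
      constructor
      · rintro ⟨h1, t, ht, h2⟩
        exact ⟨t, ht, h1, h2⟩
      · rintro ⟨t, ht, h1, h2⟩
        exact ⟨h1, t, ht, h2⟩
    rw [this]
    exact IsConstructible.biUnion hS hSQ

theorem isConstructible_locus_noeth : IsConstructible (Q.locus R B) := by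
  have := Q.isConstructible_locus_inter R B Set.univ isClosed_univ
  simpa using this

end noeth

/-- The locus of a fibrewise property for a finitely presented algebra is constructible. -/
theorem isConstructible_locus [Algebra.FinitePresentation R B] : IsConstructible (Q.locus R B) := by
  obtain ⟨R₀, _, _, B₀, _, _, _, _, _, _, hR₀, hB₀, hpo⟩ :=
    Groth.Agent.Helper16.ConsFD.exists_model R B
  haveI : IsNoetherianRing R₀ := Algebra.FiniteType.isNoetherianRing ℤ R₀
  haveI : Algebra.FiniteType R₀ B₀ := inferInstance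
  have hcons := Q.isConstructible_locus_noeth R₀ B₀
  have := (Spec.map (CommRingCat.ofHom (algebraMap B₀ B))).isConstructible_preimage hcons
  rw [Q.preimage_locus R B hpo] at this
  exact this

theorem isConstructible_SpecMap {R B : CommRingCat.{u}} (φ : R ⟶ B)
    (hφ : φ.hom.FinitePresentation) :
    IsConstructible {x : Spec B | Q.P (Spec.map φ) x} := by
  letI := φ.hom.toAlgebra
  haveI : Algebra.FinitePresentation R B := hφ
  exact Q.isConstructible_locus R B

/-- **Local constructibility of a fibrewise property** for morphisms locally of finite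
presentation. -/
theorem isLocallyConstructible {X Y : Scheme.{u}} (f : X ⟶ Y)
    [LocallyOfFinitePresentation f] :
    IsLocallyConstructible {x : X | Q.P f x} := by
  intro x
  obtain ⟨_, ⟨W, hW, rfl⟩, hxW, -⟩ := Y.isBasis_affineOpens.exists_subset_of_mem_open
    (Set.mem_univ (f x)) isOpen_univ
  have hW : IsAffineOpen W := hW
  obtain ⟨_, ⟨U, hU, rfl⟩, hxU, e⟩ := X.isBasis_affineOpens.exists_subset_of_mem_open
    (show x ∈ f ⁻¹ᵁ W from hxW) (f ⁻¹ᵁ W).isOpen
  have hU : IsAffineOpen U := hU
  have e : U ≤ f ⁻¹ᵁ W := e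
  refine ⟨U, U.isOpen.mem_nhds hxU, U.isOpen, ?_⟩
  have hφ : (f.appLE W U e).hom.FinitePresentation :=
    HasRingHomProperty.appLE (P := @LocallyOfFinitePresentation) f inferInstance ⟨W, hW⟩ ⟨U, hU⟩ e
  have hc := Q.isConstructible_SpecMap (f.appLE W U e) hφ
  have hpre := hc.preimage_of_isOpenEmbedding hU.isoSpec.hom.isOpenEmbedding
  refine (congrArg IsConstructible (Set.ext fun u => ?_)).mpr hpre
  show Q.P f u.1 ↔ Q.P (Spec.map (f.appLE W U e)) (hU.isoSpec.hom u)
  have hsq := IsAffineOpen.SpecMap_appLE_fromSpec f hW hU e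
  haveI : LocallyOfFiniteType (Spec.map (f.appLE W U e) ≫ hW.fromSpec) := by
    rw [hsq]; infer_instance
  have h1 := Q.comp_mono (Spec.map (f.appLE W U e)) hW.fromSpec (hU.isoSpec.hom u)
  have h2 := Q.oi hU.fromSpec f (hU.isoSpec.hom u)
  have h3 : hU.fromSpec (hU.isoSpec.hom u) = u.1 := by
    rw [← Scheme.Hom.comp_apply, hU.isoSpec_hom_fromSpec]
    rfl
  rw [h3] at h2
  rw [h1, ← h2]
  exact Q.of_eq hsq.symm _

end FibProp

end Groth.Agent.Helper16.FibCons
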