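import Mathlib
import Groth.Agent.Lib.Helper16.Sch.FibCons1
import Groth.Agent.Lib.Helper16.Sch.FlatModel

/-!
# A template for openness and local constructibility of fibrewise properties (helper16)

A fibrewise property `Q.P f x` (invariant under base change and under restriction to open
subschemes of the source) whose locus is open for flat algebras of finite type over
Noetherian rings has an open locus for every flat morphism locally of finite presentation
(`FibProp0.isOpen`), and a locally constructible locus for every morphism locally of finite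
presentation (`FibProp0.isLocallyConstructible`).
-/

set_option autoImplicit false
set_option linter.style.haveILetI false
set_option linter.unusedSectionVars false
universe u

open CategoryTheory AlgebraicGeometry Limits IsLocalRing TensorProduct Topology

namespace Groth.Agent.Helper16.FibCons

open Groth.Agent.Helper16.CMCons

/-- a fibrewise property of points of the source of a morphism of schemes (without openness). -/
structure FibProp0 where
  /-- the property -/
  P : ∀ {X S : Scheme.{u}} (_ : X ⟶ S), X → Prop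
  bc : ∀ {X Y X' Y' : Scheme.{u}} {f : X ⟶ Y} {g : Y' ⟶ Y} {f' : X' ⟶ Y'} {g' : X' ⟶ X}
    [LocallyOfFiniteType f] (_ : IsPullback g' f' f g) (x' : X'), P f' x' ↔ P f (g' x')
  oi : ∀ {U X S : Scheme.{u}} (j : U ⟶ X) [IsOpenImmersion j] (f : X ⟶ S)
    [LocallyOfFiniteType f] (u : U), P (j ≫ f) u ↔ P f (j u)

namespace FibProp0

variable (Q : FibProp0.{u})

theorem of_eq {X S : Scheme.{u}} {f f' : X ⟶ S} (h : f = f') (x : X) :
    Q.P f x ↔ Q.P f' x := by subst h; rfl

theorem comp_mono {X Y Y' : Scheme.{u}} (f : X ⟶ Y') (j : Y' ⟶ Y) [Mono j]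
    [LocallyOfFiniteType (f ≫ j)] (z : X) :
    Q.P f z ↔ Q.P (f ≫ j) z := by
  have h1 : IsPullback (𝟙 Y') (𝟙 Y') j j := (IsKernelPair.id_of_mono j)
  have h2 : IsPullback (𝟙 X) f f (𝟙 Y') := IsPullback.of_horiz_isIso ⟨by simp⟩
  have hsq : IsPullback (𝟙 X) f (f ≫ j) j := by
    have := h2.paste_vert h1
    simpa using this
  have := Q.bc hsq z
  simpa using this

/-- the locus of the property for `Spec B → Spec R`. -/
def locus (R B : Type u) [CommRing R] [CommRing B] [Algebra R B] :
    Set (Spec (CommRingCat.of B)) :=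
  {x | Q.P (Spec.map (CommRingCat.ofHom (algebraMap R B))) x}

/-- the hypothesis of openness in the Noetherian affine flat case. -/
def OpenNoeth : Prop :=
  ∀ (R B : Type u) [CommRing R] [CommRing B] [Algebra R B] [IsNoetherianRing R]
    [Algebra.FiniteType R B] [Module.Flat R B], IsOpen (Q.locus R B)

variable {Q}

theorem isOpen_locus (hQ : Q.OpenNoeth) (R B : Type u) [CommRing R] [CommRing B] [Algebra R B]
    [Algebra.FinitePresentation R B] [Module.Flat R B] : IsOpen (Q.locus R B) := by
  obtain ⟨R₁, _, _, B₁, _, _, _, _, _, _, hN, hfp, hfl, hpo⟩ :=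
    Groth.Agent.Helper16.FlatModel.exists_flat_model R B
  haveI := hN
  haveI := hfp
  haveI := hfl
  haveI : Algebra.FiniteType R₁ B₁ := inferInstance
  have h1 := hQ R₁ B₁
  haveI := lft_SpecMap (R := R₁) (B := B₁)
  have h2 : (Spec.map (CommRingCat.ofHom (algebraMap B₁ B))) ⁻¹' Q.locus R₁ B₁ = Q.locus R B := by
    ext x
    exact (Q.bc (isPullback_of_isPushout R B hpo) x).symm
  rw [← h2]
  exact h1.preimage (Spec.map (CommRingCat.ofHom (algebraMap B₁ B))).continuous

theorem isOpen_SpecMap (hQ : Q.OpenNoeth) {R B : CommRingCat.{u}} (φ : R ⟶ B)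
    (hφ : φ.hom.FinitePresentation) (hfl : φ.hom.Flat) :
    IsOpen {x : Spec B | Q.P (Spec.map φ) x} := by
  letI := φ.hom.toAlgebra
  haveI : Algebra.FinitePresentation R B := hφ
  haveI : Module.Flat R B := hfl
  exact isOpen_locus hQ R B

/-- **Openness of a fibrewise property** for flat morphisms locally of finite presentation. -/
theorem isOpen (hQ : Q.OpenNoeth) {X Y : Scheme.{u}} (f : X ⟶ Y) [Flat f]
    [LocallyOfFinitePresentation f] : IsOpen {x : X | Q.P f x} := by
  rw [isOpen_iff_forall_mem_open]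
  intro x hx
  obtain ⟨_, ⟨W, hW, rfl⟩, hxW, -⟩ := Y.isBasis_affineOpens.exists_subset_of_mem_open
    (Set.mem_univ (f x)) isOpen_univ
  have hW : IsAffineOpen W := hW
  obtain ⟨_, ⟨U, hU, rfl⟩, hxU, e⟩ := X.isBasis_affineOpens.exists_subset_of_mem_open
    (show x ∈ f ⁻¹ᵁ W from hxW) (f ⁻¹ᵁ W).isOpen
  have hU : IsAffineOpen U := hU
  have e : U ≤ f ⁻¹ᵁ W := e
  have hφ : (f.appLE W U e).hom.FinitePresentation :=
    HasRingHomProperty.appLE (P := @LocallyOfFinitePresentation) f inferInstance ⟨W, hW⟩ ⟨U, hU⟩ e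
  have hfl : (f.appLE W U e).hom.Flat :=
    HasRingHomProperty.appLE (P := @Flat) f inferInstance ⟨W, hW⟩ ⟨U, hU⟩ e
  have ho := isOpen_SpecMap hQ (f.appLE W U e) hφ hfl
  have hpre := ho.preimage hU.isoSpec.hom.continuous
  have hkey : ∀ u : U, Q.P f u.1 ↔ Q.P (Spec.map (f.appLE W U e)) (hU.isoSpec.hom u) := by
    intro u
    have hsq := IsAffineOpen.SpecMap_appLE_fromSpec f hW hU e
    haveI : LocallyOfFiniteType (Spec.map (f.appLE W U e) ≫ hW.fromSpec) := by
      rw [hsq]; infer_instance
    have h1 := Q.comp_mono (Spec.map (f.appLE W U e)) hW.fromSpec (hU.isoSpec.hom u)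
    have h2 := Q.oi hU.fromSpec f (hU.isoSpec.hom u)
    have h3 : hU.fromSpec (hU.isoSpec.hom u) = u.1 := by
      rw [← Scheme.Hom.comp_apply, hU.isoSpec_hom_fromSpec]
      rfl
    rw [h3] at h2
    rw [h1, ← h2]
    exact Q.of_eq hsq.symm _
  refine ⟨Subtype.val '' (hU.isoSpec.hom ⁻¹' {x | Q.P (Spec.map (f.appLE W U e)) x}), ?_, ?_, ?_⟩
  · rintro _ ⟨u, hu, rfl⟩
    exact (hkey u).mpr hu
  · exact U.isOpen.isOpenMap_subtype_val _ hpre
  · exact ⟨⟨x, hxU⟩, (hkey ⟨x, hxU⟩).mp hx, rfl⟩

/-- the associated `FibProp`. -/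
def toFibProp (hQ : Q.OpenNoeth) : FibProp.{u} where
  P := Q.P
  bc := Q.bc
  oi := Q.oi
  open_flat := fun f _ _ => isOpen hQ f

/-- **Local constructibility of a fibrewise property** for morphisms locally of finite
presentation. -/
theorem isLocallyConstructible (hQ : Q.OpenNoeth) {X Y : Scheme.{u}} (f : X ⟶ Y)
    [LocallyOfFinitePresentation f] : IsLocallyConstructible {x : X | Q.P f x} :=
  (toFibProp hQ).isLocallyConstructible f

end FibProp0

end Groth.Agent.Helper16.FibCons
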