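import Mathlib
import Groth.Agent.Lib.Helper16.Sch.FibDepth1
import Groth.Agent.Lib.Helper16.Sch.FibOpen1
import Groth.Agent.Lib.Helper16.Sch.FibCodepth1
import Groth.Agent.Lib.Helper21.FL9
import Groth.Agent.Lib.Helper16.Sch.ConsFD3

/-!
# Openness and constructibility of the fibrewise codepth loci (helper16)
-/

set_option autoImplicit false
set_option linter.style.haveILetI false
set_option linter.unusedSectionVars false
universe u

open AlgebraicGeometry CategoryTheory Limits IsLocalRing TensorProduct Topology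

namespace Groth.Agent.Helper16.FibCons

open Groth.Agent.Helper16.FibDepth Groth.Agent.Helper16.RingFibDim

/-- flat-and-`Q` loci are open for morphisms locally of finite presentation. -/
theorem FibProp0.isOpen_flat_and {Q : FibProp0.{u}} (hQ : Q.OpenNoeth) {X Y : Scheme.{u}}
    (f : X ⟶ Y) [LocallyOfFinitePresentation f] :
    IsOpen {x : X | (f.stalkMap x).hom.Flat ∧ Q.P f x} := by
  let F : X.Opens := ⟨{x : X | (f.stalkMap x).hom.Flat},
    Groth.Agent.Helper21.FL.isOpen_flatLocus_scheme f⟩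
  have hst : ∀ z : F.toScheme, ((F.ι ≫ f).stalkMap z).hom.Flat ↔
      (f.stalkMap (F.ι z)).hom.Flat := by
    intro z
    rw [Scheme.Hom.stalkMap_comp]
    exact RingHom.Flat.respectsIso.cancel_right_isIso _ (F.ι.stalkMap z)
  haveI hflat : Flat (F.ι ≫ f) := by
    rw [Flat.iff_flat_stalkMap]
    intro z
    rw [hst]
    exact z.2
  have ho := FibProp0.isOpen hQ (F.ι ≫ f)
  have ho' := F.ι.isOpenEmbedding.isOpenMap _ ho
  convert ho' using 1
  ext x
  constructor
  · rintro ⟨h1, h2⟩
    exact ⟨⟨x, h1⟩, (Q.oi F.ι f ⟨x, h1⟩).mpr h2, rfl⟩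
  · rintro ⟨z, hz, rfl⟩
    exact ⟨z.2, (Q.oi F.ι f z).mp hz⟩

theorem exists_nat_dim (R : Type u) [CommRing R] [IsLocalRing R] [IsNoetherianRing R] :
    ∃ c : ℕ, ringKrullDim R = (c : WithBot ℕ∞) := by
  have h1 : (maximalIdeal R).height ≠ ⊤ := Ideal.height_ne_top_of_isPrime
  obtain ⟨c, hc⟩ := ENat.ne_top_iff_exists.mp h1
  refine ⟨c, ?_⟩
  rw [← IsLocalRing.maximalIdeal_height_eq_ringKrullDim, ← hc]
  rfl

theorem codepth_arith (c d m : ℕ) (a a' : WithBot ℕ∞) (b b' : ℕ∞) (ha : a = (c : WithBot ℕ∞))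
    (ha' : a' = a + (d : WithBot ℕ∞)) (hb' : b' = b + (d : ℕ∞)) :
    a' ≤ ((b' : ℕ∞) : WithBot ℕ∞) + (m : WithBot ℕ∞) ↔
      a ≤ ((b : ℕ∞) : WithBot ℕ∞) + (m : WithBot ℕ∞) := by
  subst ha ha' hb'
  induction b using ENat.recTopCoe with
  | top =>
    simp only [top_add]
    constructor
    · intro _
      exact le_top
    · intro _
      exact le_top
  | coe b =>
    norm_cast
    omega

theorem isNoetherianRing_fs {X Y : Scheme.{u}} (f : X ⟶ Y) [LocallyOfFiniteType f] (x : X) :
    IsNoetherianRing ((f.fiber (f x)).presheaf.stalk (f.asFiber x)) := by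
  haveI : LocallyOfFiniteType (f.fiberToSpecResidueField (f x)) :=
    MorphismProperty.pullback_snd _ _ ‹LocallyOfFiniteType f›
  haveI : IsLocallyNoetherian (f.fiber (f x)) :=
    LocallyOfFiniteType.isLocallyNoetherian (f.fiberToSpecResidueField _)
  infer_instance

/-- the fibrewise property "codepth of the fibre local ring is at most `m`". -/
noncomputable def codepthLE (m : ℕ) : FibProp0.{u} where
  P := fun {X S} f x =>
    ringKrullDim ((f.fiber (f x)).presheaf.stalk (f.asFiber x)) ≤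
      ((LocCoh.depth ((f.fiber (f x)).presheaf.stalk (f.asFiber x))
        ((f.fiber (f x)).presheaf.stalk (f.asFiber x)) : ℕ∞) : WithBot ℕ∞) + (m : WithBot ℕ∞)
  bc := by
    intro X Y X' Y' f g f' g' _ hsq x'
    haveI hft' : LocallyOfFiniteType f' :=
      MorphismProperty.of_isPullback hsq ‹LocallyOfFiniteType f›
    have hN' := isNoetherianRing_fs f' x'
    have hN := isNoetherianRing_fs f (g' x')
    obtain ⟨d, hd1, hd2⟩ := dim_depth_baseChange hsq x' hN' hN (Or.inr inferInstance)
    obtain ⟨c, hc⟩ := exists_nat_dim ((f.fiber (f (g' x'))).presheaf.stalk (f.asFiber (g' x')))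
    exact codepth_arith c d m _ _ _ _ hc hd1 hd2
  oi := by
    intro U X S j _ f _ u
    have e := fsOpenImmersionEquiv j f u
    haveI := isNoetherianRing_fs f (j u)
    rw [ringKrullDim_eq_of_ringEquiv e,
      Groth.Agent.Lead.Depth.depth_self_eq_of_ringEquiv
        (R₁ := (f.fiber (f (j u))).presheaf.stalk (f.asFiber (j u)))
        (R₂ := ((j ≫ f).fiber ((j ≫ f) u)).presheaf.stalk ((j ≫ f).asFiber u)) e]

theorem codepthLE_openNoeth (m : ℕ) : (codepthLE.{u} m).OpenNoeth := by
  intro R B _ _ _ _ _ _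
  have h := Groth.Agent.Helper16.FibCodepth.isOpen_codepth_le R B m
  have hset : (codepthLE.{u} m).locus R B = ({q : PrimeSpectrum B |
      ringKrullDim (Groth.Agent.Lead.Fib.FL (q.asIdeal.under R) q.asIdeal) ≤
      ((LocCoh.depth (Groth.Agent.Lead.Fib.FL (q.asIdeal.under R) q.asIdeal)
        (Groth.Agent.Lead.Fib.FL (q.asIdeal.under R) q.asIdeal) : ℕ∞) :
        WithBot ℕ∞) + (m : WithBot ℕ∞)} : Set (PrimeSpectrum B)) := by
    ext q
    have e := fsSpecEquiv R B q
    haveI : LocallyOfFiniteType (specMap R B) := Groth.Agent.Helper16.CMCons.lft_SpecMap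
    haveI := isNoetherianRing_fs (specMap R B) q
    change ringKrullDim _ ≤ _ ↔ ringKrullDim _ ≤ _
    rw [ringKrullDim_eq_of_ringEquiv e,
      Groth.Agent.Lead.Depth.depth_self_eq_of_ringEquiv
        (R₁ := ((specMap R B).fiber ((specMap R B) q)).presheaf.stalk ((specMap R B).asFiber q))
        (R₂ := EGA4.FibLocRing R B (PrimeSpectrum.asIdeal q)) e]
  rw [hset]
  exact h

theorem codepth_eq_arith (c n : ℕ) (a : WithBot ℕ∞) (b : ℕ∞) (ha : a = (c : WithBot ℕ∞))
    (hba : ((b : ℕ∞) : WithBot ℕ∞) ≤ a) :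
    a = ((b : ℕ∞) : WithBot ℕ∞) + (n : WithBot ℕ∞) ↔
      a ≤ ((b : ℕ∞) : WithBot ℕ∞) + (n : WithBot ℕ∞) ∧
        ∀ k : ℕ, k < n → ¬ a ≤ ((b : ℕ∞) : WithBot ℕ∞) + (k : WithBot ℕ∞) := by
  subst ha
  induction b using ENat.recTopCoe with
  | top =>
    exfalso
    have : ((⊤ : ℕ∞) : WithBot ℕ∞) ≤ ((c : ℕ∞) : WithBot ℕ∞) := hba
    rw [WithBot.coe_le_coe] at this
    simp at this
  | coe b =>
    have hbc : b ≤ c := by exact_mod_cast hba
    constructor
    · intro h
      have h' : c = b + n := by exact_mod_cast h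
      refine ⟨le_of_eq h, ?_⟩
      intro k hk hle
      have : c ≤ b + k := by exact_mod_cast hle
      omega
    · rintro ⟨h1, h2⟩
      have h1' : c ≤ b + n := by exact_mod_cast h1
      have : c = b + n := by
        by_contra hne
        have hlt : c < b + n := lt_of_le_of_ne h1' hne
        obtain ⟨m, rfl⟩ : ∃ m, n = m + 1 := ⟨n - 1, by omega⟩
        refine h2 m (by omega) ?_
        have : c ≤ b + m := by omega
        exact_mod_cast this
      exact_mod_cast this

/-- **Local constructibility of the locus where the fibre local ring has codepth `n`.** -/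
theorem isLocallyConstructible_codepth_eq {X S : Scheme.{u}} (f : X ⟶ S)
    [LocallyOfFinitePresentation f] (n : ℕ) :
    IsLocallyConstructible {x : X |
      ringKrullDim ((f.fiber (f x)).presheaf.stalk (f.asFiber x)) =
        ((LocCoh.depth ((f.fiber (f x)).presheaf.stalk (f.asFiber x))
          ((f.fiber (f x)).presheaf.stalk (f.asFiber x)) : ℕ∞) : WithBot ℕ∞) +
            (n : WithBot ℕ∞)} := by
  have hle : ∀ m : ℕ, IsLocallyConstructible {x : X | (codepthLE.{u} m).P f x} :=
    fun m => FibProp0.isLocallyConstructible (codepthLE_openNoeth m) f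
  have hset : {x : X |
      ringKrullDim ((f.fiber (f x)).presheaf.stalk (f.asFiber x)) =
        ((LocCoh.depth ((f.fiber (f x)).presheaf.stalk (f.asFiber x))
          ((f.fiber (f x)).presheaf.stalk (f.asFiber x)) : ℕ∞) : WithBot ℕ∞) +
            (n : WithBot ℕ∞)} =
      {x : X | (codepthLE.{u} n).P f x} ∩
        ⋂ k : Fin n, {x : X | (codepthLE.{u} k.1).P f x}ᶜ := by
    ext x
    haveI := isNoetherianRing_fs f x
    obtain ⟨c, hc⟩ := exists_nat_dim ((f.fiber (f x)).presheaf.stalk (f.asFiber x))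
    have hba := Groth.Agent.Lead.Depth.depth_le_supportDim
      (R := (f.fiber (f x)).presheaf.stalk (f.asFiber x))
      ((f.fiber (f x)).presheaf.stalk (f.asFiber x))
    rw [Module.supportDim_self_eq_ringKrullDim] at hba
    rw [Set.mem_ofPred_eq, codepth_eq_arith c n _ _ hc hba]
    simp only [Set.mem_inter_iff, Set.mem_iInter, Set.mem_compl_iff, Set.mem_ofPred_eq]
    constructor
    · rintro ⟨h1, h2⟩
      exact ⟨h1, fun k => h2 k.1 k.2⟩
    · rintro ⟨h1, h2⟩
      exact ⟨h1, fun k hk => h2 ⟨k, hk⟩⟩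
  rw [hset]
  exact (hle n).inter (IsLocallyConstructible.iInter fun k =>
    Groth.Agent.Helper16.ConsFD.isLocallyConstructible_compl (hle k.1))

end Groth.Agent.Helper16.FibCons
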