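import Mathlib
import Groth.Agent.Lib.Helper16.Sch.ConsFD4

set_option autoImplicit false
set_option linter.style.haveILetI false
universe u
open CategoryTheory CategoryTheory.Limits AlgebraicGeometry Opposite TopologicalSpace Topology
open TensorProduct

noncomputable section

namespace Groth.Agent.Helper16.ConsFD

open Groth.Agent.Helper14 Groth.Agent.Helper21.FS

theorem isPullback_of_isPushout (R₀ R B₀ B : Type u) [CommRing R₀] [CommRing R] [CommRing B₀]
    [CommRing B] [Algebra R₀ R] [Algebra R₀ B₀] [Algebra R B] [Algebra B₀ B] [Algebra R₀ B]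
    [IsScalarTower R₀ R B] [IsScalarTower R₀ B₀ B] (h : Algebra.IsPushout R₀ R B₀ B) :
    IsPullback (Spec.map (CommRingCat.ofHom (algebraMap B₀ B)))
      (Spec.map (CommRingCat.ofHom (algebraMap R B)))
      (Spec.map (CommRingCat.ofHom (algebraMap R₀ B₀)))
      (Spec.map (CommRingCat.ofHom (algebraMap R₀ R))) :=
  (isPullback_SpecMap_of_isPushout _ _ _ _
    ((CommRingCat.isPushout_iff_isPushout (R := R₀) (R' := R) (S := B₀) (S' := B)).mpr h)).flip

attribute [local instance] stageAlgebra Algebra.TensorProduct.rightAlgebra in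
theorem ring_core (R B : Type u) [CommRing R] [CommRing B] [Algebra R B]
    [Algebra.FinitePresentation R B] (d : ℕ)
    (hd : ∀ s : Spec (.of R), topologicalKrullDim
      ((Spec.map (CommRingCat.ofHom (algebraMap R B))).fiber s) = d) :
    ∃ (R₁ : Type u) (_ : CommRing R₁) (_ : Algebra R₁ R) (B₁ : Type u) (_ : CommRing B₁)
      (_ : Algebra R₁ B₁) (_ : Algebra B₁ B) (_ : Algebra R₁ B) (_ : IsScalarTower R₁ R B)
      (_ : IsScalarTower R₁ B₁ B),
      Algebra.FiniteType ℤ R₁ ∧ Algebra.FiniteType R₁ B₁ ∧ Algebra.IsPushout R₁ R B₁ B ∧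
      ∀ s₁ : Spec (.of R₁), topologicalKrullDim
        ((Spec.map (CommRingCat.ofHom (algebraMap R₁ B₁))).fiber s₁) = d := by
  obtain ⟨R₀, _, _, B₀, _, _, _, _, _, _, hR₀, hB₀, hpo⟩ := exists_model R B
  haveI : Algebra.IsPushout R₀ R B₀ B := hpo
  have hsq := isPullback_of_isPushout R₀ R B₀ B hpo
  haveI : LocallyOfFinitePresentation (Spec.map (CommRingCat.ofHom (algebraMap R₀ B₀))) := by
    rw [HasRingHomProperty.Spec_iff (P := @LocallyOfFinitePresentation)]
    exact RingHom.finitePresentation_algebraMap.mpr inferInstance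
  have hE := (main (Spec.map (CommRingCat.ofHom (algebraMap R₀ B₀))) (d : WithBot ℕ∞)).isConstructible
  have hC := hE.compl
  obtain ⟨C, hCs⟩ := PrimeSpectrum.exists_constructibleSetData_iff.mpr hC
  have hempty : PrimeSpectrum.comap (algebraMap R₀ R) ⁻¹' C.toSet = ∅ := by
    rw [Set.eq_empty_iff_forall_notMem]
    intro s hs
    rw [Set.mem_preimage, hCs] at hs
    apply hs
    show topologicalKrullDim _ = _
    have := dim_fiber_eq_of_isPullback hsq s
    rw [hd] at this
    exact this.symm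
  obtain ⟨T, hT⟩ := exists_finset_preimage_eq_empty C hempty
  let R' : Subalgebra R₀ R := Algebra.adjoin R₀ (T : Set R)
  have hR'fg : R'.FG := Subalgebra.fg_adjoin_finset T
  haveI : Algebra.FiniteType R₀ R' := (Subalgebra.fg_iff_finiteType R').mp hR'fg
  haveI : IsScalarTower R₀ R' B := IsScalarTower.of_algebraMap_eq fun a => by
    rw [IsScalarTower.algebraMap_apply R₀ R B]
    rfl
  have hempty' := hT R' Algebra.subset_adjoin
  refine ⟨R', inferInstance, inferInstance, R' ⊗[R₀] B₀, inferInstance, inferInstance,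
    inferInstance, inferInstance, inferInstance, inferInstance, ?_, ?_, ?_, ?_⟩
  · exact Algebra.FiniteType.trans hR₀ inferInstance
  · infer_instance
  · exact stage_isPushout R₀ B₀ B R'
  · intro s₁
    have hpo' : Algebra.IsPushout R₀ R' B₀ (R' ⊗[R₀] B₀) := TensorProduct.isPushout
    have hsq' := isPullback_of_isPushout R₀ R' B₀ (R' ⊗[R₀] B₀) hpo'
    rw [dim_fiber_eq_of_isPullback hsq' s₁]
    by_contra hcon
    have h1 : (PrimeSpectrum.comap (algebraMap R₀ R') s₁) ∈ C.toSet := by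
      rw [hCs]
      exact hcon
    have h2 : s₁ ∈ PrimeSpectrum.comap (algebraMap R₀ R') ⁻¹' C.toSet := h1
    rw [hempty'] at h2
    exact h2

/-- **S1464**: Noetherian approximation preserving the fibre dimension. -/
theorem main1464 {X S : Scheme.{u}} (f : X ⟶ S) [IsAffine X] [IsAffine S]
    [LocallyOfFinitePresentation f] (d : ℕ)
    (hd : ∀ s : S, topologicalKrullDim (f.fiber s) = d) :
    ∃ (X₀ S₀ : Scheme.{u}) (f₀ : X₀ ⟶ S₀) (g : S ⟶ S₀) (g' : X ⟶ X₀), IsAffine X₀ ∧ IsAffine S₀ ∧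
      IsPullback g' f f₀ g ∧ Algebra.FiniteType ℤ Γ(S₀, ⊤) ∧ LocallyOfFiniteType f₀ ∧
      ∀ s₀ : S₀, topologicalKrullDim (f₀.fiber s₀) = d := by
  letI : Algebra Γ(S, ⊤) Γ(X, ⊤) := f.appTop.hom.toAlgebra
  haveI : Algebra.FinitePresentation Γ(S, ⊤) Γ(X, ⊤) := f.finitePresentation_appTop
  have hiso : IsPullback X.isoSpec.hom f (Spec.map f.appTop) S.isoSpec.hom :=
    IsPullback.of_horiz_isIso ⟨Scheme.isoSpec_hom_naturality f⟩
  haveI : LocallyOfFiniteType (Spec.map f.appTop) := by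
    rw [HasRingHomProperty.Spec_iff (P := @LocallyOfFiniteType)]
    exact RingHom.FiniteType.of_finitePresentation f.finitePresentation_appTop
  have hd' : ∀ s : Spec (.of Γ(S, ⊤)), topologicalKrullDim
      ((Spec.map (CommRingCat.ofHom (algebraMap Γ(S, ⊤) Γ(X, ⊤)))).fiber s) = d := by
    intro s
    have h1 := dim_fiber_eq_of_isPullback hiso (S.isoSpec.inv s)
    have h2 : S.isoSpec.hom (S.isoSpec.inv s) = s := by
      rw [← Scheme.Hom.comp_apply, Iso.inv_hom_id]
      rfl
    rw [h2, hd] at h1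
    exact h1.symm
  obtain ⟨R₁, _, _, B₁, _, _, _, _, _, _, hft, hfB, hpo, hdim⟩ :=
    ring_core Γ(S, ⊤) Γ(X, ⊤) d hd'
  have hsq1 := isPullback_of_isPushout R₁ Γ(S, ⊤) B₁ Γ(X, ⊤) hpo
  refine ⟨Spec (.of B₁), Spec (.of R₁), Spec.map (CommRingCat.ofHom (algebraMap R₁ B₁)),
    S.isoSpec.hom ≫ Spec.map (CommRingCat.ofHom (algebraMap R₁ Γ(S, ⊤))),
    X.isoSpec.hom ≫ Spec.map (CommRingCat.ofHom (algebraMap B₁ Γ(X, ⊤))),
    inferInstance, inferInstance, ?_, ?_, ?_, hdim⟩
  · exact hiso.paste_horiz hsq1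
  · exact Algebra.FiniteType.equiv hft
      (Scheme.ΓSpecIso (.of R₁)).commRingCatIsoToRingEquiv.symm.toIntAlgEquiv
  · rw [HasRingHomProperty.Spec_iff (P := @LocallyOfFiniteType)]
    exact RingHom.finiteType_algebraMap.mpr hfB

end Groth.Agent.Helper16.ConsFD
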