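import Mathlib
import Groth.Agent.Lib.Helper16.Sch.FibMod3
import Groth.Agent.Lib.Helper16.Sch.SpecFib

/-!
# The fibre invariants of `M^~` on an affine scheme (helper16)
-/

set_option autoImplicit false
set_option linter.style.haveILetI false
set_option linter.unusedSectionVars false
universe u

open AlgebraicGeometry CategoryTheory Limits IsLocalRing TensorProduct

namespace Groth.Agent.Helper16.FibMod

open Groth.Agent.Helper16.FibStalk Groth.Agent.Helper16.FibModAlg
open Groth.Agent.Helper16.RingFibDim Groth.Agent.Helper16.SpecFib

variable (A : Type u) [CommRing A] (B : CommRingCat.{u}) [Algebra A B]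
  (M : ModuleCat.{u} B) [Module.Finite B M]

theorem isScalarTower_tilde (q : PrimeSpectrum.Top B) :
    letI := stAlg B q
    IsScalarTower B ((Spec (CommRingCat.of B)).presheaf.stalk q)
      ((tilde M).presheaf.stalk q) := by
  letI := stAlg B q
  exact IsScalarTower.of_algebraMap_smul fun _ _ => rfl

/-- **Bridge II for `M^~`**. -/
theorem chart_tilde (q : ↥(Spec (CommRingCat.of B))) :
    cdim (specMap A B) (tilde M) q = adim A B (PrimeSpectrum.asIdeal q) M ∧
      cdepth (specMap A B) (tilde M) q = adepth A B (PrimeSpectrum.asIdeal q) M := by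
  letI := stAlg B q
  haveI := isLocalization_st B q
  haveI := isScalarTower_tilde B M q
  haveI : IsLocalizedModule (PrimeSpectrum.asIdeal q).primeCompl
      (tilde.toStalk M q).hom := inferInstance
  refine chart_invariants (A := A) (B := B) (PrimeSpectrum.asIdeal q)
    (fibIdeal (specMap A B) q) ?_ (tilde.toStalk M q).hom
  rw [fibIdeal_eq, Ideal.map_map]
  rfl

end Groth.Agent.Helper16.FibMod
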