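import Mathlib
import Groth.Agent.Lib.Helper16.Sch.FibMod4
import Groth.Agent.Lib.Helper16.Sch.CMCons2
import Groth.Agent.Lib.Helper16.Sch.ConsFD5
import Groth.Agent.Lib.Helper13.InvTensor
import Groth.Agent.Lib.Helper13.PullbackTilde

/-!
# Base change of the algebraic fibre invariants of a module (helper16)
-/

set_option autoImplicit false
set_option linter.style.haveILetI false
set_option linter.unusedSectionVars false
universe u

open AlgebraicGeometry CategoryTheory Limits IsLocalRing TensorProduct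

namespace Groth.Agent.Helper16.FibMod

open Groth.Agent.Helper16.FibStalk Groth.Agent.Helper16.FibModAlg
open Groth.Agent.Helper16.RingFibDim Groth.Agent.Helper16.SpecFib

section Congr

variable {X Y : Scheme.{u}} (f : X ⟶ Y)

/-- the fibre invariants only depend on the isomorphism class of the module. -/
theorem invariants_congr {ℱ 𝒢 : X.Modules} (e : ℱ ≅ 𝒢) (x : X) :
    cdim f ℱ x = cdim f 𝒢 x ∧ cdepth f ℱ x = cdepth f 𝒢 x := by
  let ψ := Groth.Agent.Helper13.Inv.stalkLinearEquiv e x
  have hmap : Submodule.map (ψ : ℱ.presheaf.stalk x →ₗ[X.presheaf.stalk x] 𝒢.presheaf.stalk x)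
      (fibIdeal f x • (⊤ : Submodule (X.presheaf.stalk x) (ℱ.presheaf.stalk x))) =
      fibIdeal f x • (⊤ : Submodule (X.presheaf.stalk x) (𝒢.presheaf.stalk x)) := by
    rw [Submodule.map_smul'', Submodule.map_top, LinearEquiv.range]
  let Ψ : FQ f ℱ x ≃ₗ[X.presheaf.stalk x] FQ f 𝒢 x := Submodule.Quotient.equiv _ _ ψ hmap
  exact ⟨Module.supportDim_eq_of_equiv Ψ, Groth.Agent.Lead.Depth.idealDepth_congr _ Ψ⟩

end Congr

section AlgBC

variable (A₀ A B₀ B : Type u) [CommRing A₀] [CommRing A] [CommRing B₀] [CommRing B]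
  [Algebra A₀ A] [Algebra A₀ B₀] [Algebra A B] [Algebra B₀ B] [Algebra A₀ B]
  [IsScalarTower A₀ A B] [IsScalarTower A₀ B₀ B]

/-- stalks of `M^~` are finite for finite `M`. -/
theorem finite_stalk_tilde (R : CommRingCat.{u}) (M : ModuleCat.{u} R) [Module.Finite R M]
    (q : ↥(Spec (CommRingCat.of R))) :
    Module.Finite ((Spec (CommRingCat.of R)).presheaf.stalk q) ((tilde M).presheaf.stalk q) := by
  letI := stAlg R q
  haveI := isLocalization_st R q
  haveI := isScalarTower_tilde R M q
  exact Module.Finite.of_isLocalizedModule (PrimeSpectrum.asIdeal q).primeCompl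
    (tilde.toStalk M q).hom

/-- the algebraic invariants only depend on the isomorphism class of the module. -/
theorem ainvariants_congr {M M' : Type u} [AddCommGroup M] [Module B M] [Module.Finite B M]
    [AddCommGroup M'] [Module B M'] (e : M ≃ₗ[B] M') (q : Ideal B) [q.IsPrime] :
    adim A B q M = adim A B q M' ∧ adepth A B q M = adepth A B q M' := by
  haveI : Module.Finite B M' := Module.Finite.equiv e
  have h1 := chart_tilde A (CommRingCat.of B) (ModuleCat.of B M) ⟨q, inferInstance⟩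
  have h2 := chart_tilde A (CommRingCat.of B) (ModuleCat.of B M') ⟨q, inferInstance⟩
  have h3 := invariants_congr (specMap A B)
    ((tilde.functor (CommRingCat.of B)).mapIso e.toModuleIso) ⟨q, inferInstance⟩
  exact ⟨h1.1.symm.trans (h3.1.trans h2.1), h1.2.symm.trans (h3.2.trans h2.2)⟩

/-- **Base change of the algebraic fibre invariants.** -/
theorem ainvariants_baseChange (hpo : Algebra.IsPushout A₀ A B₀ B) [Algebra.FiniteType A₀ B₀]
    (M₀ : Type u) [AddCommGroup M₀] [Module B₀ M₀] [Module.Finite B₀ M₀]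
    (M : Type u) [AddCommGroup M] [Module B M] [Module B₀ M] [IsScalarTower B₀ B M]
    (φ : M₀ →ₗ[B₀] M) (hφ : IsBaseChange B φ) (q : Ideal B) [q.IsPrime] :
    ∃ d : ℕ,
      adim A B q M = adim A₀ B₀ (q.comap (algebraMap B₀ B)) M₀ + (d : WithBot ℕ∞) ∧
      adepth A B q M = adepth A₀ B₀ (q.comap (algebraMap B₀ B)) M₀ + (d : ℕ∞) := by
  haveI : Module.Finite B (B ⊗[B₀] M₀) := inferInstance
  haveI : Module.Finite B M := Module.Finite.equiv hφ.equiv
  haveI : LocallyOfFiniteType (specMap A₀ B₀) := Groth.Agent.Helper16.CMCons.lft_SpecMap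
  have hsq : IsPullback (specMap B₀ B) (specMap A B) (specMap A₀ B₀) (specMap A₀ A) :=
    Groth.Agent.Helper16.ConsFD.isPullback_of_isPushout A₀ A B₀ B hpo
  let qq : ↥(Spec (CommRingCat.of B)) := ⟨q, inferInstance⟩
  obtain ⟨d, -, hd1, hd2⟩ := invariants_baseChange hsq (tilde (ModuleCat.of B₀ M₀))
    (fun x => finite_stalk_tilde (CommRingCat.of B₀) (ModuleCat.of B₀ M₀) x) qq
  have h0 := chart_tilde A₀ (CommRingCat.of B₀) (ModuleCat.of B₀ M₀) (specMap B₀ B qq)
  have h1 := chart_tilde A (CommRingCat.of B) (ModuleCat.of B (B ⊗[B₀] M₀)) qq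
  have h2 := invariants_congr (specMap A B)
    (Groth.Agent.Helper13.Pullback.pullbackTildeIso' B₀ B M₀) qq
  have h3 := ainvariants_congr A B hφ.equiv q
  refine ⟨d, ?_, ?_⟩
  · rw [← h3.1]
    exact h1.1.symm.trans (h2.1.symm.trans (hd1.trans (by rw [h0.1]; rfl)))
  · rw [← h3.2]
    exact h1.2.symm.trans (h2.2.symm.trans (hd2.trans (by rw [h0.2]; rfl)))

end AlgBC

end Groth.Agent.Helper16.FibMod
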