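import Mathlib
import Groth.Agent.Lib.Helper16.Alg.FibModAlg5
import Groth.Agent.Lib.Helper16.Sch.FibCodepth1

/-!
# Openness of the fibrewise codepth loci of a module: the Noetherian case (helper16)
-/

set_option autoImplicit false
set_option linter.style.haveILetI false
set_option linter.unusedSectionVars false
universe u

open IsLocalRing TensorProduct LocCoh CategoryTheory AlgebraicGeometry

namespace Groth.Agent.Helper16.FibModCore

open Groth.Agent.Lead.Depth Groth.Agent.Lead.DimF Groth.Agent.Lead.Fib Groth.Agent.Lead.PD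
open Groth.Agent.Helper16.FibPD Groth.Agent.Helper16.FibModAlg Groth.Agent.Helper16.RingFibDim
open Groth.Agent.Helper16.FibCodepth

section Facts

variable {A : Type u} [CommRing A] [IsNoetherianRing A] (N : ℕ)
  (M : Type u) [AddCommGroup M] [Module (MvPolynomial (Fin N) A) M] [Module A M]
  [IsScalarTower A (MvPolynomial (Fin N) A) M] [Module.Finite (MvPolynomial (Fin N) A) M]
  [Module.Flat A M]
  (B' : Type u) [CommRing B'] [Algebra (MvPolynomial (Fin N) A) B'] [Algebra A B']
  [IsScalarTower A (MvPolynomial (Fin N) A) B'] [Algebra.FiniteType A B']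
  (hsurj : Function.Surjective (algebraMap (MvPolynomial (Fin N) A) B'))
  [Module B' M] [IsScalarTower (MvPolynomial (Fin N) A) B' M] [Module.Finite B' M]
  (hsupp : Module.support B' M = Set.univ)

include hsurj hsupp in
/-- **The numerical invariants of the fibre module at a point of the support.** -/
theorem facts (q' : PrimeSpectrum B') (d : ℕ)
    (hd : FlatMor.fibreDimAt (specMap A B') q' = (d : WithBot ℕ∞)) :
    ∃ e₀ D c n : ℕ,
      (∀ e : ℕ, PrimeSpectrum.comap (algebraMap (MvPolynomial (Fin N) A) B') q' ∈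
        pdLocus e (ModuleCat.of (MvPolynomial (Fin N) A) M) ↔ e₀ ≤ e) ∧
      adepth A (MvPolynomial (Fin N) A)
        (q'.asIdeal.comap (algebraMap (MvPolynomial (Fin N) A) B')) M = D ∧
      adim A (MvPolynomial (Fin N) A)
        (q'.asIdeal.comap (algebraMap (MvPolynomial (Fin N) A) B')) M = (c : WithBot ℕ∞) ∧
      N = n + e₀ + D ∧ d = c + n ∧
      Algebra.trdeg (A ⧸ q'.asIdeal.under A) (B' ⧸ q'.asIdeal) = n := by
  haveI : IsNoetherianRing B' := Algebra.FiniteType.isNoetherianRing A B'
  set Q := q'.asIdeal.comap (algebraMap (MvPolynomial (Fin N) A) B') with hQ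
  set p := q'.asIdeal.under A with hp
  haveI lo1 : q'.asIdeal.LiesOver Q := ⟨rfl⟩
  haveI lo2 : Q.LiesOver p := ⟨by
    rw [hp, hQ, Ideal.under_def, Ideal.under_def, Ideal.comap_comap,
      ← IsScalarTower.algebraMap_eq]⟩
  have hpQ : p = Q.comap (algebraMap A (MvPolynomial (Fin N) A)) := lo2.over
  -- the point is in the support
  haveI hnt : Nontrivial (LocalizedModule Q.primeCompl M) := by
    have h1 : q' ∈ Module.support B' M := by rw [hsupp]; trivial
    exact Module.support_subset_preimage_comap (R := MvPolynomial (Fin N) A) h1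
  -- regularity of the fibre ring of the polynomial algebra
  haveI hreg : IsRegularLocalRing (EGA4.FibLocRing A (MvPolynomial (Fin N) A) Q) := by
    have := regular_FL_mvPolynomial N p Q
    rw [hpQ] at this
    exact this
  obtain ⟨e₀, hpd, hAB⟩ := exists_pd_eq_mod (A := A) M Q
  -- the transcendence degree
  let q'' : Spec (CommRingCat.of B') := q'
  haveI : (PrimeSpectrum.asIdeal q'').LiesOver p := inferInstanceAs (q'.asIdeal.LiesOver p)
  have htd := Groth.Agent.Helper16.SpecFib.trdeg_residueField_eq A B' q'' p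
  rw [Groth.Agent.Helper16.FTDim.td_spec (specMap A B') q''] at htd
  set n := Groth.Agent.Helper16.FTDim.td (specMap A B') q'' with hn
  have hnB : Algebra.trdeg (A ⧸ p) (B' ⧸ q'.asIdeal) = n := htd.symm
  have hnP : Algebra.trdeg (A ⧸ p) (MvPolynomial (Fin N) A ⧸ Q) = n := by
    rw [(quotAlgEquiv hsurj p Q q'.asIdeal).trdeg_eq]
    exact hnB
  have hR3 := Groth.Agent.Helper16.SpecFib.fibreDimAt_eq A B' q'' p n hnB
  have hR2 := dim_FL_mvPolynomial N p Q n hnP
  have hR2' : ringKrullDim (EGA4.FibLocRing A (MvPolynomial (Fin N) A) Q) + (n : WithBot ℕ∞) =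
      (N : WithBot ℕ∞) := by
    rw [← hR2, hpQ]
  -- transfer
  obtain ⟨ht1, ht2⟩ := transfer (A := A) hsurj M q'.asIdeal
  have hdim := adim_eq_of_support_eq_univ (A := A) M hsupp q'.asIdeal
  obtain ⟨c, hc⟩ : ∃ c : ℕ, ringKrullDim (EGA4.FibLocRing A B' q'.asIdeal) = (c : WithBot ℕ∞) := by
    have h1 : (maximalIdeal (EGA4.FibLocRing A B' q'.asIdeal)).height ≠ ⊤ :=
      Ideal.height_ne_top_of_isPrime
    obtain ⟨c, hc⟩ := ENat.ne_top_iff_exists.mp h1
    refine ⟨c, ?_⟩
    rw [← IsLocalRing.maximalIdeal_height_eq_ringKrullDim, ← hc]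
    rfl
  -- the depth
  have h2 : ((e₀ + adepth A (MvPolynomial (Fin N) A) Q M + n : ℕ∞) : WithBot ℕ∞) =
      ((N : ℕ∞) : WithBot ℕ∞) := by
    rw [WithBot.coe_add, ← hAB]
    exact hR2'
  have h3 : (e₀ + adepth A (MvPolynomial (Fin N) A) Q M + n : ℕ∞) = (N : ℕ∞) :=
    WithBot.coe_injective h2
  have hDtop : adepth A (MvPolynomial (Fin N) A) Q M ≠ ⊤ := by
    intro htop
    rw [htop] at h3
    simp at h3
  obtain ⟨D, hD⟩ := ENat.ne_top_iff_exists.mp hDtop
  rw [← hD] at h3
  have h3' : e₀ + D + n = N := by exact_mod_cast h3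
  have h4 : (d : WithBot ℕ∞) = (c : WithBot ℕ∞) + (n : WithBot ℕ∞) := by
    rw [← hd, ← hc]
    exact hR3
  have h4' : d = c + n := by exact_mod_cast h4
  refine ⟨e₀, D, c, n, hpd, hD.symm, ?_, by omega, h4', hnB⟩
  rw [ht1, hdim, hc]

end Facts

section Ann

variable {P : Type u} [CommRing P] (M : Type u) [AddCommGroup M] [Module P M] [Module.Finite P M]

theorem isScalarTower_quotAnn :
    letI := Module.quotientAnnihilator (R := P) (M := M)
    IsScalarTower P (P ⧸ Module.annihilator P M) M := by
  letI := Module.quotientAnnihilator (R := P) (M := M)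
  refine IsScalarTower.of_algebraMap_smul fun r m => ?_
  rfl

theorem finite_quotAnn :
    letI := Module.quotientAnnihilator (R := P) (M := M)
    Module.Finite (P ⧸ Module.annihilator P M) M := by
  letI := Module.quotientAnnihilator (R := P) (M := M)
  haveI := isScalarTower_quotAnn (P := P) M
  exact Module.Finite.of_restrictScalars_finite P _ _

theorem support_quotAnn :
    letI := Module.quotientAnnihilator (R := P) (M := M)
    Module.support (P ⧸ Module.annihilator P M) M = Set.univ := by
  letI := Module.quotientAnnihilator (R := P) (M := M)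
  haveI := isScalarTower_quotAnn (P := P) M
  haveI := finite_quotAnn (P := P) M
  rw [Module.support_eq_zeroLocus]
  have : Module.annihilator (P ⧸ Module.annihilator P M) M = ⊥ := by
    rw [eq_bot_iff]
    intro x hx
    obtain ⟨r, rfl⟩ := Ideal.Quotient.mk_surjective x
    rw [Module.mem_annihilator] at hx
    rw [Ideal.mem_bot, Ideal.Quotient.eq_zero_iff_mem, Module.mem_annihilator]
    intro m
    exact hx m
  rw [this]
  exact PrimeSpectrum.zeroLocus_bot

end Ann

section Open

variable {A : Type u} [CommRing A] [IsNoetherianRing A] (N : ℕ)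
  (M : Type u) [AddCommGroup M] [Module (MvPolynomial (Fin N) A) M] [Module A M]
  [IsScalarTower A (MvPolynomial (Fin N) A) M] [Module.Finite (MvPolynomial (Fin N) A) M]
  [Module.Flat A M]

/-- **Openness of the codepth loci of the fibre modules**: polynomial algebra over a Noetherian
ring. -/
theorem isOpen_codepth_le_poly (k : ℕ) :
    IsOpen {Q : PrimeSpectrum (MvPolynomial (Fin N) A) |
      adim A (MvPolynomial (Fin N) A) Q.asIdeal M ≤
        ((adepth A (MvPolynomial (Fin N) A) Q.asIdeal M : ℕ∞) : WithBot ℕ∞) +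
          (k : WithBot ℕ∞)} := by
  letI modP' := Module.quotientAnnihilator (R := MvPolynomial (Fin N) A) (M := M)
  haveI tow := isScalarTower_quotAnn (P := MvPolynomial (Fin N) A) M
  haveI fin' := finite_quotAnn (P := MvPolynomial (Fin N) A) M
  have hsupp := support_quotAnn (P := MvPolynomial (Fin N) A) M
  have hsurj : Function.Surjective (algebraMap (MvPolynomial (Fin N) A)
      (MvPolynomial (Fin N) A ⧸ Module.annihilator (MvPolynomial (Fin N) A) M)) :=
    Ideal.Quotient.mk_surjective
  haveI hft : Algebra.FiniteType A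
      (MvPolynomial (Fin N) A ⧸ Module.annihilator (MvPolynomial (Fin N) A) M) :=
    Algebra.FiniteType.of_surjective (IsScalarTower.toAlgHom A (MvPolynomial (Fin N) A) _) hsurj
  have hι : Topology.IsClosedEmbedding (PrimeSpectrum.comap (algebraMap (MvPolynomial (Fin N) A)
      (MvPolynomial (Fin N) A ⧸ Module.annihilator (MvPolynomial (Fin N) A) M))) :=
    PrimeSpectrum.isClosedEmbedding_comap_of_surjective _ _ hsurj
  have hrange : Set.range (PrimeSpectrum.comap (algebraMap (MvPolynomial (Fin N) A)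
      (MvPolynomial (Fin N) A ⧸ Module.annihilator (MvPolynomial (Fin N) A) M))) =
      Module.support (MvPolynomial (Fin N) A) M := by
    rw [range_comap_of_surjective _ _ hsurj, Module.support_eq_zeroLocus]
    congr 1
    exact congrArg _ Ideal.mk_ker
  rw [isOpen_iff_forall_mem_open]
  intro Q₀ hQ₀
  by_cases hs : Q₀ ∈ Module.support (MvPolynomial (Fin N) A) M
  · rw [← hrange] at hs
    obtain ⟨q₀, rfl⟩ := hs
    obtain ⟨d₀, hd₀⟩ := exists_nat_fibreDimAt A
      (MvPolynomial (Fin N) A ⧸ Module.annihilator (MvPolynomial (Fin N) A) M) q₀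
    obtain ⟨e₀, D, c, n, hpd, hD, hc, hN, hd, -⟩ := facts N M _ hsurj hsupp q₀ d₀ hd₀
    rw [Set.mem_ofPred_eq] at hQ₀
    change adim A _ (q₀.asIdeal.comap _) M ≤ ((adepth A _ (q₀.asIdeal.comap _) M : ℕ∞) :
      WithBot ℕ∞) + _ at hQ₀
    rw [hc, hD] at hQ₀
    have hQ₀' : c ≤ D + k := by exact_mod_cast hQ₀
    refine ⟨(PrimeSpectrum.comap (algebraMap (MvPolynomial (Fin N) A)
      (MvPolynomial (Fin N) A ⧸ Module.annihilator (MvPolynomial (Fin N) A) M)) ''
        {q | FlatMor.fibreDimAt (specMap A (MvPolynomial (Fin N) A ⧸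
          Module.annihilator (MvPolynomial (Fin N) A) M)) q ≤ (d₀ : WithBot ℕ∞)}ᶜ)ᶜ ∩
      pdLocus e₀ (ModuleCat.of (MvPolynomial (Fin N) A) M), ?_, ?_, ?_⟩
    · rintro Q ⟨hQ1, hQ2⟩
      by_cases hsQ : Q ∈ Module.support (MvPolynomial (Fin N) A) M
      · rw [← hrange] at hsQ
        obtain ⟨q, rfl⟩ := hsQ
        have hq1 : FlatMor.fibreDimAt (specMap A (MvPolynomial (Fin N) A ⧸
            Module.annihilator (MvPolynomial (Fin N) A) M)) q ≤ (d₀ : WithBot ℕ∞) := by
          by_contra hcon
          exact hQ1 ⟨q, hcon, rfl⟩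
        obtain ⟨d, hd'⟩ := exists_nat_fibreDimAt A
          (MvPolynomial (Fin N) A ⧸ Module.annihilator (MvPolynomial (Fin N) A) M) q
        obtain ⟨e₀', D', c', n', hpd', hD', hc', hN', hd'', -⟩ :=
          facts N M _ hsurj hsupp q d hd'
        rw [hd'] at hq1
        have hq1' : d ≤ d₀ := by exact_mod_cast hq1
        have h2 := (hpd' _).mp hQ2
        rw [Set.mem_ofPred_eq]
        change adim A _ (q.asIdeal.comap _) M ≤ ((adepth A _ (q.asIdeal.comap _) M : ℕ∞) :
          WithBot ℕ∞) + _
        rw [hc', hD']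
        have : c' ≤ D' + k := by omega
        exact_mod_cast this
      · rw [Set.mem_ofPred_eq, adim_eq_bot_of_notMem_support M Q hsQ]
        exact bot_le
    · refine IsOpen.inter ?_ (isOpen_pdLocus _ M)
      rw [isOpen_compl_iff]
      refine hι.isClosedMap _ ?_
      rw [isClosed_compl_iff]
      exact Groth.Agent.S0402.result (specMap A (MvPolynomial (Fin N) A ⧸
          Module.annihilator (MvPolynomial (Fin N) A) M)) d₀
    · refine ⟨?_, (hpd _).mpr le_rfl⟩
      rintro ⟨q, hq, hqe⟩
      have := hι.injective hqe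
      subst this
      exact hq hd₀.le
  · refine ⟨(Module.support (MvPolynomial (Fin N) A) M)ᶜ, ?_,
      Module.isClosed_support.isOpen_compl, hs⟩
    intro Q hQ
    rw [Set.mem_ofPred_eq, adim_eq_bot_of_notMem_support M Q hQ]
    exact bot_le

end Open

end Groth.Agent.Helper16.FibModCore
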