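import Mathlib
import Groth.Agent.Lib.Helper16.Sch.FibModCore1
import Groth.Agent.Lib.Helper16.Sch.FibMod5
import Groth.Agent.S9456

/-!
# Openness of the fibrewise codepth loci of a module: the affine case (helper16)
-/

set_option autoImplicit false
set_option linter.style.haveILetI false
set_option linter.unusedSectionVars false
universe u

open IsLocalRing TensorProduct LocCoh CategoryTheory AlgebraicGeometry

namespace Groth.Agent.Helper16.FibModCore

open Groth.Agent.Helper16.FibModAlg Groth.Agent.Helper16.FibMod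

section Noeth

variable (A B : Type u) [CommRing A] [CommRing B] [Algebra A B] [IsNoetherianRing A]
  [Algebra.FiniteType A B]
  (M : Type u) [AddCommGroup M] [Module B M] [Module A M] [IsScalarTower A B M]
  [Module.Finite B M] [Module.Flat A M]

/-- **Openness of the codepth loci of the fibre modules**: finite type algebra over a Noetherian
ring. -/
theorem isOpen_codepth_le_noeth (k : ℕ) :
    IsOpen {q : PrimeSpectrum B | adim A B q.asIdeal M ≤
      ((adepth A B q.asIdeal M : ℕ∞) : WithBot ℕ∞) + (k : WithBot ℕ∞)} := by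
  obtain ⟨N, φ, hφ⟩ := Algebra.FiniteType.iff_quotient_mvPolynomial''.mp
    (inferInstance : Algebra.FiniteType A B)
  letI : Algebra (MvPolynomial (Fin N) A) B := φ.toRingHom.toAlgebra
  haveI : IsScalarTower A (MvPolynomial (Fin N) A) B :=
    IsScalarTower.of_algebraMap_eq fun a => (φ.commutes a).symm
  have hsurj : Function.Surjective (algebraMap (MvPolynomial (Fin N) A) B) := hφ
  letI : Module (MvPolynomial (Fin N) A) M := Module.compHom M (algebraMap (MvPolynomial (Fin N) A) B)
  haveI : IsScalarTower (MvPolynomial (Fin N) A) B M :=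
    IsScalarTower.of_algebraMap_smul fun r x => rfl
  haveI : IsScalarTower A (MvPolynomial (Fin N) A) M :=
    IsScalarTower.of_algebraMap_smul fun a x => by
      change algebraMap (MvPolynomial (Fin N) A) B (algebraMap A (MvPolynomial (Fin N) A) a) • x =
        a • x
      rw [← IsScalarTower.algebraMap_apply A (MvPolynomial (Fin N) A) B, algebraMap_smul]
  haveI : Module.Finite (MvPolynomial (Fin N) A) B :=
    Module.Finite.of_surjective (Algebra.linearMap (MvPolynomial (Fin N) A) B) hsurj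
  haveI : Module.Finite (MvPolynomial (Fin N) A) M := Module.Finite.trans B M
  have h := isOpen_codepth_le_poly (A := A) N M k
  have hset : {q : PrimeSpectrum B | adim A B q.asIdeal M ≤
      ((adepth A B q.asIdeal M : ℕ∞) : WithBot ℕ∞) + (k : WithBot ℕ∞)} =
      PrimeSpectrum.comap (algebraMap (MvPolynomial (Fin N) A) B) ⁻¹'
        {Q : PrimeSpectrum (MvPolynomial (Fin N) A) |
          adim A (MvPolynomial (Fin N) A) Q.asIdeal M ≤
            ((adepth A (MvPolynomial (Fin N) A) Q.asIdeal M : ℕ∞) : WithBot ℕ∞) +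
              (k : WithBot ℕ∞)} := by
    ext q
    obtain ⟨h1, h2⟩ := transfer (A := A) hsurj M q.asIdeal
    rw [Set.mem_preimage, Set.mem_ofPred_eq, Set.mem_ofPred_eq]
    change _ ↔ adim A _ (q.asIdeal.comap _) M ≤ ((adepth A _ (q.asIdeal.comap _) M : ℕ∞) :
      WithBot ℕ∞) + _
    rw [h1, h2]
  rw [hset]
  exact h.preimage (PrimeSpectrum.continuous_comap _)

end Noeth

section Arith

theorem codepth_shift (a : WithBot ℕ∞) (b : ℕ∞) (d k : ℕ) :
    a + (d : WithBot ℕ∞) ≤ ((b + (d : ℕ∞) : ℕ∞) : WithBot ℕ∞) + (k : WithBot ℕ∞) ↔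
      a ≤ ((b : ℕ∞) : WithBot ℕ∞) + (k : WithBot ℕ∞) := by
  induction a using WithBot.recBotCoe with
  | bot => simp
  | coe a =>
    have h1 : ((a : ℕ∞) : WithBot ℕ∞) + (d : WithBot ℕ∞) = ((a + d : ℕ∞) : WithBot ℕ∞) := by
      push_cast; rfl
    have h2 : ((b + (d : ℕ∞) : ℕ∞) : WithBot ℕ∞) + (k : WithBot ℕ∞) =
        ((b + k + d : ℕ∞) : WithBot ℕ∞) := by
      push_cast
      rw [add_right_comm]
    have h3 : ((b : ℕ∞) : WithBot ℕ∞) + (k : WithBot ℕ∞) = ((b + k : ℕ∞) : WithBot ℕ∞) := by
      push_cast; rfl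
    rw [h1, h2, h3, WithBot.coe_le_coe, WithBot.coe_le_coe]
    exact WithTop.add_le_add_iff_right (ENat.natCast_ne_top d)

end Arith

section General

variable (A B : Type u) [CommRing A] [CommRing B] [Algebra A B]
  [Algebra.FinitePresentation A B]
  (M : Type u) [AddCommGroup M] [Module B M] [Module A M] [IsScalarTower A B M]
  [Module.FinitePresentation B M] [Module.Flat A M]

/-- **Openness of the codepth loci of the fibre modules**: finitely presented case. -/
theorem isOpen_codepth_le (k : ℕ) :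
    IsOpen {q : PrimeSpectrum B | adim A B q.asIdeal M ≤
      ((adepth A B q.asIdeal M : ℕ∞) : WithBot ℕ∞) + (k : WithBot ℕ∞)} := by
  obtain ⟨A₀, _, _, B₀, _, _, _, _, _, _, M₀, _, _, _, _, _, _, φ, hA₀, hB₀, hM₀, hfl, hpo, hbc⟩ :=
    Groth.Agent.S9456.result A B M
  haveI := hB₀
  haveI := hM₀
  haveI := hfl
  haveI : IsNoetherianRing A₀ := Algebra.FiniteType.isNoetherianRing ℤ A₀
  have h := isOpen_codepth_le_noeth A₀ B₀ M₀ k
  have hset : {q : PrimeSpectrum B | adim A B q.asIdeal M ≤
      ((adepth A B q.asIdeal M : ℕ∞) : WithBot ℕ∞) + (k : WithBot ℕ∞)} =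
      PrimeSpectrum.comap (algebraMap B₀ B) ⁻¹'
        {q : PrimeSpectrum B₀ | adim A₀ B₀ q.asIdeal M₀ ≤
          ((adepth A₀ B₀ q.asIdeal M₀ : ℕ∞) : WithBot ℕ∞) + (k : WithBot ℕ∞)} := by
    ext q
    obtain ⟨d, hd1, hd2⟩ := ainvariants_baseChange A₀ A B₀ B hpo M₀ M φ hbc q.asIdeal
    rw [Set.mem_preimage, Set.mem_ofPred_eq, Set.mem_ofPred_eq]
    change _ ↔ adim A₀ B₀ (q.asIdeal.comap _) M₀ ≤ ((adepth A₀ B₀ (q.asIdeal.comap _) M₀ : ℕ∞) :
      WithBot ℕ∞) + _
    rw [hd1, hd2]
    exact codepth_shift _ _ d k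
  rw [hset]
  exact h.preimage (PrimeSpectrum.continuous_comap _)

end General

end Groth.Agent.Helper16.FibModCore
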