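import Mathlib
import Groth.Agent.Lib.Helper16.Sch.FibModCore2
import Groth.Agent.Lib.Helper21.ModFlat1

/-!
# Openness of the fibrewise codepth loci of a module (helper16)
-/

set_option autoImplicit false
set_option linter.style.haveILetI false
set_option linter.unusedSectionVars false
universe u

open AlgebraicGeometry CategoryTheory Limits IsLocalRing TensorProduct

namespace Groth.Agent.Helper16.FibMod

open Groth.Agent.Helper16.FibStalk Groth.Agent.Helper16.FibModAlg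
open Groth.Agent.Helper13.QCohLoc Groth.Agent.Helper16.FibModCore

variable {X Y : Scheme.{u}} (f : X ⟶ Y) (ℱ : X.Modules)

/-- stalks of a quasi-coherent module with finite sections over an affine chart are finite. -/
theorem finite_stalk_chart [ℱ.IsQuasicoherent] {U : X.Opens} (hU : IsAffineOpen U) (x : U)
    [Module.Finite Γ(X, U) Γ(ℱ, U)] :
    Module.Finite (X.presheaf.stalk (x : X)) (ℱ.presheaf.stalk (x : X)) := by
  haveI h4 : IsLocalization.AtPrime (X.presheaf.stalk (x : X))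
      (hU.primeIdealOf x).asIdeal := hU.isLocalization_stalk x
  letI modN : Module Γ(X, U) (ℱ.presheaf.stalk (x : X)) := modStalk ℱ x
  haveI : IsScalarTower Γ(X, U) (X.presheaf.stalk (x : X)) (ℱ.presheaf.stalk (x : X)) :=
    isScalarTower_stalk ℱ x
  haveI := isLocalizedModule_germ ℱ hU x
  exact Module.Finite.of_isLocalizedModule (hU.primeIdealOf x).asIdeal.primeCompl
    (germLin ℱ x)

/-- stalks of a finitely presented module are finite. -/
theorem finite_stalk_of_isFP (hF : CohB1.IsFP ℱ) (x : X) :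
    Module.Finite (X.presheaf.stalk x) (ℱ.presheaf.stalk x) := by
  haveI := hF
  obtain ⟨_, ⟨U, hU, rfl⟩, hxU, -⟩ := X.isBasis_affineOpens.exists_subset_of_mem_open
    (Set.mem_univ x) isOpen_univ
  have hU : IsAffineOpen U := hU
  haveI : Module.FinitePresentation Γ(X, U) Γ(ℱ, U) :=
    Groth.Agent.Helper13.LocFree.finitePresentation_sections_of_isFinitePresentation ℱ hU
  exact finite_stalk_chart ℱ hU ⟨x, hxU⟩

/-- **Bridge I at a point.** -/
theorem bridge_at [ℱ.IsQuasicoherent]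
    (hfin : ∀ x : X, Module.Finite (X.presheaf.stalk x) (ℱ.presheaf.stalk x)) (x : X) :
    Module.supportDim ((f.fiber (f.base x)).presheaf.stalk (f.asFiber x))
        (((Scheme.Modules.pullback (f.fiberι (f.base x))).obj ℱ).presheaf.stalk (f.asFiber x)) =
      cdim f ℱ x ∧
    LocCoh.depth ((f.fiber (f.base x)).presheaf.stalk (f.asFiber x))
        (((Scheme.Modules.pullback (f.fiberι (f.base x))).obj ℱ).presheaf.stalk (f.asFiber x)) =
      cdepth f ℱ x := by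
  haveI := hfin (f.fiberι (f.base x) (f.asFiber x))
  obtain ⟨h1, h2⟩ := bridge1 f ℱ (f.base x) (f.asFiber x)
  exact ⟨h1.trans (congrArg (cdim f ℱ) (f.fiberι_asFiber x)),
    h2.trans (congrArg (cdepth f ℱ) (f.fiberι_asFiber x))⟩

section Chart

variable [ℱ.IsQuasicoherent]
  {U : X.Opens} (hU : IsAffineOpen U) {V : Y.Opens} (hV : IsAffineOpen V) (e : U ≤ f ⁻¹ᵁ V)

include hU hV in
/-- sections of an `f`-flat module over an affine chart are flat over the base ring. -/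
theorem flat_sections (hflat : FlatMod.IsFlatOver f ℱ) :
    letI := (f.appLE V U e).hom.toAlgebra
    letI : Module Γ(Y, V) Γ(ℱ, U) := Module.compHom Γ(ℱ, U) (f.appLE V U e).hom
    Module.Flat Γ(Y, V) Γ(ℱ, U) := by
  letI := (f.appLE V U e).hom.toAlgebra
  letI : Module Γ(Y, V) Γ(ℱ, U) := Module.compHom Γ(ℱ, U) (f.appLE V U e).hom
  haveI : IsScalarTower Γ(Y, V) Γ(X, U) Γ(ℱ, U) :=
    IsScalarTower.of_algebraMap_smul (fun _ _ => rfl)
  refine Module.flat_of_isLocalized_maximal Γ(X, U) Γ(ℱ, U)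
    (fun P _ => LocalizedModule P.primeCompl Γ(ℱ, U))
    (fun P _ => LocalizedModule.mkLinearMap P.primeCompl Γ(ℱ, U)) ?_
  intro P hP
  let x : U := hU.isoSpec.inv ⟨P, inferInstance⟩
  have hx : hU.primeIdealOf x = ⟨P, inferInstance⟩ := by
    change hU.isoSpec.hom (hU.isoSpec.inv _) = _
    rw [← Scheme.Hom.comp_apply, Iso.inv_hom_id]
    rfl
  have h := (Groth.Agent.Helper21.ModFlat.isFlatOverAt_iff f ℱ hU hV e rfl x.1 x.2).mp
    (hflat x.1)
  have h' : Module.Flat Γ(Y, V)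
      (LocalizedModule (hU.primeIdealOf x).asIdeal.primeCompl Γ(ℱ, U)) := h
  rw [hx] at h'
  exact h'

end Chart

/-- **Openness of the fibrewise codepth loci of a module.** -/
theorem isOpen_cdim_le [LocallyOfFinitePresentation f] (hF : CohB1.IsFP ℱ)
    (hflat : FlatMod.IsFlatOver f ℱ) (k : ℕ) :
    IsOpen {x : X | cdim f ℱ x ≤ ((cdepth f ℱ x : ℕ∞) : WithBot ℕ∞) + (k : WithBot ℕ∞)} := by
  haveI := hF
  rw [isOpen_iff_forall_mem_open]
  intro x hx
  obtain ⟨_, ⟨V, hV, rfl⟩, hxV, -⟩ := Y.isBasis_affineOpens.exists_subset_of_mem_open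
    (Set.mem_univ (f x)) isOpen_univ
  have hV : IsAffineOpen V := hV
  obtain ⟨_, ⟨U, hU, rfl⟩, hxU, e⟩ := X.isBasis_affineOpens.exists_subset_of_mem_open
    (show x ∈ f ⁻¹ᵁ V from hxV) (f ⁻¹ᵁ V).isOpen
  have hU : IsAffineOpen U := hU
  have e : U ≤ f ⁻¹ᵁ V := e
  have hφ : (f.appLE V U e).hom.FinitePresentation :=
    HasRingHomProperty.appLE (P := @LocallyOfFinitePresentation) f inferInstance ⟨V, hV⟩ ⟨U, hU⟩ e
  letI := (f.appLE V U e).hom.toAlgebra
  haveI : Algebra.FinitePresentation Γ(Y, V) Γ(X, U) := hφ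
  letI : Module Γ(Y, V) Γ(ℱ, U) := Module.compHom Γ(ℱ, U) (f.appLE V U e).hom
  haveI : IsScalarTower Γ(Y, V) Γ(X, U) Γ(ℱ, U) :=
    IsScalarTower.of_algebraMap_smul (fun _ _ => rfl)
  haveI : Module.FinitePresentation Γ(X, U) Γ(ℱ, U) :=
    Groth.Agent.Helper13.LocFree.finitePresentation_sections_of_isFinitePresentation ℱ hU
  haveI : Module.Flat Γ(Y, V) Γ(ℱ, U) := flat_sections f ℱ hU hV e hflat
  have ho := isOpen_codepth_le Γ(Y, V) Γ(X, U) Γ(ℱ, U) k
  have hpre := ho.preimage hU.isoSpec.hom.continuous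
  have hkey : ∀ u : U, (cdim f ℱ u.1 ≤
      ((cdepth f ℱ u.1 : ℕ∞) : WithBot ℕ∞) + (k : WithBot ℕ∞)) ↔
      hU.isoSpec.hom u ∈ {q : PrimeSpectrum Γ(X, U) | adim Γ(Y, V) Γ(X, U) q.asIdeal Γ(ℱ, U) ≤
        ((adepth Γ(Y, V) Γ(X, U) q.asIdeal Γ(ℱ, U) : ℕ∞) : WithBot ℕ∞) + (k : WithBot ℕ∞)} := by
    intro u
    obtain ⟨h1, h2⟩ := chart f ℱ hU hV e u
    rw [h1, h2]
    rfl
  refine ⟨Subtype.val '' (hU.isoSpec.hom ⁻¹' {q : PrimeSpectrum Γ(X, U) |
      adim Γ(Y, V) Γ(X, U) q.asIdeal Γ(ℱ, U) ≤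
        ((adepth Γ(Y, V) Γ(X, U) q.asIdeal Γ(ℱ, U) : ℕ∞) : WithBot ℕ∞) + (k : WithBot ℕ∞)}),
    ?_, ?_, ?_⟩
  · rintro _ ⟨u, hu, rfl⟩
    exact (hkey u).mpr hu
  · exact U.isOpen.isOpenMap_subtype_val _ hpre
  · exact ⟨⟨x, hxU⟩, (hkey ⟨x, hxU⟩).mp hx, rfl⟩

end Groth.Agent.Helper16.FibMod
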