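import Mathlib
import Groth.Agent.Lib.Helper16.Sch.FibMod6
import Groth.Agent.Lib.Helper16.Sch.FTDim1
import Groth.Agent.Lib.Helper16.Sch.FibCodepth2
import Groth.Agent.Lib.Helper14.FibreDimBC
import Groth.Agent.Lib.Helper14.FibreGeneric
import Groth.Agent.Lib.Helper14.FibreComp

/-!
# Transcendence degrees of residue fields: charts, fibres, base change (helper16)
-/

set_option autoImplicit false
set_option linter.style.haveILetI false
set_option linter.unusedSectionVars false
universe u

open AlgebraicGeometry CategoryTheory Limits IsLocalRing TensorProduct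

namespace Groth.Agent.Helper16.FibMod

open Groth.Agent.Helper16.FibStalk Groth.Agent.Helper16.FibModAlg Groth.Agent.Helper16.FTDim
open Groth.Agent.Helper14

section Basic

variable {X Y : Scheme.{u}}

theorem td_of_surjectiveOnStalks (h : X ⟶ Y) [SurjectiveOnStalks h] (z : X) : td h z = 0 :=
  td_eq h z 0 (by rw [FibreComp.trdeg_of_surjectiveOnStalks]; rfl)

theorem td_congr {h₁ h₂ : X ⟶ Y} (e : h₁ = h₂) (z : X) : td h₁ z = td h₂ z := by
  subst e; rfl

theorem td_congr_point (f : X ⟶ Y) {x x' : X} (e : x = x') : td f x = td f x' := by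
  subst e; rfl

/-- the transcendence degree of the residue field extension, computed in an affine chart. -/
theorem td_chart (f : X ⟶ Y) [LocallyOfFiniteType f] {U : X.Opens} (hU : IsAffineOpen U)
    {V : Y.Opens} (hV : IsAffineOpen V) (e : U ≤ f ⁻¹ᵁ V)
    [LocallyOfFiniteType (Spec.map (f.appLE V U e))] (u : U) :
    td f u.1 = td (Spec.map (f.appLE V U e)) (hU.isoSpec.hom u) := by
  have hsq := IsAffineOpen.SpecMap_appLE_fromSpec f hV hU e
  have h3 : hU.fromSpec (hU.isoSpec.hom u) = u.1 := by
    rw [← Scheme.Hom.comp_apply, hU.isoSpec_hom_fromSpec]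
    rfl
  have h1 := td_comp hU.fromSpec f (hU.isoSpec.hom u)
  have h2 := td_comp (Spec.map (f.appLE V U e)) hV.fromSpec (hU.isoSpec.hom u)
  rw [td_of_surjectiveOnStalks hU.fromSpec, add_zero] at h1
  rw [td_of_surjectiveOnStalks hV.fromSpec, zero_add] at h2
  rw [← td_congr_point f h3, ← h1, ← td_congr hsq, h2]

/-- the dimension of the closure of a point in its fibre. -/
theorem dim_closure_fibre (f : X ⟶ Y) [LocallyOfFiniteType f] (y : Y) (w : f.fiber y) :
    topologicalKrullDim ↥(closure ({w} : Set ↥(f.fiber y))) =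
      (td f (f.fiberι y w) : WithBot ℕ∞) := by
  haveI : LocallyOfFiniteType (f.fiberToSpecResidueField y) :=
    MorphismProperty.pullback_snd _ _ inferInstance
  rw [dim_closure (Y.residueField y) (f.fiberToSpecResidueField y) w]
  congr 1
  apply td_eq
  exact (FibreComp.trdeg_fibre f y w).symm.trans (td_spec f (f.fiberι y w))

end Basic

section BC

variable {X Y X' Y' : Scheme.{u}} {f : X ⟶ Y} {g : Y' ⟶ Y} {f' : X' ⟶ Y'} {g' : X' ⟶ X}

/-- the fibre dimension formula with `fdim` and `td`. -/
theorem fibreDimAt_eq_fdim_add_td (f : X ⟶ Y) [LocallyOfFiniteType f] (x : X) :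
    FlatMor.fibreDimAt f x = fdim f x + (td f x : WithBot ℕ∞) :=
  FibreGeneric.fibreDimAt_eq_stalk_add_trdeg f x (td f x) (td_spec f x)

/-- base change of the transcendence degree, given the base change of the dimension of the
fibre local ring. -/
theorem td_baseChange [LocallyOfFiniteType f] (hsq : IsPullback g' f' f g) (x' : X') (d : ℕ)
    (hd : fdim f' x' = fdim f (g' x') + (d : WithBot ℕ∞)) :
    td f' x' + d = td f (g' x') := by
  haveI hft' : LocallyOfFiniteType f' :=
    MorphismProperty.of_isPullback hsq ‹LocallyOfFiniteType f›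
  have h1 := FibreDimBC.fibreDimAt_eq hsq x'
  rw [fibreDimAt_eq_fdim_add_td f' x', fibreDimAt_eq_fdim_add_td f (g' x'), hd] at h1
  haveI := isNoetherianRing_fiber_stalk f (f (g' x')) (f.asFiber (g' x'))
  obtain ⟨c, hc⟩ := Groth.Agent.Helper16.FibCons.exists_nat_dim
    ((f.fiber (f (g' x'))).presheaf.stalk (f.asFiber (g' x')))
  have hc' : fdim f (g' x') = (c : WithBot ℕ∞) := hc
  rw [hc'] at h1
  have h2 : c + d + td f' x' = c + td f (g' x') := by exact_mod_cast h1
  omega

end BC

end Groth.Agent.Helper16.FibMod
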