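import Mathlib
import Groth.Agent.Lib.Helper16.Sch.FibMod8

/-!
# Base change of the algebraic rectified depth of a module (helper16)
-/

set_option autoImplicit false
set_option linter.style.haveILetI false
set_option linter.unusedSectionVars false
universe u

open AlgebraicGeometry CategoryTheory Limits IsLocalRing TensorProduct

namespace Groth.Agent.Helper16.FibMod

open Groth.Agent.Helper16.FibStalk Groth.Agent.Helper16.FibModAlg Groth.Agent.Helper16.FTDim
open Groth.Agent.Helper16.RingFibDim Groth.Agent.Helper16.SpecFib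

section AlgBC

variable (A₀ A B₀ B : Type u) [CommRing A₀] [CommRing A] [CommRing B₀] [CommRing B]
  [Algebra A₀ A] [Algebra A₀ B₀] [Algebra A B] [Algebra B₀ B] [Algebra A₀ B]
  [IsScalarTower A₀ A B] [IsScalarTower A₀ B₀ B]

/-- **Base change of the algebraic depth and of the transcendence degree.** -/
theorem adepth_td_baseChange (hpo : Algebra.IsPushout A₀ A B₀ B) [Algebra.FiniteType A₀ B₀]
    (M₀ : Type u) [AddCommGroup M₀] [Module B₀ M₀] [Module.Finite B₀ M₀]
    (M : Type u) [AddCommGroup M] [Module B M] [Module B₀ M] [IsScalarTower B₀ B M]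
    (φ : M₀ →ₗ[B₀] M) (hφ : IsBaseChange B φ) (q : PrimeSpectrum B) :
    ∃ d : ℕ,
      adepth A B q.asIdeal M =
        adepth A₀ B₀ (q.asIdeal.comap (algebraMap B₀ B)) M₀ + (d : ℕ∞) ∧
      td (specMap A B) q + d = td (specMap A₀ B₀) (PrimeSpectrum.comap (algebraMap B₀ B) q) := by
  haveI : Module.Finite B (B ⊗[B₀] M₀) := inferInstance
  haveI : Module.Finite B M := Module.Finite.equiv hφ.equiv
  haveI : LocallyOfFiniteType (specMap A₀ B₀) := Groth.Agent.Helper16.CMCons.lft_SpecMap
  have hsq : IsPullback (specMap B₀ B) (specMap A B) (specMap A₀ B₀) (specMap A₀ A) :=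
    Groth.Agent.Helper16.ConsFD.isPullback_of_isPushout A₀ A B₀ B hpo
  let qq : ↥(Spec (CommRingCat.of B)) := q
  obtain ⟨d, hd0, -, hd2⟩ := invariants_baseChange hsq (tilde (ModuleCat.of B₀ M₀))
    (fun x => finite_stalk_tilde (CommRingCat.of B₀) (ModuleCat.of B₀ M₀) x) qq
  have h0 := chart_tilde A₀ (CommRingCat.of B₀) (ModuleCat.of B₀ M₀) (specMap B₀ B qq)
  have h1 := chart_tilde A (CommRingCat.of B) (ModuleCat.of B (B ⊗[B₀] M₀)) qq
  have h2 := invariants_congr (specMap A B)
    (Groth.Agent.Helper13.Pullback.pullbackTildeIso' B₀ B M₀) qq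
  have h3 := ainvariants_congr A B hφ.equiv q.asIdeal
  refine ⟨d, ?_, ?_⟩
  · rw [← h3.2]
    exact h1.2.symm.trans (h2.2.symm.trans (hd2.trans (by rw [h0.2]; rfl)))
  · exact td_baseChange hsq qq d hd0

end AlgBC

end Groth.Agent.Helper16.FibMod
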