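import Mathlib
import Groth.Agent.Lib.Helper16.Sch.FibModCore2
import Groth.Agent.Lib.Helper16.Sch.FibMod9

/-!
# Openness of the loci of the rectified depth of the fibre modules: the affine case (helper16)
-/

set_option autoImplicit false
set_option linter.style.haveILetI false
set_option linter.unusedSectionVars false
universe u

open IsLocalRing TensorProduct LocCoh CategoryTheory AlgebraicGeometry

namespace Groth.Agent.Helper16.FibModCore

open Groth.Agent.Lead.Depth Groth.Agent.Lead.DimF Groth.Agent.Lead.Fib Groth.Agent.Lead.PD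
open Groth.Agent.Helper16.FibPD Groth.Agent.Helper16.FibModAlg Groth.Agent.Helper16.RingFibDim
open Groth.Agent.Helper16.FibCodepth Groth.Agent.Helper16.FTDim Groth.Agent.Helper16.FibMod

section TD

variable {A P B : Type u} [CommRing A] [CommRing P] [CommRing B] [Algebra A P] [Algebra P B]
  [Algebra A B] [IsScalarTower A P B] [Algebra.FiniteType A P] [Algebra.FiniteType A B]

/-- the transcendence degree of a residue field of `Spec B → Spec A` as a natural number. -/
theorem td_specMap_eq (q : PrimeSpectrum B) (p : Ideal A) [p.IsPrime] [q.asIdeal.LiesOver p]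
    (n : ℕ) (hn : Algebra.trdeg (A ⧸ p) (B ⧸ q.asIdeal) = n) :
    td (specMap A B) q = n := by
  let q' : Spec (CommRingCat.of B) := q
  haveI : (PrimeSpectrum.asIdeal q').LiesOver p := inferInstanceAs (q.asIdeal.LiesOver p)
  apply td_eq
  rw [Groth.Agent.Helper16.SpecFib.trdeg_residueField_eq A B q' p]
  exact hn

theorem trdeg_eq_td_specMap (q : PrimeSpectrum B) (p : Ideal A) [p.IsPrime]
    [q.asIdeal.LiesOver p] :
    Algebra.trdeg (A ⧸ p) (B ⧸ q.asIdeal) = (td (specMap A B) q : Cardinal) := by
  let q' : Spec (CommRingCat.of B) := q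
  haveI : (PrimeSpectrum.asIdeal q').LiesOver p := inferInstanceAs (q.asIdeal.LiesOver p)
  rw [← Groth.Agent.Helper16.SpecFib.trdeg_residueField_eq A B q' p]
  exact td_spec (specMap A B) q'

/-- transcendence degrees along a surjection. -/
theorem td_specMap_of_surjective (hsurj : Function.Surjective (algebraMap P B))
    (q : PrimeSpectrum B) :
    td (specMap A P) (PrimeSpectrum.comap (algebraMap P B) q) = td (specMap A B) q := by
  set Q := q.asIdeal.comap (algebraMap P B) with hQ
  set p := q.asIdeal.under A with hp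
  haveI lo1 : q.asIdeal.LiesOver Q := ⟨rfl⟩
  haveI lo2 : Q.LiesOver p := ⟨by
    rw [hp, hQ, Ideal.under_def, Ideal.under_def, Ideal.comap_comap,
      ← IsScalarTower.algebraMap_eq]⟩
  haveI lo3 : (PrimeSpectrum.comap (algebraMap P B) q).asIdeal.LiesOver p := lo2
  have h1 := trdeg_eq_td_specMap (A := A) q p
  refine td_specMap_eq (A := A) (PrimeSpectrum.comap (algebraMap P B) q) p _ ?_
  change Algebra.trdeg (A ⧸ p) (P ⧸ Q) = _
  rw [(quotAlgEquiv hsurj p Q q.asIdeal).trdeg_eq]
  exact h1

end TD

section Poly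

variable {A : Type u} [CommRing A] [IsNoetherianRing A] (N : ℕ)
  (M : Type u) [AddCommGroup M] [Module (MvPolynomial (Fin N) A) M] [Module A M]
  [IsScalarTower A (MvPolynomial (Fin N) A) M] [Module.Finite (MvPolynomial (Fin N) A) M]
  [Module.Flat A M]

theorem adepth_eq_top_of_notMem_support {A B : Type u} [CommRing A] [CommRing B] [Algebra A B]
    (M : Type u) [AddCommGroup M] [Module B M] (q : PrimeSpectrum B)
    (h : q ∉ Module.support B M) : adepth A B q.asIdeal M = ⊤ := by
  rw [Module.notMem_support_iff] at h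
  haveI := h
  unfold adepth LocCoh.depth
  exact idealDepth_of_eq_top _ _ (Subsingleton.elim _ _)

/-- **Openness of the loci of the rectified depth of the fibre modules**: polynomial algebra over
a Noetherian ring. -/
theorem isOpen_rdepth_ge_poly (n : ℕ) :
    IsOpen {Q : PrimeSpectrum (MvPolynomial (Fin N) A) |
      (n : ℕ∞) ≤ adepth A (MvPolynomial (Fin N) A) Q.asIdeal M +
        (td (specMap A (MvPolynomial (Fin N) A)) Q : ℕ∞)} := by
  letI modP' := Module.quotientAnnihilator (R := MvPolynomial (Fin N) A) (M := M)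
  haveI tow := isScalarTower_quotAnn (P := MvPolynomial (Fin N) A) M
  haveI fin' := finite_quotAnn (P := MvPolynomial (Fin N) A) M
  have hsupp := support_quotAnn (P := MvPolynomial (Fin N) A) M
  have hsurj : Function.Surjective (algebraMap (MvPolynomial (Fin N) A)
      (MvPolynomial (Fin N) A ⧸ Module.annihilator (MvPolynomial (Fin N) A) M)) :=
    Ideal.Quotient.mk_surjective
  haveI hft : Algebra.FiniteType A
      (MvPolynomial (Fin N) A ⧸ Module.annihilator (MvPolynomial (Fin N) A) M) :=
    Algebra.FiniteType.of_surjective (IsScalarTower.toAlgHom A (MvPolynomial (Fin N) A) _) hsurj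
  have hrange : Set.range (PrimeSpectrum.comap (algebraMap (MvPolynomial (Fin N) A)
      (MvPolynomial (Fin N) A ⧸ Module.annihilator (MvPolynomial (Fin N) A) M))) =
      Module.support (MvPolynomial (Fin N) A) M := by
    rw [range_comap_of_surjective _ _ hsurj, Module.support_eq_zeroLocus]
    congr 1
    exact congrArg _ Ideal.mk_ker
  -- the numerical facts at a point of the support
  have hfacts : ∀ q : PrimeSpectrum
      (MvPolynomial (Fin N) A ⧸ Module.annihilator (MvPolynomial (Fin N) A) M),
      ∃ e₀ D n' : ℕ,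
        (∀ e : ℕ, PrimeSpectrum.comap (algebraMap (MvPolynomial (Fin N) A) _) q ∈
          pdLocus e (ModuleCat.of (MvPolynomial (Fin N) A) M) ↔ e₀ ≤ e) ∧
        adepth A (MvPolynomial (Fin N) A)
          (PrimeSpectrum.comap (algebraMap (MvPolynomial (Fin N) A) _) q).asIdeal M = D ∧
        td (specMap A (MvPolynomial (Fin N) A))
          (PrimeSpectrum.comap (algebraMap (MvPolynomial (Fin N) A) _) q) = n' ∧
        N = n' + e₀ + D := by
    intro q
    obtain ⟨d, hd⟩ := exists_nat_fibreDimAt A
      (MvPolynomial (Fin N) A ⧸ Module.annihilator (MvPolynomial (Fin N) A) M) q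
    obtain ⟨e₀, D, c, n', hpd, hD, -, hN, -, htr⟩ := facts N M _ hsurj hsupp q d hd
    refine ⟨e₀, D, n', hpd, hD, ?_, hN⟩
    rw [td_specMap_of_surjective (A := A) hsurj q]
    exact td_specMap_eq (A := A) q (q.asIdeal.under A) n' htr
  rw [isOpen_iff_forall_mem_open]
  intro Q₀ hQ₀
  by_cases hs : Q₀ ∈ Module.support (MvPolynomial (Fin N) A) M
  · rw [← hrange] at hs
    obtain ⟨q₀, rfl⟩ := hs
    obtain ⟨e₀, D, n₀, hpd, hD, htd, hN⟩ := hfacts q₀
    rw [Set.mem_ofPred_eq, hD, htd] at hQ₀
    have hQ₀' : n ≤ D + n₀ := by exact_mod_cast hQ₀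
    refine ⟨pdLocus e₀ (ModuleCat.of (MvPolynomial (Fin N) A) M), ?_, isOpen_pdLocus _ M,
      (hpd _).mpr le_rfl⟩
    intro Q hQ
    by_cases hsQ : Q ∈ Module.support (MvPolynomial (Fin N) A) M
    · rw [← hrange] at hsQ
      obtain ⟨q, rfl⟩ := hsQ
      obtain ⟨e₀', D', n', hpd', hD', htd', hN'⟩ := hfacts q
      have h2 := (hpd' _).mp hQ
      rw [Set.mem_ofPred_eq, hD', htd']
      have : n ≤ D' + n' := by omega
      exact_mod_cast this
    · rw [Set.mem_ofPred_eq, adepth_eq_top_of_notMem_support M Q hsQ, top_add]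
      exact le_top
  · refine ⟨(Module.support (MvPolynomial (Fin N) A) M)ᶜ, ?_,
      Module.isClosed_support.isOpen_compl, hs⟩
    intro Q hQ
    rw [Set.mem_ofPred_eq, adepth_eq_top_of_notMem_support M Q hQ, top_add]
    exact le_top

end Poly

section Noeth

variable (A B : Type u) [CommRing A] [CommRing B] [Algebra A B] [IsNoetherianRing A]
  [Algebra.FiniteType A B]
  (M : Type u) [AddCommGroup M] [Module B M] [Module A M] [IsScalarTower A B M]
  [Module.Finite B M] [Module.Flat A M]

/-- **Openness of the loci of the rectified depth**: finite type algebra over a Noetherian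
ring. -/
theorem isOpen_rdepth_ge_noeth (n : ℕ) :
    IsOpen {q : PrimeSpectrum B | (n : ℕ∞) ≤ adepth A B q.asIdeal M +
      (td (specMap A B) q : ℕ∞)} := by
  obtain ⟨N, φ, hφ⟩ := Algebra.FiniteType.iff_quotient_mvPolynomial''.mp
    (inferInstance : Algebra.FiniteType A B)
  letI : Algebra (MvPolynomial (Fin N) A) B := φ.toRingHom.toAlgebra
  haveI : IsScalarTower A (MvPolynomial (Fin N) A) B :=
    IsScalarTower.of_algebraMap_eq fun a => (φ.commutes a).symm
  have hsurj : Function.Surjective (algebraMap (MvPolynomial (Fin N) A) B) := hφ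
  letI : Module (MvPolynomial (Fin N) A) M := Module.compHom M (algebraMap (MvPolynomial (Fin N) A) B)
  haveI : IsScalarTower (MvPolynomial (Fin N) A) B M :=
    IsScalarTower.of_algebraMap_smul fun r x => rfl
  haveI : IsScalarTower A (MvPolynomial (Fin N) A) M :=
    IsScalarTower.of_algebraMap_smul fun a x => by
      change algebraMap (MvPolynomial (Fin N) A) B (algebraMap A (MvPolynomial (Fin N) A) a) • x =
        a • x
      rw [← IsScalarTower.algebraMap_apply A (MvPolynomial (Fin N) A) B, algebraMap_smul]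
  haveI : Module.Finite (MvPolynomial (Fin N) A) B :=
    Module.Finite.of_surjective (Algebra.linearMap (MvPolynomial (Fin N) A) B) hsurj
  haveI : Module.Finite (MvPolynomial (Fin N) A) M := Module.Finite.trans B M
  have h := isOpen_rdepth_ge_poly (A := A) N M n
  have hset : {q : PrimeSpectrum B | (n : ℕ∞) ≤ adepth A B q.asIdeal M +
      (td (specMap A B) q : ℕ∞)} =
      PrimeSpectrum.comap (algebraMap (MvPolynomial (Fin N) A) B) ⁻¹'
        {Q : PrimeSpectrum (MvPolynomial (Fin N) A) |
          (n : ℕ∞) ≤ adepth A (MvPolynomial (Fin N) A) Q.asIdeal M +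
            (td (specMap A (MvPolynomial (Fin N) A)) Q : ℕ∞)} := by
    ext q
    obtain ⟨-, h2⟩ := transfer (A := A) hsurj M q.asIdeal
    rw [Set.mem_preimage, Set.mem_ofPred_eq, Set.mem_ofPred_eq,
      td_specMap_of_surjective (A := A) hsurj q]
    change _ ↔ (n : ℕ∞) ≤ adepth A _ (q.asIdeal.comap _) M + _
    rw [h2]
  rw [hset]
  exact h.preimage (PrimeSpectrum.continuous_comap _)

end Noeth

section General

variable (A B : Type u) [CommRing A] [CommRing B] [Algebra A B]
  [Algebra.FinitePresentation A B]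
  (M : Type u) [AddCommGroup M] [Module B M] [Module A M] [IsScalarTower A B M]
  [Module.FinitePresentation B M] [Module.Flat A M]

/-- **Openness of the loci of the rectified depth of the fibre modules**: finitely presented
case. -/
theorem isOpen_rdepth_ge (n : ℕ) :
    IsOpen {q : PrimeSpectrum B | (n : ℕ∞) ≤ adepth A B q.asIdeal M +
      (td (specMap A B) q : ℕ∞)} := by
  obtain ⟨A₀, _, _, B₀, _, _, _, _, _, _, M₀, _, _, _, _, _, _, φ, hA₀, hB₀, hM₀, hfl, hpo, hbc⟩ :=
    Groth.Agent.S9456.result A B M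
  haveI := hB₀
  haveI := hM₀
  haveI := hfl
  haveI : IsNoetherianRing A₀ := Algebra.FiniteType.isNoetherianRing ℤ A₀
  have h := isOpen_rdepth_ge_noeth A₀ B₀ M₀ n
  have hset : {q : PrimeSpectrum B | (n : ℕ∞) ≤ adepth A B q.asIdeal M +
      (td (specMap A B) q : ℕ∞)} =
      PrimeSpectrum.comap (algebraMap B₀ B) ⁻¹'
        {q : PrimeSpectrum B₀ | (n : ℕ∞) ≤ adepth A₀ B₀ q.asIdeal M₀ +
          (td (specMap A₀ B₀) q : ℕ∞)} := by
    ext q
    obtain ⟨d, hd1, hd2⟩ := adepth_td_baseChange A₀ A B₀ B hpo M₀ M φ hbc q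
    rw [Set.mem_preimage, Set.mem_ofPred_eq, Set.mem_ofPred_eq, ← hd2, hd1]
    change _ ↔ (n : ℕ∞) ≤ adepth A₀ B₀ (q.asIdeal.comap _) M₀ + _
    push_cast
    rw [add_assoc, add_comm (d : ℕ∞)]
  rw [hset]
  exact h.preimage (PrimeSpectrum.continuous_comap _)

end General

end Groth.Agent.Helper16.FibModCore
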