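import Groth.Agent.Lib.Helper13.EffCartier

set_option autoImplicit false
universe u
open CategoryTheory CategoryTheory.Limits AlgebraicGeometry TopologicalSpace

namespace Groth.Agent.Helper16.EffC

open Groth.Agent.Helper13.EffCartier Groth.Agent.Helper13.IdealComap

/-- The inverse image of an effective Cartier ideal under a flat morphism is effective Cartier. -/
theorem isEffCartierIdeal_comap_of_flat {X Y : Scheme.{u}} (f : X ⟶ Y) [Flat f]
    (𝓘 : Y.IdealSheafData) (hD : BlowUp.IsEffCartierIdeal 𝓘) :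
    BlowUp.IsEffCartierIdeal (𝓘.comap f) := by
  intro x
  obtain ⟨V, hxV, t, ht, hI⟩ := hD (f x)
  obtain ⟨_, ⟨U, hU, rfl⟩, hxU, hUV⟩ := X.isBasis_affineOpens.exists_subset_of_mem_open
    (show x ∈ (f ⁻¹ᵁ V.1 : Set X) from hxV) (f ⁻¹ᵁ V.1).isOpen
  let U' : X.affineOpens := ⟨U, hU⟩
  have e : U'.1 ≤ f ⁻¹ᵁ V.1 := hUV
  have hflat : (f.appLE V.1 U'.1 e).hom.Flat :=
    HasRingHomProperty.appLE (P := @Flat) f inferInstance V U' e
  refine ⟨U', hxU, (f.appLE V.1 U'.1 e).hom t,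
    map_mem_nonZeroDivisors_of_flat _ hflat t ht, ?_⟩
  rw [ideal_comap f 𝓘 V U' e, hI, Ideal.map_span, Set.image_singleton]

end Groth.Agent.Helper16.EffC
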