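import Groth.Agent.Lib.Helper16.Sch.FibFlatSch2

set_option autoImplicit false
set_option linter.style.haveILetI false
universe u
open CategoryTheory CategoryTheory.Limits AlgebraicGeometry TensorProduct

namespace Groth.Agent.Helper16.FibFlatSch

/-- fibrewise criterion of flatness for locally Noetherian schemes, first half -/
theorem flat_of_fibFlat {U V W : Scheme.{u}} [IsLocallyNoetherian U] [IsLocallyNoetherian V]
    [IsLocallyNoetherian W] (a : U ⟶ V) (b : V ⟶ W) [Flat (a ≫ b)] (hfib : FibFlat a b) :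
    Flat a := by
  rw [IsZariskiLocalAtSource.iff_exists_resLE (P := @Flat)]
  intro u
  obtain ⟨W', hW', hwW', -⟩ := exists_isAffineOpen_mem_and_subset (x := b.base (a.base u))
    (U := ⊤) trivial
  obtain ⟨V', hV', hvV', hV'W'⟩ := exists_isAffineOpen_mem_and_subset (x := a.base u)
    (U := b ⁻¹ᵁ W') hwW'
  obtain ⟨U', hU', huU', hU'V'⟩ := exists_isAffineOpen_mem_and_subset (x := u)
    (U := a ⁻¹ᵁ V') hvV'
  refine ⟨V', U', huU', hU'V', ?_⟩
  haveI : IsNoetherianRing Γ(U, U') := IsLocallyNoetherian.component_noetherian ⟨U', hU'⟩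
  haveI : IsNoetherianRing Γ(V, V') := IsLocallyNoetherian.component_noetherian ⟨V', hV'⟩
  haveI : IsNoetherianRing Γ(W, W') := IsLocallyNoetherian.component_noetherian ⟨W', hW'⟩
  let a' := a.resLE V' U' hU'V'
  let b' := b.resLE W' V' hV'W'
  let ψ : Γ(V, V') ⟶ Γ(U, U') := Spec.preimage (hU'.isoSpec.inv ≫ a' ≫ hV'.isoSpec.hom)
  let φ : Γ(W, W') ⟶ Γ(V, V') := Spec.preimage (hV'.isoSpec.inv ≫ b' ≫ hW'.isoSpec.hom)
  have hψ : Spec.map ψ = hU'.isoSpec.inv ≫ a' ≫ hV'.isoSpec.hom := Spec.map_preimage _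
  have hφ : Spec.map φ = hV'.isoSpec.inv ≫ b' ≫ hW'.isoSpec.hom := Spec.map_preimage _
  have ha : Spec.map ψ ≫ hV'.fromSpec = hU'.fromSpec ≫ a := by
    rw [hψ, ← hV'.isoSpec_inv_ι, ← hU'.isoSpec_inv_ι]
    simp only [Category.assoc, Iso.hom_inv_id_assoc, a', Scheme.Hom.resLE_comp_ι]
  have hb : Spec.map φ ≫ hW'.fromSpec = hV'.fromSpec ≫ b := by
    rw [hφ, ← hW'.isoSpec_inv_ι, ← hV'.isoSpec_inv_ι]
    simp only [Category.assoc, Iso.hom_inv_id_assoc, b', Scheme.Hom.resLE_comp_ι]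
  have hfib' : FibFlat (Spec.map ψ) (Spec.map φ) :=
    hfib.restrict hU'.fromSpec hV'.fromSpec hW'.fromSpec _ _ ha hb
  have hfl : Flat (Spec.map (φ ≫ ψ)) := by
    rw [Spec.map_comp]
    haveI : Flat ((Spec.map ψ ≫ Spec.map φ) ≫ hW'.fromSpec) := by
      rw [Category.assoc, hb, ← Category.assoc, ha, Category.assoc]
      infer_instance
    exact MorphismProperty.of_postcomp (W := @Flat) (W' := @IsOpenImmersion) _ hW'.fromSpec
      inferInstance inferInstance
  have h1 := flat_Spec_of_fibFlat φ ψ hfl hfib'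
  rw [hψ] at h1
  rwa [MorphismProperty.cancel_left_of_respectsIso (P := @Flat),
    MorphismProperty.cancel_right_of_respectsIso (P := @Flat)] at h1

/-- fibrewise criterion of flatness for locally Noetherian schemes, second half -/
theorem flat_of_fibFlat_of_surjective {U V W : Scheme.{u}} [IsLocallyNoetherian U]
    [IsLocallyNoetherian V] [IsLocallyNoetherian W] (a : U ⟶ V) (b : V ⟶ W) [Flat (a ≫ b)]
    (hfib : FibFlat a b) (hs : Function.Surjective a.base) : Flat b := by
  rw [IsZariskiLocalAtSource.iff_exists_resLE (P := @Flat)]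
  intro v
  obtain ⟨W', hW', hwW', -⟩ := exists_isAffineOpen_mem_and_subset (x := b.base v)
    (U := ⊤) trivial
  obtain ⟨V', hV', hvV', hV'W'⟩ := exists_isAffineOpen_mem_and_subset (x := v)
    (U := b ⁻¹ᵁ W') hwW'
  refine ⟨W', V', hvV', hV'W', ?_⟩
  haveI : IsNoetherianRing Γ(V, V') := IsLocallyNoetherian.component_noetherian ⟨V', hV'⟩
  haveI : IsNoetherianRing Γ(W, W') := IsLocallyNoetherian.component_noetherian ⟨W', hW'⟩
  let b' := b.resLE W' V' hV'W'
  let a' : (a ⁻¹ᵁ V').toScheme ⟶ Spec Γ(V, V') := (a ∣_ V') ≫ hV'.isoSpec.hom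
  let φ : Γ(W, W') ⟶ Γ(V, V') := Spec.preimage (hV'.isoSpec.inv ≫ b' ≫ hW'.isoSpec.hom)
  have hφ : Spec.map φ = hV'.isoSpec.inv ≫ b' ≫ hW'.isoSpec.hom := Spec.map_preimage _
  have ha : a' ≫ hV'.fromSpec = (a ⁻¹ᵁ V').ι ≫ a := by
    rw [← hV'.isoSpec_inv_ι]
    simp only [a', Category.assoc, Iso.hom_inv_id_assoc, morphismRestrict_ι]
  have hb : Spec.map φ ≫ hW'.fromSpec = hV'.fromSpec ≫ b := by
    rw [hφ, ← hW'.isoSpec_inv_ι, ← hV'.isoSpec_inv_ι]
    simp only [Category.assoc, Iso.hom_inv_id_assoc, b', Scheme.Hom.resLE_comp_ι]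
  have hfib' : FibFlat a' (Spec.map φ) :=
    hfib.restrict (a ⁻¹ᵁ V').ι hV'.fromSpec hW'.fromSpec _ _ ha hb
  haveI hfl : Flat (a' ≫ Spec.map φ) := by
    haveI : Flat ((a' ≫ Spec.map φ) ≫ hW'.fromSpec) := by
      rw [Category.assoc, hb, ← Category.assoc, ha, Category.assoc]
      infer_instance
    exact MorphismProperty.of_postcomp (W := @Flat) (W' := @IsOpenImmersion) _ hW'.fromSpec
      inferInstance inferInstance
  have hs' : Function.Surjective a'.base := by
    have h1 : Function.Surjective (a ∣_ V').base := by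
      intro y
      obtain ⟨x, hx⟩ := hs y.1
      refine ⟨⟨x, ?_⟩, ?_⟩
      · change a.base x ∈ V'
        rw [hx]
        exact y.2
      · apply Subtype.ext
        refine Eq.trans ?_ hx
        exact congrArg (fun f : (a ⁻¹ᵁ V').toScheme ⟶ V => f.base (⟨x, by
          change a.base x ∈ V'
          rw [hx]
          exact y.2⟩ : (a ⁻¹ᵁ V').toScheme)) (morphismRestrict_ι a V')
    have h2 : Function.Surjective hV'.isoSpec.hom.base :=
      (TopCat.homeoOfIso (Scheme.forgetToTop.mapIso hV'.isoSpec)).surjective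
    exact h2.comp h1
  have h1 := flat_of_fibFlat_of_surjective_Spec a' φ hfib' hs'
  have h2 : Flat (Spec.map φ) := (HasRingHomProperty.Spec_iff (P := @Flat)).mpr h1
  rw [hφ] at h2
  rwa [MorphismProperty.cancel_left_of_respectsIso (P := @Flat),
    MorphismProperty.cancel_right_of_respectsIso (P := @Flat)] at h2

end Groth.Agent.Helper16.FibFlatSch
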