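import Mathlib
import Groth.Prelude
import Groth.Agent.Lib.Helper16.Sch.FTOpen2

/-!
# Lower semicontinuity of the fibre dimension of a flat morphism, local form (helper16)
-/

set_option autoImplicit false
set_option linter.style.haveILetI false
set_option linter.deprecated false
universe u
open CategoryTheory CategoryTheory.Limits AlgebraicGeometry Opposite TopologicalSpace Topology

namespace Groth.Agent.Helper16.FibLsc

open Groth.Agent.Helper14 Groth.Agent.Helper16 Groth.Agent.Helper16.FTOpen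

variable {X S : Scheme.{u}}

/-- for a flat morphism locally of finite presentation (not necessarily quasi-compact), points
with large local fibre dimension exist over a whole neighbourhood of the image. -/
theorem exists_open_lt_fibreDimAt (f : X ⟶ S) [Flat f] [LocallyOfFinitePresentation f]
    (c : WithBot ℕ∞) (x : X) (hx : c < FlatMor.fibreDimAt f x) :
    ∃ O : Set S, IsOpen O ∧ f x ∈ O ∧
      ∀ s ∈ O, ∃ x' : X, f x' = s ∧ c < FlatMor.fibreDimAt f x' := by
  obtain ⟨S₀, hS₀, hsS₀, -⟩ :=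
    exists_isAffineOpen_mem_and_subset (x := f x) (U := (⊤ : S.Opens)) trivial
  obtain ⟨X₀, hX₀, hxX₀, e₀⟩ :=
    exists_isAffineOpen_mem_and_subset (x := x) (U := f ⁻¹ᵁ S₀) hsS₀
  set f₀ := f.resLE S₀ X₀ e₀ with hf₀
  haveI : IsAffine (S₀ : Scheme.{u}) := hS₀
  haveI : IsAffine (X₀ : Scheme.{u}) := hX₀
  haveI : QuasiCompact f₀ :=
    (HasAffineProperty.iff_of_isAffine (P := @QuasiCompact)).mpr
      (inferInstance : CompactSpace (X₀ : Scheme.{u}))
  have hpt : ∀ z : X₀, (f₀ z).1 = f z.1 := by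
    intro z
    have h1 : f₀ ≫ S₀.ι = X₀.ι ≫ f := Scheme.Hom.resLE_comp_ι f e₀
    have h2 := congrArg (fun g => g.base z) h1
    exact h2
  set E : Set S₀ := {s' | c < topologicalKrullDim (f₀.fiber s')} with hE
  have hopen : IsOpen E := main0404 f₀ c
  have hsE : (⟨f x, hsS₀⟩ : S₀) ∈ E := by
    show c < topologicalKrullDim (f₀.fiber ⟨f x, hsS₀⟩)
    have h1 : f₀ ⟨x, hxX₀⟩ = ⟨f x, hsS₀⟩ := Subtype.ext (hpt ⟨x, hxX₀⟩)
    have h2 := GenDim.fibreDimAt_le_dim_fiber f₀ ⟨x, hxX₀⟩ _ h1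
    rw [fibreDimAt_resLE] at h2
    exact lt_of_lt_of_le hx h2
  refine ⟨Subtype.val '' E, S₀.isOpen.isOpenMap_subtype_val _ hopen, ⟨_, hsE, rfl⟩, ?_⟩
  rintro _ ⟨s', hs'E, rfl⟩
  by_contra hcon
  push Not at hcon
  have h3 : topologicalKrullDim (f₀.fiber s') ≤ c := by
    apply FibreConst.dim_fiber_le
    intro ζ n hfζ hg
    rw [← hg.fibreDimAt_eq, fibreDimAt_resLE]
    refine hcon ζ.1 ?_
    rw [← hpt ζ, hfζ]
  exact absurd hs'E (not_lt.mpr h3)

end Groth.Agent.Helper16.FibLsc
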