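import Groth.Agent.Lib.Helper16.Sch.EffC
import Mathlib.RingTheory.Flat.Equalizer
import Mathlib.RingTheory.IsTensorProduct
import Mathlib.Algebra.Category.Ring.Constructions

set_option autoImplicit false
set_option linter.style.haveILetI false
universe u
open CategoryTheory CategoryTheory.Limits AlgebraicGeometry TopologicalSpace TensorProduct

namespace Groth.Agent.Helper16.EffC

open Groth.Agent.Helper13.EffCartier Groth.Agent.Helper13.IdealComap

/-- If `t ∈ B` is a nonzerodivisor with `B/(t)` flat over `A`, then `1 ⊗ t` is a nonzerodivisor in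
`A' ⊗_A B` for every `A`-algebra `A'`. -/
theorem one_tmul_mem_nonZeroDivisors {A B A' C : Type u} [CommRing A] [CommRing B] [CommRing A']
    [CommRing C] [Algebra A B] [Algebra A A'] [Algebra A C] [Algebra B C] [IsScalarTower A B C]
    (t : B) (ht : t ∈ nonZeroDivisors B) (hsurj : Function.Surjective (algebraMap B C))
    (hker : RingHom.ker (algebraMap B C) = Ideal.span {t}) [Module.Flat A C] :
    ((1 : A') ⊗ₜ[A] t) ∈ nonZeroDivisors (A' ⊗[A] B) := by
  let g : B →ₗ[A] B := LinearMap.mulLeft A t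
  let f : B →ₗ[A] C := (IsScalarTower.toAlgHom A B C).toLinearMap
  have hg : Function.Injective g := by
    intro x y hxy
    have h : t * (x - y) = 0 := by
      rw [mul_sub]
      exact sub_eq_zero.2 hxy
    exact sub_eq_zero.1 ((mem_nonZeroDivisors_iff.1 ht).1 _ h)
  have hex : Function.Exact g f := by
    intro b
    constructor
    · intro hb
      have hb' : b ∈ RingHom.ker (algebraMap B C) := hb
      rw [hker, Ideal.mem_span_singleton'] at hb'
      obtain ⟨a, rfl⟩ := hb'
      exact ⟨a, mul_comm _ _⟩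
    · rintro ⟨a, rfl⟩
      change algebraMap B C (t * a) = 0
      have : t ∈ RingHom.ker (algebraMap B C) := by
        rw [hker]; exact Ideal.mem_span_singleton_self t
      rw [map_mul, (RingHom.mem_ker).1 this, zero_mul]
  have hinj := LinearMap.lTensor_injective_of_exact_of_flat f hsurj g hg hex A'
  have hmul : ∀ z : A' ⊗[A] B, ((1 : A') ⊗ₜ[A] t) * z = g.lTensor A' z := by
    intro z
    induction z with
    | zero => simp
    | add x y hx hy => rw [mul_add, hx, hy, map_add]
    | tmul a b => simp [g]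
  rw [mem_nonZeroDivisors_iff_right]
  intro z hz
  apply hinj
  rw [map_zero, ← hmul, mul_comm]
  exact hz

/-- Pushout form of `one_tmul_mem_nonZeroDivisors`. -/
theorem algebraMap_mem_nonZeroDivisors_of_isPushout {A B A' P C : Type u} [CommRing A] [CommRing B]
    [CommRing A'] [CommRing P] [CommRing C] [Algebra A B] [Algebra A A'] [Algebra A C] [Algebra B C]
    [IsScalarTower A B C] [Algebra A P] [Algebra A' P] [Algebra B P] [IsScalarTower A A' P]
    [IsScalarTower A B P] [Algebra.IsPushout A A' B P]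
    (t : B) (ht : t ∈ nonZeroDivisors B) (hsurj : Function.Surjective (algebraMap B C))
    (hker : RingHom.ker (algebraMap B C) = Ideal.span {t}) [Module.Flat A C] :
    algebraMap B P t ∈ nonZeroDivisors P := by
  have h1 := one_tmul_mem_nonZeroDivisors (A := A) (A' := A') t ht hsurj hker
  let e := Algebra.IsPushout.equiv A A' B P
  have he : e ((1 : A') ⊗ₜ[A] t) = algebraMap B P t := by
    rw [Algebra.IsPushout.equiv_tmul, map_one, one_mul]
  rw [mem_nonZeroDivisors_iff_right]
  intro z hz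
  have h2 : e.symm z * ((1 : A') ⊗ₜ[A] t) = 0 := by
    apply e.injective
    rw [map_mul, he, map_zero, AlgEquiv.apply_symm_apply]
    exact hz
  have h3 := (mem_nonZeroDivisors_iff_right.1 h1) _ h2
  have := congrArg e h3
  rwa [AlgEquiv.apply_symm_apply, map_zero] at this

/-- Category-theoretic pushout form. -/
theorem map_mem_nonZeroDivisors_of_isPushout {A B A' P C : CommRingCat.{u}} (φ : A ⟶ B)
    (ψ : A ⟶ A') (inl : B ⟶ P) (inr : A' ⟶ P) (hP : IsPushout φ ψ inl inr) (π : B ⟶ C)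
    (t : B) (ht : t ∈ nonZeroDivisors B) (hsurj : Function.Surjective π.hom)
    (hker : RingHom.ker π.hom = Ideal.span {t}) (hflat : (φ ≫ π).hom.Flat) :
    inl.hom t ∈ nonZeroDivisors P := by
  letI : Algebra A B := φ.hom.toAlgebra
  letI : Algebra A A' := ψ.hom.toAlgebra
  letI : Algebra B P := inl.hom.toAlgebra
  letI : Algebra A' P := inr.hom.toAlgebra
  letI : Algebra A P := (φ ≫ inl).hom.toAlgebra
  letI : Algebra B C := π.hom.toAlgebra
  letI : Algebra A C := (φ ≫ π).hom.toAlgebra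
  haveI : IsScalarTower A B P := IsScalarTower.of_algebraMap_eq' rfl
  haveI : IsScalarTower A B C := IsScalarTower.of_algebraMap_eq' rfl
  haveI : IsScalarTower A A' P := IsScalarTower.of_algebraMap_eq' (by
    change (φ ≫ inl).hom = (ψ ≫ inr).hom
    rw [hP.w])
  haveI : Module.Flat A C := hflat
  haveI : Algebra.IsPushout A A' B P := by
    rw [← CommRingCat.isPushout_iff_isPushout]
    exact hP.flip
  exact algebraMap_mem_nonZeroDivisors_of_isPushout (A := A) (A' := A') (C := C) t ht hsurj hker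

/-- Base change of a relative effective Cartier divisor: if `V(I) → S` is flat then the inverse
image of `I` on `X ×_S T` is effective Cartier for every `T → S`. -/
theorem isEffCartierIdeal_comap_of_flat_subscheme {X Y S T : Scheme.{u}} {f : T ⟶ S} {g : Y ⟶ X}
    {iX : X ⟶ S} {iY : Y ⟶ T} (H : IsPullback g iY iX f) (I : X.IdealSheafData)
    (hI : BlowUp.IsEffCartierIdeal I) [Flat (I.subschemeι ≫ iX)] :
    BlowUp.IsEffCartierIdeal (I.comap g) := by
  intro y
  obtain ⟨_, ⟨US, hUS, rfl⟩, hsUS, -⟩ :=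
    S.isBasis_affineOpens.exists_subset_of_mem_open (Set.mem_univ (iX (g y))) isOpen_univ
  have hyT : iY y ∈ (f ⁻¹ᵁ US : Set T) := by
    change f (iY y) ∈ US
    rw [← Scheme.Hom.comp_apply, ← H.w, Scheme.Hom.comp_apply]
    exact hsUS
  obtain ⟨_, ⟨UT, hUT, rfl⟩, htUT, hUST⟩ :=
    T.isBasis_affineOpens.exists_subset_of_mem_open hyT (f ⁻¹ᵁ US).isOpen
  obtain ⟨UX, hxUX, hUSX, t, ht, hIt⟩ := exists_chart_le hI (g y) (iX ⁻¹ᵁ US) hsUS
  have hUYaff : IsAffineOpen (g ⁻¹ᵁ UX.1 ⊓ iY ⁻¹ᵁ UT) := by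
    haveI : IsAffine (US : Scheme) := hUS
    haveI : IsAffine (UT : Scheme) := hUT
    haveI : IsAffine (UX.1 : Scheme) := UX.2
    exact .of_isIso (Scheme.Hom.isPullback_resLE H hUST hUSX rfl).isoPullback.hom
  have hiso := isIso_pushoutSection_of_isAffineOpen H hUST hUSX rfl hUS hUT UX.2
  have hpo := (isIso_pushoutSection_iff H hUST hUSX rfl).1 hiso
  refine ⟨⟨g ⁻¹ᵁ UX.1 ⊓ iY ⁻¹ᵁ UT, hUYaff⟩, ⟨hxUX, htUT⟩,
    (g.appLE UX.1 (g ⁻¹ᵁ UX.1 ⊓ iY ⁻¹ᵁ UT) inf_le_left).hom t, ?_, ?_⟩
  · refine map_mem_nonZeroDivisors_of_isPushout _ _ _ _ hpo (I.subschemeι.app UX.1) t ht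
      (I.subschemeι_app_surjective UX) (by rw [I.ker_subschemeι_app, hIt]) ?_
    have e' : I.subschemeι ⁻¹ᵁ UX.1 ≤ (I.subschemeι ≫ iX) ⁻¹ᵁ US := by
      intro p hp
      exact hUSX hp
    have h1 := HasRingHomProperty.appLE (P := @Flat) (I.subschemeι ≫ iX) inferInstance
      ⟨US, hUS⟩ ⟨I.subschemeι ⁻¹ᵁ UX.1, UX.2.preimage I.subschemeι⟩ e'
    rw [Scheme.Hom.app_eq_appLE, Scheme.Hom.appLE_comp_appLE]
    exact h1
  · rw [ideal_comap g I UX ⟨g ⁻¹ᵁ UX.1 ⊓ iY ⁻¹ᵁ UT, hUYaff⟩ inf_le_left, hIt, Ideal.map_span,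
      Set.image_singleton]

end Groth.Agent.Helper16.EffC
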