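import Groth.Agent.Lib.Helper16.Alg.NilUnram
import Mathlib.AlgebraicGeometry.Morphisms.QuasiFinite
import Mathlib.AlgebraicGeometry.Morphisms.FormallyUnramified
import Mathlib.AlgebraicGeometry.Morphisms.Flat
import Mathlib.AlgebraicGeometry.Morphisms.ClosedImmersion
import Mathlib.Algebra.Category.Ring.Constructions

set_option autoImplicit false
set_option linter.style.haveILetI false
universe u
open CategoryTheory CategoryTheory.Limits AlgebraicGeometry TopologicalSpace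

namespace Groth.Agent.Helper16.ThickUnram

variable {U U' V V' : Scheme.{u}} {i₀ : U ⟶ U'} {h : U ⟶ V} {h' : U' ⟶ V'} {j₀ : V ⟶ V'}

/-- Local quasi-finiteness lifts along a thickening of the base. -/
theorem locallyQuasiFinite_of_thickening_bc (H : IsPullback i₀ h h' j₀) [IsClosedImmersion j₀]
    [Surjective j₀] [LocallyOfFiniteType h'] [LocallyQuasiFinite h] : LocallyQuasiFinite h' := by
  haveI : IsClosedImmersion i₀ := MorphismProperty.of_isPullback H.flip inferInstance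
  haveI : Surjective i₀ := MorphismProperty.of_isPullback H.flip inferInstance
  rw [locallyQuasiFinite_iff_isDiscrete_preimage_singleton]
  intro v'
  obtain ⟨v, rfl⟩ := j₀.surjective v'
  have hd := h.isDiscrete_preimage_singleton v
  let e : U ≃ₜ U' := i₀.isClosedEmbedding.isEmbedding.toHomeomorphOfSurjective i₀.surjective
  have he : ∀ u, e u = i₀ u := fun _ => rfl
  have hset : h' ⁻¹' {j₀ v} = e.symm ⁻¹' (h ⁻¹' {v}) := by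
    ext u'
    obtain ⟨u, rfl⟩ := e.surjective u'
    simp only [Set.mem_preimage, Set.mem_singleton_iff, Homeomorph.symm_apply_apply]
    rw [he, ← Scheme.Hom.comp_apply, H.w, Scheme.Hom.comp_apply]
    exact j₀.isClosedEmbedding.isEmbedding.injective.eq_iff
  rw [hset]
  exact hd.preimage e.symm.continuous.continuousOn e.symm.injective

/-- The kernel of a surjective closed immersion on an affine open consists of nilpotents. -/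
theorem ker_app_le_nilradical (j : V ⟶ V') [Surjective j] (W : V'.Opens) (hW : IsAffineOpen W) :
    RingHom.ker (j.app W).hom ≤ nilradical Γ(V', W) := by
  intro a ha
  change IsNilpotent a
  rw [Scheme.isNilpotent_iff_basicOpen_eq_bot_of_isCompact hW.isCompact]
  rw [← le_bot_iff]
  intro x hx
  obtain ⟨y, rfl⟩ := j.surjective x
  have h1 : y ∈ j ⁻¹ᵁ (V'.basicOpen a) := hx
  rw [Scheme.preimage_basicOpen, (RingHom.mem_ker).1 ha, Scheme.basicOpen_zero] at h1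
  exact h1

/-- Formal unramifiedness lifts along a thickening of the base, for morphisms locally of finite
type. -/
theorem formallyUnramified_of_thickening_bc (H : IsPullback i₀ h h' j₀) [IsClosedImmersion j₀]
    [Surjective j₀] [LocallyOfFiniteType h'] [FormallyUnramified h] : FormallyUnramified h' := by
  rw [HasRingHomProperty.iff_appLE (P := @FormallyUnramified)]
  intro V₀ U₀ e
  have hVaff : IsAffineOpen (j₀ ⁻¹ᵁ V₀.1) := V₀.2.preimage j₀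
  have hUYaff : IsAffineOpen (i₀ ⁻¹ᵁ U₀.1 ⊓ h ⁻¹ᵁ (j₀ ⁻¹ᵁ V₀.1)) := by
    haveI : IsAffine (V₀.1 : Scheme) := V₀.2
    haveI : IsAffine ((j₀ ⁻¹ᵁ V₀.1 : V.Opens) : Scheme) := hVaff
    haveI : IsAffine (U₀.1 : Scheme) := U₀.2
    exact .of_isIso (Scheme.Hom.isPullback_resLE H (le_refl _) e rfl).isoPullback.hom
  have hiso := isIso_pushoutSection_of_isAffineOpen H (le_refl (j₀ ⁻¹ᵁ V₀.1)) e rfl V₀.2 hVaff U₀.2
  have hpo := (isIso_pushoutSection_iff H (le_refl (j₀ ⁻¹ᵁ V₀.1)) e rfl).1 hiso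
  have hft : (h'.appLE V₀.1 U₀.1 e).hom.FiniteType :=
    HasRingHomProperty.appLE (P := @LocallyOfFiniteType) h' inferInstance V₀ U₀ e
  have hun : (h.appLE (j₀ ⁻¹ᵁ V₀.1) (i₀ ⁻¹ᵁ U₀.1 ⊓ h ⁻¹ᵁ (j₀ ⁻¹ᵁ V₀.1)) inf_le_right).hom.FormallyUnramified :=
    HasRingHomProperty.appLE (P := @FormallyUnramified) h inferInstance ⟨_, hVaff⟩ ⟨_, hUYaff⟩ _
  have hsurj : Function.Surjective (j₀.appLE V₀.1 (j₀ ⁻¹ᵁ V₀.1) (le_refl _)).hom := by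
    rw [← Scheme.Hom.app_eq_appLE]
    exact j₀.app_surjective V₀.1 V₀.2
  have hnil : RingHom.ker (j₀.appLE V₀.1 (j₀ ⁻¹ᵁ V₀.1) (le_refl _)).hom ≤ nilradical Γ(V', V₀.1) := by
    rw [← Scheme.Hom.app_eq_appLE]
    exact ker_app_le_nilradical j₀ V₀.1 V₀.2
  -- algebra structures
  generalize h'.appLE V₀.1 U₀.1 e = φ at hpo hft ⊢
  generalize j₀.appLE V₀.1 (j₀ ⁻¹ᵁ V₀.1) (le_refl _) = π at hpo hsurj hnil
  generalize h.appLE (j₀ ⁻¹ᵁ V₀.1) (i₀ ⁻¹ᵁ U₀.1 ⊓ h ⁻¹ᵁ (j₀ ⁻¹ᵁ V₀.1)) inf_le_right = ψ at hpo hun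
  generalize i₀.appLE U₀.1 (i₀ ⁻¹ᵁ U₀.1 ⊓ h ⁻¹ᵁ (j₀ ⁻¹ᵁ V₀.1)) _ = ι at hpo
  letI : Algebra Γ(V', V₀.1) Γ(U', U₀.1) := φ.hom.toAlgebra
  letI : Algebra Γ(V', V₀.1) Γ(V, j₀ ⁻¹ᵁ V₀.1) := π.hom.toAlgebra
  letI : Algebra Γ(V, j₀ ⁻¹ᵁ V₀.1) Γ(U, i₀ ⁻¹ᵁ U₀.1 ⊓ h ⁻¹ᵁ (j₀ ⁻¹ᵁ V₀.1)) := ψ.hom.toAlgebra
  letI : Algebra Γ(U', U₀.1) Γ(U, i₀ ⁻¹ᵁ U₀.1 ⊓ h ⁻¹ᵁ (j₀ ⁻¹ᵁ V₀.1)) := ι.hom.toAlgebra
  letI : Algebra Γ(V', V₀.1) Γ(U, i₀ ⁻¹ᵁ U₀.1 ⊓ h ⁻¹ᵁ (j₀ ⁻¹ᵁ V₀.1)) := (π ≫ ψ).hom.toAlgebra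
  haveI : IsScalarTower Γ(V', V₀.1) Γ(V, j₀ ⁻¹ᵁ V₀.1) Γ(U, i₀ ⁻¹ᵁ U₀.1 ⊓ h ⁻¹ᵁ (j₀ ⁻¹ᵁ V₀.1)) :=
    IsScalarTower.of_algebraMap_eq' rfl
  haveI : IsScalarTower Γ(V', V₀.1) Γ(U', U₀.1) Γ(U, i₀ ⁻¹ᵁ U₀.1 ⊓ h ⁻¹ᵁ (j₀ ⁻¹ᵁ V₀.1)) :=
    IsScalarTower.of_algebraMap_eq' (by
      change (π ≫ ψ).hom = (φ ≫ ι).hom
      rw [hpo.w])
  haveI : Algebra.IsPushout Γ(V', V₀.1) Γ(V, j₀ ⁻¹ᵁ V₀.1) Γ(U', U₀.1)
      Γ(U, i₀ ⁻¹ᵁ U₀.1 ⊓ h ⁻¹ᵁ (j₀ ⁻¹ᵁ V₀.1)) := by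
    rw [← CommRingCat.isPushout_iff_isPushout]
    exact hpo.flip
  haveI : Algebra.FiniteType Γ(V', V₀.1) Γ(U', U₀.1) := hft
  haveI : Algebra.FormallyUnramified Γ(V, j₀ ⁻¹ᵁ V₀.1)
      Γ(U, i₀ ⁻¹ᵁ U₀.1 ⊓ h ⁻¹ᵁ (j₀ ⁻¹ᵁ V₀.1)) := hun
  exact Groth.Agent.Helper16.NilUnram.formallyUnramified_of_nil_thickening
    (A' := Γ(V', V₀.1)) (A := Γ(V, j₀ ⁻¹ᵁ V₀.1)) (B' := Γ(U', U₀.1))
    (B := Γ(U, i₀ ⁻¹ᵁ U₀.1 ⊓ h ⁻¹ᵁ (j₀ ⁻¹ᵁ V₀.1))) hsurj hnil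

end Groth.Agent.Helper16.ThickUnram
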