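import Mathlib
set_option autoImplicit false
universe u
open CategoryTheory CategoryTheory.Limits AlgebraicGeometry TopologicalSpace Topology

namespace Groth.Agent.Helper16.QcDesc

/-- Quasi-compactness descends along a surjective open base change. -/
theorem quasiCompact_of_isPullback_of_surjective_of_isOpenMap {A T A' T' : Scheme.{u}}
    {g : A ⟶ T} {c : T' ⟶ T} {fst : A' ⟶ A} {snd : A' ⟶ T'} (sq : IsPullback fst snd g c)
    (hsurj : Function.Surjective c) (hopen : IsOpenMap c) [QuasiCompact snd] :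
    QuasiCompact g := by
  constructor
  intro K hKo hKc
  -- cover c⁻¹ K by affine opens
  have hcov : K ⊆ ⋃ (O : {O : T'.affineOpens // (O.1 : Set T') ⊆ c ⁻¹' K}), c '' (O.1.1 : Set T') := by
    intro t ht
    obtain ⟨t', rfl⟩ := hsurj t
    obtain ⟨_, ⟨O, hO, rfl⟩, ht'O, hOK⟩ :=
      (T'.isBasis_affineOpens).exists_subset_of_mem_open (show t' ∈ c ⁻¹' K from ht)
        (hKo.preimage c.continuous)
    exact Set.mem_iUnion.2 ⟨⟨⟨O, hO⟩, hOK⟩, t', ht'O, rfl⟩
  obtain ⟨F, hF⟩ := hKc.elim_finite_subcover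
    (fun (O : {O : T'.affineOpens // (O.1 : Set T') ⊆ c ⁻¹' K}) => c '' (O.1.1 : Set T'))
    (fun O => hopen _ O.1.1.2) hcov
  set K' : Set T' := ⋃ O ∈ F, (O.1.1 : Set T') with hK'
  have hK'o : IsOpen K' := isOpen_biUnion fun O _ => O.1.1.2
  have hK'c : IsCompact K' := F.isCompact_biUnion fun O _ => O.1.2.isCompact
  have hK'K : K' ⊆ c ⁻¹' K := Set.iUnion₂_subset fun O _ => O.2
  have hcomp : IsCompact (snd ⁻¹' K') := QuasiCompact.isCompact_preimage K' hK'o hK'c
  have heq : g ⁻¹' K = fst '' (snd ⁻¹' K') := by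
    ext a
    constructor
    · intro ha
      obtain ⟨O, hOF, t', ht'O, ht'⟩ : ∃ O ∈ F, g a ∈ c '' (O.1.1 : Set T') := by
        have := hF ha
        simpa only [Set.mem_iUnion, exists_prop] using this
      obtain ⟨a', ha'1, ha'2⟩ := Scheme.exists_preimage_of_isPullback sq a t' ht'.symm
      refine ⟨a', ?_, ha'1⟩
      show snd a' ∈ K'
      rw [ha'2]
      exact Set.mem_biUnion hOF ht'O
    · rintro ⟨a', ha', rfl⟩
      show g (fst a') ∈ K
      have : g (fst a') = c (snd a') := by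
        rw [← Scheme.Hom.comp_apply, ← Scheme.Hom.comp_apply, sq.w]
      rw [this]
      exact hK'K ha'
  rw [heq]
  exact hcomp.image fst.continuous

end Groth.Agent.Helper16.QcDesc
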