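import Mathlib
import Groth.Agent.Lib.Helper16.Alg.EtCoordC
import Groth.Agent.Lib.Helper16.Alg.EtCoordT

set_option autoImplicit false
set_option linter.style.haveILetI false
universe u
open CategoryTheory CategoryTheory.Limits AlgebraicGeometry Opposite TopologicalSpace TensorProduct

noncomputable section

namespace Groth.Agent.Helper16.SmDiv

/-- charts of a morphism smooth on an open `W` are smooth -/
theorem smooth_appLE_of_le {X S : Scheme.{u}} (f : X ⟶ S) (W : X.Opens) (hW : Smooth (W.ι ≫ f))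
    {U : X.Opens} (hU : IsAffineOpen U) (hUW : U ≤ W) {V : S.Opens} (hV : IsAffineOpen V)
    (e : U ≤ f ⁻¹ᵁ V) : (f.appLE V U e).hom.Smooth := by
  have hU' : IsAffineOpen (W.ι ⁻¹ᵁ U) :=
    hU.preimage_of_isOpenImmersion W.ι (by rw [Scheme.Opens.opensRange_ι]; exact hUW)
  have e' : W.ι ⁻¹ᵁ U ≤ (W.ι ≫ f) ⁻¹ᵁ V := by
    intro z hz
    exact e hz
  have h1 : ((W.ι ≫ f).appLE V (W.ι ⁻¹ᵁ U) e').hom.Smooth :=
    HasRingHomProperty.appLE (P := @Smooth) (W.ι ≫ f) hW ⟨V, hV⟩ ⟨_, hU'⟩ e'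
  have h2 : f.appLE V U e ≫ W.ι.appLE U (W.ι ⁻¹ᵁ U) le_rfl = (W.ι ≫ f).appLE V (W.ι ⁻¹ᵁ U) e' :=
    Scheme.Hom.appLE_comp_appLE _ _ _ _ _ _ _
  have h3 : IsIso (W.ι.appLE U (W.ι ⁻¹ᵁ U) le_rfl) := by
    rw [Scheme.Opens.ι_appLE]
    have : W.ι ''ᵁ (W.ι ⁻¹ᵁ U) = U := by
      rw [Scheme.Hom.image_preimage_eq_opensRange_inf, Scheme.Opens.opensRange_ι]
      exact inf_eq_right.mpr hUW
    exact (inferInstance : IsIso (X.presheaf.map (eqToHom this).op))
  rw [← h2] at h1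
  exact (RingHom.Smooth.respectsIso.cancel_right_isIso _ _).mp h1

set_option backward.defeqAttrib.useBackward true in
set_option backward.isDefEq.respectTransparency false in
theorem mem_basicOpen_of_notMem_primeIdealOf {X : Scheme.{u}} {U : X.Opens} (hU : IsAffineOpen U)
    (x : X) (hx : x ∈ U) (g : Γ(X, U)) (hg : g ∉ (hU.primeIdealOf ⟨x, hx⟩).asIdeal) :
    x ∈ X.basicOpen g := by
  rwa [← PrimeSpectrum.mem_basicOpen, IsAffineOpen.primeIdealOf,
    ← hU.fromSpec_preimage_basicOpen, Scheme.Hom.mem_preimage, ← Scheme.Hom.comp_apply,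
    IsAffineOpen.isoSpec_hom, IsAffineOpen.toSpecΓ_fromSpec] at hg

open KaehlerDifferential in
theorem smooth_effCartier_of_D_ne_zero {X S : Scheme.{u}} (f : X ⟶ S) (x : X)
    (W : X.Opens) (hxW : x ∈ W) (hW : Smooth (W.ι ≫ f))
    (h : ↑(X.presheaf.stalk x))
    (hd : letI := (f.stalkMap x).hom.toAlgebra
      (1 : IsLocalRing.ResidueField ↑(X.presheaf.stalk x)) ⊗ₜ[↑(X.presheaf.stalk x)]
          (KaehlerDifferential.D ↑(S.presheaf.stalk (f x)) ↑(X.presheaf.stalk x) h) ≠ 0) :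
    ∃ (U : X.Opens) (hU : IsAffineOpen U) (hx : x ∈ U) (h' : Γ(X, U)),
      X.presheaf.germ U x hx h' = h ∧ h' ∈ nonZeroDivisors Γ(X, U) ∧
      Smooth (Spec.map (CommRingCat.ofHom (Ideal.Quotient.mk (Ideal.span {h'}))) ≫
        hU.fromSpec ≫ f) := by
  obtain ⟨_, ⟨V, hV, rfl⟩, hsV, -⟩ :=
    S.isBasis_affineOpens.exists_subset_of_mem_open (Set.mem_univ (f x)) isOpen_univ
  have hV : IsAffineOpen V := hV
  obtain ⟨U₁, hxU₁, h₁, hh₁⟩ := TopCat.Presheaf.exists_germ_eq X.presheaf h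
  obtain ⟨_, ⟨U₀, hU₀, rfl⟩, hxU₀, hU₀le⟩ :=
    X.isBasis_affineOpens.exists_subset_of_mem_open
      (show x ∈ ((U₁ ⊓ W ⊓ f ⁻¹ᵁ V : X.Opens) : Set X) from ⟨⟨hxU₁, hxW⟩, hsV⟩)
      (U₁ ⊓ W ⊓ f ⁻¹ᵁ V).2
  have hU₀ : IsAffineOpen U₀ := hU₀
  have hU₀U₁ : U₀ ≤ U₁ := fun z hz => (hU₀le hz).1.1
  have hU₀W : U₀ ≤ W := fun z hz => (hU₀le hz).1.2
  have e₀ : U₀ ≤ f ⁻¹ᵁ V := fun z hz => (hU₀le hz).2
  let h₀ : Γ(X, U₀) := X.presheaf.map (homOfLE hU₀U₁).op h₁
  have hh₀ : X.presheaf.germ U₀ x hxU₀ h₀ = h := by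
    rw [TopCat.Presheaf.germ_res_apply]; exact hh₁
  have hsm : (f.appLE V U₀ e₀).hom.Smooth := smooth_appLE_of_le f W hW hU₀ hU₀W hV e₀
  letI algAB : Algebra Γ(S, V) Γ(X, U₀) := (f.appLE V U₀ e₀).hom.toAlgebra
  haveI : Algebra.Smooth Γ(S, V) Γ(X, U₀) := hsm
  let q : Ideal Γ(X, U₀) := (hU₀.primeIdealOf ⟨x, hxU₀⟩).asIdeal
  -- the local rings
  letI algBOx : Algebra Γ(X, U₀) (X.presheaf.stalk x) :=
    TopCat.Presheaf.algebra_section_stalk X.presheaf ⟨x, hxU₀⟩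
  haveI locOx : IsLocalization.AtPrime (X.presheaf.stalk x) q :=
    hU₀.isLocalization_stalk ⟨x, hxU₀⟩
  let L := Localization.AtPrime q
  let eL : L ≃ₐ[Γ(X, U₀)] X.presheaf.stalk x :=
    IsLocalization.algEquiv q.primeCompl L (X.presheaf.stalk x)
  letI algLOx : Algebra L (X.presheaf.stalk x) := (eL : L →+* X.presheaf.stalk x).toAlgebra
  letI algOsOx : Algebra (S.presheaf.stalk (f x)) (X.presheaf.stalk x) :=
    (f.stalkMap x).hom.toAlgebra
  letI algAOs : Algebra Γ(S, V) (S.presheaf.stalk (f x)) :=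
    (S.presheaf.germ V (f x) hsV).hom.toAlgebra
  letI algAOx : Algebra Γ(S, V) (X.presheaf.stalk x) :=
    ((X.presheaf.germ U₀ x hxU₀).hom.comp (f.appLE V U₀ e₀).hom).toAlgebra
  haveI : IsScalarTower Γ(S, V) Γ(X, U₀) (X.presheaf.stalk x) := .of_algebraMap_eq' rfl
  haveI : IsScalarTower Γ(X, U₀) L (X.presheaf.stalk x) :=
    .of_algebraMap_eq (fun b => (eL.commutes b).symm)
  haveI : IsScalarTower Γ(S, V) L (X.presheaf.stalk x) := .of_algebraMap_eq (fun a => by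
    rw [IsScalarTower.algebraMap_apply Γ(S, V) Γ(X, U₀) L,
      ← IsScalarTower.algebraMap_apply Γ(X, U₀) L (X.presheaf.stalk x),
      ← IsScalarTower.algebraMap_apply Γ(S, V) Γ(X, U₀) (X.presheaf.stalk x)])
  haveI : IsScalarTower Γ(S, V) (S.presheaf.stalk (f x)) (X.presheaf.stalk x) :=
    .of_algebraMap_eq (fun a => by
      show X.presheaf.germ U₀ x hxU₀ (f.appLE V U₀ e₀ a) =
        f.stalkMap x (S.presheaf.germ V (f x) hsV a)
      rw [Scheme.Hom.germ_stalkMap_apply, Scheme.Hom.appLE]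
      exact (TopCat.Presheaf.germ_res_apply X.presheaf (homOfLE e₀) x hxU₀ _))
  have hloc : ∀ r ∈ IsLocalRing.maximalIdeal L,
      algebraMap L (X.presheaf.stalk x) r ∈ IsLocalRing.maximalIdeal (X.presheaf.stalk x) := by
    intro r hr
    rw [IsLocalRing.mem_maximalIdeal, mem_nonunits_iff] at hr ⊢
    intro hu
    apply hr
    have : r = eL.symm (eL r) := (eL.symm_apply_apply r).symm
    rw [this]
    exact hu.map eL.symm
  have hD : (1 : q.ResidueField) ⊗ₜ[L] D Γ(S, V) L (algebraMap Γ(X, U₀) L h₀) ≠ 0 := by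
    apply Groth.Agent.Helper16.EtCoord.tmul_D_ne_zero_of_map (Os := S.presheaf.stalk (f x))
      (Ox := X.presheaf.stalk x) hloc
    rw [← IsScalarTower.algebraMap_apply Γ(X, U₀) L (X.presheaf.stalk x)]
    show (1 : IsLocalRing.ResidueField (X.presheaf.stalk x)) ⊗ₜ[X.presheaf.stalk x]
      D (S.presheaf.stalk (f x)) (X.presheaf.stalk x) (X.presheaf.germ U₀ x hxU₀ h₀) ≠ 0
    rw [hh₀]
    exact hd
  obtain ⟨g, hgq, hg⟩ := Groth.Agent.Helper16.EtCoord.exists_smooth_divisor q h₀ hD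
  have hxg : x ∈ X.basicOpen g := mem_basicOpen_of_notMem_primeIdealOf hU₀ x hxU₀ g hgq
  have hUg : IsAffineOpen (X.basicOpen g) := hU₀.basicOpen g
  have e₁ : X.basicOpen g ≤ f ⁻¹ᵁ V := (X.basicOpen_le g).trans e₀
  haveI locg : IsLocalization.Away g Γ(X, X.basicOpen g) := hU₀.isLocalization_basicOpen g
  letI algAB' : Algebra Γ(S, V) Γ(X, X.basicOpen g) := (f.appLE V (X.basicOpen g) e₁).hom.toAlgebra
  haveI : IsScalarTower Γ(S, V) Γ(X, U₀) Γ(X, X.basicOpen g) := .of_algebraMap_eq' (by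
    show (f.appLE V (X.basicOpen g) e₁).hom =
      (X.presheaf.map (homOfLE (X.basicOpen_le g)).op).hom.comp (f.appLE V U₀ e₀).hom
    rw [← CommRingCat.hom_comp, Scheme.Hom.appLE_map])
  obtain ⟨hnzd, hsmq⟩ := hg Γ(X, X.basicOpen g)
  refine ⟨X.basicOpen g, hUg, hxg, algebraMap Γ(X, U₀) Γ(X, X.basicOpen g) h₀, ?_, hnzd, ?_⟩
  · rw [← hh₀]
    exact TopCat.Presheaf.germ_res_apply X.presheaf (homOfLE (X.basicOpen_le g)) x hxg h₀
  · rw [← hV.SpecMap_appLE_fromSpec f hUg e₁, ← Category.assoc, ← Spec.map_comp]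
    haveI : Smooth (Spec.map (f.appLE V (X.basicOpen g) e₁ ≫ CommRingCat.ofHom
        (Ideal.Quotient.mk (Ideal.span
          {algebraMap Γ(X, U₀) Γ(X, X.basicOpen g) h₀})))) := by
      rw [HasRingHomProperty.Spec_iff (P := @Smooth)]
      exact hsmq
    infer_instance

open KaehlerDifferential in
theorem smooth_effCartier_of_ker_ne_bot {X S : Scheme.{u}} (f : X ⟶ S) (x : X)
    (W : X.Opens) (hxW : x ∈ W) (hW : Smooth (W.ι ≫ f))
    (hker : letI := (f.stalkMap x).hom.toAlgebra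
      letI := ((IsLocalRing.residue ↑(X.presheaf.stalk x)).comp (f.stalkMap x).hom).toAlgebra
      haveI : IsScalarTower ↑(S.presheaf.stalk (f x)) ↑(X.presheaf.stalk x)
          (IsLocalRing.ResidueField ↑(X.presheaf.stalk x)) :=
        IsScalarTower.of_algebraMap_eq (fun _ => rfl)
      LinearMap.ker (KaehlerDifferential.mapBaseChange ↑(S.presheaf.stalk (f x))
        ↑(X.presheaf.stalk x) (IsLocalRing.ResidueField ↑(X.presheaf.stalk x))) ≠ ⊥) :
    ∃ (U : X.Opens) (hU : IsAffineOpen U) (hx : x ∈ U) (h' : Γ(X, U)),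
      h' ∈ nonZeroDivisors Γ(X, U) ∧
      X.presheaf.germ U x hx h' ∈ IsLocalRing.maximalIdeal ↑(X.presheaf.stalk x) ∧
      Smooth (Spec.map (CommRingCat.ofHom (Ideal.Quotient.mk (Ideal.span {h'}))) ≫
        hU.fromSpec ≫ f) := by
  letI := (f.stalkMap x).hom.toAlgebra
  letI := ((IsLocalRing.residue ↑(X.presheaf.stalk x)).comp (f.stalkMap x).hom).toAlgebra
  haveI : IsScalarTower ↑(S.presheaf.stalk (f x)) ↑(X.presheaf.stalk x)
      (IsLocalRing.ResidueField ↑(X.presheaf.stalk x)) :=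
    IsScalarTower.of_algebraMap_eq (fun _ => rfl)
  obtain ⟨t, ht, ht0⟩ := (Submodule.ne_bot_iff _).mp hker
  have hsurj : Function.Surjective (algebraMap ↑(X.presheaf.stalk x)
      (IsLocalRing.ResidueField ↑(X.presheaf.stalk x))) := IsLocalRing.residue_surjective
  have hex := KaehlerDifferential.exact_kerCotangentToTensor_mapBaseChange
    ↑(S.presheaf.stalk (f x)) ↑(X.presheaf.stalk x)
    (IsLocalRing.ResidueField ↑(X.presheaf.stalk x)) hsurj
  obtain ⟨c, rfl⟩ := (hex t).mp ht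
  obtain ⟨⟨h, hh⟩, rfl⟩ := Ideal.toCotangent_surjective _ c
  rw [kerCotangentToTensor_toCotangent] at ht0
  have hm : h ∈ IsLocalRing.maximalIdeal ↑(X.presheaf.stalk x) := by
    rw [← IsLocalRing.residue_eq_zero_iff]
    exact hh
  obtain ⟨U, hU, hx, h', hgerm, hnzd, hsm⟩ :=
    smooth_effCartier_of_D_ne_zero f x W hxW hW h ht0
  exact ⟨U, hU, hx, h', hnzd, hgerm ▸ hm, hsm⟩

end Groth.Agent.Helper16.SmDiv
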