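import Mathlib
import Groth.Agent.Lib.Helper16.Sch.AffDict2
import Groth.Agent.Lib.Helper16.Alg.EtCoordS
import Groth.Agent.Lib.Helper16.Sch.SmDiv
import Groth.Agent.Lib.Helper16.Sch.SmoothLocusBC3

set_option autoImplicit false
set_option linter.style.haveILetI false
universe u
open CategoryTheory CategoryTheory.Limits AlgebraicGeometry Opposite TopologicalSpace MvPolynomial

noncomputable section

namespace Groth.Agent.Helper16.AffChart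

open Groth.Agent.Helper16.AffDict Groth.Agent.Helper16.SmoothLocusBC

theorem smooth_of_etale_chart {X Y : Scheme.{u}} (f : X ⟶ Y) [LocallyOfFinitePresentation f]
    (x : X) (U : Y.Opens) (V : X.Opens) (hxV : x ∈ V) (hVU : V ≤ f ⁻¹ᵁ U) (m : ℕ)
    (v : ULift.{u} (Fin m) → Γ(V, ⊤))
    (het : Etale (AffineSpace.homOfVector (f.resLE U V hVU) v)) : x ∈ f.smoothLocus := by
  apply (exists_smooth_nhd_iff f x).mp
  refine ⟨V, hxV, ?_⟩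
  rw [← Scheme.Hom.resLE_comp_ι f hVU]
  have : Smooth (f.resLE U V hVU) := by
    rw [← AffineSpace.homOfVector_over (f.resLE U V hVU) v]
    infer_instance
  infer_instance

/-- affine case set-up: affine opens `U₁ ∋ y`, `V₁ ∋ i y` with `i(U₁) ⊆ V₁ ⊆ f⁻¹ U₁`, `V₁ ≤ W`. -/
theorem exists_affine_pair {X Y : Scheme.{u}} (f : X ⟶ Y) (i : Y ⟶ X) (hi : i ≫ f = 𝟙 Y) (y : Y)
    (W : X.Opens) (hW : i.base y ∈ W) :
    ∃ (U₁ : Y.Opens) (V₁ : X.Opens), IsAffineOpen U₁ ∧ IsAffineOpen V₁ ∧ y ∈ U₁ ∧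
      U₁ ≤ i ⁻¹ᵁ V₁ ∧ V₁ ≤ f ⁻¹ᵁ U₁ ∧ V₁ ≤ W := by
  have hfi : ∀ z : Y, f.base (i.base z) = z := fun z => by
    rw [← Scheme.Hom.comp_apply, hi]; rfl
  obtain ⟨_, ⟨U₀, hU₀, rfl⟩, hyU₀, -⟩ :=
    Y.isBasis_affineOpens.exists_subset_of_mem_open (Set.mem_univ y) isOpen_univ
  have hU₀ : IsAffineOpen U₀ := hU₀
  obtain ⟨_, ⟨V₀, hV₀, rfl⟩, hxV₀, hV₀le⟩ :=
    X.isBasis_affineOpens.exists_subset_of_mem_open
      (show i.base y ∈ ((W ⊓ f ⁻¹ᵁ U₀ : X.Opens) : Set X) from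
        ⟨hW, by show f.base (i.base y) ∈ U₀; rw [hfi]; exact hyU₀⟩)
      (W ⊓ f ⁻¹ᵁ U₀).2
  have hV₀ : IsAffineOpen V₀ := hV₀
  have e₀ : V₀ ≤ f ⁻¹ᵁ U₀ := fun z hz => (hV₀le hz).2
  obtain ⟨a₀, hle, hya₀⟩ := hU₀.exists_basicOpen_le (V := i ⁻¹ᵁ V₀) ⟨y, hxV₀⟩ hyU₀
  have hya₀ : y ∈ Y.basicOpen a₀ := hya₀
  have hV₁ : X.basicOpen (f.appLE U₀ V₀ e₀ a₀) = V₀ ⊓ f ⁻¹ᵁ (Y.basicOpen a₀) := by
    rw [Scheme.Hom.appLE, CommRingCat.comp_apply, Scheme.basicOpen_res, Scheme.preimage_basicOpen]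
  refine ⟨Y.basicOpen a₀, X.basicOpen (f.appLE U₀ V₀ e₀ a₀), hU₀.basicOpen a₀, hV₀.basicOpen _,
    hya₀, ?_, ?_, ?_⟩
  · intro z hz
    rw [hV₁]
    refine ⟨hle hz, ?_⟩
    show f.base (i.base z) ∈ Y.basicOpen a₀
    rw [hfi]; exact hz
  · rw [hV₁]; exact inf_le_right
  · rw [hV₁]; exact fun z hz => (hV₀le hz.1).1

/-- affine case: a smooth morphism of affine schemes with a section admits an étale chart near
any point of the section, with coordinates vanishing on the section -/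
theorem exists_chart_affine {X₁ Y₁ : Scheme.{u}} [IsAffine X₁] [IsAffine Y₁] (f₁ : X₁ ⟶ Y₁)
    [Smooth f₁] (i₁ : Y₁ ⟶ X₁) (hi₁ : i₁ ≫ f₁ = 𝟙 Y₁) (x₁ : X₁) :
    ∃ (m : ℕ) (c : ULift.{u} (Fin m) → Γ(X₁, ⊤)) (W' : X₁.Opens), x₁ ∈ W' ∧
      (∀ j, i₁.appTop (c j) = 0) ∧ Etale (W'.ι ≫ AffineSpace.homOfVector f₁ c) := by
  letI : Algebra Γ(Y₁, ⊤) Γ(X₁, ⊤) := f₁.appTop.hom.toAlgebra
  haveI : Algebra.Smooth Γ(Y₁, ⊤) Γ(X₁, ⊤) := by
    have := (HasRingHomProperty.iff_of_isAffine (P := @Smooth) (f := f₁)).mp inferInstance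
    exact this
  have hρ : ∀ a, i₁.appTop.hom (algebraMap Γ(Y₁, ⊤) Γ(X₁, ⊤) a) = a := fun a => by
    show i₁.appTop.hom (f₁.appTop.hom a) = a
    have : f₁.appTop ≫ i₁.appTop = 𝟙 _ := by
      rw [← Scheme.Hom.comp_appTop, hi₁]; rfl
    exact congrArg (fun φ => φ.hom a) this
  let q : Ideal Γ(X₁, ⊤) := ((isAffineOpen_top X₁).primeIdealOf ⟨x₁, trivial⟩).asIdeal
  obtain ⟨m, c, hc, g, hg, H⟩ :=
    Groth.Agent.Helper16.EtCoord.exists_etale_coordinates_of_retraction i₁.appTop.hom hρ q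
  refine ⟨m, c, X₁.basicOpen g,
    Groth.Agent.Helper16.SmDiv.mem_basicOpen_of_notMem_primeIdealOf (isAffineOpen_top X₁) x₁ trivial
      g hg, hc, ?_⟩
  exact etale_basicOpen_ι_comp_homOfVector f₁ c g (H Γ(X₁.basicOpen g, ⊤))

theorem exists_chart {X Y : Scheme.{u}} (f : X ⟶ Y) [LocallyOfFinitePresentation f] (i : Y ⟶ X)
    (hi : i ≫ f = 𝟙 Y) (y : Y) (hx : i.base y ∈ f.smoothLocus) :
    ∃ (U : Y.Opens) (V : X.Opens) (_ : y ∈ U) (hUV : U ≤ i ⁻¹ᵁ V) (hVU : V ≤ f ⁻¹ᵁ U) (m : ℕ)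
      (v : ULift.{u} (Fin m) → Γ(V, ⊤)),
      Etale (AffineSpace.homOfVector (f.resLE U V hVU) v) ∧
        ∀ j, (i.resLE V U hUV).appTop (v j) = 0 := by
  have hfi : ∀ z : Y, f.base (i.base z) = z := fun z => by
    rw [← Scheme.Hom.comp_apply, hi]; rfl
  obtain ⟨W, hxW, hW⟩ := (exists_smooth_nhd_iff f (i.base y)).mpr hx
  obtain ⟨U₁, V₁, hU₁, hV₁, hyU₁, hUV₁, hVU₁, hV₁W⟩ := exists_affine_pair f i hi y W hxW
  haveI : IsAffine U₁.toScheme := hU₁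
  haveI : IsAffine V₁.toScheme := hV₁
  obtain ⟨f₁, hf₁⟩ : ∃ f₁, f₁ = f.resLE U₁ V₁ hVU₁ := ⟨_, rfl⟩
  obtain ⟨i₁, hi₁def⟩ : ∃ i₁, i₁ = i.resLE V₁ U₁ hUV₁ := ⟨_, rfl⟩
  have hi₁ : i₁ ≫ f₁ = 𝟙 _ := by
    rw [← cancel_mono U₁.ι, hf₁, hi₁def]
    simp [hi]
  haveI : Smooth f₁ := by
    rw [hf₁, HasRingHomProperty.iff_of_isAffine (P := @Smooth)]
    exact (RingHom.Smooth.respectsIso.arrow_mk_iso_iff (arrowResLEAppIso f U₁ V₁ hVU₁)).mpr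
      (Groth.Agent.Helper16.SmDiv.smooth_appLE_of_le f W hW hV₁ hV₁W hU₁ hVU₁)
  let x₁ : V₁.toScheme := ⟨i.base y, hUV₁ hyU₁⟩
  obtain ⟨m, c, W', hx₁W', hc, het⟩ := exists_chart_affine f₁ i₁ hi₁ x₁
  let WX : X.Opens := V₁.ι ''ᵁ W'
  have hWXV₁ : WX ≤ V₁ := by
    rintro _ ⟨z, -, rfl⟩
    exact z.2
  let U' : Y.Opens := U₁ ⊓ i ⁻¹ᵁ WX
  let V' : X.Opens := WX ⊓ f ⁻¹ᵁ U'
  have hyU' : y ∈ U' := ⟨hyU₁, ⟨x₁, hx₁W', rfl⟩⟩
  have hUV' : U' ≤ i ⁻¹ᵁ V' := fun z hz =>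
    ⟨hz.2, by show f.base (i.base z) ∈ U'; rw [hfi]; exact hz⟩
  have hVU' : V' ≤ f ⁻¹ᵁ U' := inf_le_right
  have hV'V₁ : V' ≤ V₁ := inf_le_left.trans hWXV₁
  have hU'U₁ : U' ≤ U₁ := inf_le_left
  refine ⟨U', V', hyU', hUV', hVU', m, fun j => (X.homOfLE hV'V₁).appTop (c j), ?_, ?_⟩
  · have key : AffineSpace.homOfVector (f.resLE U' V' hVU')
        (fun j => (X.homOfLE hV'V₁).appTop (c j)) ≫ AffineSpace.map _ (Y.homOfLE hU'U₁) =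
        X.homOfLE hV'V₁ ≫ AffineSpace.homOfVector f₁ c := by
      rw [homOfVector_comp_map, AffineSpace.comp_homOfVector, hf₁]
      congr 1
      simp
    have hrange : Set.range (X.homOfLE hV'V₁) ⊆ Set.range W'.ι := by
      rintro _ ⟨z, rfl⟩
      obtain ⟨w, hw, hwz⟩ := z.2.1
      have : w = X.homOfLE hV'V₁ z := by
        apply V₁.ι.injective
        have h2 : V₁.ι (X.homOfLE hV'V₁ z) = z.1 := by
          rw [← Scheme.Hom.comp_apply, Scheme.homOfLE_ι]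
          rfl
        rw [h2]
        exact hwz
      rw [← this]
      exact ⟨⟨w, hw⟩, rfl⟩
    let l := IsOpenImmersion.lift W'.ι (X.homOfLE hV'V₁) hrange
    have hl : l ≫ W'.ι = X.homOfLE hV'V₁ := IsOpenImmersion.lift_fac _ _ _
    haveI : IsOpenImmersion l := by
      have : IsOpenImmersion (l ≫ W'.ι) := by rw [hl]; infer_instance
      exact IsOpenImmersion.of_comp l W'.ι
    haveI : Etale (AffineSpace.homOfVector (f.resLE U' V' hVU')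
        (fun j => (X.homOfLE hV'V₁).appTop (c j)) ≫ AffineSpace.map _ (Y.homOfLE hU'U₁)) := by
      rw [key, ← hl, Category.assoc]
      infer_instance
    exact Etale.of_comp _ (AffineSpace.map _ (Y.homOfLE hU'U₁))
  · intro j
    show (i.resLE V' U' hUV').appTop ((X.homOfLE hV'V₁).appTop (c j)) = 0
    rw [← CommRingCat.comp_apply, ← Scheme.Hom.comp_appTop, Scheme.Hom.resLE_map,
      ← Scheme.Hom.map_resLE i hUV₁ hU'U₁, Scheme.Hom.comp_appTop, CommRingCat.comp_apply,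
      ← hi₁def, hc, map_zero]

end Groth.Agent.Helper16.AffChart
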