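import Mathlib
import Groth.Agent.Lib.Helper16.Sch.FTDim1

set_option autoImplicit false
set_option linter.style.haveILetI false
universe u
open CategoryTheory CategoryTheory.Limits AlgebraicGeometry Opposite TopologicalSpace Topology

noncomputable section

namespace Groth.Agent.Helper16.AffDiag

open Groth.Agent.Helper14 Groth.Agent.Helper16 Groth.Agent.Helper16.FTDim

variable {S : Scheme.{u}} (ι : Type u)

/-- the affine space. -/
abbrev P : Scheme.{u} := 𝔸(ι; S)
/-- its structure morphism. -/
abbrev qP : P (S := S) ι ⟶ S := 𝔸(ι; S) ↘ S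
/-- the product of two copies. -/
abbrev W : Scheme.{u} := pullback (qP (S := S) ι) (qP (S := S) ι)
/-- first projection -/
abbrev p₁ : W (S := S) ι ⟶ P (S := S) ι := pullback.fst _ _
/-- second projection -/
abbrev p₂ : W (S := S) ι ⟶ P (S := S) ι := pullback.snd _ _
/-- the diagonal -/
abbrev Δ : P (S := S) ι ⟶ W (S := S) ι := pullback.diagonal (qP (S := S) ι)

/-- the equations of the diagonal. -/
def g (i : ι) : Γ(W (S := S) ι, ⊤) :=
  (p₁ (S := S) ι).appTop (AffineSpace.coord S i) - (p₂ (S := S) ι).appTop (AffineSpace.coord S i)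

/-- global sections of the spectrum of a field vanish if they vanish at the point. -/
theorem appTop_eq_zero_of_notMem_basicOpen {X : Scheme.{u}} (K : CommRingCat.{u})
    (hK : IsField K) (a : Spec K ⟶ X) (s : Γ(X, ⊤))
    (h : ∀ t : Spec K, a t ∉ X.basicOpen s) : a.appTop s = 0 := by
  by_contra hne
  let e : Γ(Spec K, ⊤) ≃+* K := (Scheme.ΓSpecIso K).commRingCatIsoToRingEquiv
  have hunit : IsUnit (a.appTop s) := by
    have h1 : e (a.appTop s) ≠ 0 := by
      intro h0
      apply hne
      exact e.injective (h0.trans (map_zero e).symm)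
    have h2 : IsUnit (e (a.appTop s)) := by
      obtain ⟨b, hb⟩ := hK.mul_inv_cancel h1
      exact IsUnit.of_mul_eq_one b hb
    exact (isUnit_map_iff e _).mp h2
  have h3 := Scheme.basicOpen_of_isUnit (Spec K) hunit
  rw [← Scheme.preimage_basicOpen_top] at h3
  haveI : Nontrivial K := hK.nontrivial
  obtain ⟨t⟩ : Nonempty ↥(Spec K) := inferInstanceAs (Nonempty (PrimeSpectrum K))
  have : t ∈ a ⁻¹ᵁ X.basicOpen s := by rw [h3]; trivial
  exact h t this

theorem mem_range_diag (w : W (S := S) ι)
    (h : ∀ i, w ∉ (W (S := S) ι).basicOpen (g (S := S) ι i)) :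
    w ∈ Set.range (Δ (S := S) ι) := by
  let a : Spec ((W (S := S) ι).residueField w) ⟶ W (S := S) ι :=
    (W (S := S) ι).fromSpecResidueField w
  have ha : ∀ t, a t = w := fun t => Scheme.fromSpecResidueField_apply w t
  have h0 : ∀ i, a.appTop (g (S := S) ι i) = 0 := fun i =>
    appTop_eq_zero_of_notMem_basicOpen _ (Field.toIsField _) a _ (fun t => by rw [ha]; exact h i)
  have heq : a ≫ p₁ (S := S) ι = a ≫ p₂ (S := S) ι := by
    apply AffineSpace.hom_ext
    · rw [Category.assoc, Category.assoc, pullback.condition]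
    · intro i
      have := h0 i
      rw [g, map_sub, sub_eq_zero] at this
      rw [Scheme.Hom.comp_appTop, Scheme.Hom.comp_appTop]
      exact this
  have hfac : a = (a ≫ p₁ (S := S) ι) ≫ Δ (S := S) ι := by
    apply pullback.hom_ext
    · rw [Category.assoc, pullback.diagonal_fst, Category.comp_id]
    · rw [Category.assoc, pullback.diagonal_snd, Category.comp_id]
      exact heq.symm
  have t : Spec ((W (S := S) ι).residueField w) := default
  refine ⟨(a ≫ p₁ (S := S) ι) t, ?_⟩
  rw [← Scheme.Hom.comp_apply, ← hfac, ha]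

theorem diag_notMem_basicOpen (x : P (S := S) ι) (i : ι) :
    Δ (S := S) ι x ∉ (W (S := S) ι).basicOpen (g (S := S) ι i) := by
  intro hmem
  have h1 : x ∈ (Δ (S := S) ι) ⁻¹ᵁ (W (S := S) ι).basicOpen (g (S := S) ι i) := hmem
  rw [Scheme.preimage_basicOpen_top] at h1
  have h2 : (Δ (S := S) ι).appTop (g (S := S) ι i) = 0 := by
    have e1 : (Δ (S := S) ι).appTop ((p₁ (S := S) ι).appTop (AffineSpace.coord S i)) =
        (Δ (S := S) ι ≫ p₁ (S := S) ι).appTop (AffineSpace.coord S i) := by
      rw [Scheme.Hom.comp_appTop]; rfl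
    have e2 : (Δ (S := S) ι).appTop ((p₂ (S := S) ι).appTop (AffineSpace.coord S i)) =
        (Δ (S := S) ι ≫ p₂ (S := S) ι).appTop (AffineSpace.coord S i) := by
      rw [Scheme.Hom.comp_appTop]; rfl
    rw [g, map_sub, e1, e2, pullback.diagonal_fst, pullback.diagonal_snd]
    exact sub_self _
  rw [h2, Scheme.basicOpen_zero] at h1
  exact h1

section td

variable {X Y : Scheme.{u}}

theorem td_id (x : X) : td (𝟙 X) x = 0 := by
  have h := td_comp (𝟙 X) (𝟙 X) x
  rw [Category.comp_id] at h
  have h2 : (𝟙 X : X ⟶ X) x = x := rfl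
  rw [h2] at h
  omega

/-- a section of a morphism locally of finite type induces trivial residue field extensions. -/
theorem td_of_section (i : X ⟶ Y) (π : Y ⟶ X) (h : i ≫ π = 𝟙 X) [LocallyOfFiniteType π]
    (x : X) : ∃ _ : LocallyOfFiniteType i, td i x = 0 := by
  haveI : LocallyOfFiniteType (i ≫ π) := by rw [h]; infer_instance
  haveI : LocallyOfFiniteType i := locallyOfFiniteType_of_comp i π
  refine ⟨inferInstance, ?_⟩
  have h1 := td_comp i π x
  have h2 : td (i ≫ π) x = 0 := by
    have : ∀ (m : X ⟶ X), m = 𝟙 X → td m x = 0 := by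
      rintro m rfl
      exact td_id x
    exact this _ h
  omega

end td

end Groth.Agent.Helper16.AffDiag
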