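import Mathlib

set_option autoImplicit false
universe u
open AlgebraicGeometry CategoryTheory Limits

namespace Groth.Agent.Helper16.AffFin

/-- prime avoidance: finitely many points of an open of `Spec B` lie in a basic open inside it -/
theorem exists_basicOpen_of_finset (B : CommRingCat.{u}) (W : (Spec B).Opens)
    (P : Finset (Spec B)) (hP : ∀ x ∈ P, x ∈ W) :
    ∃ g : B, (∀ x ∈ P, x ∈ PrimeSpectrum.basicOpen g) ∧
      ∀ x : Spec B, x ∈ PrimeSpectrum.basicOpen g → x ∈ W := by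
  classical
  obtain ⟨I, hI⟩ := (PrimeSpectrum.isClosed_iff_zeroLocus_ideal _).mp W.2.isClosed_compl
  have hI' : ∀ x : Spec B, x ∉ W ↔ x ∈ PrimeSpectrum.zeroLocus (I : Set B) := fun x => by
    rw [← hI]; rfl
  have hnot : ¬ ((I : Set B) ⊆ ⋃ i ∈ ((P.image (fun x : Spec B => x.asIdeal) : Finset (Ideal B)) :
      Set (Ideal B)), (i : Set B)) := by
    rw [Ideal.subset_union_prime (f := fun i : Ideal B => i) ⊤ ⊤]
    · rintro ⟨i, hi, hle⟩
      obtain ⟨x, hx, rfl⟩ := Finset.mem_image.mp hi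
      have : x ∉ W := (hI' x).mpr ((PrimeSpectrum.mem_zeroLocus _ _).mpr hle)
      exact this (hP x hx)
    · intro i hi _ _
      obtain ⟨x, -, rfl⟩ := Finset.mem_image.mp hi
      exact x.2
  rw [Set.not_subset] at hnot
  obtain ⟨g, hgI, hg⟩ := hnot
  refine ⟨g, ?_, ?_⟩
  · intro x hx hgx
    apply hg
    simp only [Finset.coe_image, Set.mem_image, Finset.mem_coe, Set.iUnion_exists, Set.biUnion_and',
      Set.iUnion_iUnion_eq_right, Set.mem_iUnion, SetLike.mem_coe, exists_prop]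
    exact ⟨x, hx, hgx⟩
  · intro x hx
    by_contra hxW
    have := (PrimeSpectrum.mem_zeroLocus _ _).mp ((hI' x).mp hxW)
    exact hx (this hgI)

theorem exists_affineOpen_of_finset {X Y : Scheme.{u}} (f : X ⟶ Y) [IsAffine Y] [IsSeparated f]
    [LocallyQuasiFinite f] [LocallyOfFiniteType f] (T : Finset ↑X) :
    ∃ U : X.Opens, IsAffineOpen U ∧ ∀ x ∈ T, x ∈ U := by
  classical
  -- a quasi-compact open containing `T`
  have hcov : ∀ x : X, ∃ V : X.Opens, IsAffineOpen V ∧ x ∈ V := by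
    intro x
    obtain ⟨_, ⟨V, hV, rfl⟩, hxV, -⟩ := X.isBasis_affineOpens.exists_subset_of_mem_open
      (Set.mem_univ x) isOpen_univ
    exact ⟨V, hV, hxV⟩
  choose V hV hxV using hcov
  obtain ⟨X₀, hX₀⟩ : ∃ X₀ : X.Opens, X₀ = T.sup V := ⟨_, rfl⟩
  have hTX₀ : ∀ x ∈ T, x ∈ X₀ := fun x hx => by
    rw [hX₀]; exact (Finset.le_sup (f := V) hx) (hxV x)
  have hcomp : IsCompact (X₀ : Set X) := by
    have : (X₀ : Set X) = ⋃ x ∈ T, (V x : Set X) := by
      ext y
      simp [hX₀, Finset.sup_eq_iSup]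
    rw [this]
    exact T.isCompact_biUnion fun x _ => (hV x).isCompact
  haveI : CompactSpace ↥X₀ := isCompact_iff_compactSpace.mp hcomp
  haveI : CompactSpace ↥X₀.toScheme := ‹CompactSpace ↥X₀›
  obtain ⟨f₀, hf₀⟩ : ∃ f₀ : X₀.toScheme ⟶ Y, f₀ = X₀.ι ≫ f := ⟨_, rfl⟩
  haveI : QuasiCompact f₀ := inferInstance
  haveI : IsSeparated f₀ := by rw [hf₀]; infer_instance
  haveI : LocallyQuasiFinite f₀ := by rw [hf₀]; infer_instance
  haveI : LocallyOfFiniteType f₀ := by rw [hf₀]; infer_instance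
  haveI : IsOpenImmersion f₀.toNormalization := inferInstance
  haveI : IsAffine f₀.normalization := isAffine_of_isAffineHom f₀.fromNormalization
  obtain ⟨k, hk⟩ : ∃ k : X₀.toScheme ⟶ Spec Γ(f₀.normalization, ⊤),
      k = f₀.toNormalization ≫ f₀.normalization.isoSpec.hom := ⟨_, rfl⟩
  haveI : IsOpenImmersion k := by rw [hk]; infer_instance
  let P : Finset (Spec Γ(f₀.normalization, ⊤)) :=
    T.attach.image (fun x => k ⟨x.1, hTX₀ x.1 x.2⟩)
  obtain ⟨g, hgP, hgW⟩ := exists_basicOpen_of_finset _ k.opensRange P (by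
    intro y hy
    obtain ⟨x, -, rfl⟩ := Finset.mem_image.mp hy
    exact ⟨_, rfl⟩)
  obtain ⟨D, hD⟩ : ∃ D : (Spec Γ(f₀.normalization, ⊤)).Opens, D = PrimeSpectrum.basicOpen g :=
    ⟨_, rfl⟩
  have hDaff : IsAffineOpen D := by
    have := (isAffineOpen_top (Spec Γ(f₀.normalization, ⊤))).basicOpen
      ((Scheme.ΓSpecIso _).inv g)
    rw [hD]
    convert this using 1
    exact (basicOpen_eq_of_affine g).symm
  have hDW : D ≤ k.opensRange := fun x hx => hgW x (by rw [hD] at hx; exact hx)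
  have hU₀ : IsAffineOpen (k ⁻¹ᵁ D) := by
    rw [← Scheme.Hom.isAffineOpen_iff_of_isOpenImmersion k]
    have : k ''ᵁ (k ⁻¹ᵁ D) = D := by
      rw [Scheme.Hom.image_preimage_eq_opensRange_inf]
      exact inf_eq_right.mpr hDW
    rw [this]
    exact hDaff
  refine ⟨X₀.ι ''ᵁ (k ⁻¹ᵁ D), hU₀.image_of_isOpenImmersion X₀.ι, ?_⟩
  intro x hx
  refine ⟨⟨x, hTX₀ x hx⟩, ?_, rfl⟩
  show k ⟨x, hTX₀ x hx⟩ ∈ D
  rw [hD]
  exact hgP _ (Finset.mem_image.mpr ⟨⟨x, hx⟩, Finset.mem_attach _ _, rfl⟩)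

end Groth.Agent.Helper16.AffFin
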