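import Mathlib
import Groth.Prelude
import Groth.Agent.Lib.Helper15.ProjSpaceProper

set_option autoImplicit false
universe u
open CategoryTheory CategoryTheory.Limits AlgebraicGeometry TopologicalSpace

namespace Groth.Agent.Helper16.ArVH

section top
variable {T : Type*} [TopologicalSpace T]

theorem not_chain3 (h : topologicalKrullDim T = 2) (A B C E : Set T)
    (hA : IsIrreducible A) (hAc : IsClosed A) (hB : IsIrreducible B) (hBc : IsClosed B)
    (hC : IsIrreducible C) (hCc : IsClosed C) (hE : IsIrreducible E) (hEc : IsClosed E)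
    (h1 : A ⊂ B) (h2 : B ⊂ C) (h3 : C ⊂ E) : False := by
  let a : IrreducibleCloseds T := ⟨A, hA, hAc⟩
  let b : IrreducibleCloseds T := ⟨B, hB, hBc⟩
  let c : IrreducibleCloseds T := ⟨C, hC, hCc⟩
  let e : IrreducibleCloseds T := ⟨E, hE, hEc⟩
  have hab : a < b := h1
  have hbc : b < c := h2
  have hce : c < e := h3
  have k1 := Order.height_add_one_le hab
  have k2 := Order.height_add_one_le hbc
  have k3 := Order.height_add_one_le hce
  have k4 : (Order.height e : WithBot ℕ∞) ≤ topologicalKrullDim T := Order.height_le_krullDim e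
  have k5 : (3 : ℕ∞) ≤ Order.height e := by
    calc (3 : ℕ∞) = 0 + 1 + 1 + 1 := by norm_num
      _ ≤ Order.height a + 1 + 1 + 1 := by gcongr; simp
      _ ≤ Order.height b + 1 + 1 := by gcongr
      _ ≤ Order.height c + 1 := by gcongr
      _ ≤ Order.height e := k3
  rw [h] at k4
  have : ((3 : ℕ∞) : WithBot ℕ∞) ≤ 2 := le_trans (WithBot.coe_le_coe.mpr k5) k4
  have h32 : ((3 : ℕ∞) : WithBot ℕ∞) ≤ ((2 : ℕ∞) : WithBot ℕ∞) := this
  rw [WithBot.coe_le_coe] at h32
  exact absurd h32 (by decide)

theorem closure_ssubset [T0Space T] {x y : T} (hxy : x ⤳ y) (hne : y ≠ x) :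
    closure ({y} : Set T) ⊂ closure {x} := by
  refine ⟨?_, ?_⟩
  · exact closure_minimal (Set.singleton_subset_iff.mpr (specializes_iff_mem_closure.mp hxy))
      isClosed_closure
  · intro hle
    apply hne
    have hyx : y ⤳ x := by
      rw [specializes_iff_mem_closure]
      exact hle (subset_closure rfl)
    exact (hyx.antisymm hxy).eq

theorem exists_closure_ne [T0Space T] (D : Set T) (hD : topologicalKrullDim D = 1) (ξ : T)
    (hξ : closure {ξ} = D) : ∃ d : T, ξ ⤳ d ∧ d ≠ ξ := by
  by_contra hcon
  push_neg at hcon
  have hsub : Subsingleton D := by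
    constructor
    rintro ⟨a, ha⟩ ⟨b, hb⟩
    have h1 : a = ξ := hcon a (by rw [specializes_iff_mem_closure, hξ]; exact ha)
    have h2 : b = ξ := hcon b (by rw [specializes_iff_mem_closure, hξ]; exact hb)
    exact Subtype.ext (h1.trans h2.symm)
  have hsub' : Subsingleton (IrreducibleCloseds D) := by
    constructor
    intro a b
    apply IrreducibleCloseds.ext
    ext x
    obtain ⟨y, hy⟩ := a.isIrreducible.nonempty
    obtain ⟨y', hy'⟩ := b.isIrreducible.nonempty
    rw [Subsingleton.elim x y]
    constructor
    · intro _; rw [Subsingleton.elim y y']; exact hy'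
    · intro _; exact hy
  have : topologicalKrullDim D ≤ 0 := Order.krullDim_nonpos_of_subsingleton
  rw [hD] at this
  exact absurd this (by decide)

end top

theorem main {R : Type u} [CommRing R] [IsDedekindDomain R]
    (hR : ¬ IsField R) (X : Over (Spec (CommRingCat.of R))) [IsIntegral X.left]
    (hdim : topologicalKrullDim X.left = 2) [Flat X.hom] (hproj : Neron.IsProjectiveOver R X)
    (D : Set X.left) (hD : IsClosed D) (hirr : IsIrreducible D) (hD1 : topologicalKrullDim D = 1) :
    (∃ s : (Spec (CommRingCat.of R) : Scheme.{u}), s.asIdeal.IsMaximal ∧ D ⊆ X.hom.base ⁻¹' {s} ∧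
        ∀ D' : Set X.left, IsIrreducible D' → D' ⊆ X.hom.base ⁻¹' {s} → D ⊆ D' → D' = D) ∨
      (∃ x : X.left, (X.hom.base x).asIdeal = ⊥ ∧
        (∀ z : X.left, (X.hom.base z).asIdeal = ⊥ → x ⤳ z → z = x) ∧ D = closure {x}) := by
  haveI : IsProper X.hom := by
    obtain ⟨n, i, hi, hi2⟩ := hproj
    rw [← hi2]
    infer_instance
  obtain ⟨ξ, hξ⟩ := QuasiSober.sober hirr hD
  have hξD : closure ({ξ} : Set X.left) = D := hξ.def
  have huniv_irr : IsIrreducible (Set.univ : Set X.left) := IrreducibleSpace.isIrreducible_univ _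
  by_cases hs : (X.hom.base ξ).asIdeal = ⊥
  · right
    refine ⟨ξ, hs, ?_, hξD.symm⟩
    intro z hz hξz
    by_contra hne
    -- D ≠ univ
    have hDne : D ≠ Set.univ := by
      intro hDu
      have : topologicalKrullDim D = topologicalKrullDim X.left := by
        rw [hDu]
        exact IsHomeomorph.topologicalKrullDim_eq _ (Homeomorph.Set.univ X.left).isHomeomorph
      rw [hD1, hdim] at this
      exact absurd this (by decide)
    have hzc : IsClosed ({z} : Set X.left) := by
      by_contra hzc
      have : ∃ z' : X.left, z ⤳ z' ∧ z' ≠ z := by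
        by_contra hcon
        push_neg at hcon
        apply hzc
        have : closure ({z} : Set X.left) = {z} := by
          ext w
          rw [Set.mem_singleton_iff, ← specializes_iff_mem_closure]
          exact ⟨fun h => hcon w h, fun h => h ▸ specializes_rfl⟩
        rw [← this]; exact isClosed_closure
      obtain ⟨z', hz', hne'⟩ := this
      exact not_chain3 hdim (closure {z'}) (closure {z}) D Set.univ
        isIrreducible_singleton.closure isClosed_closure
        isIrreducible_singleton.closure isClosed_closure hirr hD huniv_irr isClosed_univ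
        (closure_ssubset hz' hne') (hξD ▸ closure_ssubset hξz hne)
        ⟨Set.subset_univ _, fun h => hDne (Set.eq_univ_of_univ_subset h)⟩
    have hcl : IsClosed (X.hom.base '' {z}) := X.hom.isClosedMap _ hzc
    rw [Set.image_singleton] at hcl
    have hcl' := (PrimeSpectrum.isClosed_singleton_iff_isMaximal (X.hom.base z)).mp hcl
    rw [hz] at hcl'
    exact hR (Ring.isField_iff_maximal_bot.mpr hcl')
  · left
    have hmax : (X.hom.base ξ).asIdeal.IsMaximal := (X.hom.base ξ).isPrime.isMaximal hs
    have hsc : IsClosed ({X.hom.base ξ} : Set (Spec (CommRingCat.of R))) :=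
      (PrimeSpectrum.isClosed_singleton_iff_isMaximal _).mpr hmax
    have hfc : IsClosed (X.hom.base ⁻¹' {X.hom.base ξ}) := hsc.preimage X.hom.continuous
    refine ⟨X.hom.base ξ, hmax, ?_, ?_⟩
    · rw [← hξD]
      exact closure_minimal (Set.singleton_subset_iff.mpr rfl) hfc
    · intro D' hD'irr hD'sub hDD'
      apply Set.Subset.antisymm _ hDD'
      by_contra hnot
      have hlt : D ⊂ closure D' := ⟨hDD'.trans subset_closure, fun h => hnot (subset_closure.trans h)⟩
      have hcl_sub : closure D' ⊆ X.hom.base ⁻¹' {X.hom.base ξ} := closure_minimal hD'sub hfc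
      -- a point mapping to the generic point
      have hgen : ∃ x0 : X.left, X.hom.base x0 ≠ X.hom.base ξ := by
        have hη : (genericPoint (Spec (CommRingCat.of R))) ⤳ X.hom.base ξ :=
          (genericPoint_spec _).specializes (Set.mem_univ _)
        obtain ⟨x0, -, hx0⟩ := (Flat.generalizingMap X.hom) hη
        refine ⟨x0, ?_⟩
        rw [hx0]
        intro h
        rw [← h] at hsc
        have h1 : closure ({genericPoint (Spec (CommRingCat.of R))} : Set (Spec (CommRingCat.of R)))
            = Set.univ := (genericPoint_spec _).def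
        rw [hsc.closure_eq] at h1
        -- every point equals generic point, so bot is generic and equals it
        let b : (Spec (CommRingCat.of R) : Scheme.{u}) := (⟨⊥, Ideal.isPrime_bot⟩ : PrimeSpectrum R)
        have h2 : b ∈ (Set.univ : Set (Spec (CommRingCat.of R))) := Set.mem_univ _
        rw [← h1, Set.mem_singleton_iff] at h2
        apply hs
        rw [← h, ← h2]
      obtain ⟨x0, hx0⟩ := hgen
      obtain ⟨d, hd, hdne⟩ := exists_closure_ne D hD1 ξ hξD
      exact not_chain3 hdim (closure {d}) D (closure D') Set.univ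
        isIrreducible_singleton.closure isClosed_closure hirr hD hD'irr.closure isClosed_closure
        huniv_irr isClosed_univ (hξD ▸ closure_ssubset hd hdne) hlt
        ⟨Set.subset_univ _, fun h => hx0 (hcl_sub (h (Set.mem_univ x0)))⟩

end Groth.Agent.Helper16.ArVH
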