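import Mathlib
import Groth.Agent.Lib.Helper16.Alg.EquiSk3
import Groth.Agent.Lib.Helper13.QCohLoc
import Groth.Agent.Lib.Helper13.LocFree
import Groth.Agent.Lib.Helper14.DimFun
import Groth.Agent.Lib.Helper14.ResFieldBridge

/-!
# Equidimensional stalks with `(S_k)` on a locally Noetherian scheme with a dimension function
(helper16)
-/

set_option autoImplicit false
set_option linter.style.haveILetI false
set_option linter.unusedSectionVars false
universe u

open AlgebraicGeometry CategoryTheory Limits IsLocalRing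

namespace Groth.Agent.Helper16.EquiSk

open Groth.Agent.Helper13.QCohLoc Groth.Agent.Helper14

variable {W : Scheme.{u}} (G : W.Modules) [G.IsQuasicoherent]
  {V : W.Opens} (hV : IsAffineOpen V)

include hV in
/-- the invariants and properties of a stalk of a quasi-coherent module in an affine chart. -/
theorem stalk_transfer [IsNoetherianRing Γ(W, V)] [Module.Finite Γ(W, V) Γ(G, V)] (x : V)
    (k : ℕ) :
    (Module.supportDim (W.presheaf.stalk (x : W)) (G.presheaf.stalk (x : W)) =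
        ldim Γ(G, V) (hV.primeIdealOf x) ∧
      LocCoh.depth (W.presheaf.stalk (x : W)) (G.presheaf.stalk (x : W)) =
        ldepth Γ(G, V) (hV.primeIdealOf x)) ∧
    (LocCoh.HasSk k (W.presheaf.stalk (x : W)) (G.presheaf.stalk (x : W)) ↔
      EGA4.HasSkAt k Γ(W, V) Γ(G, V) (hV.primeIdealOf x).asIdeal) ∧
    (EGA4.IsEquidimModule (W.presheaf.stalk (x : W)) (G.presheaf.stalk (x : W)) ↔
      EGA4.IsEquidimModule (Localization.AtPrime (hV.primeIdealOf x).asIdeal)
        (LocalizedModule (hV.primeIdealOf x).asIdeal.primeCompl Γ(G, V))) := by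
  haveI h4 : IsLocalization.AtPrime (W.presheaf.stalk (x : W))
      (hV.primeIdealOf x).asIdeal := hV.isLocalization_stalk x
  letI modN : Module Γ(W, V) (G.presheaf.stalk (x : W)) := modStalk G x
  haveI : IsScalarTower Γ(W, V) (W.presheaf.stalk (x : W)) (G.presheaf.stalk (x : W)) :=
    isScalarTower_stalk G x
  haveI := isLocalizedModule_germ G hV x
  exact loc_transfer (hV.primeIdealOf x).asIdeal (germLin G x) k

include hV in
theorem mem_support_iff_nontrivial_stalk [IsNoetherianRing Γ(W, V)]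
    [Module.Finite Γ(W, V) Γ(G, V)] (x : V) :
    hV.primeIdealOf x ∈ Module.support Γ(W, V) Γ(G, V) ↔
      Nontrivial (G.presheaf.stalk (x : W)) := by
  obtain ⟨⟨h1, -⟩, -, -⟩ := stalk_transfer G hV x 0
  rw [Module.mem_support_iff, ← Module.supportDim_ne_bot_iff_nontrivial
    (R := Localization.AtPrime (hV.primeIdealOf x).asIdeal),
    ← Module.supportDim_ne_bot_iff_nontrivial (R := W.presheaf.stalk (x : W)), h1]
  rfl

omit [G.IsQuasicoherent] in
/-- **Equidimensional stalks with `(S_k)`**, `k ≥ 1`, of a coherent module on a locally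
Noetherian scheme with a dimension function: pointwise numerical characterization. -/
theorem equidim_sk_stalk_iff [G.IsQuasicoherent] [IsLocallyNoetherian W] (τ : W → ℕ)
    (hτ : Cyc.IsDimFun W (fun w => (τ w : ℤ)))
    (hfin : ∀ V : W.Opens, IsAffineOpen V → Module.Finite Γ(W, V) Γ(G, V))
    (k : ℕ) (hk : 1 ≤ k) (w : W) :
    (EGA4.IsEquidimModule (W.presheaf.stalk w) (G.presheaf.stalk w) ∧
      LocCoh.HasSk k (W.presheaf.stalk w) (G.presheaf.stalk w)) ↔
    ∀ v : W, v ⤳ w → Nontrivial (G.presheaf.stalk v) →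
      min ((k : WithBot ℕ∞) + (τ v : WithBot ℕ∞))
          (Module.supportDim (W.presheaf.stalk w) (G.presheaf.stalk w) + (τ w : WithBot ℕ∞)) ≤
        ((LocCoh.depth (W.presheaf.stalk v) (G.presheaf.stalk v) : ℕ∞) : WithBot ℕ∞) +
          (τ v : WithBot ℕ∞) := by
  obtain ⟨V, hV, hwV, -⟩ := exists_isAffineOpen_mem_and_subset (x := w)
    (U := (⊤ : W.Opens)) trivial
  haveI : IsNoetherianRing Γ(W, V) := IsLocallyNoetherian.component_noetherian ⟨V, hV⟩
  haveI := hfin V hV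
  let τC : PrimeSpectrum Γ(W, V) → ℕ := fun P => τ (hV.fromSpec P)
  have hτC : ∀ P₁ P₂ : PrimeSpectrum Γ(W, V), P₁ ⋖ P₂ → τC P₁ = τC P₂ + 1 := by
    intro P₁ P₂ h
    have := DimFun.delta_fromSpec_covBy _ hτ hV P₁ P₂ h
    exact_mod_cast this
  have hτx : ∀ x : V, τC (hV.primeIdealOf x) = τ (x : W) := fun x =>
    congrArg τ (hV.fromSpec_primeIdealOf x)
  obtain ⟨⟨hw1, hw2⟩, hwS, hwE⟩ := stalk_transfer G hV ⟨w, hwV⟩ k
  rw [hwE, hwS, equidim_sk_iff τC hτC Γ(G, V) k hk (hV.primeIdealOf ⟨w, hwV⟩), hw1]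
  have hspec : ∀ (v : W) (hvV : v ∈ V), v ⤳ w ↔
      hV.primeIdealOf ⟨v, hvV⟩ ≤ hV.primeIdealOf ⟨w, hwV⟩ := by
    intro v hvV
    rw [← ResFieldBridge.specializes_fromSpec_iff hV, hV.fromSpec_primeIdealOf ⟨v, hvV⟩,
      hV.fromSpec_primeIdealOf ⟨w, hwV⟩]
  constructor
  · intro H v hvw hnt
    have hvV : v ∈ V := hvw.mem_open V.isOpen hwV
    obtain ⟨⟨-, hv2⟩, -, -⟩ := stalk_transfer G hV ⟨v, hvV⟩ k
    have h := H (hV.primeIdealOf ⟨v, hvV⟩) ((hspec v hvV).mp hvw)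
      ((mem_support_iff_nontrivial_stalk G hV ⟨v, hvV⟩).mpr hnt)
    rw [hτx ⟨v, hvV⟩, hτx ⟨w, hwV⟩, ← hv2] at h
    exact h
  · intro H q hq hqsupp
    have hvV : hV.fromSpec q ∈ V := ResFieldBridge.fromSpec_mem hV q
    have hqv : hV.primeIdealOf ⟨hV.fromSpec q, hvV⟩ = q := ResFieldBridge.primeIdealOf_fromSpec hV q
    obtain ⟨⟨-, hv2⟩, -, -⟩ := stalk_transfer G hV ⟨hV.fromSpec q, hvV⟩ k
    have hvw : hV.fromSpec q ⤳ w := by
      rw [hspec _ hvV, hqv]
      exact hq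
    have hnt : Nontrivial (G.presheaf.stalk (hV.fromSpec q)) := by
      rw [← mem_support_iff_nontrivial_stalk G hV ⟨hV.fromSpec q, hvV⟩, hqv]
      exact hqsupp
    have h := H (hV.fromSpec q) hvw hnt
    rw [hv2, hqv] at h
    rw [hτx ⟨w, hwV⟩]
    exact h

omit [G.IsQuasicoherent] in
/-- **The dimension of a stalk** of a coherent module on a locally Noetherian scheme with a
dimension function. -/
theorem supportDim_stalk_formula [G.IsQuasicoherent] [IsLocallyNoetherian W] (τ : W → ℕ)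
    (hτ : Cyc.IsDimFun W (fun w => (τ w : ℤ)))
    (hfin : ∀ V : W.Opens, IsAffineOpen V → Module.Finite Γ(W, V) Γ(G, V)) (w : W) :
    (∀ v : W, v ⤳ w → Nontrivial (G.presheaf.stalk v) →
      (τ v : WithBot ℕ∞) ≤
        Module.supportDim (W.presheaf.stalk w) (G.presheaf.stalk w) + (τ w : WithBot ℕ∞)) ∧
    (Nontrivial (G.presheaf.stalk w) → ∃ v : W, v ⤳ w ∧ Nontrivial (G.presheaf.stalk v) ∧
      Module.supportDim (W.presheaf.stalk w) (G.presheaf.stalk w) + (τ w : WithBot ℕ∞) =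
        (τ v : WithBot ℕ∞)) := by
  obtain ⟨V, hV, hwV, -⟩ := exists_isAffineOpen_mem_and_subset (x := w)
    (U := (⊤ : W.Opens)) trivial
  haveI : IsNoetherianRing Γ(W, V) := IsLocallyNoetherian.component_noetherian ⟨V, hV⟩
  haveI := hfin V hV
  let τC : PrimeSpectrum Γ(W, V) → ℕ := fun P => τ (hV.fromSpec P)
  have hτC : ∀ P₁ P₂ : PrimeSpectrum Γ(W, V), P₁ ⋖ P₂ → τC P₁ = τC P₂ + 1 := by
    intro P₁ P₂ h
    have := DimFun.delta_fromSpec_covBy _ hτ hV P₁ P₂ h
    exact_mod_cast this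
  have hτx : ∀ (v : W) (hv : v ∈ V), τC (hV.primeIdealOf ⟨v, hv⟩) = τ v := fun v hv =>
    congrArg τ (hV.fromSpec_primeIdealOf ⟨v, hv⟩)
  obtain ⟨⟨hw1, -⟩, -, -⟩ := stalk_transfer G hV ⟨w, hwV⟩ 0
  have hspec : ∀ (v : W) (hvV : v ∈ V), v ⤳ w ↔
      hV.primeIdealOf ⟨v, hvV⟩ ≤ hV.primeIdealOf ⟨w, hwV⟩ := by
    intro v hvV
    rw [← ResFieldBridge.specializes_fromSpec_iff hV, hV.fromSpec_primeIdealOf ⟨v, hvV⟩,
      hV.fromSpec_primeIdealOf ⟨w, hwV⟩]
  rw [hw1]
  constructor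
  · intro v hvw hnt
    have hvV : v ∈ V := hvw.mem_open V.isOpen hwV
    have hle := (hspec v hvV).mp hvw
    have h := le_ldim' τC hτC Γ(G, V) (hV.primeIdealOf ⟨v, hvV⟩) (hV.primeIdealOf ⟨w, hwV⟩)
      ((mem_support_iff_nontrivial_stalk G hV ⟨v, hvV⟩).mpr hnt) hle
    have h2 := tau_anti τC hτC hle
    rw [hτx v hvV, hτx w hwV] at h h2
    have h3 : (τ v : WithBot ℕ∞) = ((τ v - τ w : ℕ) : WithBot ℕ∞) + (τ w : WithBot ℕ∞) := by
      have : τ v = τ v - τ w + τ w := by omega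
      exact_mod_cast this
    rw [h3]
    exact add_le_add_left h _
  · intro hnt
    obtain ⟨q, hq, hqw, hdim⟩ := exists_ldim_eq' τC hτC Γ(G, V) (hV.primeIdealOf ⟨w, hwV⟩)
      ((mem_support_iff_nontrivial_stalk G hV ⟨w, hwV⟩).mpr hnt)
    have hvV : hV.fromSpec q ∈ V := ResFieldBridge.fromSpec_mem hV q
    have hqv : hV.primeIdealOf ⟨hV.fromSpec q, hvV⟩ = q := ResFieldBridge.primeIdealOf_fromSpec hV q
    refine ⟨hV.fromSpec q, ?_, ?_, ?_⟩
    · rw [hspec _ hvV, hqv]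
      exact hqw
    · rw [← mem_support_iff_nontrivial_stalk G hV ⟨hV.fromSpec q, hvV⟩, hqv]
      exact hq
    · have h2 := tau_anti τC hτC hqw
      rw [hdim, hτx w hwV]
      rw [hτx w hwV] at h2
      change τ w ≤ τ (hV.fromSpec q) at h2
      change ((τ (hV.fromSpec q) - τ w : ℕ) : WithBot ℕ∞) + (τ w : WithBot ℕ∞) =
        (τ (hV.fromSpec q) : WithBot ℕ∞)
      have : τ (hV.fromSpec q) - τ w + τ w = τ (hV.fromSpec q) := by omega
      exact_mod_cast this

end Groth.Agent.Helper16.EquiSk
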