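import Mathlib
import Groth.Agent.Lib.Helper16.Sch.FibModCore3

/-!
# Openness of the loci of the rectified depth of a module on the fibres (helper16)
-/

set_option autoImplicit false
set_option linter.style.haveILetI false
set_option linter.unusedSectionVars false
universe u

open AlgebraicGeometry CategoryTheory Limits IsLocalRing TensorProduct

namespace Groth.Agent.Helper16.FibMod

open Groth.Agent.Helper16.FibStalk Groth.Agent.Helper16.FibModAlg Groth.Agent.Helper16.FTDim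
open Groth.Agent.Helper13.QCohLoc Groth.Agent.Helper16.FibModCore Groth.Agent.Helper16.RingFibDim

variable {X Y : Scheme.{u}} (f : X ⟶ Y) (ℱ : X.Modules)

/-- **Openness of the loci of the rectified depth of a module on the fibres.** -/
theorem isOpen_rdepth_ge [LocallyOfFinitePresentation f] (hF : CohB1.IsFP ℱ)
    (hflat : FlatMod.IsFlatOver f ℱ) (n : ℕ) :
    IsOpen {x : X | (n : ℕ∞) ≤ cdepth f ℱ x + (td f x : ℕ∞)} := by
  haveI := hF
  rw [isOpen_iff_forall_mem_open]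
  intro x hx
  obtain ⟨_, ⟨V, hV, rfl⟩, hxV, -⟩ := Y.isBasis_affineOpens.exists_subset_of_mem_open
    (Set.mem_univ (f x)) isOpen_univ
  have hV : IsAffineOpen V := hV
  obtain ⟨_, ⟨U, hU, rfl⟩, hxU, e⟩ := X.isBasis_affineOpens.exists_subset_of_mem_open
    (show x ∈ f ⁻¹ᵁ V from hxV) (f ⁻¹ᵁ V).isOpen
  have hU : IsAffineOpen U := hU
  have e : U ≤ f ⁻¹ᵁ V := e
  have hφ : (f.appLE V U e).hom.FinitePresentation :=
    HasRingHomProperty.appLE (P := @LocallyOfFinitePresentation) f inferInstance ⟨V, hV⟩ ⟨U, hU⟩ e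
  letI := (f.appLE V U e).hom.toAlgebra
  haveI : Algebra.FinitePresentation Γ(Y, V) Γ(X, U) := hφ
  letI : Module Γ(Y, V) Γ(ℱ, U) := Module.compHom Γ(ℱ, U) (f.appLE V U e).hom
  haveI : IsScalarTower Γ(Y, V) Γ(X, U) Γ(ℱ, U) :=
    IsScalarTower.of_algebraMap_smul (fun _ _ => rfl)
  haveI : Module.FinitePresentation Γ(X, U) Γ(ℱ, U) :=
    Groth.Agent.Helper13.LocFree.finitePresentation_sections_of_isFinitePresentation ℱ hU
  haveI : Module.Flat Γ(Y, V) Γ(ℱ, U) := flat_sections f ℱ hU hV e hflat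
  haveI hlft : LocallyOfFiniteType (Spec.map (f.appLE V U e)) :=
    inferInstanceAs (LocallyOfFiniteType (specMap Γ(Y, V) Γ(X, U)))
  have ho := FibModCore.isOpen_rdepth_ge Γ(Y, V) Γ(X, U) Γ(ℱ, U) n
  have hpre := ho.preimage hU.isoSpec.hom.continuous
  have hkey : ∀ u : U, ((n : ℕ∞) ≤ cdepth f ℱ u.1 + (td f u.1 : ℕ∞)) ↔
      hU.isoSpec.hom u ∈ {q : PrimeSpectrum Γ(X, U) |
        (n : ℕ∞) ≤ adepth Γ(Y, V) Γ(X, U) q.asIdeal Γ(ℱ, U) +
          (td (specMap Γ(Y, V) Γ(X, U)) q : ℕ∞)} := by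
    intro u
    obtain ⟨-, h2⟩ := chart f ℱ hU hV e u
    rw [h2, td_chart f hU hV e u]
    rfl
  refine ⟨Subtype.val '' (hU.isoSpec.hom ⁻¹' {q : PrimeSpectrum Γ(X, U) |
        (n : ℕ∞) ≤ adepth Γ(Y, V) Γ(X, U) q.asIdeal Γ(ℱ, U) +
          (td (specMap Γ(Y, V) Γ(X, U)) q : ℕ∞)}),
    ?_, ?_, ?_⟩
  · rintro _ ⟨u, hu, rfl⟩
    exact (hkey u).mpr hu
  · exact U.isOpen.isOpenMap_subtype_val _ hpre
  · exact ⟨⟨x, hxU⟩, (hkey ⟨x, hxU⟩).mp hx, rfl⟩

/-- the rectified depth at a point of a fibre, in terms of `cdepth` and `td`. -/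
theorem rdepth_fibre [LocallyOfFiniteType f] [ℱ.IsQuasicoherent]
    (hfin : ∀ x : X, Module.Finite (X.presheaf.stalk x) (ℱ.presheaf.stalk x)) (n : ℕ)
    (y : Y) (w : f.fiber y) :
    ((n : WithBot ℕ∞) ≤
      ((LocCoh.depth ((f.fiber y).presheaf.stalk w)
        (((Scheme.Modules.pullback (f.fiberι y)).obj ℱ).presheaf.stalk w) : ℕ∞) : WithBot ℕ∞) +
        topologicalKrullDim ↥(closure ({w} : Set ↥(f.fiber y)))) ↔
      (n : ℕ∞) ≤ cdepth f ℱ (f.fiberι y w) + (td f (f.fiberι y w) : ℕ∞) := by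
  haveI := hfin (f.fiberι y w)
  obtain ⟨-, h2⟩ := bridge1 f ℱ y w
  rw [h2, dim_closure_fibre f y w]
  change ((n : ℕ∞) : WithBot ℕ∞) ≤ ((cdepth f ℱ (f.fiberι y w) : ℕ∞) : WithBot ℕ∞) +
    (((td f (f.fiberι y w) : ℕ) : ℕ∞) : WithBot ℕ∞) ↔ _
  rw [← WithBot.coe_add, WithBot.coe_le_coe]

/-- the rectified depth locus on the base of a closed morphism. -/
theorem isOpen_forall_rdepth_ge [LocallyOfFinitePresentation f] (hcl : IsClosedMap f)
    (hF : CohB1.IsFP ℱ) (hflat : FlatMod.IsFlatOver f ℱ) (n : ℕ) :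
    IsOpen {y : Y | ∀ x : ↥(f.fiber y), (n : WithBot ℕ∞) ≤
      ((LocCoh.depth ((f.fiber y).presheaf.stalk x)
        (((Scheme.Modules.pullback (f.fiberι y)).obj ℱ).presheaf.stalk x) : ℕ∞) : WithBot ℕ∞) +
        topologicalKrullDim ↥(closure ({x} : Set ↥(f.fiber y)))} := by
  haveI : SheafOfModules.IsFinitePresentation (R := X.ringCatSheaf) ℱ := hF
  have hfin := fun x => finite_stalk_of_isFP ℱ hF x
  have ho := isOpen_rdepth_ge f ℱ hF hflat n
  have hc := hcl _ ho.isClosed_compl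
  rw [← isClosed_compl_iff]
  convert hc using 1
  ext y
  simp only [Set.mem_compl_iff, Set.mem_ofPred_eq, Set.mem_image]
  constructor
  · intro h
    rw [not_forall] at h
    obtain ⟨w, hw⟩ := h
    refine ⟨f.fiberι y w, ?_, apply_fiberι f y w⟩
    intro h2
    exact hw ((rdepth_fibre f ℱ hfin n y w).mpr h2)
  · rintro ⟨x, hx, rfl⟩ h
    apply hx
    have h2 := (rdepth_fibre f ℱ hfin n (f x) (f.asFiber x)).mp (h (f.asFiber x))
    rw [td_congr_point f (f.fiberι_asFiber x)] at h2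
    rw [congrArg (cdepth f ℱ) (f.fiberι_asFiber x)] at h2
    exact h2

end Groth.Agent.Helper16.FibMod
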