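import Mathlib
import Groth.Agent.Lib.Helper16.Sch.EquiSkSch1
import Groth.Agent.Lib.Helper16.Sch.FibMod10
import Groth.Agent.Lib.Helper28.FpqcDescent
import Groth.Agent.Lib.Helper14.DimClosure

/-!
# Equidimensional fibre modules with `(S_k)`: pointwise characterization on the total space
(helper16)
-/

set_option autoImplicit false
set_option linter.style.haveILetI false
set_option linter.unusedSectionVars false
universe u

open AlgebraicGeometry CategoryTheory Limits IsLocalRing

namespace Groth.Agent.Helper16.EquiSk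

open Groth.Agent.Helper16.FibStalk Groth.Agent.Helper16.FibMod Groth.Agent.Helper16.FTDim
open Groth.Agent.Helper14

variable {X Y : Scheme.{u}} (f : X ⟶ Y) [LocallyOfFiniteType f] (ℱ : X.Modules)

theorem td_fibre (y : Y) (w : f.fiber y) :
    td (f.fiberToSpecResidueField y) w = td f (f.fiberι y w) := by
  apply td_eq
  exact (FibreComp.trdeg_fibre f y w).symm.trans (td_spec f (f.fiberι y w))

theorem isDimFun_fibre (y : Y) :
    Cyc.IsDimFun (f.fiber y) (fun w => (td f (f.fiberι y w) : ℤ)) := by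
  haveI : LocallyOfFiniteType (f.fiberToSpecResidueField y) :=
    MorphismProperty.pullback_snd _ _ inferInstance
  have h := DimClosure.isDimFun_trdegFun (Y.residueField y) (f.fiberToSpecResidueField y)
  have e : (fun w => (td f (f.fiberι y w) : ℤ)) =
      DimClosure.trdegFun (f.fiberToSpecResidueField y) := by
    funext w
    rw [trdegFun_eq_td, td_fibre]
  rw [e]
  exact h

theorem isLocallyNoetherian_fibre (y : Y) : IsLocallyNoetherian (f.fiber y) := by
  haveI : LocallyOfFiniteType (f.fiberToSpecResidueField y) :=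
    MorphismProperty.pullback_snd _ _ inferInstance
  exact LocallyOfFiniteType.isLocallyNoetherian (f.fiberToSpecResidueField y)

section Fibre

variable (hF : CohB1.IsFP ℱ)

include hF

/-- the invariants of the stalks of the fibre module. -/
theorem fibre_invariants (y : Y) (v : f.fiber y) :
    Module.supportDim ((f.fiber y).presheaf.stalk v)
        (((Scheme.Modules.pullback (f.fiberι y)).obj ℱ).presheaf.stalk v) =
      cdim f ℱ (f.fiberι y v) ∧
    LocCoh.depth ((f.fiber y).presheaf.stalk v)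
        (((Scheme.Modules.pullback (f.fiberι y)).obj ℱ).presheaf.stalk v) =
      cdepth f ℱ (f.fiberι y v) := by
  haveI : SheafOfModules.IsFinitePresentation (R := X.ringCatSheaf) ℱ := hF
  haveI := finite_stalk_of_isFP ℱ hF (f.fiberι y v)
  exact bridge1 f ℱ y v

theorem finite_sections_fibre (y : Y) (V : (f.fiber y).Opens) (hV : IsAffineOpen V) :
    Module.Finite Γ(f.fiber y, V) Γ((Scheme.Modules.pullback (f.fiberι y)).obj ℱ, V) := by
  haveI : SheafOfModules.IsFinitePresentation (R := X.ringCatSheaf) ℱ := hF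
  haveI := Groth.Agent.Helper28.FpqcDescent.isFinitePresentation_pullback (f.fiberι y) ℱ
  haveI := Groth.Agent.Helper13.LocFree.finitePresentation_sections_of_isFinitePresentation
    ((Scheme.Modules.pullback (f.fiberι y)).obj ℱ) hV
  infer_instance

/-- **Equidimensional fibre modules with `(S_k)`**, `k ≥ 1`: pointwise characterization in terms of
the invariants at the generizations in the fibre (at a point of a fibre). -/
theorem equidim_sk_fibre_iff' (k : ℕ) (hk : 1 ≤ k) (y : Y) (w : f.fiber y) :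
    (EGA4.IsEquidimModule ((f.fiber y).presheaf.stalk w)
        (((Scheme.Modules.pullback (f.fiberι y)).obj ℱ).presheaf.stalk w) ∧
      LocCoh.HasSk k ((f.fiber y).presheaf.stalk w)
        (((Scheme.Modules.pullback (f.fiberι y)).obj ℱ).presheaf.stalk w)) ↔
    ∀ z : X, z ⤳ f.fiberι y w → f z = f (f.fiberι y w) → cdim f ℱ z ≠ ⊥ →
      min ((k : WithBot ℕ∞) + (td f z : WithBot ℕ∞))
          (cdim f ℱ (f.fiberι y w) + (td f (f.fiberι y w) : WithBot ℕ∞)) ≤
        ((cdepth f ℱ z : ℕ∞) : WithBot ℕ∞) + (td f z : WithBot ℕ∞) := by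
  haveI : SheafOfModules.IsFinitePresentation (R := X.ringCatSheaf) ℱ := hF
  haveI := Groth.Agent.Helper28.FpqcDescent.isFinitePresentation_pullback (f.fiberι y) ℱ
  haveI := isLocallyNoetherian_fibre f y
  have hemb := (f.fiberι y).isEmbedding
  rw [equidim_sk_stalk_iff ((Scheme.Modules.pullback (f.fiberι y)).obj ℱ)
    (fun w => td f (f.fiberι y w)) (isDimFun_fibre f y)
    (finite_sections_fibre f ℱ hF y) k hk w]
  obtain ⟨hx1, -⟩ := fibre_invariants f ℱ hF y w
  rw [hx1]
  constructor
  · intro H z hzx hfz hz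
    obtain ⟨v, rfl⟩ : z ∈ Set.range (f.fiberι y) := by
      rw [f.range_fiberι]
      exact hfz.trans (apply_fiberι f y w)
    have hvw : v ⤳ w := by
      rw [← hemb.isInducing.specializes_iff]
      exact hzx
    obtain ⟨hv1, hv2⟩ := fibre_invariants f ℱ hF y v
    have hnt : Nontrivial (((Scheme.Modules.pullback (f.fiberι y)).obj ℱ).presheaf.stalk v) := by
      rw [← Module.supportDim_ne_bot_iff_nontrivial (R := (f.fiber y).presheaf.stalk v), hv1]
      exact hz
    have h := H v hvw hnt
    rw [hv2] at h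
    exact h
  · intro H v hvw hnt
    obtain ⟨hv1, hv2⟩ := fibre_invariants f ℱ hF y v
    have hzx : f.fiberι y v ⤳ f.fiberι y w := hemb.isInducing.specializes_iff.mpr hvw
    have hz : cdim f ℱ (f.fiberι y v) ≠ ⊥ := by
      rw [← hv1, Module.supportDim_ne_bot_iff_nontrivial]
      exact hnt
    have h := H _ hzx ((apply_fiberι f y v).trans (apply_fiberι f y w).symm) hz
    rw [hv2]
    exact h

/-- **Equidimensional fibre modules with `(S_k)`**, `k ≥ 1`: pointwise characterization in terms of
the invariants at the generizations in the fibre. -/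
theorem equidim_sk_fibre_iff (k : ℕ) (hk : 1 ≤ k) (x : X) :
    (EGA4.IsEquidimModule ((f.fiber (f x)).presheaf.stalk (f.asFiber x))
        (((Scheme.Modules.pullback (f.fiberι (f x))).obj ℱ).presheaf.stalk (f.asFiber x)) ∧
      LocCoh.HasSk k ((f.fiber (f x)).presheaf.stalk (f.asFiber x))
        (((Scheme.Modules.pullback (f.fiberι (f x))).obj ℱ).presheaf.stalk (f.asFiber x))) ↔
    ∀ z : X, z ⤳ x → f z = f x → cdim f ℱ z ≠ ⊥ →
      min ((k : WithBot ℕ∞) + (td f z : WithBot ℕ∞)) (cdim f ℱ x + (td f x : WithBot ℕ∞)) ≤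
        ((cdepth f ℱ z : ℕ∞) : WithBot ℕ∞) + (td f z : WithBot ℕ∞) := by
  have hι : f.fiberι (f x) (f.asFiber x) = x := f.fiberι_asFiber x
  have h := equidim_sk_fibre_iff' f ℱ hF k hk (f x) (f.asFiber x)
  rw [hι] at h
  exact h

/-- **The dimension of the fibre module at a point**, through the transcendence degrees of the
generizations in the fibre. -/
theorem cdim_formula (x : X) :
    (∀ z : X, z ⤳ x → f z = f x → cdim f ℱ z ≠ ⊥ →
      (td f z : WithBot ℕ∞) ≤ cdim f ℱ x + (td f x : WithBot ℕ∞)) ∧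
    (cdim f ℱ x ≠ ⊥ → ∃ z : X, z ⤳ x ∧ f z = f x ∧ cdim f ℱ z ≠ ⊥ ∧
      cdim f ℱ x + (td f x : WithBot ℕ∞) = (td f z : WithBot ℕ∞)) := by
  haveI : SheafOfModules.IsFinitePresentation (R := X.ringCatSheaf) ℱ := hF
  haveI := Groth.Agent.Helper28.FpqcDescent.isFinitePresentation_pullback (f.fiberι (f x)) ℱ
  haveI := isLocallyNoetherian_fibre f (f x)
  have hι : f.fiberι (f x) (f.asFiber x) = x := f.fiberι_asFiber x
  have hemb := (f.fiberι (f x)).isEmbedding
  obtain ⟨h1, h2⟩ := supportDim_stalk_formula ((Scheme.Modules.pullback (f.fiberι (f x))).obj ℱ)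
    (fun w => td f (f.fiberι (f x) w)) (isDimFun_fibre f (f x))
    (finite_sections_fibre f ℱ hF (f x)) (f.asFiber x)
  obtain ⟨hx1, -⟩ := fibre_invariants f ℱ hF (f x) (f.asFiber x)
  rw [hx1, congrArg (cdim f ℱ) hι, td_congr_point f hι] at h1 h2
  constructor
  · intro z hzx hfz hz
    obtain ⟨v, rfl⟩ : z ∈ Set.range (f.fiberι (f x)) := by
      rw [f.range_fiberι]
      exact hfz
    have hvw : v ⤳ f.asFiber x := by
      rw [← hemb.isInducing.specializes_iff, hι]
      exact hzx
    obtain ⟨hv1, -⟩ := fibre_invariants f ℱ hF (f x) v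
    have hnt : Nontrivial (((Scheme.Modules.pullback (f.fiberι (f x))).obj ℱ).presheaf.stalk v) := by
      rw [← Module.supportDim_ne_bot_iff_nontrivial (R := (f.fiber (f x)).presheaf.stalk v), hv1]
      exact hz
    exact h1 v hvw hnt
  · intro hx
    have hnt : Nontrivial (((Scheme.Modules.pullback (f.fiberι (f x))).obj ℱ).presheaf.stalk
        (f.asFiber x)) := by
      rw [← Module.supportDim_ne_bot_iff_nontrivial
        (R := (f.fiber (f x)).presheaf.stalk (f.asFiber x)), hx1, congrArg (cdim f ℱ) hι]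
      exact hx
    obtain ⟨v, hvw, hvnt, hv⟩ := h2 hnt
    obtain ⟨hv1, -⟩ := fibre_invariants f ℱ hF (f x) v
    have hzx : f.fiberι (f x) v ⤳ x := by
      have := hemb.isInducing.specializes_iff.mpr hvw
      rwa [hι] at this
    refine ⟨_, hzx, apply_fiberι f (f x) v, ?_, hv⟩
    rw [← hv1, Module.supportDim_ne_bot_iff_nontrivial]
    exact hvnt

/-- the invariants of the fibre module at a point of its support are natural numbers. -/
theorem exists_nat_cinvariants (x : X) (hx : cdim f ℱ x ≠ ⊥) :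
    ∃ a b : ℕ, cdim f ℱ x = (a : WithBot ℕ∞) ∧ cdepth f ℱ x = (b : ℕ∞) ∧ b ≤ a := by
  haveI : SheafOfModules.IsFinitePresentation (R := X.ringCatSheaf) ℱ := hF
  have hι : f.fiberι (f x) (f.asFiber x) = x := f.fiberι_asFiber x
  obtain ⟨hx1, hx2⟩ := fibre_invariants f ℱ hF (f x) (f.asFiber x)
  rw [congrArg (cdim f ℱ) hι] at hx1
  rw [congrArg (cdepth f ℱ) hι] at hx2
  haveI := isNoetherianRing_fiber_stalk f (f x) (f.asFiber x)
  haveI : Module.Finite ((f.fiber (f x)).presheaf.stalk (f.asFiber x))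
      (((Scheme.Modules.pullback (f.fiberι (f x))).obj ℱ).presheaf.stalk (f.asFiber x)) :=
    finite_stalk_pullback (f.fiberι (f x)) ℱ (fun x => finite_stalk_of_isFP ℱ hF x) (f.asFiber x)
  haveI hnt : Nontrivial (((Scheme.Modules.pullback (f.fiberι (f x))).obj ℱ).presheaf.stalk
      (f.asFiber x)) := by
    rw [← Module.supportDim_ne_bot_iff_nontrivial
      (R := (f.fiber (f x)).presheaf.stalk (f.asFiber x)), hx1]
    exact hx
  obtain ⟨a, ha⟩ := Groth.Agent.Lead.Depth.exists_nat_supportDim
    (R := (f.fiber (f x)).presheaf.stalk (f.asFiber x))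
    (((Scheme.Modules.pullback (f.fiberι (f x))).obj ℱ).presheaf.stalk (f.asFiber x))
  have h1 := Groth.Agent.Lead.Depth.depth_le_supportDim
    (R := (f.fiber (f x)).presheaf.stalk (f.asFiber x))
    (((Scheme.Modules.pullback (f.fiberι (f x))).obj ℱ).presheaf.stalk (f.asFiber x))
  rw [ha, hx2] at h1
  rw [hx1] at ha
  have h2 : ((cdepth f ℱ x : ℕ∞) : WithBot ℕ∞) ≤ ((a : ℕ∞) : WithBot ℕ∞) := by
    exact_mod_cast h1
  have h3 : cdepth f ℱ x ≤ (a : ℕ∞) := WithBot.coe_le_coe.mp h2
  obtain ⟨b, hb⟩ := ENat.ne_top_iff_exists.mp (ne_top_of_le_ne_top (ENat.natCast_ne_top a) h3)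
  refine ⟨a, b, ha, hb.symm, ?_⟩
  rw [← hb] at h3
  exact_mod_cast h3

omit [LocallyOfFiniteType f] in
/-- the fibre module vanishes exactly outside the support. -/
theorem cdim_ne_bot_iff (x : X) : cdim f ℱ x ≠ ⊥ ↔ x ∈ CohB1.support ℱ := by
  haveI := finite_stalk_of_isFP ℱ hF x
  unfold cdim CohB1.support
  rw [Module.supportDim_ne_bot_iff_nontrivial, Set.mem_ofPred_eq, not_subsingleton_iff_nontrivial,
    Submodule.Quotient.nontrivial_iff]
  constructor
  · intro h
    by_contra hcon
    rw [not_nontrivial_iff_subsingleton] at hcon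
    exact h (Subsingleton.elim _ _)
  · intro h
    exact (Submodule.top_ne_ideal_smul_of_le_jacobson_annihilator
      ((fibIdeal_le f x).trans (IsLocalRing.maximalIdeal_le_jacobson _))).symm

omit [LocallyOfFiniteType f] hF in
theorem cdepth_eq_top_of_cdim_eq_bot (x : X) (h : cdim f ℱ x = ⊥) : cdepth f ℱ x = ⊤ := by
  unfold cdim at h
  rw [Module.supportDim_eq_bot_iff_subsingleton] at h
  haveI := h
  unfold cdepth LocCoh.depth
  exact Groth.Agent.Lead.Depth.idealDepth_of_eq_top _ _ (Subsingleton.elim _ _)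

end Fibre

end Groth.Agent.Helper16.EquiSk
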