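import Mathlib
import Groth.Agent.Lib.Helper16.Sch.FibCodepth2
import Groth.Agent.Lib.Helper23.RegPull2
import Groth.Agent.Lib.Lead.Flat3

/-!
# Serre's condition `(S_k)` for fibre local rings: generizations and base change (helper16)
-/

set_option autoImplicit false
set_option linter.style.haveILetI false
set_option linter.unusedSectionVars false
universe u

open AlgebraicGeometry CategoryTheory Limits IsLocalRing TensorProduct Topology

namespace Groth.Agent.Helper16.FibSk

open Groth.Agent.Helper16.FibStalk Groth.Agent.Helper16.FibCM Groth.Agent.Helper12.GorBC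
open Groth.Agent.Lead.Fib Groth.Agent.Lead.Depth Groth.Agent.Helper16.FibDepth
open Groth.Agent.Helper16.FibCons

/-- the numerical condition `min(k, dim) ≤ depth` for a local ring. -/
def SkNum (k : ℕ) (T : Type u) [CommRing T] [IsLocalRing T] : Prop :=
  min (k : WithBot ℕ∞) (ringKrullDim T) ≤ ((LocCoh.depth T T : ℕ∞) : WithBot ℕ∞)

theorem skNum_of_ringEquiv {k : ℕ} {T T' : Type u} [CommRing T] [CommRing T'] [IsLocalRing T]
    [IsLocalRing T'] [IsNoetherianRing T] (e : T ≃+* T') (h : SkNum k T) : SkNum k T' := by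
  unfold SkNum at h ⊢
  rw [← ringKrullDim_eq_of_ringEquiv e, ← depth_self_eq_of_ringEquiv (R₁ := T) (R₂ := T') e]
  exact h

/-- **`(S_k)` for a stalk in terms of generizations.** -/
theorem hasSk_stalk_iff (F : Scheme.{u}) (z : F) [IsNoetherianRing (F.presheaf.stalk z)] (k : ℕ) :
    LocCoh.HasSk k (F.presheaf.stalk z) (F.presheaf.stalk z) ↔
      ∀ w : F, w ⤳ z → SkNum k (F.presheaf.stalk w) := by
  rw [hasSk_self_iff]
  have key : ∀ (w : F) (h : w ⤳ z),
      haveI : (Ideal.comap (F.presheaf.stalkSpecializes h).hom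
        (maximalIdeal (F.presheaf.stalk w))).IsPrime := Ideal.comap_isPrime _ _
      Nonempty (Localization.AtPrime (Ideal.comap (F.presheaf.stalkSpecializes h).hom
        (maximalIdeal (F.presheaf.stalk w))) ≃+* F.presheaf.stalk w) := by
    intro w h
    letI : Algebra (F.presheaf.stalk z) (F.presheaf.stalk w) :=
      (F.presheaf.stalkSpecializes h).hom.toAlgebra
    haveI : (Ideal.comap (F.presheaf.stalkSpecializes h).hom
      (maximalIdeal (F.presheaf.stalk w))).IsPrime := Ideal.comap_isPrime _ _
    haveI := Groth.Agent.Helper23.RegPull.isLocalization_stalkSpecializes F h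
    exact ⟨(IsLocalization.algEquiv (Ideal.comap (F.presheaf.stalkSpecializes h).hom
      (maximalIdeal (F.presheaf.stalk w))).primeCompl _ _).toRingEquiv⟩
  constructor
  · intro H w h
    haveI : (Ideal.comap (F.presheaf.stalkSpecializes h).hom
      (maximalIdeal (F.presheaf.stalk w))).IsPrime := Ideal.comap_isPrime _ _
    obtain ⟨e⟩ := key w h
    exact skNum_of_ringEquiv e (H _)
  · intro H P hP
    obtain ⟨w, h, hPw⟩ := Groth.Agent.Helper23.RegPull.exists_generization_of_isPrime F z P
    subst hPw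
    obtain ⟨e⟩ := key w h
    haveI : IsNoetherianRing (F.presheaf.stalk w) := isNoetherianRing_of_ringEquiv _ e
    exact skNum_of_ringEquiv e.symm (H w h)

/-- the stalk of a fibre at a point `w` is the fibre local ring at its image. -/
noncomputable def stalkFiberEquivFS {X Y : Scheme.{u}} (f : X ⟶ Y) (y : Y) (w : f.fiber y)
    (x : X) (hx : f.fiberι y w = x) :
    (f.fiber y).presheaf.stalk w ≃+* (f.fiber (f x)).presheaf.stalk (f.asFiber x) :=
  (quotEquivStalkFiberOfEq f y w x hx).symm.trans (fibStalkEquiv f x)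

/-- **`(S_k)` for a fibre local ring in terms of generizations in the fibre.** -/
theorem hasSk_fs_iff {X Y : Scheme.{u}} (f : X ⟶ Y) [LocallyOfFiniteType f] (x : X) (k : ℕ) :
    LocCoh.HasSk k ((f.fiber (f x)).presheaf.stalk (f.asFiber x))
        ((f.fiber (f x)).presheaf.stalk (f.asFiber x)) ↔
      ∀ x'' : X, x'' ⤳ x → f x'' = f x →
        SkNum k ((f.fiber (f x'')).presheaf.stalk (f.asFiber x'')) := by
  haveI := isNoetherianRing_fs f x
  rw [hasSk_stalk_iff]
  have hι : f.fiberι (f x) (f.asFiber x) = x := f.fiberι_asFiber x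
  have hemb := (f.fiberι (f x)).isEmbedding
  constructor
  · intro H x'' hx'' hfx''
    obtain ⟨w, hw⟩ : x'' ∈ Set.range (f.fiberι (f x)) := by
      rw [f.range_fiberι]
      exact hfx''
    have hwz : w ⤳ f.asFiber x := by
      rw [← hemb.isInducing.specializes_iff, hw, hι]
      exact hx''
    have e := stalkFiberEquivFS f (f x) w x'' hw
    haveI : IsNoetherianRing ((f.fiber (f x)).presheaf.stalk w) := by
      haveI := isNoetherianRing_fs f x''
      exact isNoetherianRing_of_ringEquiv _ e.symm
    exact skNum_of_ringEquiv e (H w hwz)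
  · intro H w hwz
    have hx'' : f.fiberι (f x) w ⤳ x := by
      have := hemb.isInducing.specializes_iff.mpr hwz
      rwa [hι] at this
    have hfx'' : f (f.fiberι (f x) w) = f x := apply_fiberι f (f x) w
    have e := stalkFiberEquivFS f (f x) w _ rfl
    haveI := isNoetherianRing_fs f (f.fiberι (f x) w)
    exact skNum_of_ringEquiv e.symm (H _ hx'' hfx'')

section BC

variable {X Y X' Y' : Scheme.{u}} {f : X ⟶ Y} {g : Y' ⟶ Y} {f' : X' ⟶ Y'} {g' : X' ⟶ X}

/-- descent of `(S_k)` of fibre local rings along base change. -/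
theorem hasSk_fs_of_baseChange [LocallyOfFiniteType f] (hsq : IsPullback g' f' f g) (x' : X')
    (k : ℕ)
    (H : LocCoh.HasSk k ((f'.fiber (f' x')).presheaf.stalk (f'.asFiber x'))
      ((f'.fiber (f' x')).presheaf.stalk (f'.asFiber x'))) :
    LocCoh.HasSk k ((f.fiber (f (g' x'))).presheaf.stalk (f.asFiber (g' x')))
      ((f.fiber (f (g' x'))).presheaf.stalk (f.asFiber (g' x'))) := by
  haveI hft' : LocallyOfFiniteType f' :=
    MorphismProperty.of_isPullback hsq ‹LocallyOfFiniteType f›
  have hN' := isNoetherianRing_fs f' x'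
  have hN := isNoetherianRing_fs f (g' x')
  set y' := f' x' with hy'
  let h : f'.fiber y' ⟶ f.fiber (g y') :=
    pullback.map _ _ _ _ g' (Spec.map (g.residueFieldMap y')) g hsq.w.symm (by simp)
  have sqh : IsPullback h (f'.fiberToSpecResidueField y') (f.fiberToSpecResidueField (g y'))
      (Spec.map (g.residueFieldMap y')) := isPullback_fiberToSpecResidueField_of_isPullback hsq y'
  let z' : f'.fiber y' := f'.asFiber x'
  have hcomp : h ≫ f.fiberι (g y') = f'.fiberι y' ≫ g' := pullback.lift_fst _ _ _
  have hz : f.fiberι (g y') (h z') = g' x' := by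
    rw [← Scheme.Hom.comp_apply, hcomp, Scheme.Hom.comp_apply]
    exact congrArg g' (f'.fiberι_asFiber x')
  haveI : IsNoetherianRing ((f'.fiber y').presheaf.stalk z') := hN'
  haveI hflat : Flat h := by
    have h0 : Flat (Spec.map (g.residueFieldMap y')) := by
      rw [Flat.SpecMap_iff]
      letI := (g.residueFieldMap y').hom.toAlgebra
      exact RingHom.flat_algebraMap_iff.mpr inferInstance
    exact MorphismProperty.of_isPullback sqh.flip h0
  letI : Algebra ((f.fiber (g y')).presheaf.stalk (h z')) ((f'.fiber y').presheaf.stalk z') :=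
    (h.stalkMap z').hom.toAlgebra
  haveI : IsLocalHom (algebraMap ((f.fiber (g y')).presheaf.stalk (h z'))
      ((f'.fiber y').presheaf.stalk z')) :=
    inferInstanceAs (IsLocalHom (h.stalkMap z').hom)
  haveI : Module.Flat ((f.fiber (g y')).presheaf.stalk (h z'))
      ((f'.fiber y').presheaf.stalk z') := Flat.stalkMap h z'
  haveI : Module.FaithfullyFlat ((f.fiber (g y')).presheaf.stalk (h z'))
      ((f'.fiber y').presheaf.stalk z') := Module.FaithfullyFlat.of_flat_of_isLocalHom
  obtain ⟨hNR, hR⟩ := hasSk_of_faithfullyFlat ((f.fiber (g y')).presheaf.stalk (h z'))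
    ((f'.fiber y').presheaf.stalk z') k H
  let e : (f.fiber (g y')).presheaf.stalk (h z') ≃+*
      (f.fiber (f (g' x'))).presheaf.stalk (f.asFiber (g' x')) :=
    (quotEquivStalkFiberOfEq f (g y') (h z') (g' x') hz).symm.trans
      (quotEquivStalkFiberOfEq f (f (g' x')) (f.asFiber (g' x')) (g' x') (f.fiberι_asFiber _))
  exact Groth.Agent.Helper7.FieldCM.hasSk_of_ringEquiv e k hR

theorem skNum_arith (k c d : ℕ) (a a' : WithBot ℕ∞) (b b' : ℕ∞) (ha : a = (c : WithBot ℕ∞))
    (ha' : a' = a + (d : WithBot ℕ∞)) (hb' : b' = b + (d : ℕ∞))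
    (h : min (k : WithBot ℕ∞) a ≤ ((b : ℕ∞) : WithBot ℕ∞)) :
    min (k : WithBot ℕ∞) a' ≤ ((b' : ℕ∞) : WithBot ℕ∞) := by
  subst ha ha' hb'
  induction b using ENat.recTopCoe with
  | top =>
    simp only [top_add]
    exact le_top
  | coe b =>
    rw [min_le_iff] at h ⊢
    rcases h with h | h
    · left
      have h' : k ≤ b := by exact_mod_cast h
      have : k ≤ b + d := by omega
      exact_mod_cast this
    · right
      have h' : c ≤ b := by exact_mod_cast h
      have : c + d ≤ b + d := by omega
      exact_mod_cast this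

/-- **Base change invariance of `(S_k)` of fibre local rings.** -/
theorem hasSk_fs_baseChange_iff [LocallyOfFiniteType f] (hsq : IsPullback g' f' f g) (x' : X')
    (k : ℕ) :
    LocCoh.HasSk k ((f'.fiber (f' x')).presheaf.stalk (f'.asFiber x'))
      ((f'.fiber (f' x')).presheaf.stalk (f'.asFiber x')) ↔
    LocCoh.HasSk k ((f.fiber (f (g' x'))).presheaf.stalk (f.asFiber (g' x')))
      ((f.fiber (f (g' x'))).presheaf.stalk (f.asFiber (g' x'))) := by
  refine ⟨hasSk_fs_of_baseChange hsq x' k, fun H => ?_⟩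
  haveI hft' : LocallyOfFiniteType f' :=
    MorphismProperty.of_isPullback hsq ‹LocallyOfFiniteType f›
  rw [hasSk_fs_iff] at H ⊢
  intro x3 hx3 hfx3
  have h1 : g' x3 ⤳ g' x' := hx3.map g'.continuous
  have h2 : f (g' x3) = f (g' x') := by
    have e1 : f (g' x3) = g (f' x3) := by
      rw [← Scheme.Hom.comp_apply, hsq.w, Scheme.Hom.comp_apply]
    have e2 : f (g' x') = g (f' x') := by
      rw [← Scheme.Hom.comp_apply, hsq.w, Scheme.Hom.comp_apply]
    rw [e1, e2, hfx3]
  have h3 := H _ h1 h2
  have hN' := isNoetherianRing_fs f' x3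
  have hN := isNoetherianRing_fs f (g' x3)
  obtain ⟨d, hd1, hd2⟩ := dim_depth_baseChange hsq x3 hN' hN (Or.inr inferInstance)
  obtain ⟨c, hc⟩ := exists_nat_dim
    ((f.fiber (f (g' x3))).presheaf.stalk (f.asFiber (g' x3)))
  exact skNum_arith k c d _ _ _ _ hc hd1 hd2 h3

end BC

/-- the fibrewise property "the fibre local ring satisfies `(S_k)`". -/
noncomputable def skFib (k : ℕ) : FibProp0.{u} where
  P := fun {X S} f x =>
    LocCoh.HasSk k ((f.fiber (f x)).presheaf.stalk (f.asFiber x))
      ((f.fiber (f x)).presheaf.stalk (f.asFiber x))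
  bc := by
    intro X Y X' Y' f g f' g' _ hsq x'
    exact hasSk_fs_baseChange_iff hsq x' k
  oi := by
    intro U X S j _ f _ u
    have e := fsOpenImmersionEquiv j f u
    haveI := isNoetherianRing_fs f (j u)
    haveI := isNoetherianRing_fs (j ≫ f) u
    exact ⟨fun h => Groth.Agent.Helper7.FieldCM.hasSk_of_ringEquiv e.symm k h,
      fun h => Groth.Agent.Helper7.FieldCM.hasSk_of_ringEquiv e k h⟩

end Groth.Agent.Helper16.FibSk
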