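import Mathlib
import Groth.Agent.Lib.Helper16.Sch.FibSk1
import Groth.Agent.Lib.Helper16.Sch.FTDim1

/-!
# Openness of the fibrewise `(S_k)` locus: the Noetherian affine flat case (helper16)
-/

set_option autoImplicit false
set_option linter.style.haveILetI false
set_option linter.unusedSectionVars false
universe u

open AlgebraicGeometry CategoryTheory Limits IsLocalRing TensorProduct Topology TopologicalSpace

namespace Groth.Agent.Helper16.FibSk

open Groth.Agent.Helper16.FibStalk Groth.Agent.Helper16.FibCM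
open Groth.Agent.Lead.Fib Groth.Agent.Lead.Depth Groth.Agent.Lead.PD
open Groth.Agent.Helper16.FibDepth
open Groth.Agent.Helper16.FibCons Groth.Agent.Helper16.FTDim Groth.Agent.Helper14
open Groth.Agent.Helper16.RingFibDim Groth.Agent.Helper16.FibPD

/-- the set of points of a closed subset `T` which are specializations, within their fibre, of a
point of `T` whose residue field has transcendence degree at least `m` over the base is closed. -/
theorem isClosed_td_ge {X Y : Scheme.{u}} (f : X ⟶ Y) [LocallyOfFiniteType f] (T : Closeds X)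
    (m : ℕ) :
    IsClosed {x : X | ∃ z : X, z ∈ (T : Set X) ∧ z ⤳ x ∧ f z = f x ∧ m ≤ td f z} := by
  rcases Nat.eq_zero_or_pos m with hm | hm
  · subst hm
    have : {x : X | ∃ z : X, z ∈ (T : Set X) ∧ z ⤳ x ∧ f z = f x ∧ 0 ≤ td f z} = (T : Set X) := by
      ext x
      constructor
      · rintro ⟨z, hzT, hzx, -, -⟩
        exact hzx.mem_closed T.isClosed hzT
      · intro hx
        exact ⟨x, hx, specializes_rfl, rfl, Nat.zero_le _⟩
    rw [this]
    exact T.isClosed
  obtain ⟨m', rfl⟩ : ∃ m', m = m' + 1 := ⟨m - 1, by omega⟩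
  have hrange := ClosedFibreDim.range_subschemeι_vanishingIdeal T
  set ι := (Scheme.IdealSheafData.vanishingIdeal T).subschemeι with hι
  have ho := Groth.Agent.S0402.result (ι ≫ f) m'
  have hc : IsClosed (ι '' {x' | FlatMor.fibreDimAt (ι ≫ f) x' ≤ (m' : WithBot ℕ∞)}ᶜ) :=
    ι.isClosedEmbedding.isClosedMap _ ho.isClosed_compl
  convert hc using 1
  ext x
  constructor
  · rintro ⟨z, hzT, hzx, hfz, hmz⟩
    have hxT : x ∈ (T : Set X) := hzx.mem_closed T.isClosed hzT
    obtain ⟨x', hx'⟩ : x ∈ Set.range ι := by rw [hrange]; exact hxT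
    subst hx'
    refine ⟨x', ?_, rfl⟩
    have hmem : ι x' ∈ (T : Set X) ∩ f ⁻¹' {f (ι x')} := ⟨hxT, rfl⟩
    have h1 := ClosedFibreDim.trdeg_le_localDim f T (ι x') hmem z hzT hzx (td f z) (td_spec f z)
    rw [ClosedFibreDim.localDim_inter_fibre_eq f T x' (f (ι x')) hmem] at h1
    intro hle
    have h2 : ((td f z : ℕ) : WithBot ℕ∞) ≤ (m' : WithBot ℕ∞) := h1.trans hle
    have h3 : td f z ≤ m' := by exact_mod_cast h2
    omega
  · rintro ⟨x', hx', rfl⟩
    have hxT : ι x' ∈ (T : Set X) := by rw [← hrange]; exact ⟨x', rfl⟩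
    have hmem : ι x' ∈ (T : Set X) ∩ f ⁻¹' {f (ι x')} := ⟨hxT, rfl⟩
    obtain ⟨z, n, hzT, hzx, hfz, -, hn, hld⟩ :=
      ClosedFibreDim.exists_maximal_trdeg_eq_localDim f T (ι x') hmem
    rw [ClosedFibreDim.localDim_inter_fibre_eq f T x' (f (ι x')) hmem] at hld
    refine ⟨z, hzT, hzx, hfz, ?_⟩
    rw [td_eq f z n hn]
    by_contra hcon
    apply hx'
    rw [Set.mem_ofPred_eq, hld]
    have : n ≤ m' := by omega
    exact_mod_cast this

section Aff

variable (A B : Type u) [CommRing A] [CommRing B] [Algebra A B] [IsNoetherianRing A]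
  (N : ℕ) [Algebra (MvPolynomial (Fin N) A) B] [IsScalarTower A (MvPolynomial (Fin N) A) B]
  [Module.Flat A B]

/-- the closed sets `G_j`: projective dimension at least `j` and fibre dimension more than
`N - j`. -/
def G (j : ℕ) : Set (Spec (CommRingCat.of B)) :=
  {r | PrimeSpectrum.comap (algebraMap (MvPolynomial (Fin N) A) B) r ∉
      pdLocus (j - 1) (ModuleCat.of (MvPolynomial (Fin N) A) B)} ∩
    {r | ¬ FlatMor.fibreDimAt (specMap A B) r ≤ ((N - j : ℕ) : WithBot ℕ∞)}

variable (hsurj : Function.Surjective (algebraMap (MvPolynomial (Fin N) A) B))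

include hsurj in
theorem isClosed_G (j : ℕ) : IsClosed (G A B N j) := by
  haveI := finiteType_of_surj N hsurj
  haveI : Module.Finite (MvPolynomial (Fin N) A) B :=
    Module.Finite.of_surjective (Algebra.linearMap (MvPolynomial (Fin N) A) B) hsurj
  refine IsClosed.inter ?_ ?_
  · exact ((isOpen_pdLocus _ B).preimage (PrimeSpectrum.continuous_comap _)).isClosed_compl
  · exact (Groth.Agent.S0402.result (specMap A B) (N - j)).isClosed_compl

include hsurj in
/-- pointwise description of the failure of `min(k, dim) ≤ depth` for the fibre local ring. -/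
theorem not_skNum_iff (k : ℕ) (r : Spec (CommRingCat.of B)) :
    haveI := finiteType_of_surj N hsurj
    ¬ SkNum k (((specMap A B).fiber ((specMap A B) r)).presheaf.stalk ((specMap A B).asFiber r)) ↔
      ∃ j : ℕ, 1 ≤ j ∧ j ≤ N ∧ r ∈ G A B N j ∧ N + 1 - j - k ≤ td (specMap A B) r := by
  haveI := finiteType_of_surj N hsurj
  haveI : LocallyOfFiniteType (specMap A B) := Groth.Agent.Helper16.CMCons.lft_SpecMap
  let q : PrimeSpectrum B := r
  obtain ⟨d, hd⟩ := Groth.Agent.Helper16.FibCodepth.exists_nat_fibreDimAt A B q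
  obtain ⟨e₀, D, c, n, hpd, hD, hc, hN, hdcn, hdN, htr⟩ := pointwise N hsurj q d hd
  -- the transcendence degree
  have htd : td (specMap A B) r = n := by
    apply td_eq
    haveI : (PrimeSpectrum.asIdeal r).LiesOver (q.asIdeal.under A) :=
      inferInstanceAs (q.asIdeal.LiesOver (q.asIdeal.under A))
    rw [Groth.Agent.Helper16.SpecFib.trdeg_residueField_eq A B r (q.asIdeal.under A)]
    exact htr
  -- transfer to `FL`
  have e := fsSpecEquiv A B r
  haveI := isNoetherianRing_fs (specMap A B) r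
  have hsk : SkNum k (((specMap A B).fiber ((specMap A B) r)).presheaf.stalk
      ((specMap A B).asFiber r)) ↔ (k ≤ D ∨ c ≤ D) := by
    have h1 : SkNum k (((specMap A B).fiber ((specMap A B) r)).presheaf.stalk
        ((specMap A B).asFiber r)) ↔ SkNum k (EGA4.FibLocRing A B (PrimeSpectrum.asIdeal r)) := by
      haveI : IsNoetherianRing (EGA4.FibLocRing A B (PrimeSpectrum.asIdeal r)) :=
        isNoetherianRing_of_ringEquiv _ e
      exact ⟨fun h => skNum_of_ringEquiv e h, fun h => skNum_of_ringEquiv e.symm h⟩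
    rw [h1]
    unfold SkNum
    change min (k : WithBot ℕ∞) (ringKrullDim (FL (q.asIdeal.under A) q.asIdeal)) ≤
      ((LocCoh.depth (FL (q.asIdeal.under A) q.asIdeal) (FL (q.asIdeal.under A) q.asIdeal) : ℕ∞) :
        WithBot ℕ∞) ↔ _
    rw [hc, hD, min_le_iff]
    constructor
    · rintro (h | h)
      · left; exact_mod_cast h
      · right; exact_mod_cast h
    · rintro (h | h)
      · left; exact_mod_cast h
      · right; exact_mod_cast h
  rw [hsk]
  have hG : ∀ j : ℕ, r ∈ G A B N j ↔ (¬ e₀ ≤ j - 1) ∧ ¬ d ≤ N - j := by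
    intro j
    unfold G
    rw [Set.mem_inter_iff, Set.mem_ofPred_eq, Set.mem_ofPred_eq]
    refine and_congr (not_congr (hpd _)) (not_congr ?_)
    rw [hd]
    exact_mod_cast Iff.rfl
  constructor
  · intro h
    push Not at h
    refine ⟨e₀, ?_, ?_, (hG _).mpr ⟨?_, ?_⟩, ?_⟩ <;> omega
  · rintro ⟨j, hj1, hjN, hjG, hjn⟩
    obtain ⟨h1, h2⟩ := (hG j).mp hjG
    rw [htd] at hjn
    omega

end Aff

/-- **Openness of the fibrewise `(S_k)` locus**, Noetherian affine flat case. -/
theorem isOpen_sk_locus (A B : Type u) [CommRing A] [CommRing B] [Algebra A B]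
    [IsNoetherianRing A] [Algebra.FiniteType A B] [Module.Flat A B] (k : ℕ) :
    IsOpen {r : Spec (CommRingCat.of B) |
      LocCoh.HasSk k
        (((specMap A B).fiber ((specMap A B) r)).presheaf.stalk ((specMap A B).asFiber r))
        (((specMap A B).fiber ((specMap A B) r)).presheaf.stalk ((specMap A B).asFiber r))} := by
  obtain ⟨N, φ, hφ⟩ := Algebra.FiniteType.iff_quotient_mvPolynomial''.mp
    (inferInstance : Algebra.FiniteType A B)
  letI : Algebra (MvPolynomial (Fin N) A) B := φ.toRingHom.toAlgebra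
  haveI : IsScalarTower A (MvPolynomial (Fin N) A) B :=
    IsScalarTower.of_algebraMap_eq fun a => (φ.commutes a).symm
  have hsurj : Function.Surjective (algebraMap (MvPolynomial (Fin N) A) B) := hφ
  haveI : LocallyOfFiniteType (specMap A B) := Groth.Agent.Helper16.CMCons.lft_SpecMap
  rw [← isClosed_compl_iff]
  let T : ℕ → Closeds (Spec (CommRingCat.of B)) := fun j => ⟨G A B N j, isClosed_G A B N hsurj j⟩
  have hset : {r : Spec (CommRingCat.of B) |
      LocCoh.HasSk k
        (((specMap A B).fiber ((specMap A B) r)).presheaf.stalk ((specMap A B).asFiber r))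
        (((specMap A B).fiber ((specMap A B) r)).presheaf.stalk ((specMap A B).asFiber r))}ᶜ =
      ⋃ j ∈ Finset.Icc 1 N, {x : Spec (CommRingCat.of B) | ∃ z : Spec (CommRingCat.of B),
        z ∈ (T j : Set (Spec (CommRingCat.of B))) ∧ z ⤳ x ∧
          (specMap A B) z = (specMap A B) x ∧ N + 1 - j - k ≤ td (specMap A B) z} := by
    ext x
    rw [Set.mem_compl_iff, Set.mem_ofPred_eq, hasSk_fs_iff]
    simp only [Set.mem_iUnion, Set.mem_ofPred_eq, Finset.mem_Icc, exists_prop]
    constructor
    · intro h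
      push Not at h
      obtain ⟨z, hzx, hfz, hz⟩ := h
      obtain ⟨j, hj1, hjN, hjG, hjn⟩ := (not_skNum_iff A B N hsurj k z).mp hz
      exact ⟨j, ⟨hj1, hjN⟩, z, hjG, hzx, hfz, hjn⟩
    · rintro ⟨j, ⟨hj1, hjN⟩, z, hjG, hzx, hfz, hjn⟩ h
      exact (not_skNum_iff A B N hsurj k z).mpr ⟨j, hj1, hjN, hjG, hjn⟩ (h z hzx hfz)
  rw [hset]
  exact isClosed_biUnion_finset fun j _ => isClosed_td_ge (specMap A B) (T j) _

theorem skFib_openNoeth (k : ℕ) : (skFib.{u} k).OpenNoeth := by
  intro R B _ _ _ _ _ _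
  exact isOpen_sk_locus R B k

/-- **Openness of the `(S_k)` locus of the fibres** of a flat morphism locally of finite
presentation. -/
theorem isOpen_hasSk_fs {X Y : Scheme.{u}} (f : X ⟶ Y) [Flat f] [LocallyOfFinitePresentation f]
    (k : ℕ) :
    IsOpen {x : X | LocCoh.HasSk k ((f.fiber (f x)).presheaf.stalk (f.asFiber x))
      ((f.fiber (f x)).presheaf.stalk (f.asFiber x))} :=
  FibProp0.isOpen (skFib_openNoeth k) f

theorem isOpen_flat_and_hasSk_fs {X Y : Scheme.{u}} (f : X ⟶ Y) [LocallyOfFinitePresentation f]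
    (k : ℕ) :
    IsOpen {x : X | (f.stalkMap x).hom.Flat ∧
      LocCoh.HasSk k ((f.fiber (f x)).presheaf.stalk (f.asFiber x))
      ((f.fiber (f x)).presheaf.stalk (f.asFiber x))} :=
  FibProp0.isOpen_flat_and (skFib_openNoeth k) f

theorem isLocallyConstructible_hasSk_fs {X Y : Scheme.{u}} (f : X ⟶ Y)
    [LocallyOfFinitePresentation f] (k : ℕ) :
    IsLocallyConstructible {x : X |
      LocCoh.HasSk k ((f.fiber (f x)).presheaf.stalk (f.asFiber x))
      ((f.fiber (f x)).presheaf.stalk (f.asFiber x))} :=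
  FibProp0.isLocallyConstructible (skFib_openNoeth k) f

end Groth.Agent.Helper16.FibSk
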