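import Mathlib
import Groth.Agent.Lib.Helper16.Sch.EquiSkSch2
import Groth.Agent.Lib.Helper16.Sch.FibSk2
import Groth.Agent.Lib.Helper28.SuppProper

/-!
# Openness of the locus where the fibre module is equidimensional with `(S_k)` (helper16)
-/

set_option autoImplicit false
set_option linter.style.haveILetI false
set_option linter.unusedSectionVars false
universe u

open AlgebraicGeometry CategoryTheory Limits IsLocalRing TopologicalSpace

namespace Groth.Agent.Helper16.EquiSk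

open Groth.Agent.Helper16.FibStalk Groth.Agent.Helper16.FibMod Groth.Agent.Helper16.FTDim
open Groth.Agent.Helper14

variable {X Y : Scheme.{u}} (f : X ⟶ Y) (ℱ : X.Modules)

/-- the points where the rectified depth is less than `m`. -/
def lowRd (m : ℕ) : Set X := {z | ¬ ((m : ℕ∞) ≤ cdepth f ℱ z + (td f z : ℕ∞))}

/-- the set `T_m`. -/
def setT (k m : ℕ) : Set X :=
  {x | ∃ z : X, z ∈ lowRd f ℱ m ∧ z ⤳ x ∧ f z = f x ∧ m - k ≤ td f z}

/-- the set `D_m`. -/
def setD (m : ℕ) : Set X :=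
  {x | ∃ z : X, z ∈ CohB1.support ℱ ∧ z ⤳ x ∧ f z = f x ∧ m ≤ td f z}

/-- the pointwise condition. -/
def condE (k : ℕ) (x : X) : Prop :=
  ∀ z : X, z ⤳ x → f z = f x → cdim f ℱ z ≠ ⊥ →
    min ((k : WithBot ℕ∞) + (td f z : WithBot ℕ∞)) (cdim f ℱ x + (td f x : WithBot ℕ∞)) ≤
      ((cdepth f ℱ z : ℕ∞) : WithBot ℕ∞) + (td f z : WithBot ℕ∞)

variable [LocallyOfFiniteType f] (hF : CohB1.IsFP ℱ)

include hF in
theorem condE_iff (k : ℕ) (x : X) :
    condE f ℱ k x ↔ ∀ m : ℕ, ¬ (x ∈ setD f ℱ m ∧ x ∈ setT f ℱ k m) := by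
  constructor
  · rintro hE m ⟨⟨z₁, hz₁S, hz₁x, hfz₁, hmz₁⟩, ⟨z, hzC, hzx, hfz, hmz⟩⟩
    obtain ⟨hform, -⟩ := cdim_formula f ℱ hF x
    have h1 := hform z₁ hz₁x hfz₁ ((cdim_ne_bot_iff f ℱ hF z₁).mpr hz₁S)
    have hcd : cdim f ℱ z ≠ ⊥ := by
      intro hbot
      apply hzC
      rw [cdepth_eq_top_of_cdim_eq_bot f ℱ z hbot, top_add]
      exact le_top
    obtain ⟨a, b, -, hb, -⟩ := exists_nat_cinvariants f ℱ hF z hcd
    have hlt : b + td f z < m := by
      have : ¬ ((m : ℕ∞) ≤ (b : ℕ∞) + (td f z : ℕ∞)) := by rw [← hb]; exact hzC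
      rw [not_le] at this
      exact_mod_cast this
    have h2 := hE z hzx hfz hcd
    rw [hb] at h2
    have hm1 : (m : WithBot ℕ∞) ≤ cdim f ℱ x + (td f x : WithBot ℕ∞) :=
      le_trans (by exact_mod_cast hmz₁) h1
    rcases min_le_iff.mp h2 with h3 | h3
    · have : k + td f z ≤ b + td f z := by exact_mod_cast h3
      omega
    · have h4 : (m : WithBot ℕ∞) ≤ ((b + td f z : ℕ) : WithBot ℕ∞) := by
        refine hm1.trans (h3.trans (le_of_eq ?_))
        push_cast
        rfl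
      have : m ≤ b + td f z := by exact_mod_cast h4
      omega
  · intro H z hzx hfz hcd
    by_contra hcon
    obtain ⟨a, b, -, hb, -⟩ := exists_nat_cinvariants f ℱ hF z hcd
    rw [hb, min_le_iff, not_or, not_le, not_le] at hcon
    obtain ⟨h1, h2⟩ := hcon
    have h1' : b + td f z < k + td f z := by exact_mod_cast h1
    have hxcd : cdim f ℱ x ≠ ⊥ := by
      intro hbot
      rw [hbot, WithBot.bot_add] at h2
      exact not_lt_bot h2
    obtain ⟨-, hform⟩ := cdim_formula f ℱ hF x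
    obtain ⟨z₁, hz₁x, hfz₁, hz₁cd, hz₁⟩ := hform hxcd
    rw [hz₁] at h2
    have h2' : b + td f z < td f z₁ := by exact_mod_cast h2
    apply H (b + td f z + 1)
    refine ⟨⟨z₁, (cdim_ne_bot_iff f ℱ hF z₁).mp hz₁cd, hz₁x, hfz₁, by omega⟩,
      ⟨z, ?_, hzx, hfz, by omega⟩⟩
    unfold lowRd
    rw [Set.mem_ofPred_eq, hb, not_le]
    exact_mod_cast Nat.lt_succ_self _

omit [LocallyOfFiniteType f] in
theorem setD_anti {m m' : ℕ} (h : m ≤ m') : setD f ℱ m' ⊆ setD f ℱ m := by
  rintro x ⟨z, hzS, hzx, hfz, hm⟩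
  exact ⟨z, hzS, hzx, hfz, h.trans hm⟩

include hF in
theorem isClosed_setD (m : ℕ) : IsClosed (setD f ℱ m) := by
  haveI : SheafOfModules.IsFinitePresentation (R := X.ringCatSheaf) ℱ := hF
  have hcl : IsClosed (CohB1.support ℱ) := Groth.Agent.Helper28.SuppProper.isClosed_support ℱ
  exact Groth.Agent.Helper16.FibSk.isClosed_td_ge f ⟨CohB1.support ℱ, hcl⟩ m

include hF in
theorem isClosed_setT [LocallyOfFinitePresentation f] (hflat : FlatMod.IsFlatOver f ℱ)
    (k m : ℕ) : IsClosed (setT f ℱ k m) := by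
  have hcl : IsClosed (lowRd f ℱ m) := (isOpen_rdepth_ge f ℱ hF hflat m).isClosed_compl
  exact Groth.Agent.Helper16.FibSk.isClosed_td_ge f ⟨lowRd f ℱ m, hcl⟩ (m - k)

include hF in
/-- **Openness of the pointwise condition.** -/
theorem isOpen_condE [LocallyOfFinitePresentation f] (hflat : FlatMod.IsFlatOver f ℱ) (k : ℕ) :
    IsOpen {x : X | condE f ℱ k x} := by
  rw [isOpen_iff_forall_mem_open]
  intro x hx
  -- a bound for the dimension at `x`
  obtain ⟨N, hN⟩ : ∃ N : ℕ, x ∉ setD f ℱ (N + 1) := by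
    by_cases hxcd : cdim f ℱ x = ⊥
    · refine ⟨0, ?_⟩
      rintro ⟨z, hzS, hzx, -, -⟩
      haveI : SheafOfModules.IsFinitePresentation (R := X.ringCatSheaf) ℱ := hF
      have hcl : IsClosed (CohB1.support ℱ) := Groth.Agent.Helper28.SuppProper.isClosed_support ℱ
      have hxS : x ∈ CohB1.support ℱ := hzx.mem_closed hcl hzS
      exact (cdim_ne_bot_iff f ℱ hF x).mpr hxS hxcd
    · obtain ⟨a, b, ha, -, -⟩ := exists_nat_cinvariants f ℱ hF x hxcd
      refine ⟨a + td f x, ?_⟩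
      rintro ⟨z, hzS, hzx, hfz, hm⟩
      obtain ⟨hform, -⟩ := cdim_formula f ℱ hF x
      have h1 := hform z hzx hfz ((cdim_ne_bot_iff f ℱ hF z).mpr hzS)
      rw [ha] at h1
      have h2 : td f z ≤ a + td f x := by exact_mod_cast h1
      omega
  have hx' := (condE_iff f ℱ hF k x).mp hx
  refine ⟨(setD f ℱ (N + 1))ᶜ ∩ ⋂ m ∈ Finset.range (N + 1), (setD f ℱ m ∩ setT f ℱ k m)ᶜ,
    ?_, ?_, ?_⟩
  · rintro x' ⟨h1, h2⟩
    rw [Set.mem_ofPred_eq, condE_iff f ℱ hF k x']
    intro m hm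
    by_cases hmN : m < N + 1
    · simp only [Set.mem_iInter, Finset.mem_range] at h2
      exact h2 m hmN hm
    · exact h1 (setD_anti f ℱ (by omega) hm.1)
  · refine IsOpen.inter (isClosed_setD f ℱ hF _).isOpen_compl ?_
    exact isOpen_biInter_finset fun m _ =>
      ((isClosed_setD f ℱ hF m).inter (isClosed_setT f ℱ hF hflat k m)).isOpen_compl
  · refine ⟨hN, ?_⟩
    simp only [Set.mem_iInter, Finset.mem_range]
    intro m _
    exact hx' m

include hF in
/-- **Openness of the locus where the fibre module is equidimensional and `(S_k)`** (`k ≥ 1`). -/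
theorem isOpen_equidim_sk [LocallyOfFinitePresentation f] (hflat : FlatMod.IsFlatOver f ℱ)
    (k : ℕ) (hk : 1 ≤ k) :
    IsOpen {x : X | EGA4.IsEquidimModule ((f.fiber (f x)).presheaf.stalk (f.asFiber x))
        (((Scheme.Modules.pullback (f.fiberι (f x))).obj ℱ).presheaf.stalk (f.asFiber x)) ∧
      LocCoh.HasSk k ((f.fiber (f x)).presheaf.stalk (f.asFiber x))
        (((Scheme.Modules.pullback (f.fiberι (f x))).obj ℱ).presheaf.stalk (f.asFiber x))} := by
  have h := isOpen_condE f ℱ hF hflat k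
  have hset : {x : X | EGA4.IsEquidimModule ((f.fiber (f x)).presheaf.stalk (f.asFiber x))
        (((Scheme.Modules.pullback (f.fiberι (f x))).obj ℱ).presheaf.stalk (f.asFiber x)) ∧
      LocCoh.HasSk k ((f.fiber (f x)).presheaf.stalk (f.asFiber x))
        (((Scheme.Modules.pullback (f.fiberι (f x))).obj ℱ).presheaf.stalk (f.asFiber x))} =
      {x : X | condE f ℱ k x} := by
    ext x
    exact equidim_sk_fibre_iff f ℱ hF k hk x
  rw [hset]
  exact h

include hF in
/-- **Openness on the base of the locus where the fibre module is everywhere equidimensional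
and `(S_k)`**, for a closed morphism (`k ≥ 1`). -/
theorem isOpen_forall_equidim_sk [LocallyOfFinitePresentation f] (hcl : IsClosedMap f)
    (hflat : FlatMod.IsFlatOver f ℱ) (k : ℕ) (hk : 1 ≤ k) :
    IsOpen {y : Y | ∀ x : ↥(f.fiber y),
      EGA4.IsEquidimModule ((f.fiber y).presheaf.stalk x)
        (((Scheme.Modules.pullback (f.fiberι y)).obj ℱ).presheaf.stalk x) ∧
      LocCoh.HasSk k ((f.fiber y).presheaf.stalk x)
        (((Scheme.Modules.pullback (f.fiberι y)).obj ℱ).presheaf.stalk x)} := by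
  have ho := isOpen_condE f ℱ hF hflat k
  have hc := hcl _ ho.isClosed_compl
  rw [← isClosed_compl_iff]
  convert hc using 1
  ext y
  simp only [Set.mem_compl_iff, Set.mem_ofPred_eq, Set.mem_image]
  constructor
  · intro h
    rw [not_forall] at h
    obtain ⟨w, hw⟩ := h
    refine ⟨f.fiberι y w, ?_, apply_fiberι f y w⟩
    intro h2
    exact hw ((equidim_sk_fibre_iff' f ℱ hF k hk y w).mpr h2)
  · rintro ⟨x, hx, rfl⟩ h
    apply hx
    exact (equidim_sk_fibre_iff f ℱ hF k hk x).mp (h (f.asFiber x))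

end Groth.Agent.Helper16.EquiSk
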