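import Mathlib
import Groth.Agent.Lib.Helper16.Sch.EquiSkSch3
import Groth.Agent.Lib.Helper9.Depth

/-!
# Associated points of the fibre modules and the dimensions of their closures (helper16)
-/

set_option autoImplicit false
set_option linter.style.haveILetI false
set_option linter.unusedSectionVars false
universe u

open AlgebraicGeometry CategoryTheory Limits IsLocalRing TopologicalSpace

namespace Groth.Agent.Helper16.EquiSk

open Groth.Agent.Helper16.FibStalk Groth.Agent.Helper16.FibMod Groth.Agent.Helper16.FTDim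
open Groth.Agent.Helper14

variable {X Y : Scheme.{u}} (f : X ⟶ Y) (ℱ : X.Modules)

section Ass

variable [LocallyOfFiniteType f] (hF : CohB1.IsFP ℱ)

include hF in
/-- the associated points of the fibre module are the points of depth zero. -/
theorem mem_ass_fibre_iff (y : Y) (w : f.fiber y) :
    w ∈ AssSch.Ass ((Scheme.Modules.pullback (f.fiberι y)).obj ℱ) ↔
      cdepth f ℱ (f.fiberι y w) = 0 := by
  haveI : SheafOfModules.IsFinitePresentation (R := X.ringCatSheaf) ℱ := hF
  obtain ⟨-, h2⟩ := fibre_invariants f ℱ hF y w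
  haveI := isNoetherianRing_fiber_stalk f y w
  haveI : Module.Finite ((f.fiber y).presheaf.stalk w)
      (((Scheme.Modules.pullback (f.fiberι y)).obj ℱ).presheaf.stalk w) :=
    finite_stalk_pullback (f.fiberι y) ℱ (fun x => finite_stalk_of_isFP ℱ hF x) w
  rw [← h2, Groth.Agent.Helper9.Depth.depth_eq_zero_iff_mem_associatedPrimes]
  rfl

include hF in
/-- a bound for the dimension at a point: `x ∉ setD (N + 1)` for some `N`. -/
theorem exists_notMem_setD (x : X) : ∃ N : ℕ, x ∉ setD f ℱ (N + 1) := by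
  by_cases hxcd : cdim f ℱ x = ⊥
  · refine ⟨0, ?_⟩
    rintro ⟨z, hzS, hzx, -, -⟩
    haveI : SheafOfModules.IsFinitePresentation (R := X.ringCatSheaf) ℱ := hF
    have hcl : IsClosed (CohB1.support ℱ) := Groth.Agent.Helper28.SuppProper.isClosed_support ℱ
    have hxS : x ∈ CohB1.support ℱ := hzx.mem_closed hcl hzS
    exact (cdim_ne_bot_iff f ℱ hF x).mpr hxS hxcd
  · obtain ⟨a, b, ha, -, -⟩ := exists_nat_cinvariants f ℱ hF x hxcd
    refine ⟨a + td f x, ?_⟩
    rintro ⟨z, hzS, hzx, hfz, hm⟩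
    obtain ⟨hform, -⟩ := cdim_formula f ℱ hF x
    have h1 := hform z hzx hfz ((cdim_ne_bot_iff f ℱ hF z).mpr hzS)
    rw [ha] at h1
    have h2 : td f z ≤ a + td f x := by exact_mod_cast h1
    omega

include hF in
/-- **Local finiteness**: a union of closed sets `A j ⊆ setD j` is closed. -/
theorem isClosed_iUnion_of_subset_setD (A : ℕ → Set X) (hA : ∀ j, IsClosed (A j))
    (hsub : ∀ j, A j ⊆ setD f ℱ j) (J : Set ℕ) : IsClosed (⋃ j ∈ J, A j) := by
  classical
  rw [← isOpen_compl_iff, isOpen_iff_forall_mem_open]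
  intro x hx
  obtain ⟨N, hN⟩ := exists_notMem_setD f ℱ hF x
  refine ⟨(setD f ℱ (N + 1))ᶜ ∩ ⋂ j ∈ (Finset.range (N + 1)).filter (· ∈ J), (A j)ᶜ, ?_, ?_, ?_⟩
  · rintro x' ⟨h1, h2⟩ hx'
    simp only [Set.mem_iUnion, exists_prop] at hx'
    obtain ⟨j, hjJ, hj⟩ := hx'
    by_cases hjN : j < N + 1
    · simp only [Set.mem_iInter, Finset.mem_filter, Finset.mem_range] at h2
      exact h2 j ⟨hjN, hjJ⟩ hj
    · exact h1 (setD_anti f ℱ (by omega) (hsub j hj))
  · refine IsOpen.inter (isClosed_setD f ℱ hF _).isOpen_compl ?_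
    exact isOpen_biInter_finset fun j _ => (hA j).isOpen_compl
  · refine ⟨hN, ?_⟩
    simp only [Set.mem_iInter, Finset.mem_filter, Finset.mem_range]
    rintro j ⟨-, hjJ⟩ hj
    apply hx
    simp only [Set.mem_iUnion, exists_prop]
    exact ⟨j, hjJ, hj⟩

/-- the set `A_j`: points having a generization in the fibre of depth zero with residue field of
transcendence degree `j`. -/
def setA (j : ℕ) : Set X :=
  {x | ∃ z : X, z ∈ lowRd f ℱ (j + 1) ∧ z ⤳ x ∧ f z = f x ∧ j ≤ td f z}

include hF in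
theorem mem_setA_iff (j : ℕ) (x : X) :
    x ∈ setA f ℱ j ↔ ∃ z : X, z ⤳ x ∧ f z = f x ∧ cdepth f ℱ z = 0 ∧ td f z = j := by
  constructor
  · rintro ⟨z, hzC, hzx, hfz, hj⟩
    refine ⟨z, hzx, hfz, ?_⟩
    have hcd : cdim f ℱ z ≠ ⊥ := by
      intro hbot
      apply hzC
      rw [cdepth_eq_top_of_cdim_eq_bot f ℱ z hbot, top_add]
      exact le_top
    obtain ⟨a, b, -, hb, -⟩ := exists_nat_cinvariants f ℱ hF z hcd
    have hlt : b + td f z < j + 1 := by
      have : ¬ (((j + 1 : ℕ) : ℕ∞) ≤ (b : ℕ∞) + (td f z : ℕ∞)) := by rw [← hb]; exact hzC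
      rw [not_le] at this
      exact_mod_cast this
    rw [hb]
    refine ⟨?_, by omega⟩
    have : b = 0 := by omega
    rw [this]
    rfl
  · rintro ⟨z, hzx, hfz, h0, htd⟩
    refine ⟨z, ?_, hzx, hfz, htd.ge⟩
    unfold lowRd
    rw [Set.mem_ofPred_eq, h0, zero_add, htd, not_le]
    exact_mod_cast Nat.lt_succ_self j

include hF in
theorem isClosed_setA [LocallyOfFinitePresentation f] (hflat : FlatMod.IsFlatOver f ℱ)
    (j : ℕ) : IsClosed (setA f ℱ j) := by
  have hcl : IsClosed (lowRd f ℱ (j + 1)) := (isOpen_rdepth_ge f ℱ hF hflat (j + 1)).isClosed_compl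
  exact Groth.Agent.Helper16.FibSk.isClosed_td_ge f ⟨lowRd f ℱ (j + 1), hcl⟩ j

include hF in
theorem setA_subset_setD (j : ℕ) : setA f ℱ j ⊆ setD f ℱ j := by
  intro x hx
  obtain ⟨z, hzx, hfz, h0, htd⟩ := (mem_setA_iff f ℱ hF j x).mp hx
  refine ⟨z, ?_, hzx, hfz, htd.ge⟩
  rw [← cdim_ne_bot_iff f ℱ hF z]
  intro hbot
  rw [cdepth_eq_top_of_cdim_eq_bot f ℱ z hbot] at h0
  exact absurd h0 (by simp)

include hF in
/-- **EGA IV 12.1.1 (i)**, pointwise form: openness of the set of points through which all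
associated points of the fibre module have closures of dimension in `Φ`. -/
theorem isOpen_assDims [LocallyOfFinitePresentation f] (hflat : FlatMod.IsFlatOver f ℱ)
    (Φ : Set ℕ) :
    IsOpen {x : X | ∀ z : X, z ⤳ x → f z = f x → cdepth f ℱ z = 0 → td f z ∈ Φ} := by
  have hcl := isClosed_iUnion_of_subset_setD f ℱ hF (setA f ℱ)
    (isClosed_setA f ℱ hF hflat) (setA_subset_setD f ℱ hF) Φᶜ
  rw [← isClosed_compl_iff]
  convert hcl using 1
  ext x
  simp only [Set.mem_compl_iff, Set.mem_ofPred_eq, Set.mem_iUnion, exists_prop]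
  constructor
  · intro h
    push Not at h
    obtain ⟨z, hzx, hfz, h0, htd⟩ := h
    exact ⟨td f z, htd, (mem_setA_iff f ℱ hF _ x).mpr ⟨z, hzx, hfz, h0, rfl⟩⟩
  · rintro ⟨j, hj, hx⟩ h
    obtain ⟨z, hzx, hfz, h0, htd⟩ := (mem_setA_iff f ℱ hF j x).mp hx
    exact hj (htd ▸ h z hzx hfz h0)

include hF in
/-- the condition on the associated points through a point of a fibre, on the total space. -/
theorem assDims_fibre_iff (Φ : Finset ℕ) (y : Y) (w : f.fiber y) :
    (∀ z ∈ AssSch.Ass ((Scheme.Modules.pullback (f.fiberι y)).obj ℱ), w ∈ closure {z} →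
      ∃ n ∈ Φ, topologicalKrullDim ↥(closure ({z} : Set ↥(f.fiber y))) = (n : WithBot ℕ∞)) ↔
    ∀ z' : X, z' ⤳ f.fiberι y w → f z' = f (f.fiberι y w) → cdepth f ℱ z' = 0 →
      td f z' ∈ (Φ : Set ℕ) := by
  have hemb := (f.fiberι y).isEmbedding
  constructor
  · intro H z' hz'w hfz' h0
    obtain ⟨v, rfl⟩ : z' ∈ Set.range (f.fiberι y) := by
      rw [f.range_fiberι]
      exact hfz'.trans (apply_fiberι f y w)
    have hvw : v ⤳ w := by
      rw [← hemb.isInducing.specializes_iff]
      exact hz'w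
    obtain ⟨n, hn, hdim⟩ := H v ((mem_ass_fibre_iff f ℱ hF y v).mpr h0)
      (specializes_iff_mem_closure.mp hvw)
    rw [dim_closure_fibre f y v] at hdim
    have : td f (f.fiberι y v) = n := by exact_mod_cast hdim
    rw [this]
    exact hn
  · intro H z hz hwz
    have hzw : z ⤳ w := specializes_iff_mem_closure.mpr hwz
    have h1 := H (f.fiberι y z) (hemb.isInducing.specializes_iff.mpr hzw)
      ((apply_fiberι f y z).trans (apply_fiberι f y w).symm)
      ((mem_ass_fibre_iff f ℱ hF y z).mp hz)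
    exact ⟨td f (f.fiberι y z), h1, dim_closure_fibre f y z⟩

include hF in
/-- **EGA IV 12.1.1 (i)**. -/
theorem isOpen_assDims_through [LocallyOfFinitePresentation f] (hflat : FlatMod.IsFlatOver f ℱ)
    (Φ : Finset ℕ) :
    IsOpen {x : X | ∀ z ∈ AssSch.Ass ((Scheme.Modules.pullback (f.fiberι (f x))).obj ℱ),
      f.asFiber x ∈ closure {z} →
      ∃ n ∈ Φ, topologicalKrullDim ↥(closure ({z} : Set ↥(f.fiber (f x)))) = (n : WithBot ℕ∞)} := by
  have h := isOpen_assDims f ℱ hF hflat (Φ : Set ℕ)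
  convert h using 1
  ext x
  have hι : f.fiberι (f x) (f.asFiber x) = x := f.fiberι_asFiber x
  have h1 := assDims_fibre_iff f ℱ hF Φ (f x) (f.asFiber x)
  rw [hι] at h1
  exact h1

include hF in
/-- **EGA IV 12.2.1 (i)**: for a closed morphism, openness on the base of the set of points over
which all associated points of the fibre module have closures of dimension in `Φ`. -/
theorem isOpen_forall_assDims [LocallyOfFinitePresentation f] (hcl : IsClosedMap f)
    (hflat : FlatMod.IsFlatOver f ℱ) (Φ : Finset ℕ) :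
    IsOpen {y : Y | ∀ z ∈ AssSch.Ass ((Scheme.Modules.pullback (f.fiberι y)).obj ℱ), ∃ n ∈ Φ,
      topologicalKrullDim ↥(closure ({z} : Set ↥(f.fiber y))) = (n : WithBot ℕ∞)} := by
  have ho := isOpen_assDims f ℱ hF hflat (Φ : Set ℕ)
  have hc := hcl _ ho.isClosed_compl
  rw [← isClosed_compl_iff]
  convert hc using 1
  ext y
  simp only [Set.mem_compl_iff, Set.mem_ofPred_eq, Set.mem_image]
  constructor
  · intro h
    push Not at h
    obtain ⟨z, hz, hzΦ⟩ := h
    refine ⟨f.fiberι y z, ?_, apply_fiberι f y z⟩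
    intro h2
    have h3 := (assDims_fibre_iff f ℱ hF Φ y z).mpr h2 z hz (subset_closure rfl)
    obtain ⟨n, hn, hdim⟩ := h3
    exact hzΦ n hn hdim
  · rintro ⟨x, hx, rfl⟩ h
    apply hx
    have hι : f.fiberι (f x) (f.asFiber x) = x := f.fiberι_asFiber x
    have h1 := (assDims_fibre_iff f ℱ hF Φ (f x) (f.asFiber x)).mp (fun z hz _ => h z hz)
    rw [hι] at h1
    exact h1

end Ass

end Groth.Agent.Helper16.EquiSk
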