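import Mathlib
import Groth.Prelude
import Groth.Agent.Lib.Helper13.TensorStalk
import Groth.Agent.Lib.Helper13.PullbackStalk
import Groth.Agent.Lib.Helper16.Alg.AssTen1

set_option autoImplicit false
set_option linter.style.haveILetI false
universe u
open CategoryTheory CategoryTheory.Limits AlgebraicGeometry Opposite TopologicalSpace TensorProduct

namespace Groth.Agent.Helper16.AssTen

variable {X Y : Scheme.{u}}

/-- **Associated points of `f^*E ⊗ F` for `F` flat over `Y`**: `x` is associated to `f^*E ⊗ F` iff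
`f x` is associated to `E` and `x` is in the relative assassin of `F`. -/
theorem mem_ass_tensor_pullback_iff (f : X ⟶ Y) [IsLocallyNoetherian Y] (E : Y.Modules)
    [E.IsQuasicoherent] (F : X.Modules) (x : X) (hfl : FlatMod.IsFlatOverAt f F x) :
    x ∈ AssSch.Ass (CohB1.tensorMod ((Scheme.Modules.pullback f).obj E) F) ↔
      f x ∈ AssSch.Ass E ∧ x ∈ MoreMor.relAss f F := by
  letI : Algebra (Y.presheaf.stalk (f x)) (X.presheaf.stalk x) := (f.stalkMap x).hom.toAlgebra
  letI : Module (Y.presheaf.stalk (f x)) (F.presheaf.stalk x) := FlatMod.moduleStalkOver f F x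
  haveI : IsScalarTower (Y.presheaf.stalk (f x)) (X.presheaf.stalk x) (F.presheaf.stalk x) :=
    IsScalarTower.of_algebraMap_smul (fun _ _ => rfl)
  haveI : IsLocalHom (algebraMap (Y.presheaf.stalk (f x)) (X.presheaf.stalk x)) :=
    (inferInstance : IsLocalHom (f.stalkMap x).hom)
  haveI : Module.Flat (Y.presheaf.stalk (f x)) (F.presheaf.stalk x) := hfl
  obtain ⟨e₀⟩ := Groth.Agent.Helper13.Pullback.exists_stalk_pullback_equiv f E x
  let e₁ := (Groth.Agent.Helper13.Tensor.stalkTensorEquiv
    ((Scheme.Modules.pullback f).obj E) F x).symm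
  let e₂ := TensorProduct.congr e₀ (LinearEquiv.refl (X.presheaf.stalk x) (F.presheaf.stalk x))
  let e₃ := TensorProduct.comm (X.presheaf.stalk x)
    ((X.presheaf.stalk x) ⊗[Y.presheaf.stalk (f x)] (E.presheaf.stalk (f x))) (F.presheaf.stalk x)
  let e₄ := TensorProduct.AlgebraTensorModule.cancelBaseChange (Y.presheaf.stalk (f x))
    (X.presheaf.stalk x) (X.presheaf.stalk x) (F.presheaf.stalk x) (E.presheaf.stalk (f x))
  let e := e₁.trans (e₂.trans (e₃.trans e₄))
  have h := isAssociatedPrime_maximalIdeal_tensor_iff (A := Y.presheaf.stalk (f x))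
    (B := X.presheaf.stalk x) (F.presheaf.stalk x) (E.presheaf.stalk (f x))
  change IsAssociatedPrime (IsLocalRing.maximalIdeal (X.presheaf.stalk x))
    ((CohB1.tensorMod ((Scheme.Modules.pullback f).obj E) F).presheaf.stalk x) ↔
    IsAssociatedPrime (IsLocalRing.maximalIdeal (Y.presheaf.stalk (f x)))
      (E.presheaf.stalk (f x)) ∧
    IsAssociatedPrime (IsLocalRing.maximalIdeal (X.presheaf.stalk x))
      ((F.presheaf.stalk x) ⧸ (IsLocalRing.maximalIdeal (Y.presheaf.stalk (f x))).map
        (algebraMap (Y.presheaf.stalk (f x)) (X.presheaf.stalk x)) •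
          (⊤ : Submodule (X.presheaf.stalk x) (F.presheaf.stalk x)))
  rw [e.isAssociatedPrime_iff]
  exact h

end Groth.Agent.Helper16.AssTen
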