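import Mathlib
import Groth.Prelude
import Groth.Agent.Lib.Helper16.Sch.FibMod6
import Groth.Agent.Lib.Helper16.Sch.FibMod2
import Groth.Agent.Lib.Helper16.Alg.FibModAlg1
import Groth.Agent.Lib.Helper9.Depth

/-!
# The relative assassin in terms of the fibrewise depth (helper16)
-/

set_option autoImplicit false
set_option linter.style.haveILetI false
set_option linter.unusedSectionVars false
universe u

open AlgebraicGeometry CategoryTheory Limits IsLocalRing TopologicalSpace

namespace Groth.Agent.Helper16.RelAss

open Groth.Agent.Helper16.FibStalk Groth.Agent.Helper16.FibMod Groth.Agent.Helper16.FibModAlg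

/-- associated-ness of the maximal ideal along a surjection of local rings. -/
theorem isAssociatedPrime_maximalIdeal_iff_of_surjective {R R' : Type u} [CommRing R] [CommRing R']
    [IsLocalRing R] [IsLocalRing R'] [Algebra R R']
    (h : Function.Surjective (algebraMap R R'))
    (N : Type u) [AddCommGroup N] [Module R' N] [Module R N] [IsScalarTower R R' N] :
    IsAssociatedPrime (maximalIdeal R) N ↔ IsAssociatedPrime (maximalIdeal R') N := by
  haveI : IsLocalHom (algebraMap R R') := IsLocalHom.of_surjective _ h
  have hm : maximalIdeal R = (maximalIdeal R').comap (algebraMap R R') :=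
    (IsLocalRing.maximalIdeal_comap (algebraMap R R')).symm
  have hcolon : ∀ x : N, Submodule.colon (⊥ : Submodule R N) {x} =
      (Submodule.colon (⊥ : Submodule R' N) {x}).comap (algebraMap R R') := by
    intro x
    ext r
    simp only [Submodule.mem_colon_singleton, Submodule.mem_bot, Ideal.mem_comap, algebraMap_smul]
  have hinj := Ideal.comap_injective_of_surjective (algebraMap R R') h
  constructor
  · rintro ⟨-, x, hx⟩
    refine ⟨inferInstance, x, ?_⟩
    apply hinj
    rw [← hm, Ideal.comap_radical, ← hcolon x]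
    exact hx
  · rintro ⟨-, x, hx⟩
    refine ⟨inferInstance, x, ?_⟩
    rw [hm, hcolon x, ← Ideal.comap_radical, ← hx]

variable {X Y : Scheme.{u}} (f : X ⟶ Y) (ℱ : X.Modules)

/-- **the relative assassin is the locus of fibrewise depth zero.** -/
theorem mem_relAss_iff [LocallyOfFiniteType f] (hF : CohB1.IsFP ℱ) (x : X) :
    x ∈ MoreMor.relAss f ℱ ↔ cdepth f ℱ x = 0 := by
  haveI := finite_stalk_of_isFP ℱ hF x
  haveI : IsNoetherianRing (X.presheaf.stalk x ⧸ fibIdeal f x) := by
    haveI := isNoetherianRing_fiber_stalk f (f x) (f.asFiber x)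
    exact isNoetherianRing_of_ringEquiv _ (fibStalkEquiv f x).symm
  have hsurj : Function.Surjective (algebraMap (X.presheaf.stalk x)
      (X.presheaf.stalk x ⧸ fibIdeal f x)) := Ideal.Quotient.mk_surjective
  have h1 := (invariants_eq_of_surjective hsurj (FQ f ℱ x) (FQ f ℱ x) (LinearEquiv.refl _ _)).2
  have h2 := Groth.Agent.Helper9.Depth.depth_eq_zero_iff_mem_associatedPrimes
    (A := X.presheaf.stalk x ⧸ fibIdeal f x) (FQ f ℱ x)
  have h3 := isAssociatedPrime_maximalIdeal_iff_of_surjective hsurj (FQ f ℱ x)
  change IsAssociatedPrime (maximalIdeal (X.presheaf.stalk x)) (FQ f ℱ x) ↔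
    LocCoh.depth (X.presheaf.stalk x) (FQ f ℱ x) = 0
  rw [h3, ← h1, h2]
  rfl

end Groth.Agent.Helper16.RelAss
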