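import Mathlib
import Groth.Prelude
import Groth.Agent.Lib.Helper16.Sch.RelAss1
import Groth.Agent.Lib.Helper16.Alg.AssTensorLocal1
import Groth.Agent.Lib.Helper16.Sch.GenLift1

/-!
# The relative assassin under base change (helper16)
-/

set_option autoImplicit false
set_option linter.style.haveILetI false
set_option linter.unusedSectionVars false
universe u

open AlgebraicGeometry CategoryTheory Limits IsLocalRing TopologicalSpace TensorProduct

namespace Groth.Agent.Helper16.RelAss

open Groth.Agent.Helper16.FibStalk Groth.Agent.Helper16.FibMod Groth.Agent.Helper16.FibModAlg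
open Groth.Agent.Helper16.FibCM Groth.Agent.Helper16.AssTensor

section Fibre

variable {X Y : Scheme.{u}} (f : X ⟶ Y) (ℱ : X.Modules)

/-- **Associated points of the restriction to a fibre are the points of the relative assassin**,
for an arbitrary quasi-coherent module. -/
theorem isAssPoint_fibre_iff [ℱ.IsQuasicoherent] (y : Y) (w : f.fiber y) :
    Curv2.IsAssPoint ((Scheme.Modules.pullback (f.fiberι y)).obj ℱ) w ↔
      f.fiberι y w ∈ MoreMor.relAss f ℱ := by
  letI alg : Algebra (X.presheaf.stalk (f.fiberι y w)) ((f.fiber y).presheaf.stalk w) :=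
    ((f.fiberι y).stalkMap w).hom.toAlgebra
  have hsurj : Function.Surjective (algebraMap (X.presheaf.stalk (f.fiberι y w))
      ((f.fiber y).presheaf.stalk w)) := stalkMap_fiberι_surjective f y w
  obtain ⟨e₁⟩ := Groth.Agent.Helper13.Pullback.exists_stalk_pullback_equiv (f.fiberι y) ℱ w
  letI modT : Module (X.presheaf.stalk (f.fiberι y w))
      (((Scheme.Modules.pullback (f.fiberι y)).obj ℱ).presheaf.stalk w) :=
    Module.compHom _ (algebraMap (X.presheaf.stalk (f.fiberι y w))
      ((f.fiber y).presheaf.stalk w))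
  haveI : IsScalarTower (X.presheaf.stalk (f.fiberι y w)) ((f.fiber y).presheaf.stalk w)
      (((Scheme.Modules.pullback (f.fiberι y)).obj ℱ).presheaf.stalk w) :=
    IsScalarTower.of_algebraMap_smul fun r x => rfl
  have hker : RingHom.ker (algebraMap (X.presheaf.stalk (f.fiberι y w))
      ((f.fiber y).presheaf.stalk w)) = fibIdeal f (f.fiberι y w) := ker_stalkMap_fiberι f y w
  let ρ : ((f.fiber y).presheaf.stalk w) ≃ₗ[X.presheaf.stalk (f.fiberι y w)]
      (X.presheaf.stalk (f.fiberι y w) ⧸ fibIdeal f (f.fiberι y w)) :=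
    ((Ideal.quotientKerAlgEquivOfSurjective (f := Algebra.ofId (X.presheaf.stalk (f.fiberι y w))
      ((f.fiber y).presheaf.stalk w)) hsurj).symm.trans
      (Ideal.quotientEquivAlgOfEq _ hker)).toLinearEquiv
  let ψ : (((Scheme.Modules.pullback (f.fiberι y)).obj ℱ).presheaf.stalk w)
      ≃ₗ[X.presheaf.stalk (f.fiberι y w)] FQ f ℱ (f.fiberι y w) :=
    (e₁.restrictScalars (X.presheaf.stalk (f.fiberι y w))).trans
      ((TensorProduct.congr ρ (LinearEquiv.refl _ _)).trans
        (TensorProduct.quotTensorEquivQuotSMul _ _))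
  have h3 := isAssociatedPrime_maximalIdeal_iff_of_surjective hsurj
    (((Scheme.Modules.pullback (f.fiberι y)).obj ℱ).presheaf.stalk w)
  change IsAssociatedPrime (maximalIdeal ((f.fiber y).presheaf.stalk w))
    (((Scheme.Modules.pullback (f.fiberι y)).obj ℱ).presheaf.stalk w) ↔
    IsAssociatedPrime (maximalIdeal (X.presheaf.stalk (f.fiberι y w))) (FQ f ℱ (f.fiberι y w))
  rw [← h3]
  exact ψ.isAssociatedPrime_iff

/-- the same at the canonical point of the fibre through `x`. -/
theorem isAssPoint_asFiber_iff [ℱ.IsQuasicoherent] (x : X) :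
    Curv2.IsAssPoint ((Scheme.Modules.pullback (f.fiberι (f x))).obj ℱ) (f.asFiber x) ↔
      x ∈ MoreMor.relAss f ℱ := by
  rw [isAssPoint_fibre_iff, f.fiberι_asFiber]

end Fibre

section BC

variable {X Y X' Y' : Scheme.{u}} {f : X ⟶ Y} {g : Y' ⟶ Y} {f' : X' ⟶ Y'} {g' : X' ⟶ X}

/-- **Base change of the relative assassin**: a point of the base change is in the relative
assassin iff its image is and the fibre local rings have the same dimension. -/
theorem mem_relAss_baseChange_iff [LocallyOfFiniteType f] (hsq : IsPullback g' f' f g)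
    (ℱ : X.Modules) [ℱ.IsQuasicoherent] (x' : X') :
    x' ∈ MoreMor.relAss f' ((Scheme.Modules.pullback g').obj ℱ) ↔
      g' x' ∈ MoreMor.relAss f ℱ ∧ fdim f' x' = fdim f (g' x') := by
  haveI hft' : LocallyOfFiniteType f' :=
    MorphismProperty.of_isPullback hsq ‹LocallyOfFiniteType f›
  obtain ⟨h, hcomp, hflat, hCM⟩ := exists_fibre_hom hsq x' (Or.inr inferInstance)
  have hz : f.fiberι (g (f' x')) (h (f'.asFiber x')) = g' x' := by
    rw [← Scheme.Hom.comp_apply, hcomp, Scheme.Hom.comp_apply]
    exact congrArg g' (f'.fiberι_asFiber x')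
  haveI := isNoetherianRing_fiber_stalk f (g (f' x')) (h (f'.asFiber x'))
  haveI := isNoetherianRing_fiber_stalk f' (f' x') (f'.asFiber x')
  letI : Algebra ((f.fiber (g (f' x'))).presheaf.stalk (h (f'.asFiber x')))
      ((f'.fiber (f' x')).presheaf.stalk (f'.asFiber x')) :=
    (h.stalkMap (f'.asFiber x')).hom.toAlgebra
  haveI : IsLocalHom (algebraMap ((f.fiber (g (f' x'))).presheaf.stalk (h (f'.asFiber x')))
      ((f'.fiber (f' x')).presheaf.stalk (f'.asFiber x'))) :=
    inferInstanceAs (IsLocalHom (h.stalkMap (f'.asFiber x')).hom)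
  haveI : Module.Flat ((f.fiber (g (f' x'))).presheaf.stalk (h (f'.asFiber x')))
      ((f'.fiber (f' x')).presheaf.stalk (f'.asFiber x')) := Flat.stalkMap h (f'.asFiber x')
  haveI : IsLocalRing ((f'.fiber (f' x')).presheaf.stalk (f'.asFiber x') ⧸
      fibIdeal h (f'.asFiber x')) :=
    isLocalRing_quotient _ (fibIdeal_le h (f'.asFiber x'))
  have hCM' : LocCoh.IsCohenMacaulayLocalRing
      ((f'.fiber (f' x')).presheaf.stalk (f'.asFiber x') ⧸ fibIdeal h (f'.asFiber x')) :=
    @isCM_of_ringEquiv _ _ _ _ (fibStalkEquiv h (f'.asFiber x')).symm hCM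
  have key := isAssociatedPrime_maximalIdeal_tensor_iff
    (R := (f.fiber (g (f' x'))).presheaf.stalk (h (f'.asFiber x')))
    (S := (f'.fiber (f' x')).presheaf.stalk (f'.asFiber x'))
    (fibIdeal h (f'.asFiber x')) rfl hCM'
    (((Scheme.Modules.pullback (f.fiberι (g (f' x')))).obj ℱ).presheaf.stalk (h (f'.asFiber x')))
  -- the comparison isomorphism
  let α : (Scheme.Modules.pullback h).obj ((Scheme.Modules.pullback (f.fiberι (g (f' x')))).obj ℱ) ≅
      (Scheme.Modules.pullback (f'.fiberι (f' x'))).obj ((Scheme.Modules.pullback g').obj ℱ) :=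
    ((Scheme.Modules.pullbackComp h (f.fiberι (g (f' x')))).app ℱ).trans
      (((Scheme.Modules.pullbackCongr hcomp).app ℱ).trans
        ((Scheme.Modules.pullbackComp (f'.fiberι (f' x')) g').app ℱ).symm)
  have eα := Groth.Agent.Helper13.Inv.stalkLinearEquiv α (f'.asFiber x')
  obtain ⟨e₁⟩ := Groth.Agent.Helper13.Pullback.exists_stalk_pullback_equiv h
    ((Scheme.Modules.pullback (f.fiberι (g (f' x')))).obj ℱ) (f'.asFiber x')
  have eT := eα.symm.trans e₁
  -- dimensions
  have e : (f.fiber (g (f' x'))).presheaf.stalk (h (f'.asFiber x')) ≃+*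
      (f.fiber (f (g' x'))).presheaf.stalk (f.asFiber (g' x')) :=
    (quotEquivStalkFiberOfEq f (g (f' x')) (h (f'.asFiber x')) (g' x') hz).symm.trans
      (quotEquivStalkFiberOfEq f (f (g' x')) (f.asFiber (g' x')) (g' x') (f.fiberι_asFiber _))
  have hdimR : ringKrullDim ((f.fiber (g (f' x'))).presheaf.stalk (h (f'.asFiber x'))) =
      ringKrullDim ((f.fiber (f (g' x'))).presheaf.stalk (f.asFiber (g' x'))) :=
    ringKrullDim_eq_of_ringEquiv e
  rw [← isAssPoint_asFiber_iff f' ((Scheme.Modules.pullback g').obj ℱ) x']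
  have h2 := isAssPoint_fibre_iff f ℱ (g (f' x')) (h (f'.asFiber x'))
  rw [hz] at h2
  rw [← h2]
  unfold fdim
  rw [← hdimR]
  change IsAssociatedPrime (maximalIdeal ((f'.fiber (f' x')).presheaf.stalk (f'.asFiber x')))
    (((Scheme.Modules.pullback (f'.fiberι (f' x'))).obj
      ((Scheme.Modules.pullback g').obj ℱ)).presheaf.stalk (f'.asFiber x')) ↔ _
  rw [eT.isAssociatedPrime_iff]
  exact key

end BC

end Groth.Agent.Helper16.RelAss
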