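import Mathlib
import Groth.Prelude
import Groth.Agent.Lib.Helper13.WeakAss
import Groth.Agent.Lib.Helper13.InvTensor
import Groth.Agent.Lib.Helper5.BCF4
import Groth.Agent.Lib.Helper16.Sch.AssTen2
import Groth.Agent.Lib.Helper16.Sch.RelAss3

set_option autoImplicit false
set_option linter.style.haveILetI false
set_option linter.unusedSectionVars false
universe u
open CategoryTheory CategoryTheory.Limits AlgebraicGeometry Opposite TopologicalSpace TensorProduct
open IsLocalRing

namespace Groth.Agent.Helper16.AssTen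

open Groth.Agent.Helper16.FibStalk Groth.Agent.Helper16.FibMod Groth.Agent.Helper16.RelAss

section BC

variable {X Y X' Y' : Scheme.{u}} {f : X ⟶ Y} {g : Y' ⟶ Y} {f' : X' ⟶ Y'} {g' : X' ⟶ X}

/-- points of the relative assassin of a base change map to points of the relative assassin (no
finiteness hypothesis on the morphisms; `X` locally Noetherian). -/
theorem mem_relAss_of_mem_relAss_baseChange [IsLocallyNoetherian X] (hsq : IsPullback g' f' f g)
    (ℱ : X.Modules) [ℱ.IsQuasicoherent] (x' : X')
    (hx' : x' ∈ MoreMor.relAss f' ((Scheme.Modules.pullback g').obj ℱ)) :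
    g' x' ∈ MoreMor.relAss f ℱ := by
  let h : f'.fiber (f' x') ⟶ f.fiber (g (f' x')) :=
    pullback.map _ _ _ _ g' (Spec.map (g.residueFieldMap (f' x'))) g hsq.w.symm (by simp)
  have sqh : IsPullback h (f'.fiberToSpecResidueField (f' x'))
      (f.fiberToSpecResidueField (g (f' x'))) (Spec.map (g.residueFieldMap (f' x'))) :=
    isPullback_fiberToSpecResidueField_of_isPullback hsq (f' x')
  have hcomp : h ≫ f.fiberι (g (f' x')) = f'.fiberι (f' x') ≫ g' := pullback.lift_fst _ _ _
  haveI hflat : Flat h := by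
    have h0 : Flat (Spec.map (g.residueFieldMap (f' x'))) := by
      rw [Flat.SpecMap_iff]
      letI := (g.residueFieldMap (f' x')).hom.toAlgebra
      exact RingHom.flat_algebraMap_iff.mpr inferInstance
    exact MorphismProperty.of_isPullback sqh.flip h0
  have hz : f.fiberι (g (f' x')) (h (f'.asFiber x')) = g' x' := by
    rw [← Scheme.Hom.comp_apply, hcomp, Scheme.Hom.comp_apply]
    exact congrArg g' (f'.fiberι_asFiber x')
  haveI : IsNoetherianRing ((f.fiber (g (f' x'))).presheaf.stalk (h (f'.asFiber x'))) :=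
    isNoetherianRing_of_surjective _ _ _
      (stalkMap_fiberι_surjective f (g (f' x')) (h (f'.asFiber x')))
  letI : Algebra ((f.fiber (g (f' x'))).presheaf.stalk (h (f'.asFiber x')))
      ((f'.fiber (f' x')).presheaf.stalk (f'.asFiber x')) :=
    (h.stalkMap (f'.asFiber x')).hom.toAlgebra
  haveI : IsLocalHom (algebraMap ((f.fiber (g (f' x'))).presheaf.stalk (h (f'.asFiber x')))
      ((f'.fiber (f' x')).presheaf.stalk (f'.asFiber x'))) :=
    inferInstanceAs (IsLocalHom (h.stalkMap (f'.asFiber x')).hom)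
  haveI : Module.Flat ((f.fiber (g (f' x'))).presheaf.stalk (h (f'.asFiber x')))
      ((f'.fiber (f' x')).presheaf.stalk (f'.asFiber x')) := Flat.stalkMap h (f'.asFiber x')
  have key := isAssociatedPrime_maximalIdeal_tensor_iff
    (A := (f.fiber (g (f' x'))).presheaf.stalk (h (f'.asFiber x')))
    (B := (f'.fiber (f' x')).presheaf.stalk (f'.asFiber x'))
    ((f'.fiber (f' x')).presheaf.stalk (f'.asFiber x'))
    (((Scheme.Modules.pullback (f.fiberι (g (f' x')))).obj ℱ).presheaf.stalk (h (f'.asFiber x')))
  -- the comparison isomorphism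
  let α : (Scheme.Modules.pullback h).obj ((Scheme.Modules.pullback (f.fiberι (g (f' x')))).obj ℱ) ≅
      (Scheme.Modules.pullback (f'.fiberι (f' x'))).obj ((Scheme.Modules.pullback g').obj ℱ) :=
    ((Scheme.Modules.pullbackComp h (f.fiberι (g (f' x')))).app ℱ).trans
      (((Scheme.Modules.pullbackCongr hcomp).app ℱ).trans
        ((Scheme.Modules.pullbackComp (f'.fiberι (f' x')) g').app ℱ).symm)
  have eα := Groth.Agent.Helper13.Inv.stalkLinearEquiv α (f'.asFiber x')
  obtain ⟨e₁⟩ := Groth.Agent.Helper13.Pullback.exists_stalk_pullback_equiv h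
    ((Scheme.Modules.pullback (f.fiberι (g (f' x')))).obj ℱ) (f'.asFiber x')
  have eT := eα.symm.trans e₁
  rw [← isAssPoint_asFiber_iff f' ((Scheme.Modules.pullback g').obj ℱ) x'] at hx'
  have h2 := isAssPoint_fibre_iff f ℱ (g (f' x')) (h (f'.asFiber x'))
  rw [hz] at h2
  rw [← h2]
  change IsAssociatedPrime (maximalIdeal ((f'.fiber (f' x')).presheaf.stalk (f'.asFiber x')))
    (((Scheme.Modules.pullback (f'.fiberι (f' x'))).obj
      ((Scheme.Modules.pullback g').obj ℱ)).presheaf.stalk (f'.asFiber x')) at hx'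
  rw [eT.isAssociatedPrime_iff] at hx'
  exact (key.mp hx').1

end BC

section Sch

variable {Y S : Scheme.{u}}

/-- associated points of a module flat over a locally Noetherian base. -/
theorem mem_ass_iff_of_isFlatOverAt (g : Y ⟶ S) [IsLocallyNoetherian S] (G : Y.Modules) (y : Y)
    (hfl : FlatMod.IsFlatOverAt g G y) :
    y ∈ AssSch.Ass G ↔
      g y ∈ AssSch.Ass (Coh.structureModule S) ∧ y ∈ MoreMor.relAss g G := by
  letI : Algebra (S.presheaf.stalk (g y)) (Y.presheaf.stalk y) := (g.stalkMap y).hom.toAlgebra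
  letI : Module (S.presheaf.stalk (g y)) (G.presheaf.stalk y) := FlatMod.moduleStalkOver g G y
  haveI : IsScalarTower (S.presheaf.stalk (g y)) (Y.presheaf.stalk y) (G.presheaf.stalk y) :=
    IsScalarTower.of_algebraMap_smul (fun _ _ => rfl)
  haveI : IsLocalHom (algebraMap (S.presheaf.stalk (g y)) (Y.presheaf.stalk y)) :=
    (inferInstance : IsLocalHom (g.stalkMap y).hom)
  haveI : Module.Flat (S.presheaf.stalk (g y)) (G.presheaf.stalk y) := hfl
  have key := isAssociatedPrime_maximalIdeal_tensor_iff (A := S.presheaf.stalk (g y))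
    (B := Y.presheaf.stalk y) (G.presheaf.stalk y) (S.presheaf.stalk (g y))
  let e := TensorProduct.AlgebraTensorModule.rid (S.presheaf.stalk (g y)) (Y.presheaf.stalk y)
    (G.presheaf.stalk y)
  have hu := LinearEquiv.isAssociatedPrime_iff
    (Groth.Agent.Helper13.WeakAss.unitStalkEquiv (X := S) (g y))
    (I := maximalIdeal (S.presheaf.stalk (g y)))
  change IsAssociatedPrime (maximalIdeal (Y.presheaf.stalk y)) (G.presheaf.stalk y) ↔
    IsAssociatedPrime (maximalIdeal (S.presheaf.stalk (g y)))
      ((Coh.structureModule S).presheaf.stalk (g y)) ∧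
    IsAssociatedPrime (maximalIdeal (Y.presheaf.stalk y))
      ((G.presheaf.stalk y) ⧸ (maximalIdeal (S.presheaf.stalk (g y))).map
        (algebraMap (S.presheaf.stalk (g y)) (Y.presheaf.stalk y)) •
          (⊤ : Submodule (Y.presheaf.stalk y) (G.presheaf.stalk y)))
  rw [hu, ← e.isAssociatedPrime_iff]
  exact key

end Sch

end Groth.Agent.Helper16.AssTen
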