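import Mathlib
import Groth.Prelude
import Groth.Agent.Lib.Helper16.Sch.AssTen7

set_option autoImplicit false
set_option linter.style.haveILetI false
set_option linter.unusedSectionVars false
universe u
open CategoryTheory CategoryTheory.Limits AlgebraicGeometry Opposite TopologicalSpace TensorProduct
open IsLocalRing

namespace Groth.Agent.Helper16.AssTenS

open Groth.Agent.Helper16.FibStalk Groth.Agent.Helper16.FibMod Groth.Agent.Helper16.RelAss
open Groth.Agent.Helper16.AssTen

variable {X Y X' Y' : Scheme.{u}} {f : X ⟶ Y} {g : Y' ⟶ Y} {f' : X' ⟶ Y'} {g' : X' ⟶ X}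

/-- the morphism between fibres induced by a base change. -/
noncomputable def fibreHom (hsq : IsPullback g' f' f g) (y' : Y') :
    f'.fiber y' ⟶ f.fiber (g y') :=
  pullback.map _ _ _ _ g' (Spec.map (g.residueFieldMap y')) g hsq.w.symm (by simp)

theorem fibreHom_fiberι (hsq : IsPullback g' f' f g) (y' : Y') :
    fibreHom hsq y' ≫ f.fiberι (g y') = f'.fiberι y' ≫ g' := pullback.lift_fst _ _ _

theorem flat_fibreHom (hsq : IsPullback g' f' f g) (y' : Y') : Flat (fibreHom hsq y') := by
  have sqh : IsPullback (fibreHom hsq y') (f'.fiberToSpecResidueField y')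
      (f.fiberToSpecResidueField (g y')) (Spec.map (g.residueFieldMap y')) :=
    isPullback_fiberToSpecResidueField_of_isPullback hsq y'
  have h0 : Flat (Spec.map (g.residueFieldMap y')) := by
    rw [Flat.SpecMap_iff]
    letI := (g.residueFieldMap y').hom.toAlgebra
    exact RingHom.flat_algebraMap_iff.mpr inferInstance
  exact MorphismProperty.of_isPullback sqh.flip h0

/-- **Base change of the relative assassin, general form** (no finiteness hypotheses). -/
theorem fiberι_mem_relAss_baseChange_iff [IsLocallyNoetherian X] (hsq : IsPullback g' f' f g)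
    (ℱ : X.Modules) [ℱ.IsQuasicoherent] (y' : Y') (w : f'.fiber y') :
    f'.fiberι y' w ∈ MoreMor.relAss f' ((Scheme.Modules.pullback g').obj ℱ) ↔
      g' (f'.fiberι y' w) ∈ MoreMor.relAss f ℱ ∧
      IsAssociatedPrime (maximalIdeal ((f'.fiber y').presheaf.stalk w))
        ((f'.fiber y').presheaf.stalk w ⧸ fibIdeal (fibreHom hsq y') w •
          (⊤ : Submodule ((f'.fiber y').presheaf.stalk w) ((f'.fiber y').presheaf.stalk w))) := by
  set h := fibreHom hsq y' with hh
  have hcomp : h ≫ f.fiberι (g y') = f'.fiberι y' ≫ g' := fibreHom_fiberι hsq y'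
  haveI hflat : Flat h := flat_fibreHom hsq y'
  have hz : f.fiberι (g y') (h w) = g' (f'.fiberι y' w) := by
    rw [← Scheme.Hom.comp_apply, hcomp, Scheme.Hom.comp_apply]
  haveI : IsNoetherianRing ((f.fiber (g y')).presheaf.stalk (h w)) :=
    isNoetherianRing_of_surjective _ _ _
      (stalkMap_fiberι_surjective f (g y') (h w))
  letI : Algebra ((f.fiber (g y')).presheaf.stalk (h w))
      ((f'.fiber y').presheaf.stalk w) :=
    (h.stalkMap w).hom.toAlgebra
  haveI : IsLocalHom (algebraMap ((f.fiber (g y')).presheaf.stalk (h w))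
      ((f'.fiber y').presheaf.stalk w)) :=
    inferInstanceAs (IsLocalHom (h.stalkMap w).hom)
  haveI : Module.Flat ((f.fiber (g y')).presheaf.stalk (h w))
      ((f'.fiber y').presheaf.stalk w) := Flat.stalkMap h w
  have key := isAssociatedPrime_maximalIdeal_tensor_iff
    (A := (f.fiber (g y')).presheaf.stalk (h w))
    (B := (f'.fiber y').presheaf.stalk w)
    ((f'.fiber y').presheaf.stalk w)
    (((Scheme.Modules.pullback (f.fiberι (g y'))).obj ℱ).presheaf.stalk (h w))
  -- the comparison isomorphism
  let α : (Scheme.Modules.pullback h).obj ((Scheme.Modules.pullback (f.fiberι (g y'))).obj ℱ) ≅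
      (Scheme.Modules.pullback (f'.fiberι y')).obj ((Scheme.Modules.pullback g').obj ℱ) :=
    ((Scheme.Modules.pullbackComp h (f.fiberι (g y'))).app ℱ).trans
      (((Scheme.Modules.pullbackCongr hcomp).app ℱ).trans
        ((Scheme.Modules.pullbackComp (f'.fiberι y') g').app ℱ).symm)
  have eα := Groth.Agent.Helper13.Inv.stalkLinearEquiv α w
  obtain ⟨e₁⟩ := Groth.Agent.Helper13.Pullback.exists_stalk_pullback_equiv h
    ((Scheme.Modules.pullback (f.fiberι (g y'))).obj ℱ) w
  have eT := eα.symm.trans e₁
  rw [← isAssPoint_fibre_iff f' ((Scheme.Modules.pullback g').obj ℱ) y' w, ← hz,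
    ← isAssPoint_fibre_iff f ℱ (g y') (h w)]
  change IsAssociatedPrime (maximalIdeal ((f'.fiber y').presheaf.stalk w))
    (((Scheme.Modules.pullback (f'.fiberι y')).obj
      ((Scheme.Modules.pullback g').obj ℱ)).presheaf.stalk w) ↔
    IsAssociatedPrime (maximalIdeal ((f.fiber (g y')).presheaf.stalk (h w)))
      (((Scheme.Modules.pullback (f.fiberι (g y'))).obj ℱ).presheaf.stalk (h w)) ∧ _
  rw [eT.isAssociatedPrime_iff]
  exact key

/-- the same at a point of the total space. -/
theorem mem_relAss_baseChange_iff' [IsLocallyNoetherian X] (hsq : IsPullback g' f' f g)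
    (ℱ : X.Modules) [ℱ.IsQuasicoherent] (x' : X') :
    x' ∈ MoreMor.relAss f' ((Scheme.Modules.pullback g').obj ℱ) ↔
      g' x' ∈ MoreMor.relAss f ℱ ∧
      IsAssociatedPrime (maximalIdeal ((f'.fiber (f' x')).presheaf.stalk (f'.asFiber x')))
        ((f'.fiber (f' x')).presheaf.stalk (f'.asFiber x') ⧸
          fibIdeal (fibreHom hsq (f' x')) (f'.asFiber x') •
          (⊤ : Submodule ((f'.fiber (f' x')).presheaf.stalk (f'.asFiber x'))
            ((f'.fiber (f' x')).presheaf.stalk (f'.asFiber x')))) := by
  have h := fiberι_mem_relAss_baseChange_iff hsq ℱ (f' x') (f'.asFiber x')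
  rw [f'.fiberι_asFiber] at h
  exact h

end Groth.Agent.Helper16.AssTenS
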