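import Mathlib
import Groth.Prelude
import Groth.Agent.Lib.Helper16.Sch.AssTenS1

set_option autoImplicit false
set_option linter.style.haveILetI false
set_option linter.unusedSectionVars false
universe u
open CategoryTheory CategoryTheory.Limits AlgebraicGeometry Opposite TopologicalSpace TensorProduct
open IsLocalRing

namespace Groth.Agent.Helper16.AssTenS

open Groth.Agent.Helper16.FibStalk Groth.Agent.Helper16.FibMod Groth.Agent.Helper16.RelAss
open Groth.Agent.Helper16.AssTen

/-- the fibre ideal of a composite `h ≫ ι` with `ι` surjective on the stalk is that of `h`. -/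
theorem fibIdeal_comp_eq {W V Y : Scheme.{u}} (h : W ⟶ V) (ι : V ⟶ Y) (w : W)
    (hsurj : Function.Surjective (ι.stalkMap (h w)).hom) :
    fibIdeal (h ≫ ι) w = fibIdeal h w := by
  rw [fibIdeal_def, fibIdeal_def]
  have h2 : ∀ a : Y.presheaf.stalk (ι (h w)),
      ((h ≫ ι).stalkMap w).hom a = (h.stalkMap w).hom ((ι.stalkMap (h w)).hom a) := by
    intro a
    rw [Scheme.Hom.stalkMap_comp]
    rfl
  haveI hloc : IsLocalHom (ι.stalkMap (h w)).hom := inferInstance
  apply le_antisymm
  · rw [Ideal.map_le_iff_le_comap]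
    intro (a : Y.presheaf.stalk (ι (h w))) ha
    rw [Ideal.mem_comap]
    have h3 := h2 a
    rw [h3]
    apply Ideal.mem_map_of_mem
    rw [mem_maximalIdeal, mem_nonunits_iff] at ha ⊢
    intro hu
    exact ha (isUnit_of_map_unit (ι.stalkMap (h w)).hom a hu)
  · rw [Ideal.map_le_iff_le_comap]
    intro b hb
    obtain ⟨a, rfl⟩ := hsurj b
    rw [Ideal.mem_comap, ← h2 a]
    apply Ideal.mem_map_of_mem
    rw [mem_maximalIdeal, mem_nonunits_iff] at hb ⊢
    intro hu
    exact hb (hu.map (ι.stalkMap (h w)).hom)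

/-- ring-level: associatedness of the maximal ideal of a local ring in itself is invariant under
ring isomorphisms. -/
theorem isAssociatedPrime_maximalIdeal_self_of_ringEquiv {R₁ R₂ : Type u} [CommRing R₁]
    [CommRing R₂] [IsLocalRing R₁] [IsLocalRing R₂] (σ : R₂ ≃+* R₁) :
    IsAssociatedPrime (maximalIdeal R₁) R₁ ↔ IsAssociatedPrime (maximalIdeal R₂) R₂ := by
  letI : Algebra R₂ R₁ := σ.toRingHom.toAlgebra
  have hsurj : Function.Surjective (algebraMap R₂ R₁) := σ.surjective
  rw [← isAssociatedPrime_maximalIdeal_iff_of_surjective hsurj R₁]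
  let e : R₂ ≃ₗ[R₂] R₁ :=
    { σ.toAddEquiv with
      map_smul' := fun r x => by
        change σ (r * x) = σ r * σ x
        exact map_mul σ r x }
  exact e.symm.isAssociatedPrime_iff

/-- ring-level: along a surjection `φ : R → R'` of local rings with kernel `I`, the maximal
ideal of `R'` is associated to `R'` iff the maximal ideal of `R` is associated to `R ⧸ I • ⊤`. -/
theorem isAssociatedPrime_maximalIdeal_quot_iff {R R' : Type u} [CommRing R] [CommRing R']
    [IsLocalRing R] [IsLocalRing R'] (φ : R →+* R') (hφ : Function.Surjective φ) (I : Ideal R)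
    (hI : RingHom.ker φ = I) :
    IsAssociatedPrime (maximalIdeal R') R' ↔
      IsAssociatedPrime (maximalIdeal R) (R ⧸ I • (⊤ : Submodule R R)) := by
  letI : Algebra R R' := φ.toAlgebra
  have hsurj : Function.Surjective (algebraMap R R') := hφ
  rw [← isAssociatedPrime_maximalIdeal_iff_of_surjective hsurj R']
  have hI' : I • (⊤ : Submodule R R) = RingHom.ker (Algebra.ofId R R') := by
    rw [smul_eq_mul, Ideal.mul_top, ← hI]
    rfl
  let ρ : (R ⧸ I • (⊤ : Submodule R R)) ≃ₗ[R] R' :=
    (Submodule.quotEquivOfEq _ _ hI').trans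
      (Ideal.quotientKerAlgEquivOfSurjective (f := Algebra.ofId R R') hsurj).toLinearEquiv
  exact ρ.symm.isAssociatedPrime_iff

section Fibre

variable {W Y : Scheme.{u}} (θ : W ⟶ Y)

/-- the predicate "the maximal ideal of `𝒪_{W,w}` is associated to `𝒪_{W,w} ⧸ 𝔪_{θ w}`". -/
def FibAss (w : W) : Prop :=
  IsAssociatedPrime (maximalIdeal (W.presheaf.stalk w))
    (W.presheaf.stalk w ⧸ fibIdeal θ w •
      (⊤ : Submodule (W.presheaf.stalk w) (W.presheaf.stalk w)))

theorem fibAss_congr {w₁ w₂ : W} (h : w₁ = w₂) : FibAss θ w₁ ↔ FibAss θ w₂ := by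
  subst h
  rfl

/-- associated points of the structure sheaf of a fibre. -/
theorem mem_ass_structureModule_fiber_iff (y : Y) (w : θ.fiber y) :
    w ∈ AssSch.Ass (Coh.structureModule (θ.fiber y)) ↔ FibAss θ (θ.fiberι y w) := by
  have hu := LinearEquiv.isAssociatedPrime_iff
    (Groth.Agent.Helper13.WeakAss.unitStalkEquiv (X := θ.fiber y) w)
    (I := maximalIdeal ((θ.fiber y).presheaf.stalk w))
  change IsAssociatedPrime (maximalIdeal ((θ.fiber y).presheaf.stalk w))
    ((Coh.structureModule (θ.fiber y)).presheaf.stalk w) ↔ _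
  rw [hu]
  exact isAssociatedPrime_maximalIdeal_quot_iff ((θ.fiberι y).stalkMap w).hom
    (stalkMap_fiberι_surjective θ y w) _ (ker_stalkMap_fiberι θ y w)

theorem asFiber_mem_ass_structureModule_fiber_iff (w : W) :
    θ.asFiber w ∈ AssSch.Ass (Coh.structureModule (θ.fiber (θ w))) ↔ FibAss θ w := by
  rw [mem_ass_structureModule_fiber_iff]
  exact fibAss_congr θ (θ.fiberι_asFiber w)

end Fibre

/-- associated points of the structure sheaf are preserved by isomorphisms. -/
theorem mem_ass_structureModule_iff_of_isIso {T₁ T₂ : Scheme.{u}} (φ : T₁ ⟶ T₂) [IsIso φ]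
    (t : T₁) :
    t ∈ AssSch.Ass (Coh.structureModule T₁) ↔ φ t ∈ AssSch.Ass (Coh.structureModule T₂) := by
  have hu₁ := LinearEquiv.isAssociatedPrime_iff
    (Groth.Agent.Helper13.WeakAss.unitStalkEquiv (X := T₁) t)
    (I := maximalIdeal (T₁.presheaf.stalk t))
  have hu₂ := LinearEquiv.isAssociatedPrime_iff
    (Groth.Agent.Helper13.WeakAss.unitStalkEquiv (X := T₂) (φ t))
    (I := maximalIdeal (T₂.presheaf.stalk (φ t)))
  change IsAssociatedPrime (maximalIdeal (T₁.presheaf.stalk t))
    ((Coh.structureModule T₁).presheaf.stalk t) ↔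
    IsAssociatedPrime (maximalIdeal (T₂.presheaf.stalk (φ t)))
    ((Coh.structureModule T₂).presheaf.stalk (φ t))
  rw [hu₁, hu₂]
  let σ : T₂.presheaf.stalk (φ t) ≃+* T₁.presheaf.stalk t :=
    (asIso (φ.stalkMap t)).commRingCatIsoToRingEquiv
  exact isAssociatedPrime_maximalIdeal_self_of_ringEquiv σ

end Groth.Agent.Helper16.AssTenS
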