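import Mathlib
import Groth.Prelude
import Groth.Agent.Lib.Helper16.Sch.AssTenS2

set_option autoImplicit false
set_option linter.style.haveILetI false
set_option linter.unusedSectionVars false
universe u
open CategoryTheory CategoryTheory.Limits AlgebraicGeometry Opposite TopologicalSpace TensorProduct
open IsLocalRing

namespace Groth.Agent.Helper16.AssTenS

open Groth.Agent.Helper16.FibStalk Groth.Agent.Helper16.FibMod Groth.Agent.Helper16.RelAss
open Groth.Agent.Helper16.AssTen

section BC
variable {X Y X' Y' : Scheme.{u}} {f : X ⟶ Y} {g : Y' ⟶ Y} {f' : X' ⟶ Y'} {g' : X' ⟶ X}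

theorem fibAss_fibreHom_iff (hsq : IsPullback g' f' f g) (y' : Y') (w : f'.fiber y') :
    FibAss (fibreHom hsq y') w ↔ FibAss (f'.fiberι y' ≫ g') w := by
  have h1 : fibIdeal (fibreHom hsq y') w = fibIdeal (f'.fiberι y' ≫ g') w := by
    rw [← fibIdeal_comp_eq (fibreHom hsq y') (f.fiberι (g y')) w
      (stalkMap_fiberι_surjective f (g y') _)]
    exact congrArg (fun φ => fibIdeal φ w) (fibreHom_fiberι hsq y')
  unfold FibAss
  rw [h1]

end BC

section T

variable {X Y S : Scheme.{u}} (f : X ⟶ S) (g : Y ⟶ S) (x : X) (y : Y)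

/-- `T(x,y) = Spec κ(x) ×_S Spec κ(y)`. -/
noncomputable abbrev TT : Scheme.{u} :=
  pullback (X.fromSpecResidueField x ≫ f) (Y.fromSpecResidueField y ≫ g)

/-- the canonical monomorphism `T(x,y) ⟶ X ×_S Y`. -/
noncomputable abbrev tau : TT f g x y ⟶ pullback f g :=
  pullback.map (X.fromSpecResidueField x ≫ f) (Y.fromSpecResidueField y ≫ g) f g
    (X.fromSpecResidueField x) (Y.fromSpecResidueField y) (𝟙 S) (Category.comp_id _)
    (Category.comp_id _)

/-- `θ : P_x ⟶ Y`. -/
noncomputable abbrev theta : (pullback.fst f g).fiber x ⟶ Y :=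
  (pullback.fst f g).fiberι x ≫ pullback.snd f g

/-- `T(x,y) ⟶ P_x`. -/
noncomputable def toFib : TT f g x y ⟶ (pullback.fst f g).fiber x :=
  pullback.lift (tau f g x y) (pullback.fst _ _) (pullback.lift_fst _ _ _)

theorem toFib_fiberι : toFib f g x y ≫ (pullback.fst f g).fiberι x = tau f g x y :=
  pullback.lift_fst _ _ _

theorem isPullback_toFib :
    IsPullback (toFib f g x y)
      (pullback.lift (tau f g x y) (pullback.snd _ _) (pullback.lift_snd _ _ _) ≫
        pullback.snd (pullback.snd f g) (Y.fromSpecResidueField y))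
      (theta f g x) (Y.fromSpecResidueField y) := by
  have left := (pullback_lift_map_isPullback (X.fromSpecResidueField x ≫ f)
    (Y.fromSpecResidueField y ≫ g) f g (X.fromSpecResidueField x) (Y.fromSpecResidueField y)
    (𝟙 S) (Category.comp_id _) (Category.comp_id _)).flip
  have right := (IsPullback.of_hasPullback (pullback.snd f g) (Y.fromSpecResidueField y)).flip
  exact (left.paste_horiz right).flip

/-- the isomorphism `T(x,y) ≅ θ⁻¹(y)`. -/
noncomputable def isoFib : TT f g x y ≅ (theta f g x).fiber y :=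
  (isPullback_toFib f g x y).isoPullback

theorem isoFib_hom_fiberι :
    (isoFib f g x y).hom ≫ (theta f g x).fiberι y = toFib f g x y :=
  (isPullback_toFib f g x y).isoPullback_hom_fst

theorem mem_ass_TT_iff (t : TT f g x y) :
    t ∈ AssSch.Ass (Coh.structureModule (TT f g x y)) ↔
      FibAss (theta f g x) (toFib f g x y t) := by
  rw [mem_ass_structureModule_iff_of_isIso (isoFib f g x y).hom t,
    mem_ass_structureModule_fiber_iff]
  apply fibAss_congr
  rw [← Scheme.Hom.comp_apply, isoFib_hom_fiberι]

theorem tau_toFib (t : TT f g x y) :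
    (pullback.fst f g).fiberι x (toFib f g x y t) = tau f g x y t := by
  rw [← Scheme.Hom.comp_apply, toFib_fiberι]

theorem fst_tau (t : TT f g x y) : pullback.fst f g (tau f g x y t) = x := by
  rw [← Scheme.Hom.comp_apply, pullback.lift_fst, Scheme.Hom.comp_apply]
  exact Scheme.fromSpecResidueField_apply _ _

theorem snd_tau (t : TT f g x y) : pullback.snd f g (tau f g x y t) = y := by
  rw [← Scheme.Hom.comp_apply, pullback.lift_snd, Scheme.Hom.comp_apply]
  exact Scheme.fromSpecResidueField_apply _ _

theorem theta_toFib (t : TT f g x y) : theta f g x (toFib f g x y t) = y := by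
  rw [Scheme.Hom.comp_apply, tau_toFib, snd_tau]

/-- every point `w` of `P_x` is the image of a point of `T(x, θ w)`. -/
theorem exists_toFib_eq (w : (pullback.fst f g).fiber x) :
    ∃ t : TT f g x (theta f g x w), toFib f g x (theta f g x w) t = w := by
  refine ⟨(isoFib f g x (theta f g x w)).inv ((theta f g x).asFiber w), ?_⟩
  rw [← isoFib_hom_fiberι, Scheme.Hom.comp_apply, ← Scheme.Hom.comp_apply
    (isoFib f g x (theta f g x w)).inv, Iso.inv_hom_id]
  exact Scheme.Hom.fiberι_asFiber _ w

end T

end Groth.Agent.Helper16.AssTenS
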