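import Mathlib
import Groth.Prelude
import Groth.Agent.Lib.Helper16.Sch.AssTenS3

set_option autoImplicit false
set_option linter.style.haveILetI false
set_option linter.unusedSectionVars false
universe u
open CategoryTheory CategoryTheory.Limits AlgebraicGeometry Opposite TopologicalSpace TensorProduct
open IsLocalRing

namespace Groth.Agent.Helper16.AssTenS

open Groth.Agent.Helper16.FibStalk Groth.Agent.Helper16.FibMod Groth.Agent.Helper16.RelAss
open Groth.Agent.Helper16.AssTen

variable {X Y S : Scheme.{u}} (f : X ⟶ S) (g : Y ⟶ S)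

/-- forward direction: an associated point of `F ⊗_S G` comes from `T(x,y)`. -/
theorem exists_of_mem_ass [IsLocallyNoetherian X] [IsLocallyNoetherian Y]
    (F : X.Modules) [F.IsQuasicoherent] (G : Y.Modules) [G.IsQuasicoherent]
    (hGfl : FlatMod.IsFlatOver g G) (z : ↥(pullback f g))
    (hz : z ∈ AssSch.Ass (CohB1.tensorMod ((Scheme.Modules.pullback (pullback.fst f g)).obj F)
      ((Scheme.Modules.pullback (pullback.snd f g)).obj G))) :
    pullback.fst f g z ∈ AssSch.Ass F ∧ pullback.snd f g z ∈ MoreMor.relAss g G ∧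
      ∃ (y : Y) (_ : y = pullback.snd f g z) (t : TT f g (pullback.fst f g z) y),
        t ∈ AssSch.Ass (Coh.structureModule (TT f g (pullback.fst f g z) y)) ∧
          tau f g (pullback.fst f g z) y t = z := by
  have hc : IsPullback (pullback.snd f g) (pullback.fst f g) g f :=
    (IsPullback.of_hasPullback f g).flip
  have hfl' := Groth.Agent.Helper5.BCF.isFlatOver_pullback hc G hGfl
  obtain ⟨hxF, hzR⟩ := (mem_ass_tensor_pullback_iff (pullback.fst f g) F
    ((Scheme.Modules.pullback (pullback.snd f g)).obj G) z (hfl' z)).mp hz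
  obtain ⟨hyR, hFA⟩ := (mem_relAss_baseChange_iff' hc G z).mp hzR
  have hFA' : FibAss (theta f g (pullback.fst f g z)) ((pullback.fst f g).asFiber z) :=
    (fibAss_fibreHom_iff hc (pullback.fst f g z) ((pullback.fst f g).asFiber z)).mp hFA
  refine ⟨hxF, hyR, ?_⟩
  obtain ⟨t, ht⟩ := exists_toFib_eq f g (pullback.fst f g z) ((pullback.fst f g).asFiber z)
  refine ⟨theta f g (pullback.fst f g z) ((pullback.fst f g).asFiber z), ?_, t, ?_, ?_⟩
  · rw [Scheme.Hom.comp_apply, (pullback.fst f g).fiberι_asFiber z]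
  · rw [mem_ass_TT_iff, ht]
    exact hFA'
  · rw [← tau_toFib, ht]
    exact (pullback.fst f g).fiberι_asFiber z

/-- backward direction. -/
theorem mem_ass_of_mem_ass_TT [IsLocallyNoetherian X] [IsLocallyNoetherian Y]
    (F : X.Modules) [F.IsQuasicoherent] (G : Y.Modules) [G.IsQuasicoherent]
    (hGfl : FlatMod.IsFlatOver g G) (x : X) (hx : x ∈ AssSch.Ass F) (y : Y)
    (hy : y ∈ MoreMor.relAss g G) (t : TT f g x y)
    (ht : t ∈ AssSch.Ass (Coh.structureModule (TT f g x y))) :
    tau f g x y t ∈ AssSch.Ass (CohB1.tensorMod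
      ((Scheme.Modules.pullback (pullback.fst f g)).obj F)
      ((Scheme.Modules.pullback (pullback.snd f g)).obj G)) := by
  have hc : IsPullback (pullback.snd f g) (pullback.fst f g) g f :=
    (IsPullback.of_hasPullback f g).flip
  have hfl' := Groth.Agent.Helper5.BCF.isFlatOver_pullback hc G hGfl
  rw [mem_ass_tensor_pullback_iff (pullback.fst f g) F
    ((Scheme.Modules.pullback (pullback.snd f g)).obj G) _ (hfl' _)]
  refine ⟨?_, ?_⟩
  · rw [fst_tau]
    exact hx
  · rw [← tau_toFib, fiberι_mem_relAss_baseChange_iff hc G x (toFib f g x y t)]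
    refine ⟨?_, ?_⟩
    · have h1 : pullback.snd f g ((pullback.fst f g).fiberι x (toFib f g x y t)) = y :=
        theta_toFib f g x y t
      rw [h1]
      exact hy
    · exact (fibAss_fibreHom_iff hc x _).mpr ((mem_ass_TT_iff f g x y t).mp ht)

end Groth.Agent.Helper16.AssTenS
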