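import Mathlib
import Groth.Prelude
import Groth.Agent.Lib.Helper16.Sch.AssTenS4

set_option autoImplicit false
set_option linter.style.haveILetI false
set_option linter.unusedSectionVars false
universe u
open CategoryTheory CategoryTheory.Limits AlgebraicGeometry Opposite TopologicalSpace TensorProduct
open IsLocalRing

namespace Groth.Agent.Helper16.AssTenS

open Groth.Agent.Helper16.FibStalk Groth.Agent.Helper16.FibMod Groth.Agent.Helper16.RelAss
open Groth.Agent.Helper16.AssTen

theorem main4668 {X Y S : Scheme.{u}} (f : X ⟶ S) (g : Y ⟶ S)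
    [IsLocallyNoetherian X] [IsLocallyNoetherian Y] [IsLocallyNoetherian (pullback f g)]
    (F : X.Modules) (hF : Coh.IsQCoh F) (G : Y.Modules) (hG : Coh.IsQCoh G) (hGfl : FlatMod.IsFlatOver g G) :
    AssSch.Ass (CohB1.tensorMod ((Scheme.Modules.pullback (pullback.fst f g)).obj F) ((Scheme.Modules.pullback (pullback.snd f g)).obj G)) =
      ⋃ (x : ↥X) (_ : x ∈ AssSch.Ass F) (y' : ↥(g.fiber (f x)))
        (_ : y' ∈ AssSch.Ass ((Scheme.Modules.pullback (g.fiberι (f x))).obj G)) (y : ↥Y) (_ : y = g.fiberι (f x) y'),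
        ⇑(pullback.map (X.fromSpecResidueField x ≫ f) (Y.fromSpecResidueField y ≫ g) f g (X.fromSpecResidueField x)
            (Y.fromSpecResidueField y) (𝟙 S) (Category.comp_id _) (Category.comp_id _)) ''
          AssSch.Ass (Coh.structureModule (pullback (X.fromSpecResidueField x ≫ f) (Y.fromSpecResidueField y ≫ g))) := by
  haveI : F.IsQuasicoherent := hF
  haveI : G.IsQuasicoherent := hG
  ext z
  simp only [Set.mem_iUnion, Set.mem_image]
  constructor
  · intro hz
    obtain ⟨hxF, hyR, y, hy, t, htA, hτ⟩ := exists_of_mem_ass f g F G hGfl z hz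
    -- the point of the fibre of `g`
    have hgy : g y = f (pullback.fst f g z) := by
      rw [hy, ← Scheme.Hom.comp_apply, ← pullback.condition, Scheme.Hom.comp_apply]
    have hmem : y ∈ Set.range (g.fiberι (f (pullback.fst f g z))) := by
      rw [Scheme.Hom.range_fiberι]
      exact hgy
    obtain ⟨y', hy'⟩ := hmem
    refine ⟨pullback.fst f g z, hxF, y', ?_, y, hy'.symm, t, htA, hτ⟩
    have h1 := (isAssPoint_fibre_iff g G (f (pullback.fst f g z)) y').mpr
      (by rw [hy', hy]; exact hyR)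
    exact h1
  · rintro ⟨x, hxF, y', hy'A, y, hy, t, htA, hτ⟩
    subst hτ
    have hyR : y ∈ MoreMor.relAss g G := by
      rw [hy]
      exact (isAssPoint_fibre_iff g G (f x) y').mp hy'A
    exact mem_ass_of_mem_ass_TT f g F G hGfl x hxF y hyR t htA

theorem main4669 {X Y S : Scheme.{u}} (f : X ⟶ S) (g : Y ⟶ S)
    [IsLocallyNoetherian X] [IsLocallyNoetherian Y] [IsLocallyNoetherian S] [IsLocallyNoetherian (pullback f g)]
    (F : X.Modules) (hF : Coh.IsQCoh F) (G : Y.Modules) (hG : Coh.IsQCoh G) (hGfl : FlatMod.IsFlatOver g G)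
    (hAss : ∀ x ∈ AssSch.Ass F, f x ∈ AssSch.Ass (Coh.structureModule S)) :
    AssSch.Ass (CohB1.tensorMod ((Scheme.Modules.pullback (pullback.fst f g)).obj F) ((Scheme.Modules.pullback (pullback.snd f g)).obj G)) =
      ⋃ (x : ↥X) (_ : x ∈ AssSch.Ass F) (y : ↥Y) (_ : y ∈ AssSch.Ass G) (_ : f x = g y),
        ⇑(pullback.map (X.fromSpecResidueField x ≫ f) (Y.fromSpecResidueField y ≫ g) f g (X.fromSpecResidueField x)
            (Y.fromSpecResidueField y) (𝟙 S) (Category.comp_id _) (Category.comp_id _)) ''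
          AssSch.Ass (Coh.structureModule (pullback (X.fromSpecResidueField x ≫ f) (Y.fromSpecResidueField y ≫ g))) := by
  haveI : F.IsQuasicoherent := hF
  haveI : G.IsQuasicoherent := hG
  ext z
  simp only [Set.mem_iUnion, Set.mem_image]
  constructor
  · intro hz
    obtain ⟨hxF, hyR, y, hy, t, htA, hτ⟩ := exists_of_mem_ass f g F G hGfl z hz
    have hgy : f (pullback.fst f g z) = g y := by
      rw [hy, ← Scheme.Hom.comp_apply, pullback.condition, Scheme.Hom.comp_apply]
    refine ⟨pullback.fst f g z, hxF, y, ?_, hgy, t, htA, hτ⟩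
    rw [mem_ass_iff_of_isFlatOverAt g G y (hGfl y)]
    refine ⟨?_, by rw [hy]; exact hyR⟩
    rw [← hgy]
    exact hAss _ hxF
  · rintro ⟨x, hxF, y, hyA, hxy, t, htA, hτ⟩
    subst hτ
    have hyR : y ∈ MoreMor.relAss g G :=
      ((mem_ass_iff_of_isFlatOverAt g G y (hGfl y)).mp hyA).2
    exact mem_ass_of_mem_ass_TT f g F G hGfl x hxF y hyR t htA

end Groth.Agent.Helper16.AssTenS
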