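import Mathlib
import Groth.Prelude
import Groth.Agent.Lib.Helper16.Sch.AssTenS5
import Groth.Agent.Lib.Helper16.Alg.TensFieldLoc
import Groth.Agent.Lib.Helper3.NoEmbBC

set_option autoImplicit false
set_option linter.style.haveILetI false
set_option linter.unusedSectionVars false
universe u
open CategoryTheory CategoryTheory.Limits AlgebraicGeometry Opposite TopologicalSpace TensorProduct
open IsLocalRing

namespace Groth.Agent.Helper16.AssTenS

noncomputable section

open Groth.Agent.Helper16.FibStalk Groth.Agent.Helper16.FibMod Groth.Agent.Helper16.RelAss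
open Groth.Agent.Helper16.AssTen

/-- on `Spec (K ⊗[k] L)`, a stalk whose maximal ideal is associated has a unique prime. -/
theorem spec_tensor_fields_unique_prime (k K L : Type u) [Field k] [Field K] [Field L]
    [Algebra k K] [Algebra k L] (p : Spec (CommRingCat.of (K ⊗[k] L)))
    (hass : IsAssociatedPrime (maximalIdeal ((Spec (CommRingCat.of (K ⊗[k] L))).presheaf.stalk p))
      ((Spec (CommRingCat.of (K ⊗[k] L))).presheaf.stalk p))
    (Q : Ideal ((Spec (CommRingCat.of (K ⊗[k] L))).presheaf.stalk p)) (hQ : Q.IsPrime) :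
    Q = maximalIdeal ((Spec (CommRingCat.of (K ⊗[k] L))).presheaf.stalk p) := by
  haveI : p.asIdeal.IsPrime := p.isPrime
  letI : Algebra (K ⊗[k] L) ((Spec (CommRingCat.of (K ⊗[k] L))).presheaf.stalk p) :=
    inferInstanceAs (Algebra (K ⊗[k] L) ((Spec.structureSheaf (K ⊗[k] L)).presheaf.stalk p))
  haveI : IsLocalization.AtPrime ((Spec (CommRingCat.of (K ⊗[k] L))).presheaf.stalk p)
      p.asIdeal :=
    inferInstanceAs (IsLocalization.AtPrime
      ((Spec.structureSheaf (K ⊗[k] L)).presheaf.stalk p) p.asIdeal)
  exact Groth.Agent.Helper16.TensFieldLoc.tensor_fields k K L p.asIdeal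
    ((Spec (CommRingCat.of (K ⊗[k] L))).presheaf.stalk p) hass Q hQ

section T

variable {X Y S : Scheme.{u}} (f : X ⟶ S) (g : Y ⟶ S) (x : X) (y : Y)

/-- stalks of `T(x,y)` whose maximal ideal is associated have a unique prime. -/
theorem TT_unique_prime (h : f x = g y) (t : TT f g x y)
    (hass : IsAssociatedPrime (maximalIdeal ((TT f g x y).presheaf.stalk t))
      ((TT f g x y).presheaf.stalk t))
    (Q : Ideal ((TT f g x y).presheaf.stalk t)) (hQ : Q.IsPrime) :
    Q = maximalIdeal ((TT f g x y).presheaf.stalk t) := by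
  let α : S.residueField (f x) ⟶ X.residueField x := f.residueFieldMap x
  let β : S.residueField (f x) ⟶ Y.residueField y :=
    (S.residueFieldCongr h).hom ≫ g.residueFieldMap y
  have hα : Spec.map α ≫ S.fromSpecResidueField (f x) = X.fromSpecResidueField x ≫ f :=
    Scheme.Hom.SpecMap_residueFieldMap_fromSpecResidueField f x
  have hβ : Spec.map β ≫ S.fromSpecResidueField (f x) = Y.fromSpecResidueField y ≫ g := by
    rw [Spec.map_comp, Category.assoc, Scheme.residueFieldCongr_fromSpecResidueField,
      Scheme.Hom.SpecMap_residueFieldMap_fromSpecResidueField]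
  letI : Algebra (S.residueField (f x)) (X.residueField x) := α.hom.toAlgebra
  letI : Algebra (S.residueField (f x)) (Y.residueField y) := β.hom.toAlgebra
  let E₁ : TT f g x y ≅ pullback (Spec.map α ≫ S.fromSpecResidueField (f x))
      (Spec.map β ≫ S.fromSpecResidueField (f x)) := pullback.congrHom hα.symm hβ.symm
  let E₂ : pullback (Spec.map α) (Spec.map β) ≅
      pullback (Spec.map α ≫ S.fromSpecResidueField (f x))
        (Spec.map β ≫ S.fromSpecResidueField (f x)) :=
    (IsPullback.of_isLimit (pullbackIsPullbackOfCompMono (Spec.map α) (Spec.map β)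
      (S.fromSpecResidueField (f x)))).isoPullback
  let E₃ : pullback (Spec.map α) (Spec.map β) ≅
      Spec (CommRingCat.of ((X.residueField x) ⊗[S.residueField (f x)] (Y.residueField y))) :=
    pullbackSpecIso (S.residueField (f x)) (X.residueField x) (Y.residueField y)
  let E : TT f g x y ≅
      Spec (CommRingCat.of ((X.residueField x) ⊗[S.residueField (f x)] (Y.residueField y))) :=
    E₁ ≪≫ E₂.symm ≪≫ E₃
  have key := spec_tensor_fields_unique_prime (S.residueField (f x)) (X.residueField x)
    (Y.residueField y) (E.hom t)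
  let ε : (TT f g x y).presheaf.stalk t ≃+*
      (Spec (CommRingCat.of ((X.residueField x) ⊗[S.residueField (f x)]
        (Y.residueField y)))).presheaf.stalk (E.hom t) :=
    (asIso (E.hom.stalkMap t)).commRingCatIsoToRingEquiv.symm
  exact Groth.Agent.Helper3.TensorAss.forall_prime_eq_of_ringEquiv ε key hass Q hQ

/-- `T(x,y)` has no embedded points. -/
theorem eq_of_specializes_TT (t₁ t₂ : TT f g x y)
    (h₁ : t₁ ∈ AssSch.Ass (Coh.structureModule (TT f g x y)))
    (hsp : t₂ ⤳ t₁) : t₁ = t₂ := by
  have hxy : f x = g y := by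
    have h1 := fst_tau f g x y t₁
    have h2 := snd_tau f g x y t₁
    have h3 : f (pullback.fst f g (tau f g x y t₁)) = g (pullback.snd f g (tau f g x y t₁)) := by
      have := congrArg (fun φ : pullback f g ⟶ S => φ (tau f g x y t₁))
        (pullback.condition (f := f) (g := g))
      simp only [Scheme.Hom.comp_apply] at this
      exact this
    rw [h1, h2] at h3
    exact h3
  rw [Groth.Agent.Helper3.NoEmbBC.mem_ass_structure_iff] at h₁
  exact Groth.Agent.Helper3.NoEmbProd.eq_of_specializes_of_unique_prime t₁ t₂
    (TT_unique_prime f g x y hxy t₁ h₁) hsp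

end T

end

end Groth.Agent.Helper16.AssTenS
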