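import Mathlib
import Groth.Prelude
import Groth.Agent.Lib.Helper16.Sch.AssTenS6

set_option autoImplicit false
set_option linter.style.haveILetI false
set_option linter.unusedSectionVars false
universe u
open CategoryTheory CategoryTheory.Limits AlgebraicGeometry Opposite TopologicalSpace TensorProduct
open IsLocalRing

namespace Groth.Agent.Helper16.AssTenS

open Groth.Agent.Helper16.FibStalk Groth.Agent.Helper16.FibMod Groth.Agent.Helper16.RelAss
open Groth.Agent.Helper16.AssTen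

variable {X Y S : Scheme.{u}} (f : X ⟶ S) (g : Y ⟶ S)

theorem exists_of_mem_ass' [IsLocallyNoetherian X] [IsLocallyNoetherian Y]
    (F : X.Modules) [F.IsQuasicoherent] (G : Y.Modules) [G.IsQuasicoherent]
    (hGfl : FlatMod.IsFlatOver g G) (z : ↥(pullback f g))
    (hz : z ∈ AssSch.Ass (CohB1.tensorMod ((Scheme.Modules.pullback (pullback.fst f g)).obj F)
      ((Scheme.Modules.pullback (pullback.snd f g)).obj G)))
    (x : X) (y : Y) (hx : pullback.fst f g z = x) (hy : pullback.snd f g z = y) :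
    x ∈ AssSch.Ass F ∧ y ∈ MoreMor.relAss g G ∧
      ∃ t : TT f g x y, t ∈ AssSch.Ass (Coh.structureModule (TT f g x y)) ∧
        tau f g x y t = z := by
  subst hx hy
  obtain ⟨hxF, hyR, y', hy', t, htA, hτ⟩ := exists_of_mem_ass f g F G hGfl z hz
  subst hy'
  exact ⟨hxF, hyR, t, htA, hτ⟩

theorem specializes_of_tau_specializes (x : X) (y : Y) (t₁ t₂ : TT f g x y)
    (h : tau f g x y t₂ ⤳ tau f g x y t₁) : t₂ ⤳ t₁ := by
  rw [← tau_toFib, ← tau_toFib] at h
  have h1 := ((pullback.fst f g).fiberι x).isEmbedding.isInducing.specializes_iff.mp h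
  rw [← isoFib_hom_fiberι, Scheme.Hom.comp_apply, Scheme.Hom.comp_apply] at h1
  have h2 := ((theta f g x).fiberι y).isEmbedding.isInducing.specializes_iff.mp h1
  exact (isoFib f g x y).hom.isOpenEmbedding.isInducing.specializes_iff.mp h2

/-- the common final step. -/
theorem eq_of_specializes_of_fst_snd_eq [IsLocallyNoetherian X] [IsLocallyNoetherian Y]
    (F : X.Modules) [F.IsQuasicoherent] (G : Y.Modules) [G.IsQuasicoherent]
    (hGfl : FlatMod.IsFlatOver g G) (z₁ z₂ : ↥(pullback f g))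
    (hz₁ : z₁ ∈ AssSch.Ass (CohB1.tensorMod ((Scheme.Modules.pullback (pullback.fst f g)).obj F)
      ((Scheme.Modules.pullback (pullback.snd f g)).obj G)))
    (hz₂ : z₂ ∈ AssSch.Ass (CohB1.tensorMod ((Scheme.Modules.pullback (pullback.fst f g)).obj F)
      ((Scheme.Modules.pullback (pullback.snd f g)).obj G)))
    (hsp : z₂ ⤳ z₁) (hxx : pullback.fst f g z₁ = pullback.fst f g z₂)
    (hyy : pullback.snd f g z₁ = pullback.snd f g z₂) : z₁ = z₂ := by
  obtain ⟨-, -, t₁, ht₁, hτ₁⟩ := exists_of_mem_ass' f g F G hGfl z₁ hz₁ _ _ rfl rfl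
  obtain ⟨-, -, t₂, ht₂, hτ₂⟩ := exists_of_mem_ass' f g F G hGfl z₂ hz₂ _ _ hxx.symm hyy.symm
  have hsp' : t₂ ⤳ t₁ := by
    apply specializes_of_tau_specializes
    rw [hτ₁, hτ₂]
    exact hsp
  have := eq_of_specializes_TT f g _ _ t₁ t₂ ht₁ hsp'
  rw [← hτ₁, ← hτ₂, this]

theorem main4685 [IsLocallyNoetherian X] [IsLocallyNoetherian Y] [IsLocallyNoetherian (pullback f g)]
    (F : X.Modules) (hF : Coh.IsQCoh F) (G : Y.Modules) (hG : Coh.IsQCoh G) (hGfl : FlatMod.IsFlatOver g G)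
    (hFne : AssSch.NoEmbedded F)
    (hGne : ∀ s : ↥S, AssSch.NoEmbedded ((Scheme.Modules.pullback (g.fiberι s)).obj G)) :
    AssSch.NoEmbedded (CohB1.tensorMod ((Scheme.Modules.pullback (pullback.fst f g)).obj F) ((Scheme.Modules.pullback (pullback.snd f g)).obj G)) := by
  haveI : F.IsQuasicoherent := hF
  haveI : G.IsQuasicoherent := hG
  intro z₁ hz₁ z₂ hz₂ hsp
  obtain ⟨hx₁, hy₁, -⟩ := exists_of_mem_ass' f g F G hGfl z₁ hz₁ _ _ rfl rfl
  obtain ⟨hx₂, hy₂, -⟩ := exists_of_mem_ass' f g F G hGfl z₂ hz₂ _ _ rfl rfl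
  have hxx : pullback.fst f g z₁ = pullback.fst f g z₂ :=
    hFne _ hx₁ _ hx₂ (hsp.map (pullback.fst f g).continuous)
  have hcond : ∀ z : ↥(pullback f g), g (pullback.snd f g z) = f (pullback.fst f g z) := by
    intro z
    have := congrArg (fun φ : pullback f g ⟶ S => φ z) (pullback.condition (f := f) (g := g))
    simp only [Scheme.Hom.comp_apply] at this
    exact this.symm
  have hyy : pullback.snd f g z₁ = pullback.snd f g z₂ := by
    have hm₁ : pullback.snd f g z₁ ∈ Set.range (g.fiberι (f (pullback.fst f g z₁))) := by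
      rw [Scheme.Hom.range_fiberι]
      exact hcond z₁
    have hm₂ : pullback.snd f g z₂ ∈ Set.range (g.fiberι (f (pullback.fst f g z₁))) := by
      rw [Scheme.Hom.range_fiberι, hxx]
      exact hcond z₂
    obtain ⟨y₁', hy₁'⟩ := hm₁
    obtain ⟨y₂', hy₂'⟩ := hm₂
    have hA₁ := (isAssPoint_fibre_iff g G (f (pullback.fst f g z₁)) y₁').mpr
      (by rw [hy₁']; exact hy₁)
    have hA₂ := (isAssPoint_fibre_iff g G (f (pullback.fst f g z₁)) y₂').mpr
      (by rw [hy₂']; exact hy₂)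
    have hsp' : y₂' ⤳ y₁' := by
      apply (g.fiberι (f (pullback.fst f g z₁))).isEmbedding.isInducing.specializes_iff.mp
      rw [hy₁', hy₂']
      exact hsp.map (pullback.snd f g).continuous
    have := hGne (f (pullback.fst f g z₁)) y₁' hA₁ y₂' hA₂ hsp'
    rw [← hy₁', ← hy₂', this]
  exact eq_of_specializes_of_fst_snd_eq f g F G hGfl z₁ z₂ hz₁ hz₂ hsp hxx hyy

theorem main4671 [IsLocallyNoetherian X] [IsLocallyNoetherian Y] [IsLocallyNoetherian S] [IsLocallyNoetherian (pullback f g)]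
    (F : X.Modules) (hF : Coh.IsQCoh F) (G : Y.Modules) (hG : Coh.IsQCoh G) (hGfl : FlatMod.IsFlatOver g G)
    (hAss : ∀ x ∈ AssSch.Ass F, f x ∈ AssSch.Ass (Coh.structureModule S))
    (hFne : AssSch.NoEmbedded F) (hGne : AssSch.NoEmbedded G) :
    AssSch.NoEmbedded (CohB1.tensorMod ((Scheme.Modules.pullback (pullback.fst f g)).obj F) ((Scheme.Modules.pullback (pullback.snd f g)).obj G)) := by
  haveI : F.IsQuasicoherent := hF
  haveI : G.IsQuasicoherent := hG
  intro z₁ hz₁ z₂ hz₂ hsp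
  obtain ⟨hx₁, hy₁, -⟩ := exists_of_mem_ass' f g F G hGfl z₁ hz₁ _ _ rfl rfl
  obtain ⟨hx₂, hy₂, -⟩ := exists_of_mem_ass' f g F G hGfl z₂ hz₂ _ _ rfl rfl
  have hxx : pullback.fst f g z₁ = pullback.fst f g z₂ :=
    hFne _ hx₁ _ hx₂ (hsp.map (pullback.fst f g).continuous)
  have hcond : ∀ z : ↥(pullback f g), g (pullback.snd f g z) = f (pullback.fst f g z) := by
    intro z
    have := congrArg (fun φ : pullback f g ⟶ S => φ z) (pullback.condition (f := f) (g := g))
    simp only [Scheme.Hom.comp_apply] at this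
    exact this.symm
  have hA₁ : pullback.snd f g z₁ ∈ AssSch.Ass G := by
    rw [mem_ass_iff_of_isFlatOverAt g G _ (hGfl _)]
    refine ⟨?_, hy₁⟩
    rw [hcond z₁]
    exact hAss _ hx₁
  have hA₂ : pullback.snd f g z₂ ∈ AssSch.Ass G := by
    rw [mem_ass_iff_of_isFlatOverAt g G _ (hGfl _)]
    refine ⟨?_, hy₂⟩
    rw [hcond z₂]
    exact hAss _ hx₂
  have hyy : pullback.snd f g z₁ = pullback.snd f g z₂ :=
    hGne _ hA₁ _ hA₂ (hsp.map (pullback.snd f g).continuous)
  exact eq_of_specializes_of_fst_snd_eq f g F G hGfl z₁ z₂ hz₁ hz₂ hsp hxx hyy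

end Groth.Agent.Helper16.AssTenS
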