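import Mathlib
import Groth.Agent.Lib.Helper16.Sch.Birat4

set_option autoImplicit false
set_option linter.style.haveILetI false
universe u
open CategoryTheory CategoryTheory.Limits AlgebraicGeometry Opposite TopologicalSpace

noncomputable section

namespace Groth.Agent.Helper16.Birat

variable {S X Y U : Scheme.{u}}

theorem stalkCongr_hom_eq_eqToHom (T : Scheme.{u}) {s s' : T} (h : s = s') :
    (T.presheaf.stalkCongr (.of_eq h)).hom = eqToHom (congrArg T.presheaf.stalk h) := by
  subst h
  simp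

theorem exists_residueField_iso_of_openImmersions (sX : X ⟶ S) (sY : Y ⟶ S)
    (a : U ⟶ X) (b : U ⟶ Y) [IsOpenImmersion a] [IsOpenImmersion b] (hab : a ≫ sX = b ≫ sY)
    (u : U) : ∀ (x : X) (y : Y), a u = x → b u = y →
      ∃ (hs : sX x = sY y) (e : X.residueField x ≅ Y.residueField y),
        sX.residueFieldMap x ≫ e.hom =
          eqToHom (congrArg S.residueField hs) ≫ sY.residueFieldMap y := by
  rintro x y rfl rfl
  have hs : sX (a u) = sY (b u) := by
    rw [← Scheme.Hom.comp_apply, hab, Scheme.Hom.comp_apply]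
  refine ⟨hs, asIso (a.residueFieldMap u) ≪≫ (asIso (b.residueFieldMap u)).symm, ?_⟩
  simp only [Iso.trans_hom, asIso_hom, Iso.symm_hom, asIso_inv]
  rw [← Category.assoc, ← Scheme.residueFieldMap_comp, IsIso.comp_inv_eq, Category.assoc,
    ← Scheme.residueFieldMap_comp]
  exact Scheme.Hom.residueFieldMap_congr hab u

theorem exists_stalk_iso_of_openImmersions (sX : X ⟶ S) (sY : Y ⟶ S)
    (a : U ⟶ X) (b : U ⟶ Y) [IsOpenImmersion a] [IsOpenImmersion b] (hab : a ≫ sX = b ≫ sY)
    (u : U) : ∀ (x : X) (y : Y), a u = x → b u = y →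
      ∃ (hs : sX x = sY y) (e : X.presheaf.stalk x ≅ Y.presheaf.stalk y),
        sX.stalkMap x ≫ e.hom =
          eqToHom (congrArg S.presheaf.stalk hs) ≫ sY.stalkMap y := by
  rintro x y rfl rfl
  have hs : sX (a u) = sY (b u) := by
    rw [← Scheme.Hom.comp_apply, hab, Scheme.Hom.comp_apply]
  refine ⟨hs, asIso (a.stalkMap u) ≪≫ (asIso (b.stalkMap u)).symm, ?_⟩
  simp only [Iso.trans_hom, asIso_hom, Iso.symm_hom, asIso_inv]
  have h1 := Scheme.Hom.stalkMap_congr_hom (a ≫ sX) (b ≫ sY) hab u
  rw [stalkCongr_hom_eq_eqToHom S (by rw [hab])] at h1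
  rw [← Category.assoc, ← Scheme.Hom.stalkMap_comp, IsIso.comp_inv_eq, Category.assoc,
    ← Scheme.Hom.stalkMap_comp, h1]
  rfl

/-- a partial isomorphism of irreducible schemes matches the generic points -/
theorem exists_point_of_partialIso [IrreducibleSpace X] [IrreducibleSpace Y]
    (p : X.PartialIso Y) :
    ∃ u : p.source.toScheme, p.source.ι u = genericPoint X ∧
      (p.iso.hom ≫ p.target.ι) u = genericPoint Y := by
  have hne : (p.source : Set X).Nonempty := p.dense_source.nonempty
  haveI : Nonempty p.source.toScheme := ⟨⟨hne.some, hne.some_mem⟩⟩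
  haveI : IrreducibleSpace p.source.toScheme := p.source.ι.isOpenEmbedding.irreducibleSpace
  exact ⟨genericPoint p.source.toScheme, genericPoint_eq_of_isOpenImmersion p.source.ι,
    genericPoint_eq_of_isOpenImmersion (p.iso.hom ≫ p.target.ι)⟩

theorem residueField_iso_of_birationalOver [IrreducibleSpace X] [IrreducibleSpace Y]
    (sX : X ⟶ S) (sY : Y ⟶ S) (h : Scheme.BirationalOver sX sY) :
    ∃ (hs : sX.base (genericPoint ↥X) = sY.base (genericPoint ↥Y))
      (e : X.residueField (genericPoint ↥X) ≅ Y.residueField (genericPoint ↥Y)),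
      sX.residueFieldMap (genericPoint ↥X) ≫ e.hom =
        eqToHom (congrArg S.residueField hs) ≫ sY.residueFieldMap (genericPoint ↥Y) := by
  obtain ⟨p, hp⟩ := h
  obtain ⟨u, hu1, hu2⟩ := exists_point_of_partialIso p
  exact exists_residueField_iso_of_openImmersions sX sY p.source.ι (p.iso.hom ≫ p.target.ι)
    (by rw [Category.assoc]; exact Eq.symm hp) u _ _ hu1 hu2

theorem stalk_iso_of_birationalOver [IrreducibleSpace X] [IrreducibleSpace Y]
    (sX : X ⟶ S) (sY : Y ⟶ S) (h : Scheme.BirationalOver sX sY) :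
    ∃ (hs : sX.base (genericPoint ↥X) = sY.base (genericPoint ↥Y))
      (e : X.presheaf.stalk (genericPoint ↥X) ≅ Y.presheaf.stalk (genericPoint ↥Y)),
      sX.stalkMap (genericPoint ↥X) ≫ e.hom =
        eqToHom (congrArg S.presheaf.stalk hs) ≫ sY.stalkMap (genericPoint ↥Y) := by
  obtain ⟨p, hp⟩ := h
  obtain ⟨u, hu1, hu2⟩ := exists_point_of_partialIso p
  exact exists_stalk_iso_of_openImmersions sX sY p.source.ι (p.iso.hom ≫ p.target.ι)
    (by rw [Category.assoc]; exact Eq.symm hp) u _ _ hu1 hu2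

end Groth.Agent.Helper16.Birat
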