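import Mathlib
import Groth.Agent.Lib.Helper16.Sch.Birat5

set_option autoImplicit false
set_option linter.style.haveILetI false
universe u
open CategoryTheory CategoryTheory.Limits AlgebraicGeometry Opposite TopologicalSpace

noncomputable section

namespace Groth.Agent.Helper16.Birat

variable {S X Y : Scheme.{u}}

/-- a morphism from an open of `X` to `Y` over `S` which is a local isomorphism at a point gives
a birational equivalence of irreducible schemes -/
theorem birationalOver_of_isIso_stalkMap [IrreducibleSpace X] [IrreducibleSpace Y]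
    (sX : X ⟶ S) (sY : Y ⟶ S) (U : X.Opens) (u : U.toScheme) (f : U.toScheme ⟶ Y)
    (hf : f ≫ sY = U.ι ≫ sX) [IsIso (f.stalkMap u)]
    (h : (LocallyOfFiniteType f ∧ IsIntegral Y) ∨ LocallyOfFinitePresentation f) :
    Scheme.BirationalOver sX sY := by
  obtain ⟨_, ⟨V₀, hV₀, rfl⟩, hfuV₀, -⟩ :=
    Y.isBasis_affineOpens.exists_subset_of_mem_open (Set.mem_univ (f u)) isOpen_univ
  have hV₀ : IsAffineOpen V₀ := hV₀
  have hf' : (LocallyOfFiniteType f ∧ IsDomain Γ(Y, V₀)) ∨ LocallyOfFinitePresentation f := by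
    rcases h with ⟨h1, h2⟩ | h
    · haveI : Nonempty V₀ := ⟨⟨f u, hfuV₀⟩⟩
      exact Or.inl ⟨h1, inferInstance⟩
    · exact Or.inr h
  obtain ⟨U', V', e, huU', -, hiso⟩ := exists_isIso_resLE_of_isIso_stalkMap f u hV₀ hfuV₀ hf'
  have hd1 : Dense ((U.ι ''ᵁ U' : X.Opens) : Set X) :=
    (U.ι ''ᵁ U').2.dense ⟨U.ι u, ⟨u, huU', rfl⟩⟩
  have hd2 : Dense ((V' : Y.Opens) : Set Y) := V'.2.dense ⟨f u, e huU'⟩
  refine ⟨⟨U.ι ''ᵁ U', hd1, V', hd2, (U.ι.isoImage U').symm ≪≫ asIso (f.resLE V' U' e)⟩, ?_⟩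
  show ((U.ι.isoImage U').symm ≪≫ asIso (f.resLE V' U' e)).hom ≫ V'.ι ≫ sY =
    (U.ι ''ᵁ U').ι ≫ sX
  simp only [Iso.trans_hom, Iso.symm_hom, asIso_hom, Category.assoc]
  rw [Scheme.Hom.resLE_comp_ι_assoc, hf, Scheme.Hom.isoImage_inv_ι_assoc]

/-- a morphism which on `Spec` of a local ring is given by an isomorphism of local rings is a
local isomorphism there -/
theorem isIso_stalkMap_of_fromSpecStalk {W : Scheme.{u}} (f : W ⟶ Y) (w : W) :
    ∀ (y : Y) (ρ : Y.presheaf.stalk y ⟶ W.presheaf.stalk w) [IsIso ρ],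
      Spec.map ρ ≫ Y.fromSpecStalk y = W.fromSpecStalk w ≫ f → IsIso (f.stalkMap w) := by
  intro y ρ _ h
  have hy : f w = y := by
    have h1 := congr($h (IsLocalRing.closedPoint _))
    rw [Scheme.Hom.comp_apply, Scheme.Hom.comp_apply, Scheme.fromSpecStalk_closedPoint] at h1
    have h2 : Spec.map ρ (IsLocalRing.closedPoint _) = IsLocalRing.closedPoint _ := by
      haveI : IsLocalHom ρ.hom := isLocalHom_of_isIso ρ
      exact IsLocalRing.comap_closedPoint ρ.hom
    rw [h2, Scheme.fromSpecStalk_closedPoint] at h1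
    exact h1.symm
  subst hy
  rw [← Scheme.SpecMap_stalkMap_fromSpecStalk, cancel_mono] at h
  have := Spec.map_injective h
  rw [← this]
  infer_instance

set_option backward.isDefEq.respectTransparency false in
/-- variant of `isIso_stalkMap_of_fromSpecStalk` for morphisms defined on an open -/
theorem isIso_stalkMap_of_fromSpecStalkOfMem (U : X.Opens) (x : X) (hxU : x ∈ U)
    (f : U.toScheme ⟶ Y) (y : Y) (ρ₀ : Y.presheaf.stalk y ⟶ X.presheaf.stalk x) [IsIso ρ₀]
    (h : Spec.map ρ₀ ≫ Y.fromSpecStalk y = U.fromSpecStalkOfMem x hxU ≫ f) :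
    IsIso (f.stalkMap ⟨x, hxU⟩) := by
  let ρ : Y.presheaf.stalk y ⟶ U.toScheme.presheaf.stalk ⟨x, hxU⟩ :=
    ρ₀ ≫ U.ι.stalkMap ⟨x, hxU⟩
  haveI : IsIso ρ := by dsimp only [ρ]; infer_instance
  apply isIso_stalkMap_of_fromSpecStalk f ⟨x, hxU⟩ y ρ
  have h0 : U.fromSpecStalkOfMem x hxU =
      Spec.map (inv (U.ι.stalkMap ⟨x, hxU⟩)) ≫ U.toScheme.fromSpecStalk ⟨x, hxU⟩ := rfl
  rw [h0] at h
  dsimp only [ρ]
  rw [Spec.map_comp, Category.assoc, h, ← Category.assoc, ← Category.assoc, ← Spec.map_comp,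
    IsIso.inv_hom_id, Spec.map_id, Category.id_comp]

theorem isIso_residue_genericPoint [IsIntegral X] : IsIso (X.residue (genericPoint X)) := by
  rw [ConcreteCategory.isIso_iff_bijective]
  refine ⟨?_, X.residue_surjective _⟩
  exact (X.residue (genericPoint X)).hom.injective

/-- S9681, reverse direction -/
theorem birationalOver_of_residueField_iso [IsIntegral X] [IsIntegral Y] (sX : X ⟶ S)
    (sY : Y ⟶ S) [LocallyOfFiniteType sX] [LocallyOfFiniteType sY]
    (hs : sX.base (genericPoint ↥X) = sY.base (genericPoint ↥Y))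
    (e : X.residueField (genericPoint ↥X) ≅ Y.residueField (genericPoint ↥Y))
    (he : sX.residueFieldMap (genericPoint ↥X) ≫ e.hom =
        eqToHom (congrArg S.residueField hs) ≫ sY.residueFieldMap (genericPoint ↥Y)) :
    Scheme.BirationalOver sX sY := by
  haveI := isIso_residue_genericPoint (X := X)
  haveI := isIso_residue_genericPoint (X := Y)
  let φ : Spec (X.presheaf.stalk (genericPoint X)) ⟶ Y :=
    inv (Spec.map (X.residue (genericPoint X))) ≫ Spec.map e.inv ≫
      Y.fromSpecResidueField (genericPoint Y)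
  have he' : sY.residueFieldMap (genericPoint ↥Y) ≫ e.inv =
      (S.residueFieldCongr hs.symm).hom ≫ sX.residueFieldMap (genericPoint ↥X) := by
    rw [Iso.comp_inv_eq, Category.assoc, he]
    have : eqToHom (congrArg S.residueField hs) = (S.residueFieldCongr hs).hom := rfl
    rw [this, ← Category.assoc, Scheme.residueFieldCongr_trans_hom]
    simp
  have hφ : φ ≫ sY = X.fromSpecStalk (genericPoint X) ≫ sX := by
    simp only [φ, Category.assoc]
    rw [IsIso.inv_comp_eq, ← Scheme.Hom.SpecMap_residueFieldMap_fromSpecResidueField,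
      ← Spec.map_comp_assoc, he', Spec.map_comp_assoc,
      Scheme.residueFieldCongr_fromSpecResidueField,
      Scheme.Hom.SpecMap_residueFieldMap_fromSpecResidueField, Scheme.fromSpecResidueField,
      Category.assoc]
  obtain ⟨U, hxU, f, hφf, hfS⟩ := spread_out_of_isGermInjective' sX sY φ hφ
  let ρ₀ : Y.presheaf.stalk (genericPoint Y) ⟶ X.presheaf.stalk (genericPoint X) :=
    Y.residue (genericPoint Y) ≫ e.inv ≫ inv (X.residue (genericPoint X))
  haveI : IsIso ρ₀ := by dsimp only [ρ₀]; infer_instance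
  have hρ : Spec.map ρ₀ ≫ Y.fromSpecStalk (genericPoint Y) =
      U.fromSpecStalkOfMem (genericPoint X) hxU ≫ f := by
    rw [← hφf]
    simp only [ρ₀, φ, Spec.map_comp, Category.assoc, Spec.map_inv, Scheme.fromSpecResidueField]
  haveI : IsIso (f.stalkMap ⟨genericPoint X, hxU⟩) :=
    isIso_stalkMap_of_fromSpecStalkOfMem U _ hxU f _ ρ₀ hρ
  haveI : LocallyOfFiniteType (f ≫ sY) := by rw [hfS]; infer_instance
  haveI : LocallyOfFiniteType f := locallyOfFiniteType_of_comp f sY
  exact birationalOver_of_isIso_stalkMap sX sY U ⟨genericPoint X, hxU⟩ f hfS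
    (Or.inl ⟨inferInstance, inferInstance⟩)

end Groth.Agent.Helper16.Birat
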