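import Mathlib

set_option autoImplicit false
set_option linter.style.haveILetI false
universe u
open CategoryTheory CategoryTheory.Limits AlgebraicGeometry Opposite TopologicalSpace

noncomputable section

namespace Groth.Agent.Helper16.Spread

variable {X Y S : Scheme.{u}} {R A : CommRingCat.{u}}

/-- lifting a map from a finitely presented algebra to a stalk to a neighbourhood;
no germ-injectivity needed -/
theorem exists_lift_of_finitePresentation {x : X} {U : X.Opens} (hxU : x ∈ U)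
    (φ : A ⟶ X.presheaf.stalk x) (φRA : R ⟶ A) (φRX : R ⟶ Γ(X, U))
    (hφRA : RingHom.FinitePresentation φRA.hom)
    (e : φRA ≫ φ = φRX ≫ X.presheaf.germ U x hxU) :
    ∃ (V : X.Opens) (hxV : x ∈ V) (φ' : A ⟶ Γ(X, V)) (i : V ≤ U), IsAffineOpen V ∧
      φ = φ' ≫ X.presheaf.germ V x hxV ∧ φRX ≫ X.presheaf.map i.hom.op = φRA ≫ φ' := by
  classical
  letI := φRA.hom.toAlgebra
  obtain ⟨n, π, hπ, s, hs⟩ := hφRA
  have hπC : ∀ r : R, π (MvPolynomial.C r) = φRA r := fun r => π.commutes r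
  choose W hxW fW hfW using fun i : Fin n =>
    X.presheaf.exists_germ_eq (φ (π (MvPolynomial.X i)))
  let V₀ : X.Opens := (Finset.univ.inf W) ⊓ U
  have hxV₀ : x ∈ V₀ := by
    refine ⟨?_, hxU⟩
    rw [TopologicalSpace.Opens.coe_finset_inf]
    simpa using fun i => hxW i
  have hV₀W : ∀ i, V₀ ≤ W i := fun i => inf_le_left.trans (Finset.inf_le (Finset.mem_univ i))
  let θ₀ : MvPolynomial (Fin n) R →+* Γ(X, V₀) :=
    MvPolynomial.eval₂Hom (φRX ≫ X.presheaf.map (homOfLE (inf_le_right : V₀ ≤ U)).op).hom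
      (fun i => X.presheaf.map (homOfLE (hV₀W i)).op (fW i))
  have hθ₀ : (X.presheaf.germ V₀ x hxV₀).hom.comp θ₀ = φ.hom.comp π.toRingHom := by
    apply MvPolynomial.ringHom_ext
    · intro r
      simp only [θ₀, RingHom.coe_comp, Function.comp_apply, MvPolynomial.coe_eval₂Hom,
        MvPolynomial.eval₂_C, AlgHom.toRingHom_eq_coe, RingHom.coe_coe]
      rw [hπC, CommRingCat.comp_apply, TopCat.Presheaf.germ_res_apply]
      exact (congr($e r)).symm
    · intro i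
      simp only [θ₀, RingHom.coe_comp, Function.comp_apply, MvPolynomial.coe_eval₂Hom,
        MvPolynomial.eval₂_X, AlgHom.toRingHom_eq_coe, RingHom.coe_coe]
      rw [TopCat.Presheaf.germ_res_apply]
      exact hfW i
  have hgerm0 : ∀ g : s, X.presheaf.germ V₀ x hxV₀ (θ₀ g.1) =
      X.presheaf.germ V₀ x hxV₀ 0 := by
    intro g
    have h1 : X.presheaf.germ V₀ x hxV₀ (θ₀ g.1) = φ (π g.1) := congr($hθ₀ g.1)
    rw [h1, map_zero]
    have h2 : g.1 ∈ RingHom.ker π.toRingHom := by rw [← hs]; exact Ideal.subset_span g.2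
    have h3 : π g.1 = 0 := h2
    rw [h3, map_zero]
  choose W' hxW' iW' iW'' hW' using fun g : s =>
    X.presheaf.germ_eq x hxV₀ hxV₀ (θ₀ g.1) 0 (hgerm0 g)
  let V₁ : X.Opens := (s.attach.inf W') ⊓ V₀
  have hxV₁ : x ∈ V₁ := by
    refine ⟨?_, hxV₀⟩
    rw [TopologicalSpace.Opens.coe_finset_inf]
    simpa using fun g hg => hxW' ⟨g, hg⟩
  obtain ⟨_, ⟨V, hV, rfl⟩, hxV, hVV₁⟩ :=
    X.isBasis_affineOpens.exists_subset_of_mem_open hxV₁ V₁.2
  have hVV₁ : V ≤ V₁ := hVV₁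
  have hVV₀ : V ≤ V₀ := hVV₁.trans inf_le_right
  have hVW' : ∀ g : s, V ≤ W' g :=
    fun g => hVV₁.trans (inf_le_left.trans (Finset.inf_le (Finset.mem_attach s g)))
  let θ : MvPolynomial (Fin n) R →+* Γ(X, V) := (X.presheaf.map (homOfLE hVV₀).op).hom.comp θ₀
  have hθker : RingHom.ker π.toRingHom ≤ RingHom.ker θ := by
    rw [← hs, Ideal.span_le]
    intro g hg
    show θ g = 0
    have h1 : X.presheaf.map (iW' ⟨g, hg⟩).op (θ₀ g) = 0 := by
      rw [hW' ⟨g, hg⟩, map_zero]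
    have h2 : θ g = X.presheaf.map (homOfLE (hVW' ⟨g, hg⟩)).op
        (X.presheaf.map (iW' ⟨g, hg⟩).op (θ₀ g)) := by
      simp only [θ, RingHom.coe_comp, Function.comp_apply]
      rw [← CommRingCat.comp_apply, ← X.presheaf.map_comp]
      rfl
    rw [h2, h1, map_zero]
  let φ'r : A →+* Γ(X, V) := RingHom.liftOfSurjective π.toRingHom hπ ⟨θ, hθker⟩
  have hφ'r : ∀ p, φ'r (π p) = θ p := fun p =>
    RingHom.liftOfRightInverse_comp_apply _ _ _ ⟨θ, hθker⟩ p
  refine ⟨V, hxV, CommRingCat.ofHom φ'r, hVV₀.trans inf_le_right, hV, ?_, ?_⟩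
  · ext a
    obtain ⟨p, rfl⟩ := hπ a
    have h1 : (CommRingCat.ofHom φ'r ≫ X.presheaf.germ V x hxV) (π p) =
        X.presheaf.germ V x hxV (θ p) := by
      rw [CommRingCat.comp_apply]
      exact congrArg _ (hφ'r p)
    rw [h1]
    have h2 : X.presheaf.germ V x hxV (θ p) = X.presheaf.germ V₀ x hxV₀ (θ₀ p) := by
      simp only [θ, RingHom.coe_comp, Function.comp_apply]
      exact TopCat.Presheaf.germ_res_apply _ _ _ _ _
    rw [h2]
    exact (congr($hθ₀ p)).symm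
  · ext r
    have h1 : (φRA ≫ CommRingCat.ofHom φ'r) r = θ (MvPolynomial.C r) := by
      rw [CommRingCat.comp_apply, ← hπC]
      exact hφ'r _
    rw [h1]
    simp only [θ, θ₀, RingHom.coe_comp, Function.comp_apply, MvPolynomial.coe_eval₂Hom,
      MvPolynomial.eval₂_C]
    rw [CommRingCat.comp_apply, CommRingCat.comp_apply, ← CommRingCat.comp_apply (X.presheaf.map _),
      ← X.presheaf.map_comp]
    rfl

/-- spreading out a morphism from `Spec` of a local ring to a scheme locally of finite presentation;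
no germ-injectivity needed -/
theorem spread_out_of_finitePresentation (sX : X ⟶ S) (sY : Y ⟶ S)
    [LocallyOfFinitePresentation sY] {x : X} {y : Y}
    (e : sX x = sY y) (φ : Y.presheaf.stalk y ⟶ X.presheaf.stalk x)
    (h : sY.stalkMap y ≫ φ =
      S.presheaf.stalkSpecializes (Inseparable.of_eq e).specializes ≫ sX.stalkMap x) :
    ∃ (U : X.Opens) (hxU : x ∈ U) (f : U.toScheme ⟶ Y),
      Spec.map φ ≫ Y.fromSpecStalk y = U.fromSpecStalkOfMem x hxU ≫ f ∧
      f ≫ sY = U.ι ≫ sX := by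
  obtain ⟨_, ⟨U, hU, rfl⟩, hxU, -⟩ :=
    S.isBasis_affineOpens.exists_subset_of_mem_open (Set.mem_univ (sX x)) isOpen_univ
  have hyU : sY y ∈ U := e ▸ hxU
  obtain ⟨_, ⟨V : Y.Opens, hV, rfl⟩, hyV, iVU⟩ :=
    Y.isBasis_affineOpens.exists_subset_of_mem_open hyU (sY ⁻¹ᵁ U).2
  have : sY.appLE U V iVU ≫ Y.presheaf.germ V y hyV ≫ φ =
      sX.app U ≫ X.presheaf.germ (sX ⁻¹ᵁ U) x hxU := by
    rw [Scheme.Hom.appLE, Category.assoc, Y.presheaf.germ_res_assoc,
      ← Scheme.Hom.germ_stalkMap_assoc, h]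
    simp
  obtain ⟨W, hxW, φ', i, hW, h₁, h₂⟩ :=
    exists_lift_of_finitePresentation (R := Γ(S, U)) (A := Γ(Y, V)) (U := sX ⁻¹ᵁ U) (x := x) hxU
    (Y.presheaf.germ _ y hyV ≫ φ) (sY.appLE U V iVU) (sX.app U)
    (sY.finitePresentation_appLE hU hV _) this
  refine ⟨W, hxW, W.toSpecΓ ≫ Spec.map φ' ≫ hV.fromSpec, ?_, ?_⟩
  · rw [W.fromSpecStalkOfMem_toSpecΓ_assoc x hxW, ← Spec.map_comp_assoc, ← h₁,
      Spec.map_comp, Category.assoc, ← IsAffineOpen.fromSpecStalk,
      IsAffineOpen.fromSpecStalk_eq_fromSpecStalk]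
  · simp only [Category.assoc]
    rw [← IsAffineOpen.SpecMap_appLE_fromSpec sY hU hV iVU, ← Spec.map_comp_assoc, ← h₂,
      ← Scheme.Hom.appLE, ← hW.isoSpec_hom, IsAffineOpen.SpecMap_appLE_fromSpec sX hU hW i,
      ← Iso.eq_inv_comp, IsAffineOpen.isoSpec_inv_ι_assoc]

end Groth.Agent.Helper16.Spread
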