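import Mathlib
import Groth.Agent.Lib.Helper16.Sch.Birat6
import Groth.Agent.Lib.Helper16.Sch.Spread
import Groth.Agent.Lib.Helper7.FinPres

set_option autoImplicit false
set_option linter.style.haveILetI false
universe u
open CategoryTheory CategoryTheory.Limits AlgebraicGeometry Opposite TopologicalSpace

noncomputable section

namespace Groth.Agent.Helper16.Birat

variable {S X Y : Scheme.{u}}

theorem stalkSpecializes_eq_eqToHom (T : Scheme.{u}) {s s' : T} (h : s = s') :
    T.presheaf.stalkSpecializes (Inseparable.of_eq h).specializes =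
      eqToHom (congrArg T.presheaf.stalk h.symm) := by
  subst h
  simp

/-- S9680, reverse direction -/
theorem birationalOver_of_stalk_iso [IrreducibleSpace X] [IrreducibleSpace Y] (sX : X ⟶ S)
    (sY : Y ⟶ S) [LocallyOfFinitePresentation sX] [LocallyOfFinitePresentation sY]
    (hs : sX.base (genericPoint ↥X) = sY.base (genericPoint ↥Y))
    (e : X.presheaf.stalk (genericPoint ↥X) ≅ Y.presheaf.stalk (genericPoint ↥Y))
    (he : sX.stalkMap (genericPoint ↥X) ≫ e.hom =
        eqToHom (congrArg S.presheaf.stalk hs) ≫ sY.stalkMap (genericPoint ↥Y)) :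
    Scheme.BirationalOver sX sY := by
  have h : sY.stalkMap (genericPoint Y) ≫ e.inv =
      S.presheaf.stalkSpecializes (Inseparable.of_eq hs).specializes ≫
        sX.stalkMap (genericPoint X) := by
    rw [stalkSpecializes_eq_eqToHom S hs, Iso.comp_inv_eq, Category.assoc, he, ← Category.assoc,
      eqToHom_trans, eqToHom_refl, Category.id_comp]
  obtain ⟨U, hxU, f, hf1, hfS⟩ :=
    Groth.Agent.Helper16.Spread.spread_out_of_finitePresentation sX sY hs e.inv h
  haveI : IsIso (f.stalkMap ⟨genericPoint X, hxU⟩) :=
    isIso_stalkMap_of_fromSpecStalkOfMem U _ hxU f _ e.inv hf1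
  have hlfp : LocallyOfFinitePresentation (f ≫ sY) := by rw [hfS]; infer_instance
  haveI : LocallyOfFinitePresentation f :=
    Groth.Agent.Helper7.locallyOfFinitePresentation_of_comp f sY hlfp inferInstance
  exact birationalOver_of_isIso_stalkMap sX sY U ⟨genericPoint X, hxU⟩ f hfS
    (Or.inr inferInstance)

end Groth.Agent.Helper16.Birat
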