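import Mathlib

set_option autoImplicit false
universe u
open CategoryTheory AlgebraicGeometry

namespace Groth.Agent.Helper16.CIFlat

/-- A surjective flat ring hom from a local ring to a nontrivial ring is injective. -/
lemma injective_of_flat_of_surjective {R S : Type*} [CommRing R] [CommRing S] [IsLocalRing R]
    [Nontrivial S] (φ : R →+* S) (hsurj : Function.Surjective φ) (hflat : φ.Flat) :
    Function.Injective φ := by
  algebraize [φ]
  have hsurj' : Function.Surjective (Algebra.ofId R S) := hsurj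
  let e : (R ⧸ RingHom.ker (Algebra.ofId R S)) ≃ₐ[R] S :=
    Ideal.quotientKerAlgEquivOfSurjective hsurj'
  have hpure : (RingHom.ker (Algebra.ofId R S)).Pure :=
    Module.Flat.of_linearEquiv e.toLinearEquiv
  rw [injective_iff_map_eq_zero]
  intro x hx
  have hxk : x ∈ RingHom.ker (Algebra.ofId R S) := hx
  obtain ⟨y, hy, hxy⟩ := Ideal.exists_eq_mul_of_pure hxk
  have hyn : ¬ IsUnit y := by
    intro hu
    have : IsUnit (φ y) := hu.map φ
    have h0 : φ y = 0 := hy
    rw [h0] at this
    exact not_isUnit_zero this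
  have hu : IsUnit (1 - y) := by
    have := IsLocalRing.isUnit_or_isUnit_of_add_one (a := y) (b := 1 - y) (by ring)
    tauto
  have : x * (1 - y) = 0 := by rw [mul_sub, mul_one, ← hxy, sub_self]
  exact (hu.mul_left_eq_zero).mp this

lemma away_map_injective {A B A' B' : Type*} [CommRing A] [CommRing B] [CommRing A']
    [CommRing B'] [Algebra A A'] [Algebra B B'] (φ : A →+* B) (s : A)
    [IsLocalization.Away s A'] [IsLocalization.Away (φ s) B']
    (h : ∀ a ∈ RingHom.ker φ, s * a = 0) :
    Function.Injective (IsLocalization.Away.map A' B' φ s) := by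
  rw [injective_iff_map_eq_zero]
  intro x hx
  obtain ⟨⟨a, m⟩, hxa⟩ := IsLocalization.surj (Submonoid.powers s) x
  dsimp only at hxa
  have h1 : IsLocalization.Away.map A' B' φ s (algebraMap A A' a) = 0 := by
    rw [← hxa, map_mul, hx, zero_mul]
  rw [IsLocalization.Away.map, IsLocalization.map_eq] at h1
  obtain ⟨⟨c, n, rfl⟩, hc⟩ := (IsLocalization.map_eq_zero_iff (Submonoid.powers (φ s)) B' _).mp h1
  dsimp only at hc
  have h2 : s ^ n * a ∈ RingHom.ker φ := by
    rw [RingHom.mem_ker, map_mul, map_pow]; exact hc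
  have h3 := h _ h2
  have h4 : algebraMap A A' a = 0 := by
    rw [IsLocalization.map_eq_zero_iff (Submonoid.powers s)]
    refine ⟨⟨s ^ (n + 1), n + 1, rfl⟩, ?_⟩
    show s ^ (n + 1) * a = 0
    rw [pow_succ', mul_assoc]; exact h3
  rw [h4] at hxa
  exact ((IsLocalization.map_units A' m).mul_left_eq_zero).mp hxa

end Groth.Agent.Helper16.CIFlat

namespace Groth.Agent.Helper16.CIFlat

lemma injective_comp_of {A B C : CommRingCat} (g : A ⟶ B) (h : B ⟶ C)
    (hg : Function.Injective g) (hh : Function.Injective h) : Function.Injective (g ≫ h) := by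
  intro a b hab
  rw [CommRingCat.comp_apply, CommRingCat.comp_apply] at hab
  exact hg (hh hab)

theorem exists_nhd_isIso {X Y : Scheme.{u}} (f : X ⟶ Y) [IsClosedImmersion f]
    [LocallyOfFinitePresentation f] (x : X) (hflat : (f.stalkMap x).hom.Flat) :
    ∃ V : Y.Opens, f.base x ∈ V ∧ IsIso (f ∣_ V) := by
  have hsurj : Function.Surjective (f.stalkMap x) := f.stalkMap_surjective x
  have hinj : Function.Injective (f.stalkMap x) :=
    injective_of_flat_of_surjective (f.stalkMap x).hom hsurj hflat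
  obtain ⟨W, hW, hxW⟩ : ∃ W : Y.Opens, IsAffineOpen W ∧ f x ∈ W := by
    obtain ⟨W, hxW⟩ := TopologicalSpace.Opens.mem_iSup.mp
      (show f x ∈ ⨆ i, ((Y.affineCover.f i).opensRange) by
        rw [Scheme.OpenCover.iSup_opensRange]; trivial)
    exact ⟨_, isAffineOpen_opensRange _, hxW⟩
  have hW' : IsAffineOpen (f ⁻¹ᵁ W) := hW.preimage f
  have hfp : (f.app W).hom.FinitePresentation := by
    rw [Scheme.Hom.app_eq_appLE]
    exact HasRingHomProperty.appLE @LocallyOfFinitePresentation f inferInstance ⟨W, hW⟩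
      ⟨_, hW'⟩ _
  have hsW : Function.Surjective (f.app W) := f.app_surjective W hW
  have hfg : (RingHom.ker (f.app W).hom).FG := by
    algebraize [(f.app W).hom]
    exact Algebra.FinitePresentation.ker_fG_of_surjective (Algebra.ofId Γ(Y, W) Γ(X, f ⁻¹ᵁ W)) hsW
  -- each element of the kernel is killed near `f x`
  have key : ∀ a ∈ RingHom.ker (f.app W).hom,
      ∃ s : Γ(Y, W), f x ∈ Y.basicOpen s ∧ s * a = 0 := by
    intro a ha
    have h0 : Y.presheaf.germ W (f x) hxW a = 0 := by
      apply hinj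
      rw [map_zero, Scheme.Hom.germ_stalkMap_apply]
      have : (f.app W).hom a = 0 := ha
      simp [this]
    letI : Algebra Γ(Y, W) (Y.presheaf.stalk (f x)) :=
      TopCat.Presheaf.algebra_section_stalk Y.presheaf ⟨f x, hxW⟩
    have hloc := hW.isLocalization_stalk ⟨f x, hxW⟩
    obtain ⟨⟨s, hs⟩, hsa⟩ := (IsLocalization.map_eq_zero_iff
      (hW.primeIdealOf ⟨f x, hxW⟩).asIdeal.primeCompl (Y.presheaf.stalk (f x)) a).mp h0
    refine ⟨s, ?_, hsa⟩
    rw [Scheme.mem_basicOpen Y s (f x) hxW]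
    exact IsLocalization.map_units (M := (hW.primeIdealOf ⟨f x, hxW⟩).asIdeal.primeCompl)
      (Y.presheaf.stalk (f x)) ⟨s, hs⟩
  have key2 : ∀ N : Ideal Γ(Y, W), N.FG → N ≤ RingHom.ker (f.app W).hom →
      ∃ s : Γ(Y, W), f x ∈ Y.basicOpen s ∧ ∀ a ∈ N, s * a = 0 := by
    intro N hN
    refine Submodule.fg_induction
      (motive := fun (N : Ideal Γ(Y, W)) _ => N ≤ RingHom.ker (f.app W).hom →
      ∃ s : Γ(Y, W), f x ∈ Y.basicOpen s ∧ ∀ a ∈ N, s * a = 0) ?_ ?_ N hN
    · intro a ha
      obtain ⟨s, hs, hsa⟩ := key a (ha (Submodule.mem_span_singleton_self a))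
      refine ⟨s, hs, fun b hb => ?_⟩
      obtain ⟨c, rfl⟩ := Submodule.mem_span_singleton.mp hb
      rw [smul_eq_mul, mul_left_comm, hsa, mul_zero]
    · intro N₁ N₂ _ _ h₁ h₂ hle
      obtain ⟨s₁, hs₁, h₁⟩ := h₁ (le_sup_left.trans hle)
      obtain ⟨s₂, hs₂, h₂⟩ := h₂ (le_sup_right.trans hle)
      refine ⟨s₁ * s₂, ?_, fun a ha => ?_⟩
      · rw [Scheme.basicOpen_mul]; exact ⟨hs₁, hs₂⟩
      · obtain ⟨b, hb, c, hc, rfl⟩ := Submodule.mem_sup.mp ha
        rw [mul_add, mul_right_comm, h₁ b hb, zero_mul, mul_assoc, h₂ c hc, mul_zero, add_zero]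
  obtain ⟨s, hs, hsa⟩ := key2 _ hfg le_rfl
  refine ⟨Y.basicOpen s, hs, ?_⟩
  have hV : IsAffineOpen (Y.basicOpen s) := hW.basicOpen s
  have hinjV : Function.Injective (f.app (Y.basicOpen s)) := by
    rw [IsAffineOpen.app_basicOpen_eq_away_map f hW hW' s]
    have := hW.isLocalization_basicOpen s
    have := hW'.isLocalization_basicOpen (f.app W s)
    refine injective_comp_of _ _ ?_ ?_
    · exact away_map_injective (f.app W).hom s hsa
    · exact (ConcreteCategory.bijective_of_isIso (X.presheaf.map (eqToHom _).op)).1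
  have hinjV' : ∀ U : Y.Opens, U = Y.basicOpen s → Function.Injective (f.app U) := by
    rintro U rfl; exact hinjV
  have : IsAffine (Y.basicOpen s).toScheme := hV
  apply IsClosedImmersion.isIso_of_injective_of_isAffine (f := f ∣_ Y.basicOpen s)
  rw [Scheme.Hom.appTop, morphismRestrict_app]
  refine injective_comp_of _ _ ?_ ?_
  · exact hinjV' _ (by simp)
  · exact (ConcreteCategory.bijective_of_isIso (X.presheaf.map (eqToHom _).op)).1

end Groth.Agent.Helper16.CIFlat
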