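import Mathlib
import Groth.Agent.Lib.Helper16.Sch.CINhd

set_option autoImplicit false
open AlgebraicGeometry CategoryTheory Limits IsLocalRing
universe u

namespace Groth.Agent.Helper16.CINhd

variable {X Y : Scheme.{u}}

/-- Variant of `exists_nhd_isClosedImmersion` with the pointwise hypotheses. -/
theorem exists_nhd_isClosedImmersion' (g : X ⟶ Y) [LocallyOfFiniteType g] [UniversallyClosed g]
    (x : X) (huniq : ∀ x₁, g x₁ = g x → x₁ = x)
    (hbij : Function.Bijective (Ideal.quotientMap
      ((maximalIdeal (Y.presheaf.stalk (g x))).map (g.stalkMap x).hom) (g.stalkMap x).hom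
      Ideal.le_comap_map)) :
    ∃ U : Y.Opens, g x ∈ U ∧ IsClosedImmersion (g ∣_ U) := by
  obtain ⟨U, hxU, hU⟩ := exists_nhd_mono g x huniq hbij
  refine ⟨U, hxU, ?_⟩
  have h1 : UniversallyClosed (g ∣_ U) := IsZariskiLocalAtTarget.restrict ‹_› U
  have h2 : IsSeparated (g ∣_ U) := inferInstance
  have h3 : LocallyOfFiniteType (g ∣_ U) := inferInstance
  have h4 : IsProper (g ∣_ U) := {}
  exact (IsClosedImmersion.iff_isProper_and_mono _).mpr ⟨h4, hU⟩

/-- Over an algebraically closed field, the residue field extension at a closed point of a scheme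
locally of finite type is trivial. -/
theorem surjective_residueFieldMap_of_isClosed (k : Type u) [Field k] [IsAlgClosed k]
    (f : X ⟶ Y) (q : Y ⟶ Spec (CommRingCat.of k)) [LocallyOfFiniteType (f ≫ q)]
    (x : X) (hx : IsClosed ({x} : Set X)) :
    Function.Surjective (f.residueFieldMap x).hom := by
  let e := residueFieldIsoBase (f ≫ q) x hx
  let c : CommRingCat.of k ⟶ Y.residueField (f x) :=
    Spec.preimage (Y.fromSpecResidueField (f x) ≫ q)
  have hc : e.inv = c ≫ f.residueFieldMap x := by
    apply Spec.map_injective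
    rw [SpecMap_residueFieldIsoBase_inv, Spec.map_comp, Spec.map_preimage,
      Scheme.Hom.SpecMap_residueFieldMap_fromSpecResidueField_assoc]
  have hsurj : Function.Surjective e.inv.hom :=
    (ConcreteCategory.bijective_of_isIso e.inv).2
  rw [hc] at hsurj
  exact Function.Surjective.of_comp (g := c.hom) hsurj

theorem main2 (k : Type u) [Field k] [IsAlgClosed k]
    (f : X ⟶ Y) (q : Y ⟶ Spec (CommRingCat.of k)) [LocallyOfFiniteType q]
    [LocallyOfFiniteType (f ≫ q)] [IsProper f]
    (hinj : Set.InjOn f.base {x : X | IsClosed ({x} : Set X)})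
    (hT : ∀ x : X, IsClosed ({x} : Set X) →
      Ideal.map (f.stalkMap x).hom (IsLocalRing.maximalIdeal (Y.presheaf.stalk (f.base x))) ⊔
        IsLocalRing.maximalIdeal (X.presheaf.stalk x) ^ 2 =
          IsLocalRing.maximalIdeal (X.presheaf.stalk x)) :
    IsClosedImmersion f := by
  have hJY : JacobsonSpace ↥Y := LocallyOfFiniteType.jacobsonSpace q
  have hJX : JacobsonSpace ↥X := LocallyOfFiniteType.jacobsonSpace (f ≫ q)
  have hNX : IsLocallyNoetherian X := LocallyOfFiniteType.isLocallyNoetherian (f ≫ q)
  -- local statement at closed points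
  have key : ∀ y : Y, IsClosed ({y} : Set Y) →
      ∃ U : Y.Opens, y ∈ U ∧ IsClosedImmersion (f ∣_ U) := by
    intro y hy
    by_cases hyr : y ∈ Set.range f
    · have hS : IsClosed (f ⁻¹' {y}) := hy.preimage f.continuous
      obtain ⟨x, hxS, hxc⟩ := nonempty_inter_closedPoints (Z := f ⁻¹' {y}) hyr
        hS.isLocallyClosed
      have hxc' : IsClosed ({x} : Set X) := hxc
      have hfx : f x = y := hxS
      have hSx : f ⁻¹' {y} = {x} := by
        have h1 := JacobsonSpace.closure_inter_closedPoints_eq_closure hS.isLocallyClosed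
        rw [hS.closure_eq] at h1
        have h2 : f ⁻¹' {y} ∩ closedPoints X = {x} := by
          ext x'
          constructor
          · rintro ⟨h3, h4⟩
            exact hinj (show IsClosed ({x'} : Set X) from h4) hxc' (h3.trans hfx.symm)
          · rintro rfl
            exact ⟨hxS, hxc⟩
        rw [h2, hxc'.closure_eq] at h1
        exact h1.symm
      subst hfx
      have huniq : ∀ x₁, f x₁ = f x → x₁ = x := by
        intro x₁ h
        have : x₁ ∈ f ⁻¹' {f x} := h
        rw [hSx] at this
        exact this
      have hJ : (maximalIdeal (Y.presheaf.stalk (f x))).map (f.stalkMap x).hom =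
          maximalIdeal (X.presheaf.stalk x) := by
        apply le_antisymm (IsLocalRing.map_maximalIdeal_le (f.stalkMap x).hom)
        apply Submodule.le_of_le_smul_of_le_jacobson_bot
          (I := maximalIdeal (X.presheaf.stalk x))
        · exact IsNoetherian.noetherian _
        · exact (IsLocalRing.maximalIdeal_le_jacobson _)
        · rw [Ideal.smul_eq_mul, ← pow_two]
          exact (hT x hxc').ge
      have hbij : Function.Bijective (Ideal.quotientMap
          ((maximalIdeal (Y.presheaf.stalk (f x))).map (f.stalkMap x).hom) (f.stalkMap x).hom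
          Ideal.le_comap_map) := by
        rw [MonoFib.quotientMap_eq_residueFieldMap _ _ hJ]
        exact ⟨(f.residueFieldMap x).hom.injective,
          surjective_residueFieldMap_of_isClosed k f q x hxc'⟩
      exact exists_nhd_isClosedImmersion' f x huniq hbij
    · exact exists_nhd_isClosedImmersion_of_notMem_range f f.isClosedMap y hyr
  choose U hyU hU using key
  let V : {y : Y // IsClosed ({y} : Set Y)} → Y.Opens := fun y => U y.1 y.2
  have hV : iSup V = ⊤ := by
    rw [eq_top_iff]
    intro y' _
    obtain ⟨y, hy1, hy2⟩ := nonempty_inter_closedPoints (Z := closure {y'})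
      ⟨y', subset_closure rfl⟩ isClosed_closure.isLocallyClosed
    have hsp : y' ⤳ y := specializes_iff_mem_closure.mpr hy1
    have : y' ∈ V ⟨y, hy2⟩ := hsp.mem_open (V ⟨y, hy2⟩).2 (hyU y hy2)
    exact TopologicalSpace.Opens.mem_iSup.mpr ⟨_, this⟩
  exact (IsZariskiLocalAtTarget.iff_of_iSup_eq_top (P := @IsClosedImmersion) V hV).mpr
    fun y => hU y.1 y.2

end Groth.Agent.Helper16.CINhd
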