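import Mathlib
import Groth.Prelude.Def_MoreMor
import Groth.Agent.Lib.Helper16.Sch.CMCons3
import Groth.Agent.Lib.Helper16.Sch.ConsFD1

set_option autoImplicit false
set_option linter.style.haveILetI false
set_option linter.unusedSectionVars false
universe u

open CategoryTheory AlgebraicGeometry Limits IsLocalRing TensorProduct Topology

namespace Groth.Agent.Helper16.CMCons

/-- The fibrewise Cohen–Macaulay locus of a finitely presented algebra is constructible. -/
theorem isConstructible_cmLocus (R B : Type u) [CommRing R] [CommRing B] [Algebra R B]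
    [Algebra.FinitePresentation R B] : IsConstructible (cmLocus R B) := by
  obtain ⟨R₀, _, _, B₀, _, _, _, _, _, _, hR₀, hB₀, hpo⟩ :=
    Groth.Agent.Helper16.ConsFD.exists_model R B
  haveI : IsNoetherianRing R₀ := Algebra.FiniteType.isNoetherianRing ℤ R₀
  haveI : Algebra.FiniteType R₀ B₀ := inferInstance
  have hcons := isConstructible_cmLocus_noeth R₀ B₀
  have := (Spec.map (CommRingCat.ofHom (algebraMap B₀ B))).isConstructible_preimage hcons
  rw [preimage_cmLocus R B hpo] at this
  exact this

theorem isConstructible_fibCM_SpecMap {R B : CommRingCat.{u}} (φ : R ⟶ B)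
    (hφ : φ.hom.FinitePresentation) :
    IsConstructible {x : Spec B | FibCM (Spec.map φ) x} := by
  letI := φ.hom.toAlgebra
  haveI : Algebra.FinitePresentation R B := hφ
  exact isConstructible_cmLocus R B

/-- For a morphism locally of finite presentation, the set of points at which the fibre is
Cohen–Macaulay is locally constructible. -/
theorem isLocallyConstructible_fibCM {X Y : Scheme.{u}} (f : X ⟶ Y)
    [LocallyOfFinitePresentation f] :
    IsLocallyConstructible {x : X | FibCM f x} := by
  intro x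
  obtain ⟨_, ⟨W, hW, rfl⟩, hxW, -⟩ := Y.isBasis_affineOpens.exists_subset_of_mem_open
    (Set.mem_univ (f x)) isOpen_univ
  have hW : IsAffineOpen W := hW
  obtain ⟨_, ⟨U, hU, rfl⟩, hxU, e⟩ := X.isBasis_affineOpens.exists_subset_of_mem_open
    (show x ∈ f ⁻¹ᵁ W from hxW) (f ⁻¹ᵁ W).isOpen
  have hU : IsAffineOpen U := hU
  have e : U ≤ f ⁻¹ᵁ W := e
  refine ⟨U, U.isOpen.mem_nhds hxU, U.isOpen, ?_⟩
  have hφ : (f.appLE W U e).hom.FinitePresentation :=
    HasRingHomProperty.appLE (P := @LocallyOfFinitePresentation) f inferInstance ⟨W, hW⟩ ⟨U, hU⟩ e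
  have hc := isConstructible_fibCM_SpecMap (f.appLE W U e) hφ
  have hpre := hc.preimage_of_isOpenEmbedding hU.isoSpec.hom.isOpenEmbedding
  refine (congrArg IsConstructible (Set.ext fun u => ?_)).mpr hpre
  show FibCM f u.1 ↔ FibCM (Spec.map (f.appLE W U e)) (hU.isoSpec.hom u)
  have hsq := IsAffineOpen.SpecMap_appLE_fromSpec f hW hU e
  haveI : LocallyOfFiniteType (Spec.map (f.appLE W U e) ≫ hW.fromSpec) := by
    rw [hsq]; infer_instance
  have h1 := fibCM_comp_mono (Spec.map (f.appLE W U e)) hW.fromSpec (hU.isoSpec.hom u)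
  have h2 := fibCM_fromSpec f hU (hU.isoSpec.hom u)
  have h3 : hU.fromSpec (hU.isoSpec.hom u) = u.1 := by
    rw [← Scheme.Hom.comp_apply, hU.isoSpec_hom_fromSpec]
    rfl
  rw [h3] at h2
  rw [h1, ← h2]
  exact fibCM_of_eq hsq.symm _

end Groth.Agent.Helper16.CMCons
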