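import Mathlib
import Groth.Prelude.Def_MoreMor
import Groth.Agent.Lib.Helper16.Sch.CMCons4

set_option autoImplicit false
set_option linter.style.haveILetI false
set_option linter.unusedSectionVars false
universe u

open CategoryTheory AlgebraicGeometry Limits IsLocalRing TensorProduct Topology

namespace Groth.Agent.Helper16.CMCons

theorem isLocallyConstructible_compl' {T : Type*} [TopologicalSpace T] {s : Set T}
    (hs : IsLocallyConstructible s) : IsLocallyConstructible sᶜ := by
  intro x
  obtain ⟨U, hU, hUo, hc⟩ := hs x
  exact ⟨U, hU, hUo, by rw [Set.preimage_compl]; exact hc.compl⟩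

theorem isCM_fiber_iff_fibCM {X S : Scheme.{u}} (f : X ⟶ S) (s : S) (z : f.fiber s) :
    LocCoh.IsCohenMacaulayLocalRing ((f.fiber s).presheaf.stalk z) ↔ FibCM f (f.fiberι s z) :=
  (Groth.Agent.Helper12.CMBC.cm_fibre_stalk_iff_quot f s z _ rfl).trans
    (fibCM_iff_quot f _).symm

/-- the set of points of the base over which the fibre is Cohen–Macaulay is locally
constructible, for `f` of finite presentation. -/
theorem isLocallyConstructible_cm_fibre {X S : Scheme.{u}} (f : X ⟶ S)
    [LocallyOfFinitePresentation f] [QuasiCompact f] :
    IsLocallyConstructible {s : S |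
      ∀ z : ↥(f.fiber s), LocCoh.IsCohenMacaulayLocalRing ((f.fiber s).presheaf.stalk z)} := by
  have h1 := isLocallyConstructible_fibCM f
  have h2 := f.isLocallyConstructible_image (isLocallyConstructible_compl' h1)
  have h3 := isLocallyConstructible_compl' h2
  convert h3 using 1
  ext s
  simp only [Set.mem_ofPred_eq, Set.mem_compl_iff, Set.mem_image, not_exists, not_and]
  constructor
  · intro h x hx hxs
    apply hx
    subst hxs
    exact h (f.asFiber x)
  · intro h z
    rw [isCM_fiber_iff_fibCM]
    by_contra hcon
    refine h (f.fiberι s z) hcon ?_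
    have : f.fiberι s z ∈ f ⁻¹' {s} := f.range_fiberι s ▸ Set.mem_range_self z
    exact this

end Groth.Agent.Helper16.CMCons
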