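import Mathlib
import Groth.Prelude.Def_MoreMor
import Groth.Agent.Lib.Helper16.Sch.CMSch1
import Groth.Agent.Lib.Helper14.SectionComp2

set_option autoImplicit false
set_option linter.style.haveILetI false
set_option linter.unusedSectionVars false
universe u

open CategoryTheory AlgebraicGeometry Limits

namespace Groth.Agent.Helper16.CMSch

/-- every point of an open set of a scheme has a maximal (w.r.t. generization) generization in it. -/
theorem exists_isMax_mem_open {Z : Scheme.{u}} (V : Set Z) (hV : IsOpen V) (z : Z) (hz : z ∈ V) :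
    ∃ η ∈ V, IsMax η := by
  obtain ⟨η, hη⟩ := QuasiSober.sober (isIrreducible_irreducibleComponent (x := z))
    isClosed_irreducibleComponent
  have hηz : η ⤳ z := by
    rw [specializes_iff_mem_closure, hη.def]
    exact mem_irreducibleComponent
  refine ⟨η, hηz.mem_open hV hz, ?_⟩
  intro b hb
  have hb' : b ⤳ η := hb
  show η ⤳ b
  rw [specializes_iff_mem_closure, hη.def]
  have hsub : irreducibleComponent z ⊆ closure {b} := by
    rw [← hη.def]
    exact closure_minimal (Set.singleton_subset_iff.mpr (specializes_iff_mem_closure.mp hb'))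
      isClosed_closure
  have hirr : IsPreirreducible (closure ({b} : Set Z)) :=
    (isIrreducible_singleton.closure).isPreirreducible
  have := eq_irreducibleComponent hirr hsub
  rw [← this]
  exact subset_closure rfl

theorem isCM_asFiber_of_fiber {X S : Scheme.{u}} (f : X ⟶ S) (s : S) (z : f.fiber s)
    (h : LocCoh.IsCohenMacaulayLocalRing ((f.fiber s).presheaf.stalk z)) :
    LocCoh.IsCohenMacaulayLocalRing
      ((f.fiber (f (f.fiberι s z))).presheaf.stalk (f.asFiber (f.fiberι s z))) := by
  have key : ∀ (x' : X) (s : S) (hs : f x' = s) (z : f.fiber s) (hz : f.fiberι s z = x'),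
      LocCoh.IsCohenMacaulayLocalRing ((f.fiber s).presheaf.stalk z) →
      LocCoh.IsCohenMacaulayLocalRing ((f.fiber (f x')).presheaf.stalk (f.asFiber x')) := by
    intro x' s hs z hz h
    subst hs
    have : z = f.asFiber x' :=
      (f.fiberι _).isEmbedding.injective (by rw [hz, Scheme.Hom.fiberι_asFiber])
    subst this
    exact h
  have hs : f (f.fiberι s z) = s := by
    have : f.fiberι s z ∈ f ⁻¹' {s} := f.range_fiberι s ▸ Set.mem_range_self z
    exact this
  exact key _ s hs z rfl h

/-- the CM locus of a flat morphism locally of finite type is dense in every fibre. -/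
theorem dense_cm_fiber {X S : Scheme.{u}} (f : X ⟶ S) [Flat f] [LocallyOfFiniteType f] (s : S) :
    Dense ((f.fiberι s) ⁻¹' {x | MoreMor.IsCMAt f x}) := by
  rw [dense_iff_inter_open]
  rintro V hV ⟨z, hz⟩
  obtain ⟨η, hηV, hmax⟩ := exists_isMax_mem_open V hV z hz
  refine ⟨η, hηV, ?_⟩
  show MoreMor.IsCMAt f (f.fiberι s η)
  refine ⟨Flat.stalkMap f _, isCM_asFiber_of_fiber f s η ?_⟩
  haveI : IsLocallyNoetherian (f.fiber s) :=
    Groth.Agent.Helper14.SectionComp.isLocallyNoetherian_fiber f s
  haveI : IsNoetherianRing ((f.fiber s).presheaf.stalk η) := inferInstance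
  haveI : Ring.KrullDimLE 0 ((f.fiber s).presheaf.stalk η) :=
    krullDimLE_of_coheight_le (by rw [Order.coheight_eq_zero.mpr hmax]; rfl)
  haveI : IsArtinianRing ((f.fiber s).presheaf.stalk η) :=
    isArtinianRing_iff_isNoetherianRing_krullDimLE_zero.mpr ⟨inferInstance, inferInstance⟩
  exact isCM_of_isArtinianRing _

end Groth.Agent.Helper16.CMSch
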