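import Mathlib
import Groth.Prelude.Def_MoreMor
import Groth.Agent.Lib.Helper16.Sch.CMSch2
import Groth.Agent.Lib.Helper16.Sch.CMSch3
import Groth.Agent.Lib.Helper16.Sch.FibComp1
import Groth.Agent.Lib.Helper16.Sch.FibMap2
import Groth.Agent.Lib.Helper14.AffSpEquidim
import Groth.Agent.Lib.Helper14.QuasiSection

set_option autoImplicit false
set_option linter.style.haveILetI false
set_option linter.unusedSectionVars false
universe u

open CategoryTheory AlgebraicGeometry Limits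

namespace Groth.Agent.Helper16.CMSch

/-- if an open neighbourhood of `x` admits a locally quasi-finite morphism to `𝔸ⁿ` over the base
which is flat at `x`, then `n` is the local dimension of the fibre at `x`. -/
theorem fibreDimAt_eq_of_qf_flat {X Y : Scheme.{u}} (f : X ⟶ Y) [LocallyOfFiniteType f] (n : ℕ)
    (U : X.Opens) (g : (U : Scheme.{u}) ⟶ 𝔸(ULift.{u} (Fin n); Y))
    (hcomm : g ≫ (𝔸(ULift.{u} (Fin n); Y) ↘ Y) = U.ι ≫ f)
    [LocallyQuasiFinite g] (x : X) (hx : x ∈ U) (hfl : (g.stalkMap ⟨x, hx⟩).hom.Flat) :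
    FlatMor.fibreDimAt f x = (n : WithBot ℕ∞) := by
  have h1 := Groth.Agent.Helper14.QuasiSection.fibreDimAt_opens f U ⟨x, hx⟩
  rw [← hcomm] at h1
  haveI : LocallyOfFiniteType g := by
    haveI : LocallyOfFiniteType (g ≫ (𝔸(ULift.{u} (Fin n); Y) ↘ Y)) := by
      rw [hcomm]; infer_instance
    exact locallyOfFiniteType_of_comp g (𝔸(ULift.{u} (Fin n); Y) ↘ Y)
  have h2 := Groth.Agent.Helper16.FibComp.fibreDimAt_comp_eq g (𝔸(ULift.{u} (Fin n); Y) ↘ Y)
    ⟨x, hx⟩ hfl
  have h3 : FlatMor.fibreDimAt g ⟨x, hx⟩ = 0 :=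
    le_antisymm ((Groth.Agent.Helper16.FibMap.locallyQuasiFinite_iff_fibreDimAt g).mp
      inferInstance _) (Groth.Agent.Helper14.FibreGeneric.zero_le_localDim _)
  rw [← h1, h2, h3, Groth.Agent.Helper14.AffSpEquidim.fibreDimAt_affineSpace, zero_add]

end Groth.Agent.Helper16.CMSch
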