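import Mathlib
import Groth.Prelude.Def_MoreMor
import Groth.Agent.Lib.Helper16.Sch.CMDim
import Groth.Agent.Lib.Helper16.Sch.CMCons1
import Groth.Agent.Lib.Helper16.Sch.SpecFib
import Groth.Agent.Lib.Helper16.Alg.RegLocB

set_option autoImplicit false
set_option linter.style.haveILetI false
set_option linter.unusedSectionVars false
universe u

open CategoryTheory AlgebraicGeometry Limits

namespace Groth.Agent.Helper16.FibDec

open Groth.Agent.Helper16 Groth.Agent.Helper16.FibStalk

/-- near a Cohen–Macaulay point the fibre dimension is constant. -/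
theorem exists_open_fibreDimAt_eq {X Y : Scheme.{u}} (f : X ⟶ Y)
    [LocallyOfFinitePresentation f] (x : X) (hcm : MoreMor.IsCMAt f x) :
    ∃ (n : ℕ) (U : X.Opens), x ∈ U ∧ ∀ x' ∈ U, FlatMor.fibreDimAt f x' = (n : WithBot ℕ∞) := by
  obtain ⟨n, U, hxU, g, hcomm, hqf, hfl⟩ := CMSch.exists_qf_flat_to_affineSpace f x hcm
  refine ⟨n, U, hxU, fun x' hx' => ?_⟩
  haveI := hqf
  haveI := hfl
  exact CMSch.fibreDimAt_eq_of_qf_flat f n U g hcomm x' hx' (Flat.stalkMap g ⟨x', hx'⟩)

section ring

variable (R S : Type u) [CommRing R] [CommRing S] [Algebra R S]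

open Groth.Agent.Helper16.SpecFib Groth.Agent.Helper16.RingFibDim

/-- the quotient of the stalk by the fibre ideal is the fibre local ring. -/
theorem nonempty_ringEquiv_quot_fibIdeal (q : ↥(Spec (CommRingCat.of S))) :
    Nonempty (((Spec (CommRingCat.of S)).presheaf.stalk q ⧸ fibIdeal (specMap R S) q) ≃+*
      EGA4.FibLocRing R S (PrimeSpectrum.asIdeal q)) := by
  letI := stAlg S q
  haveI := isLocalization_st S q
  let e : (Spec (CommRingCat.of S)).presheaf.stalk q ≃ₐ[S]
      Localization.AtPrime (PrimeSpectrum.asIdeal q) :=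
    IsLocalization.algEquiv (PrimeSpectrum.asIdeal q).primeCompl _ _
  have hI : Ideal.map (algebraMap R (Localization.AtPrime (PrimeSpectrum.asIdeal q)))
      ((PrimeSpectrum.asIdeal q).comap (algebraMap R S)) =
      Ideal.map (e.toRingEquiv : _ →+* _) (fibIdeal (specMap R S) q) := by
    rw [fibIdeal_eq, Ideal.map_map]
    congr 1
    ext r
    show algebraMap R (Localization.AtPrime (PrimeSpectrum.asIdeal q)) r =
      e (algebraMap S _ (algebraMap R S r))
    rw [e.commutes, ← IsScalarTower.algebraMap_apply]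
  exact ⟨Ideal.quotientEquiv _ _ e.toRingEquiv hI⟩

/-- Cohen–Macaulay fibre rings give Cohen–Macaulay fibre local rings. -/
theorem isCM_fibLocRing
    (hCM : ∀ p : PrimeSpectrum R, LocCoh.IsCohenMacaulayRing (p.asIdeal.Fiber S))
    (q : PrimeSpectrum S) : LocCoh.IsCohenMacaulayLocalRing (EGA4.FibLocRing R S q.asIdeal) := by
  let p' : PrimeSpectrum R := PrimeSpectrum.comap (algebraMap R S) q
  haveI : q.asIdeal.LiesOver p'.asIdeal := ⟨rfl⟩
  let Q : PrimeSpectrum (p'.asIdeal.Fiber S) :=
    PrimeSpectrum.preimageHomeomorphFiber R S p' ⟨q, rfl⟩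
  have hQ : Q.asIdeal.comap (Algebra.TensorProduct.includeRight :
      S →ₐ[R] p'.asIdeal.Fiber S).toRingHom = q.asIdeal := by
    have := (PrimeSpectrum.preimageHomeomorphFiber R S p').symm_apply_apply ⟨q, rfl⟩
    exact congrArg (fun z => z.1.asIdeal) this
  obtain ⟨eS⟩ := RegLoc.nonempty_ringEquiv_fibLocRing R S p'.asIdeal q.asIdeal Q.asIdeal hQ
  haveI : LocCoh.IsCohenMacaulayLocalRing (Localization.AtPrime Q.asIdeal) :=
    (hCM p').isCohenMacaulayLocalRing_localization Q.asIdeal
  exact FibCM.isCM_of_ringEquiv (A := Localization.AtPrime Q.asIdeal) eS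

/-- a flat ring map with Cohen–Macaulay fibre rings is Cohen–Macaulay at every point. -/
theorem isCMAt_specMap [Module.Flat R S]
    (hCM : ∀ p : PrimeSpectrum R, LocCoh.IsCohenMacaulayRing (p.asIdeal.Fiber S))
    (q : ↥(Spec (CommRingCat.of S))) : MoreMor.IsCMAt (specMap R S) q := by
  haveI : Flat (specMap R S) := by
    rw [HasRingHomProperty.Spec_iff (P := @Flat)]
    exact RingHom.flat_algebraMap_iff.mpr inferInstance
  rw [CMCons.isCMAt_iff_fibCM, CMCons.fibCM_iff_quot]
  obtain ⟨e⟩ := nonempty_ringEquiv_quot_fibIdeal R S q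
  haveI := isCM_fibLocRing R S hCM q
  exact FibCM.isCM_of_ringEquiv (A := EGA4.FibLocRing R S (PrimeSpectrum.asIdeal q)) e.symm

/-- **Local constancy of the fibre dimension** for flat finitely presented ring maps with
Cohen–Macaulay fibres. -/
theorem exists_open_const [Module.Flat R S] [Algebra.FinitePresentation R S]
    (hCM : ∀ p : PrimeSpectrum R, LocCoh.IsCohenMacaulayRing (p.asIdeal.Fiber S))
    (q : PrimeSpectrum S) :
    ∃ (n : ℕ) (U : Set (PrimeSpectrum S)), IsOpen U ∧ q ∈ U ∧
      ∀ q' ∈ U, FlatMor.fibreDimAt (specMap R S) q' = (n : WithBot ℕ∞) := by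
  haveI : LocallyOfFinitePresentation (specMap R S) := by
    rw [HasRingHomProperty.Spec_iff (P := @LocallyOfFinitePresentation)]
    exact (RingHom.finitePresentation_algebraMap (A := R) (B := S)).mpr inferInstance
  obtain ⟨n, U, hqU, hU⟩ := exists_open_fibreDimAt_eq (specMap R S) q (isCMAt_specMap R S hCM q)
  exact ⟨n, (U : Set (Spec (CommRingCat.of S))), U.2, hqU, hU⟩

end ring

end Groth.Agent.Helper16.FibDec
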