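import Mathlib
import Groth.Prelude.Def_MoreMor
import Groth.Agent.Lib.Helper16.Sch.FibDecA
import Groth.Agent.Lib.Helper16.Sch.FibComp1
import Groth.Agent.Lib.Helper16.Sch.FTMisc1
import Groth.Agent.Lib.Helper14.LocalDimSch
import Groth.Agent.Lib.Helper14.DimClosure
import Groth.Agent.Lib.Helper15.AlgSpFinLocFree
import Groth.Agent.Lib.Lead.Fib1

set_option autoImplicit false
set_option linter.style.haveILetI false
set_option linter.unusedSectionVars false
universe u

open CategoryTheory AlgebraicGeometry Limits TopologicalSpace IsLocalRing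

namespace Groth.Agent.Helper16.CMLocDim

open Groth.Agent.Helper16 Groth.Agent.Helper16.FibStalk Groth.Agent.Helper14
  Groth.Agent.Helper16.FTDim

variable {X Y : Scheme.{u}}

/-- dimension formula for the stalks of a morphism flat at `x`. -/
theorem dim_stalk_eq (f : X ⟶ Y) [IsLocallyNoetherian X] [IsLocallyNoetherian Y] (x : X)
    (hflat : (f.stalkMap x).hom.Flat) :
    ringKrullDim (X.presheaf.stalk x) = ringKrullDim (Y.presheaf.stalk (f x)) +
      ringKrullDim (X.presheaf.stalk x ⧸ fibIdeal f x) := by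
  letI : Algebra (Y.presheaf.stalk (f x)) (X.presheaf.stalk x) := (f.stalkMap x).hom.toAlgebra
  haveI : IsLocalHom (algebraMap (Y.presheaf.stalk (f x)) (X.presheaf.stalk x)) :=
    inferInstanceAs (IsLocalHom (f.stalkMap x).hom)
  haveI : Module.Flat (Y.presheaf.stalk (f x)) (X.presheaf.stalk x) := hflat
  have h := Groth.Agent.Lead.Fib.height_eq_add_fibre (R := Y.presheaf.stalk (f x))
    (S := X.presheaf.stalk x) (fibIdeal f x) rfl
  rw [← IsLocalRing.maximalIdeal_height_eq_ringKrullDim,
    ← IsLocalRing.maximalIdeal_height_eq_ringKrullDim,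
    ← IsLocalRing.maximalIdeal_height_eq_ringKrullDim, h]
  push_cast
  rfl


/-- `(⨆ a i) + n ≤ d` from the termwise bounds, in `WithBot ℕ∞`. -/
theorem iSup_add_le {ι : Type*} (a : ι → WithBot ℕ∞) (n : ℕ) (d : WithBot ℕ∞)
    (h : ∀ i, a i + (n : WithBot ℕ∞) ≤ d) : (⨆ i, a i) + (n : WithBot ℕ∞) ≤ d := by
  induction d with
  | bot =>
    have : ∀ i, a i = ⊥ := by
      intro i
      have h1 := le_bot_iff.1 (h i)
      rcases WithBot.add_eq_bot.1 h1 with h2 | h2
      · exact h2
      · exact absurd h2 (by exact_mod_cast (WithBot.coe_ne_bot (a := (n : ℕ∞))))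
    have h2 : (⨆ i, a i) = ⊥ := by
      rw [iSup_eq_bot]
      exact this
    rw [h2, WithBot.bot_add]
  | coe e =>
    induction e with
    | top => exact le_top
    | coe m =>
      let b : WithBot ℕ∞ := if n ≤ m then ((m - n : ℕ) : WithBot ℕ∞) else ⊥
      have hb : ∀ i, a i ≤ b := by
        intro i
        have hi := h i
        induction hai : a i with
        | bot => exact bot_le
        | coe c =>
          rw [hai] at hi
          have hi' : c + (n : ℕ∞) ≤ (m : ℕ∞) := by exact_mod_cast hi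
          induction c with
          | top => simp at hi'
          | coe k =>
            have hk : k + n ≤ m := by exact_mod_cast hi'
            have hnm : n ≤ m := by omega
            simp only [b, if_pos hnm]
            have : k ≤ m - n := by omega
            show ((k : ℕ∞) : WithBot ℕ∞) ≤ (((m - n : ℕ) : ℕ∞) : WithBot ℕ∞)
            rw [WithBot.coe_le_coe]
            exact_mod_cast this
      have h1 : (⨆ i, a i) ≤ b := iSup_le hb
      calc (⨆ i, a i) + (n : WithBot ℕ∞) ≤ b + (n : WithBot ℕ∞) := add_le_add h1 le_rfl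
        _ ≤ ((m : ℕ∞) : WithBot ℕ∞) := by
          by_cases hnm : n ≤ m
          · simp only [b, if_pos hnm]
            have : (m - n) + n = m := by omega
            show (((m - n : ℕ) : ℕ∞) : WithBot ℕ∞) + ((n : ℕ∞) : WithBot ℕ∞) ≤ _
            rw [← WithBot.coe_add, WithBot.coe_le_coe]
            exact_mod_cast this.le
          · simp only [b, if_neg hnm, WithBot.bot_add, bot_le]

section key

variable (f : X ⟶ Y) [LocallyOfFiniteType f] [IsLocallyNoetherian X] [IsLocallyNoetherian Y]

/-- dimension of an open set on which the morphism is flat of constant fibre dimension. -/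
theorem dim_opens_eq (hflat : ∀ x : X, (f.stalkMap x).hom.Flat) (U : X.Opens) (V : Y.Opens)
    (hUV : (V : Set Y) = f '' (U : Set X)) (n : ℕ)
    (hn : ∀ x' ∈ U, FlatMor.fibreDimAt f x' = (n : WithBot ℕ∞)) :
    topologicalKrullDim (U : Set X) = topologicalKrullDim (V : Set Y) + (n : WithBot ℕ∞) := by
  apply le_antisymm
  · refine LocalDimSch.dim_opens_le U _ fun x' hx' => ?_
    rw [dim_stalk_eq f x' (hflat x')]
    have h1 : ringKrullDim (Y.presheaf.stalk (f x')) ≤ topologicalKrullDim (V : Set Y) := by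
      refine LocalDimSch.stalk_le_dim_opens V (f x') ?_
      show f x' ∈ (V : Set Y)
      rw [hUV]
      exact ⟨x', hx', rfl⟩
    have h2 : ringKrullDim (X.presheaf.stalk x' ⧸ fibIdeal f x') ≤ (n : WithBot ℕ∞) := by
      have h3 := FibComp.fibreDimAt_eq_quot_add_td f x'
      rw [hn x' hx'] at h3
      rw [h3]
      exact le_add_of_nonneg_right (by exact_mod_cast Nat.zero_le _)
    exact add_le_add h1 h2
  · rw [LocalDimSch.dim_opens V]
    refine iSup_add_le _ n _ fun y => ?_
    obtain ⟨x₁, hx₁, hy⟩ : (y : Y) ∈ f '' (U : Set X) := by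
      rw [← hUV]; exact y.2
    obtain ⟨u, -, hfu, htr⟩ := DimClosure.exists_specializes_trdeg_eq_zero (U.ι ≫ f) ⟨x₁, hx₁⟩
    have htd : td f (U.ι u) = 0 := by
      rw [← FTMisc.td_opens f U u]
      exact td_eq _ _ 0 (by simpa using htr)
    have hfx₂ : f (U.ι u) = y := by
      have : (U.ι ≫ f) u = (U.ι ≫ f) ⟨x₁, hx₁⟩ := hfu
      rw [Scheme.Hom.comp_apply, Scheme.Hom.comp_apply] at this
      rw [this]
      exact hy
    have hmem : U.ι u ∈ U := u.2
    have h3 := FibComp.fibreDimAt_eq_quot_add_td f (U.ι u)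
    rw [hn _ hmem, htd] at h3
    have h4 := dim_stalk_eq f (U.ι u) (hflat _)
    have h5 := LocalDimSch.stalk_le_dim_opens U (U.ι u) hmem
    rw [h4, hfx₂] at h5
    have h6 : ringKrullDim (X.presheaf.stalk (U.ι u) ⧸ fibIdeal f (U.ι u)) = (n : WithBot ℕ∞) := by
      rw [h3]; simp
    rw [h6] at h5
    exact h5

end key


theorem dim_opens_mono (U U' : X.Opens) (h : U ≤ U') :
    topologicalKrullDim (U : Set X) ≤ topologicalKrullDim (U' : Set X) :=
  LocalDimSch.dim_opens_le U _ fun x hx => LocalDimSch.stalk_le_dim_opens U' x (h hx)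

theorem exists_opens_dim_eq_localDim (x : X) :
    ∃ U : X.Opens, x ∈ U ∧ topologicalKrullDim (U : Set X) = FlatMor.localDim X x := by
  haveI : Nonempty {U : Opens X // x ∈ U} := ⟨⟨⊤, trivial⟩⟩
  obtain ⟨U, hU⟩ := ciInf_mem (fun U : {U : Opens X // x ∈ U} => topologicalKrullDim (U.1 : Set X))
  exact ⟨U.1, U.2, hU⟩

/-- **Local dimension formula for Cohen–Macaulay morphisms.** -/
theorem main (f : X ⟶ Y) [IsLocallyNoetherian X] [IsLocallyNoetherian Y] [LocallyOfFiniteType f]
    (hf : ∀ x : X, MoreMor.IsCMAt f x) (x : X) :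
    FlatMor.localDim X x = FlatMor.localDim Y (f x) + FlatMor.fibreDimAt f x := by
  haveI : LocallyOfFinitePresentation f :=
    Groth.Agent.Helper15.lfp_of_lft_of_isLocallyNoetherian f
  have hflat : ∀ x, (f.stalkMap x).hom.Flat := fun x => (hf x).1
  haveI : Flat f := (Flat.iff_flat_stalkMap f).2 hflat
  have hopen : IsOpenMap f := f.isOpenMap
  obtain ⟨n, U₀, hxU₀, hn⟩ := FibDec.exists_open_fibreDimAt_eq f x (hf x)
  rw [hn x hxU₀]
  let img : X.Opens → Y.Opens := fun U => ⟨f '' (U : Set X), hopen _ U.2⟩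
  have key : ∀ U : X.Opens, U ≤ U₀ → topologicalKrullDim (U : Set X) =
      topologicalKrullDim (img U : Set Y) + (n : WithBot ℕ∞) := fun U hU =>
    dim_opens_eq f hflat U (img U) rfl n (fun x' hx' => hn x' (hU hx'))
  apply le_antisymm
  · obtain ⟨V₀, hxV₀, hV₀⟩ := exists_opens_dim_eq_localDim (f x)
    let U : X.Opens := U₀ ⊓ f ⁻¹ᵁ V₀
    have hxU : x ∈ U := ⟨hxU₀, hxV₀⟩
    have himg : img U ≤ V₀ := by
      rintro y ⟨x', hx', rfl⟩
      exact hx'.2
    calc FlatMor.localDim X x ≤ topologicalKrullDim (U : Set X) :=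
          iInf_le (fun U : {U : Opens X // x ∈ U} => topologicalKrullDim (U.1 : Set X)) ⟨U, hxU⟩
      _ = topologicalKrullDim (img U : Set Y) + (n : WithBot ℕ∞) := key U inf_le_left
      _ ≤ topologicalKrullDim (V₀ : Set Y) + (n : WithBot ℕ∞) :=
          add_le_add (dim_opens_mono _ _ himg) le_rfl
      _ = FlatMor.localDim Y (f x) + (n : WithBot ℕ∞) := by rw [hV₀]
  · obtain ⟨U₁, hxU₁, hU₁⟩ := exists_opens_dim_eq_localDim x
    let U : X.Opens := U₁ ⊓ U₀
    have hxU : x ∈ U := ⟨hxU₁, hxU₀⟩
    have hfx : f x ∈ img U := ⟨x, hxU, rfl⟩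
    calc FlatMor.localDim Y (f x) + (n : WithBot ℕ∞)
        ≤ topologicalKrullDim (img U : Set Y) + (n : WithBot ℕ∞) :=
          add_le_add (iInf_le (fun V : {V : Opens Y // f x ∈ V} =>
            topologicalKrullDim (V.1 : Set Y)) ⟨img U, hfx⟩) le_rfl
      _ = topologicalKrullDim (U : Set X) := (key U inf_le_right).symm
      _ ≤ topologicalKrullDim (U₁ : Set X) := dim_opens_mono _ _ inf_le_left
      _ = FlatMor.localDim X x := hU₁

end Groth.Agent.Helper16.CMLocDim
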