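import Mathlib
import Groth.Prelude.Def_CAlg
import Groth.Agent.Lib.Helper16.Alg.ChainC2
import Groth.Agent.Lib.Helper16.Sch.AffDict2
import Groth.Agent.Lib.Helper16.Sch.SmDiv

/-!
# Chains of quasi-finite flat morphisms to affine space: the affine case (helper16)
-/

set_option autoImplicit false
set_option linter.style.haveILetI false
universe u
open CategoryTheory CategoryTheory.Limits AlgebraicGeometry Opposite TopologicalSpace MvPolynomial

noncomputable section

namespace Groth.Agent.Helper16.Chain

section Dict

variable {n : Type u} {S : Scheme.{u}}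

set_option backward.isDefEq.respectTransparency.types false in
/-- a morphism from an affine scheme to affine space over an affine base has a property `P`
(local, given by a property `Q` of ring maps) iff the corresponding map from the polynomial ring
has `Q`. -/
theorem prop_homOfVector_iff (P : MorphismProperty Scheme.{u})
    {Q : ∀ {R S : Type u} [CommRing R] [CommRing S], (R →+* S) → Prop} [HasRingHomProperty P Q]
    [IsAffine S] {X : Scheme.{u}} [IsAffine X] (g : X ⟶ S) (v : n → Γ(X, ⊤)) :
    P (AffineSpace.homOfVector g v) ↔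
      Q (eval₂Hom g.appTop.hom v : MvPolynomial n Γ(S, ⊤) →+* Γ(X, ⊤)) := by
  have hQ : RingHom.RespectsIso @Q := (HasRingHomProperty.isLocal_ringHomProperty P).respectsIso
  rw [← MorphismProperty.cancel_right_of_respectsIso (P := P) _
    (AffineSpace.isoOfIsAffine n S).hom,
    HasRingHomProperty.iff_of_isAffine (P := P), Scheme.Hom.comp_appTop,
    AffineSpace.isoOfIsAffine_hom_appTop, Category.assoc, CommRingCat.hom_comp,
    hQ.cancel_left_isIso]
  have : (CommRingCat.ofHom (eval₂Hom ((𝔸(n; S) ↘ S).appTop).hom (AffineSpace.coord S)) ≫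
      (AffineSpace.homOfVector g v).appTop).hom = eval₂Hom g.appTop.hom v := by
    apply MvPolynomial.ringHom_ext
    · intro a
      simp only [CommRingCat.hom_comp, CommRingCat.hom_ofHom, RingHom.comp_apply, coe_eval₂Hom,
        eval₂_C]
      rw [← CommRingCat.comp_apply, ← Scheme.Hom.comp_appTop, AffineSpace.homOfVector_over]
    · intro i
      simp only [CommRingCat.hom_comp, CommRingCat.hom_ofHom, RingHom.comp_apply, coe_eval₂Hom,
        eval₂_X]
      exact AffineSpace.homOfVector_appTop_coord g v i
  rw [this]

theorem prop_basicOpen_ι_comp_homOfVector (P : MorphismProperty Scheme.{u})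
    {Q : ∀ {R S : Type u} [CommRing R] [CommRing S], (R →+* S) → Prop} [HasRingHomProperty P Q]
    [IsAffine S] {X : Scheme.{u}} [IsAffine X] (f : X ⟶ S)
    (v : n → Γ(X, ⊤)) (g : Γ(X, ⊤))
    (h : Q ((algebraMap Γ(X, ⊤) Γ(X.basicOpen g, ⊤)).comp
      (eval₂Hom f.appTop.hom v : MvPolynomial n Γ(S, ⊤) →+* Γ(X, ⊤)))) :
    P ((X.basicOpen g).ι ≫ AffineSpace.homOfVector f v) := by
  haveI : IsAffine (X.basicOpen g).toScheme := (isAffineOpen_top X).basicOpen g
  rw [AffineSpace.comp_homOfVector, prop_homOfVector_iff P]
  convert h using 1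
  apply MvPolynomial.ringHom_ext
  · intro a
    simp only [coe_eval₂Hom, eval₂_C, RingHom.comp_apply, Scheme.Hom.comp_appTop,
      CommRingCat.hom_comp]
    rfl
  · intro i
    simp only [coe_eval₂Hom, eval₂_X, RingHom.comp_apply, Function.comp_apply]
    rfl

end Dict

end Groth.Agent.Helper16.Chain
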