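import Mathlib
import Groth.Prelude.Def_CAlg
import Groth.Agent.Lib.Helper16.Sch.ChainD

/-!
# Chains of quasi-finite flat morphisms to affine space: the affine case (helper16)
-/

set_option autoImplicit false
set_option linter.style.haveILetI false
universe u
open CategoryTheory CategoryTheory.Limits AlgebraicGeometry Opposite TopologicalSpace MvPolynomial

noncomputable section

namespace Groth.Agent.Helper16.Chain

set_option maxHeartbeats 1600000 in
set_option synthInstance.maxHeartbeats 400000 in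
theorem affine_case (k : Type u) [Field k] [IsAlgClosed k] (X : Scheme.{u}) [IsAffine X]
    (f : X ⟶ Spec (CommRingCat.of k)) [LocallyOfFiniteType f]
    (hCM : ∀ y : X, LocCoh.IsCohenMacaulayLocalRing (X.presheaf.stalk y)) (ι : Type u) [Finite ι]
    (u v : X ⟶ AffineSpace ι (Spec (CommRingCat.of k)))
    (hu : u ≫ (AffineSpace ι (Spec (CommRingCat.of k)) ↘ Spec (CommRingCat.of k)) = f)
    (hv : v ≫ (AffineSpace ι (Spec (CommRingCat.of k)) ↘ Spec (CommRingCat.of k)) = f)
    [LocallyQuasiFinite u] [Flat u] [LocallyQuasiFinite v] (x : X) (hx : IsClosed ({x} : Set X)) :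
    ∃ (U : X.Opens), x ∈ U ∧ ∃ (m : ℕ)
      (w : Fin (m + 1) → ((U : Scheme.{u}) ⟶ AffineSpace ι (Spec (CommRingCat.of k)))),
      w 0 = U.ι ≫ u ∧ w (Fin.last m) = U.ι ≫ v ∧
      (∀ j : Fin (m + 1), LocallyQuasiFinite (w j) ∧ Flat (w j) ∧
        w j ≫ (AffineSpace ι (Spec (CommRingCat.of k)) ↘ Spec (CommRingCat.of k)) = U.ι ≫ f) ∧
      (∀ j : Fin m, ∃ i : ι, ∀ i' : ι, i' ≠ i →
        (w j.castSucc).appTop (AffineSpace.coord (Spec (CommRingCat.of k)) i') =
          (w j.succ).appTop (AffineSpace.coord (Spec (CommRingCat.of k)) i')) := by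
  -- the base field
  let e : k ≃+* Γ(Spec (CommRingCat.of k), ⊤) :=
    (Scheme.ΓSpecIso (CommRingCat.of k)).symm.commRingCatIsoToRingEquiv
  letI fR : Field Γ(Spec (CommRingCat.of k), ⊤) :=
    (e.symm.toMulEquiv.isField (Field.toIsField k)).toField
  haveI : IsAlgClosed Γ(Spec (CommRingCat.of k), ⊤) :=
    IsAlgClosed.of_ringEquiv k Γ(Spec (CommRingCat.of k), ⊤) e
  letI aRB : Algebra Γ(Spec (CommRingCat.of k), ⊤) Γ(X, ⊤) := f.appTop.hom.toAlgebra
  haveI : Algebra.FiniteType Γ(Spec (CommRingCat.of k), ⊤) Γ(X, ⊤) :=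
    (HasRingHomProperty.iff_of_isAffine (P := @LocallyOfFiniteType) (f := f)).mp inferInstance
  -- the point
  have hT := isAffineOpen_top X
  haveI hmax : (hT.primeIdealOf ⟨x, trivial⟩).asIdeal.IsMaximal :=
    hT.primeIdealOf_isMaximal_of_isClosed ⟨x, trivial⟩ hx
  letI aLX := X.presheaf.algebra_section_stalk (⟨x, trivial⟩ : (⊤ : X.Opens))
  haveI lLX := hT.isLocalization_stalk ⟨x, trivial⟩
  -- the coordinate vectors
  let a : ι → Γ(X, ⊤) := fun i => u.appTop (AffineSpace.coord (Spec (CommRingCat.of k)) i)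
  let b : ι → Γ(X, ⊤) := fun i => v.appTop (AffineSpace.coord (Spec (CommRingCat.of k)) i)
  have hua : u = AffineSpace.homOfVector f a := by
    apply AffineSpace.hom_ext
    · rw [hu, AffineSpace.homOfVector_over]
    · intro i
      rw [AffineSpace.homOfVector_appTop_coord]
  have hvb : v = AffineSpace.homOfVector f b := by
    apply AffineSpace.hom_ext
    · rw [hv, AffineSpace.homOfVector_over]
    · intro i
      rw [AffineSpace.homOfVector_appTop_coord]
  have hafl : (eval₂Hom (algebraMap Γ(Spec (CommRingCat.of k), ⊤) Γ(X, ⊤)) a).Flat :=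
    (prop_homOfVector_iff @Flat f a).mp (hua ▸ inferInstance)
  have haqf : (eval₂Hom (algebraMap Γ(Spec (CommRingCat.of k), ⊤) Γ(X, ⊤)) a).QuasiFinite :=
    (prop_homOfVector_iff @LocallyQuasiFinite f a).mp (hua ▸ inferInstance)
  have hbqf : (eval₂Hom (algebraMap Γ(Spec (CommRingCat.of k), ⊤) Γ(X, ⊤)) b).QuasiFinite :=
    (prop_homOfVector_iff @LocallyQuasiFinite f b).mp (hvb ▸ inferInstance)
  obtain ⟨g, hg, m, w, h0, hl, hstep, H⟩ := chain_main (R := Γ(Spec (CommRingCat.of k), ⊤))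
    (hT.primeIdealOf ⟨x, trivial⟩).asIdeal (LX := X.presheaf.stalk x) (hCM x) a b hafl haqf hbqf
  refine ⟨X.basicOpen g,
    Groth.Agent.Helper16.SmDiv.mem_basicOpen_of_notMem_primeIdealOf hT x trivial g hg, m,
    fun j => (X.basicOpen g).ι ≫ AffineSpace.homOfVector f (w j), ?_, ?_, ?_, ?_⟩
  · show (X.basicOpen g).ι ≫ AffineSpace.homOfVector f (w 0) = _
    rw [h0, ← hua]
  · show (X.basicOpen g).ι ≫ AffineSpace.homOfVector f (w (Fin.last m)) = _
    rw [hl, ← hvb]
  · intro j
    obtain ⟨h1, h2⟩ := H j Γ(X.basicOpen g, ⊤)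
    refine ⟨prop_basicOpen_ι_comp_homOfVector @LocallyQuasiFinite f (w j) g h2,
      prop_basicOpen_ι_comp_homOfVector @Flat f (w j) g h1, ?_⟩
    rw [Category.assoc, AffineSpace.homOfVector_over]
  · intro j
    obtain ⟨i, hi⟩ := hstep j
    refine ⟨i, fun i' hi' => ?_⟩
    show ((X.basicOpen g).ι ≫ AffineSpace.homOfVector f (w j.castSucc)).appTop _ =
      ((X.basicOpen g).ι ≫ AffineSpace.homOfVector f (w j.succ)).appTop _
    rw [Scheme.Hom.comp_appTop, Scheme.Hom.comp_appTop, CommRingCat.comp_apply,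
      CommRingCat.comp_apply, AffineSpace.homOfVector_appTop_coord,
      AffineSpace.homOfVector_appTop_coord, hi i' hi']

end Groth.Agent.Helper16.Chain
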