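import Mathlib
import Groth.Prelude.Def_CAlg
import Groth.Agent.Lib.Helper16.Sch.ChainE
import Groth.Agent.Lib.Helper16.Sch.FibCM

/-!
# Chains of quasi-finite flat morphisms to affine space: the general case (helper16)
-/

set_option autoImplicit false
set_option linter.style.haveILetI false
universe u
open CategoryTheory CategoryTheory.Limits AlgebraicGeometry Opposite TopologicalSpace

noncomputable section

namespace Groth.Agent.Helper16.Chain

set_option maxHeartbeats 1600000 in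
set_option synthInstance.maxHeartbeats 400000 in
theorem general_case (k : Type u) [Field k] [IsAlgClosed k] (X : Scheme.{u})
    (f : X ⟶ Spec (CommRingCat.of k)) [LocallyOfFiniteType f]
    (hCM : ∀ y : X, LocCoh.IsCohenMacaulayLocalRing (X.presheaf.stalk y)) (ι : Type u) [Finite ι]
    (u v : X ⟶ AffineSpace ι (Spec (CommRingCat.of k)))
    (hu : u ≫ (AffineSpace ι (Spec (CommRingCat.of k)) ↘ Spec (CommRingCat.of k)) = f)
    (hv : v ≫ (AffineSpace ι (Spec (CommRingCat.of k)) ↘ Spec (CommRingCat.of k)) = f)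
    [LocallyQuasiFinite u] [Flat u] [LocallyQuasiFinite v] (x : X) (hx : IsClosed ({x} : Set X)) :
    ∃ (U : X.Opens), x ∈ U ∧ ∃ (m : ℕ)
      (w : Fin (m + 1) → ((U : Scheme.{u}) ⟶ AffineSpace ι (Spec (CommRingCat.of k)))),
      w 0 = U.ι ≫ u ∧ w (Fin.last m) = U.ι ≫ v ∧
      (∀ j : Fin (m + 1), LocallyQuasiFinite (w j) ∧ Flat (w j) ∧
        w j ≫ (AffineSpace ι (Spec (CommRingCat.of k)) ↘ Spec (CommRingCat.of k)) = U.ι ≫ f) ∧
      (∀ j : Fin m, ∃ i : ι, ∀ i' : ι, i' ≠ i →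
        (w j.castSucc).appTop (AffineSpace.coord (Spec (CommRingCat.of k)) i') =
          (w j.succ).appTop (AffineSpace.coord (Spec (CommRingCat.of k)) i')) := by
  obtain ⟨V, hV, hxV⟩ : ∃ V : X.Opens, IsAffineOpen V ∧ x ∈ V := by
    obtain ⟨V, hV, hxV, -⟩ := TopologicalSpace.Opens.isBasis_iff_nbhd.mp X.isBasis_affineOpens
      (TopologicalSpace.Opens.mem_top x)
    exact ⟨V, hV, hxV⟩
  haveI : IsAffine V.toScheme := hV
  have hCM' : ∀ y : V.toScheme, LocCoh.IsCohenMacaulayLocalRing (V.toScheme.presheaf.stalk y) := by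
    intro y
    haveI := hCM (V.ι y)
    exact Groth.Agent.Helper16.FibCM.isCM_of_ringEquiv
      (asIso (V.ι.stalkMap y)).commRingCatIsoToRingEquiv
  have hy : IsClosed ({(⟨x, hxV⟩ : V.toScheme)} : Set V.toScheme) := by
    have := hx.preimage V.ι.continuous
    convert this using 1
    ext z
    simp only [Set.mem_singleton_iff, Set.mem_preimage]
    exact ⟨fun h => by rw [h]; rfl, fun h => Subtype.ext h⟩
  obtain ⟨U₀, hyU₀, m, w₀, h0, hl, hP, hstep⟩ := affine_case k V.toScheme (V.ι ≫ f) hCM' ι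
    (V.ι ≫ u) (V.ι ≫ v) (by rw [Category.assoc, hu]) (by rw [Category.assoc, hv]) ⟨x, hxV⟩ hy
  refine ⟨V.ι ''ᵁ U₀, ⟨⟨x, hxV⟩, hyU₀, rfl⟩, m, fun j => (V.ι.isoImage U₀).inv ≫ w₀ j,
    ?_, ?_, ?_, ?_⟩
  · show (V.ι.isoImage U₀).inv ≫ w₀ 0 = _
    rw [h0, Scheme.Hom.isoImage_inv_ι_assoc]
  · show (V.ι.isoImage U₀).inv ≫ w₀ (Fin.last m) = _
    rw [hl, Scheme.Hom.isoImage_inv_ι_assoc]
  · intro j
    obtain ⟨h1, h2, h3⟩ := hP j
    haveI := h1
    haveI := h2
    refine ⟨inferInstance, inferInstance, ?_⟩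
    rw [Category.assoc, h3, Scheme.Hom.isoImage_inv_ι_assoc]
  · intro j
    obtain ⟨i, hi⟩ := hstep j
    refine ⟨i, fun i' hi' => ?_⟩
    show ((V.ι.isoImage U₀).inv ≫ w₀ j.castSucc).appTop _ =
      ((V.ι.isoImage U₀).inv ≫ w₀ j.succ).appTop _
    rw [Scheme.Hom.comp_appTop, Scheme.Hom.comp_appTop, CommRingCat.comp_apply,
      CommRingCat.comp_apply, hi i' hi']

end Groth.Agent.Helper16.Chain
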