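import Mathlib
import Groth.Agent.Lib.Helper16.Sch.FibStalk

/-!
# Fibre of the closure of a point over a maximal point of the base

`main`: S13742.
-/

open AlgebraicGeometry CategoryTheory Limits IsLocalRing

universe u

namespace Groth.Agent.Helper16.ClFib

variable {X S Z : Scheme.{u}}

/-- At a maximal point (generic point of an irreducible component) the maximal ideal of the local
ring consists of nilpotent elements. -/
lemma maximalIdeal_le_nilradical_of_mem_irreducibleComponents (y : S)
    (hy : closure {y} ∈ irreducibleComponents ↥S) :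
    maximalIdeal (S.presheaf.stalk y) ≤ nilradical (S.presheaf.stalk y) := by
  rw [nilradical_eq_sInf]
  refine le_sInf ?_
  intro q hq
  have hq' : q.IsPrime := hq
  let Q : Spec (S.presheaf.stalk y) := ⟨q, hq'⟩
  have h1 : S.fromSpecStalk y Q ⤳ y := by
    have : S.fromSpecStalk y Q ∈ Set.range (S.fromSpecStalk y) := ⟨Q, rfl⟩
    rw [Scheme.range_fromSpecStalk] at this
    exact this
  have h2 : S.fromSpecStalk y Q = y := by
    have hirr : IsIrreducible (closure {S.fromSpecStalk y Q}) := isIrreducible_singleton.closure
    have hle : closure {y} ≤ closure {S.fromSpecStalk y Q} := specializes_iff_closure_subset.mp h1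
    have h3' := hy.le_of_ge hirr hle
    have h3 : y ⤳ S.fromSpecStalk y Q :=
      specializes_iff_mem_closure.mpr (h3' (subset_closure rfl))
    exact (h3.antisymm h1).eq.symm
  have h4 : S.fromSpecStalk y (closedPoint _) = y := Scheme.fromSpecStalk_closedPoint
  have h5 : Q = closedPoint _ := (S.fromSpecStalk y).isEmbedding.injective (h2.trans h4.symm)
  have h6 : q = maximalIdeal _ := congrArg PrimeSpectrum.asIdeal h5
  exact h6.ge

lemma fibIdeal_eq_bot_of_maximal_point (g : Z ⟶ S) [IsReduced Z] (p : Z)
    (hp : closure {g p} ∈ irreducibleComponents ↥S) :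
    FibStalk.fibIdeal g p = ⊥ := by
  rw [FibStalk.fibIdeal_def, eq_bot_iff, Ideal.map_le_iff_le_comap]
  intro a ha
  have hnil : IsNilpotent a :=
    mem_nilradical.mp (maximalIdeal_le_nilradical_of_mem_irreducibleComponents _ hp ha)
  have h1 : IsNilpotent ((g.stalkMap p).hom a) := hnil.map _
  have h2 := h1.eq_zero
  rw [Ideal.mem_comap, Ideal.mem_bot]
  exact h2

/-- The fibre of a reduced scheme over a maximal point of the base is reduced. -/
lemma isReduced_fiber (g : Z ⟶ S) [IsReduced Z] (s : S)
    (hs : closure {s} ∈ irreducibleComponents ↥S) : IsReduced (g.fiber s) := by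
  have : ∀ x' : g.fiber s, _root_.IsReduced ((g.fiber s).presheaf.stalk x') := by
    intro x'
    have hp : g (g.fiberι s x') = s := FibStalk.apply_fiberι g s x'
    have hbot : FibStalk.fibIdeal g (g.fiberι s x') = ⊥ :=
      fibIdeal_eq_bot_of_maximal_point g _ (by rw [hp]; exact hs)
    have hinj : Function.Injective ((g.fiberι s).stalkMap x').hom := by
      rw [injective_iff_map_eq_zero]
      intro a ha
      have : a ∈ RingHom.ker ((g.fiberι s).stalkMap x').hom := ha
      rw [FibStalk.ker_stalkMap_fiberι, hbot, Ideal.mem_bot] at this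
      exact this
    let e := RingEquiv.ofBijective ((g.fiberι s).stalkMap x').hom
      ⟨hinj, FibStalk.stalkMap_fiberι_surjective g s x'⟩
    exact isReduced_of_injective e.symm.toRingHom e.symm.injective
  exact isReduced_of_isReduced_stalk _

/-- A scheme with a dense point is irreducible. -/
lemma irreducibleSpace_of_closure_eq_univ {T : Type*} [TopologicalSpace T] (ζ : T)
    (hζ : closure {ζ} = Set.univ) : IrreducibleSpace T := by
  have : IsIrreducible (Set.univ : Set T) := hζ ▸ isIrreducible_singleton.closure
  exact (irreducibleSpace_def T).mpr this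

/-- The fibre through a dense point is irreducible. -/
lemma irreducibleSpace_fiber (g : Z ⟶ S) (ζ : Z) (hζ : closure {ζ} = Set.univ) :
    IrreducibleSpace (g.fiber (g ζ)) := by
  apply irreducibleSpace_of_closure_eq_univ (g.asFiber ζ)
  rw [(g.fiberι (g ζ)).isEmbedding.isInducing.closure_eq_preimage_closure_image,
    Set.image_singleton, g.fiberι_asFiber, hζ, Set.preimage_univ]

theorem isIntegral_fiber (g : Z ⟶ S) [IsReduced Z] (ζ : Z) (hζ : closure {ζ} = Set.univ)
    (hs : closure {g ζ} ∈ irreducibleComponents ↥S) : IsIntegral (g.fiber (g ζ)) := by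
  have := isReduced_fiber g (g ζ) hs
  have := irreducibleSpace_fiber g ζ hζ
  exact isIntegral_of_irreducibleSpace_of_isReduced _

theorem main {X S Z : Scheme.{u}} (f : X ⟶ S) (z : X)
    (hz : closure {f z} ∈ irreducibleComponents ↥S) (ι : Z ⟶ X)
    [IsClosedImmersion ι] [IsReduced Z] (hZ : Set.range ι = closure {z}) :
    IsIntegral (pullback (ι ≫ f) (S.fromSpecResidueField (f z))) ∧
    ∃ w : ↥(pullback f (S.fromSpecResidueField (f z))),
      pullback.fst f (S.fromSpecResidueField (f z)) w = z ∧
      Set.range (pullback.map (ι ≫ f) (S.fromSpecResidueField (f z)) f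
        (S.fromSpecResidueField (f z)) ι (𝟙 _) (𝟙 S) (Category.comp_id _)
        ((Category.comp_id _).trans (Category.id_comp _).symm)) = closure {w} := by
  obtain ⟨ζ, hζz⟩ : z ∈ Set.range ι := hZ ▸ subset_closure rfl
  have hζ : closure {ζ} = Set.univ := by
    rw [ι.isEmbedding.isInducing.closure_eq_preimage_closure_image, Set.image_singleton, hζz,
      ← hZ]
    exact Set.preimage_range ι
  have hgζ : (ι ≫ f) ζ = f z := by
    rw [← hζz]; rfl
  constructor
  · have := isIntegral_fiber (ι ≫ f) ζ hζ (by rw [hgζ]; exact hz)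
    rw [hgζ] at this
    exact this
  · refine ⟨f.asFiber z, f.fiberι_asFiber z, ?_⟩
    set m := pullback.map (ι ≫ f) (S.fromSpecResidueField (f z)) f
        (S.fromSpecResidueField (f z)) ι (𝟙 _) (𝟙 S) (Category.comp_id _)
        ((Category.comp_id _).trans (Category.id_comp _).symm) with hm
    have hm1 : m ≫ f.fiberι (f z) = (ι ≫ f).fiberι (f z) ≫ ι := pullback.lift_fst _ _ _
    have key : Set.range m = (f.fiberι (f z)) ⁻¹' (Set.range ι) := by
      apply Set.Subset.antisymm
      · rintro _ ⟨a, rfl⟩
        refine ⟨(ι ≫ f).fiberι (f z) a, ?_⟩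
        have := congrArg (fun φ : _ ⟶ X => φ a) hm1
        exact this.symm
      · intro b hb
        obtain ⟨c, hc⟩ := hb
        have hgc : (ι ≫ f) c = f z := by
          have h1 : f (f.fiberι (f z) b) = f z := FibStalk.apply_fiberι f (f z) b
          rw [← hc] at h1
          exact h1
        have hc' : c ∈ Set.range ((ι ≫ f).fiberι (f z)) := by
          rw [Scheme.Hom.range_fiberι]; exact hgc
        obtain ⟨a, ha⟩ := hc'
        refine ⟨a, (f.fiberι (f z)).isEmbedding.injective ?_⟩
        have := congrArg (fun φ : _ ⟶ X => φ a) hm1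
        refine this.trans ?_
        show ι ((ι ≫ f).fiberι (f z) a) = _
        rw [ha, hc]
    have h2 : closure {f.asFiber z} = (f.fiberι (f z)) ⁻¹' closure {z} := by
      rw [(f.fiberι (f z)).isEmbedding.isInducing.closure_eq_preimage_closure_image,
        Set.image_singleton, f.fiberι_asFiber]
    rw [key, hZ]
    exact h2.symm

end Groth.Agent.Helper16.ClFib
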