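import Mathlib
import Groth.Agent.Lib.Helper16.Sch.FTMisc2
import Groth.Agent.Lib.Helper16.Sch.DimOneBase
import Groth.Agent.Lib.Helper14.ClosedFibreDim

set_option autoImplicit false
set_option linter.style.haveILetI false
universe u
open CategoryTheory CategoryTheory.Limits AlgebraicGeometry Opposite TopologicalSpace Topology

noncomputable section

namespace Groth.Agent.Helper16.ClosedRed

open Groth.Agent.Helper14 Groth.Agent.Helper16 Groth.Agent.Helper16.FTDim
open Groth.Agent.Helper16.FTMisc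

variable {X : Scheme.{u}}

/-- the closure of a point as a closed subset. -/
def Tc (ξ : X) : Closeds X := ⟨closure {ξ}, isClosed_closure⟩

/-- the reduced closed subscheme on the closure of a point. -/
abbrev Xs (ξ : X) : Scheme.{u} := (Scheme.IdealSheafData.vanishingIdeal (Tc ξ)).subscheme

/-- its inclusion. -/
abbrev ιs (ξ : X) : Xs ξ ⟶ X := (Scheme.IdealSheafData.vanishingIdeal (Tc ξ)).subschemeι

theorem range_ιs (ξ : X) : Set.range (ιs ξ) = closure ({ξ} : Set X) :=
  ClosedFibreDim.range_subschemeι_vanishingIdeal (Tc ξ)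

instance (ξ : X) : IrreducibleSpace ↥(Xs ξ) := by
  have hemb : IsEmbedding (ιs ξ) := (ιs ξ).isEmbedding
  let e := hemb.toHomeomorph
  have hirr : IsIrreducible (Set.range (ιs ξ)) := by
    rw [range_ιs]
    exact isIrreducible_singleton.closure
  haveI : IrreducibleSpace ↥(Set.range (ιs ξ)) := Subtype.irreducibleSpace hirr
  exact e.symm.surjective.irreducibleSpace e.symm.continuous

theorem ιs_genericPoint (ξ : X) : ιs ξ (genericPoint ↥(Xs ξ)) = ξ := by
  have h := (genericPoint_spec ↥(Xs ξ)).image (ιs ξ).continuous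
  rw [Set.image_univ, range_ιs, closure_closure] at h
  exact h.eq (isGenericPoint_closure (x := ξ))

variable (k : Type u) [Field k] (q : X ⟶ Spec (CommRingCat.of k)) [LocallyOfFiniteType q]

theorem td_ιs (ξ : X) (x : ↥(Xs ξ)) : td (ιs ξ ≫ q) x = td q (ιs ξ x) := by
  unfold td
  rw [ClosedFibreDim.trdeg_subschemeι]

theorem dim_Xs (ξ : X) : topologicalKrullDim ↥(Xs ξ) = (td q ξ : WithBot ℕ∞) := by
  rw [dim_eq_td_genericPoint k (ιs ξ ≫ q), td_ιs, ιs_genericPoint]

theorem localDim_Xs (ξ : X) (x : ↥(Xs ξ)) :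
    FlatMor.localDim ↥(Xs ξ) x = (td q ξ : WithBot ℕ∞) := by
  unfold FlatMor.localDim
  apply le_antisymm
  · refine (iInf_le _ (⟨⊤, trivial⟩ : {U : Opens ↥(Xs ξ) // x ∈ U})).trans ?_
    rw [← dim_Xs k q ξ]
    exact dim_subset_le _
  · refine le_iInf ?_
    rintro ⟨U, hx⟩
    have := main1618 k (ιs ξ ≫ q) (U : (Xs ξ).Opens) ⟨x, hx⟩
    rw [← dim_Xs k q ξ, ← this]
    exact le_rfl

end Groth.Agent.Helper16.ClosedRed
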