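import Mathlib

set_option autoImplicit false
open CategoryTheory CategoryTheory.Limits AlgebraicGeometry
universe u

namespace Groth.Agent.Helper16.CompactPre

theorem main {X S Y Y' : Scheme.{u}} (j : X ⟶ Y) (q : Y ⟶ S) [IsOpenImmersion j]
    (j' : X ⟶ Y') (q' : Y' ⟶ S) [IsOpenImmersion j'] [IsSeparated q']
    (f : Y' ⟶ Y) (hf : f ≫ q = q') (hfj : j' ≫ f = j) (hd : Dense (Set.range j')) :
    f ⁻¹ᵁ j.opensRange = j'.opensRange := by
  apply le_antisymm
  · -- the hard inclusion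
    set W := f ⁻¹ᵁ j.opensRange with hW
    have hWj : Set.range (W.ι ≫ f) ⊆ Set.range j := by
      rintro _ ⟨w, rfl⟩
      exact w.2
    let ρ : W.toScheme ⟶ X := IsOpenImmersion.lift j (W.ι ≫ f) hWj
    have hρ : ρ ≫ j = W.ι ≫ f := IsOpenImmersion.lift_fac _ _ _
    have hj'W : Set.range j' ⊆ Set.range W.ι := by
      rintro _ ⟨x, rfl⟩
      rw [Scheme.Opens.range_ι]
      change f (j' x) ∈ j.opensRange
      rw [← Scheme.Hom.comp_apply, hfj]
      exact ⟨x, rfl⟩
    let σ : X ⟶ W.toScheme := IsOpenImmersion.lift W.ι j' hj'W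
    have hσ : σ ≫ W.ι = j' := IsOpenImmersion.lift_fac _ _ _
    have hσρ : σ ≫ ρ = 𝟙 X := by
      rw [← cancel_mono j, Category.assoc, hρ, reassoc_of% hσ, hfj, Category.id_comp]
    have hρsep : IsSeparated ρ := by
      have h1 : IsSeparated (ρ ≫ j ≫ q) := by
        rw [reassoc_of% hρ, hf]; infer_instance
      exact IsSeparated.of_comp ρ (j ≫ q)
    have hσci : IsClosedImmersion σ := by
      have : IsClosedImmersion (σ ≫ ρ) := by rw [hσρ]; infer_instance
      exact IsClosedImmersion.of_comp σ ρ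
    have hσdense : DenseRange σ := by
      rw [DenseRange, dense_iff_inter_open]
      intro O hO hOne
      obtain ⟨w, hw⟩ := hOne
      have hO' : IsOpen (W.ι '' O) := W.ι.isOpenEmbedding.isOpenMap O hO
      obtain ⟨y, hyO, x, rfl⟩ := hd.inter_open_nonempty _ hO' ⟨_, w, hw, rfl⟩
      obtain ⟨w', hw'O, hw'⟩ := hyO
      refine ⟨w', hw'O, x, ?_⟩
      apply W.ι.isOpenEmbedding.injective
      rw [← Scheme.Hom.comp_apply, hσ, hw']
    have hσsurj : Function.Surjective σ := by
      rw [← Set.range_eq_univ, ← hσdense.closure_range,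
        σ.isClosedEmbedding.isClosed_range.closure_eq]
    intro y hy
    obtain ⟨x, hx⟩ := hσsurj ⟨y, hy⟩
    refine ⟨x, ?_⟩
    rw [← hσ, Scheme.Hom.comp_apply, hx]
    rfl
  · rintro _ ⟨x, rfl⟩
    change f (j' x) ∈ j.opensRange
    rw [← Scheme.Hom.comp_apply, hfj]
    exact ⟨x, rfl⟩

end Groth.Agent.Helper16.CompactPre
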