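import Mathlib
import Groth.Agent.Lib.Helper16.Sch.FibCl1
import Groth.Agent.Lib.Helper16.Sch.ConsFD3
import Groth.Agent.Lib.Helper14.SectionComp

set_option autoImplicit false
set_option linter.style.haveILetI false
universe u
open CategoryTheory CategoryTheory.Limits AlgebraicGeometry Opposite TopologicalSpace Topology

noncomputable section

namespace Groth.Agent.Helper16.FibCl

open Groth.Agent.Helper14

variable {X S : Scheme.{u}}

/-- the fibre of `k ≫ f` for an embedding `k`, as a subspace of `X` -/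
def fiberCompHomeo {K : Scheme.{u}} (k : K ⟶ X) (hk : IsEmbedding k) (f : X ⟶ S) (s : S) :
    (k ≫ f).fiber s ≃ₜ ↥(Set.range k ∩ f ⁻¹' {s}) :=
  (hk.comp ((k ≫ f).fiberι s).isEmbedding).toHomeomorph.trans (.setCongr (by
    rw [Set.range_comp, (k ≫ f).range_fiberι s]
    ext x
    constructor
    · rintro ⟨z, hz, rfl⟩
      refine ⟨⟨z, rfl⟩, ?_⟩
      have : (k ≫ f) z = s := hz
      rw [Scheme.Hom.comp_apply] at this
      exact this
    · rintro ⟨⟨z, rfl⟩, hz⟩
      refine ⟨z, ?_, rfl⟩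
      show (k ≫ f) z = s
      rw [Scheme.Hom.comp_apply]
      exact hz))

theorem dim_fiber_comp {K : Scheme.{u}} (k : K ⟶ X) (hk : IsEmbedding k) (f : X ⟶ S) (s : S) :
    topologicalKrullDim ((k ≫ f).fiber s) = topologicalKrullDim ↥(Set.range k ∩ f ⁻¹' {s}) :=
  IsHomeomorph.topologicalKrullDim_eq _ (fiberCompHomeo k hk f s).isHomeomorph

theorem fiberCompHomeo_apply {K : Scheme.{u}} (k : K ⟶ X) (hk : IsEmbedding k) (f : X ⟶ S)
    (s : S) (w : (k ≫ f).fiber s) :
    (fiberCompHomeo k hk f s w).1 = k ((k ≫ f).fiberι s w) := rfl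

/-- an upper bound for the local fibre dimension of `i ≫ f` from a neighbourhood whose trace on
the fibre lies in a given set -/
theorem fibreDimAt_comp_le {C : Scheme.{u}} (i : C ⟶ X) (hi : IsEmbedding i) (f : X ⟶ S) (c : C)
    (O : Set X) (hO : IsOpen O) (hcO : i c ∈ O) (K₀ : Set X)
    (hsub : O ∩ Set.range i ∩ f ⁻¹' {f (i c)} ⊆ K₀) :
    FlatMor.fibreDimAt (i ≫ f) c ≤ topologicalKrullDim ↥(K₀ ∩ f ⁻¹' {f (i c)}) := by
  set h := i ≫ f with hh
  have hfib : ∀ w : h.fiber (h c), f (i (h.fiberι (h c) w)) = f (i c) := by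
    intro w
    have := (h.fiberHomeo (h c) w).2
    rw [Set.mem_preimage, Set.mem_singleton_iff, Scheme.Hom.fiberHomeo_apply] at this
    rw [← Scheme.Hom.comp_apply, ← Scheme.Hom.comp_apply]
    exact this
  let W : Opens (h.fiber (h c)) := ⟨(fun w => i (h.fiberι (h c) w)) ⁻¹' O,
    hO.preimage (i.continuous.comp (h.fiberι (h c)).continuous)⟩
  have hcW : h.asFiber c ∈ W := by
    show i (h.fiberι (h c) (h.asFiber c)) ∈ O
    rw [h.fiberι_asFiber]
    exact hcO
  have h1 : FlatMor.fibreDimAt h c ≤ topologicalKrullDim ↥(W : Set ↥(h.fiber (h c))) := by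
    unfold FlatMor.fibreDimAt FlatMor.localDim
    exact iInf_le _ (⟨W, hcW⟩ : {U : Opens (h.fiber (h c)) // h.asFiber c ∈ U})
  refine h1.trans ?_
  let φ : ↥(W : Set ↥(h.fiber (h c))) → ↥(K₀ ∩ f ⁻¹' {f (i c)}) := fun w =>
    ⟨i (h.fiberι (h c) w.1), hsub ⟨⟨w.2, ⟨_, rfl⟩⟩, hfib w.1⟩, hfib w.1⟩
  have hφc : Continuous φ :=
    (i.continuous.comp ((h.fiberι (h c)).continuous.comp continuous_subtype_val)).subtype_mk _
  have hφ : IsInducing φ := by
    apply IsInducing.of_comp hφc continuous_subtype_val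
    exact (hi.comp (h.fiberι (h c)).isEmbedding).isInducing.comp IsInducing.subtypeVal
  exact hφ.topologicalKrullDim_le

end Groth.Agent.Helper16.FibCl
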