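import Mathlib
import Groth.Agent.Lib.Helper16.Sch.FibCl2
import Groth.Agent.Lib.Helper16.Sch.GenDim1
import Groth.Agent.Lib.Helper14.Chevalley

set_option autoImplicit false
set_option linter.style.haveILetI false
universe u
open CategoryTheory CategoryTheory.Limits AlgebraicGeometry Opposite TopologicalSpace Topology

noncomputable section

namespace Groth.Agent.Helper16.FibCl

open Groth.Agent.Helper14 Groth.Agent.Helper16.GenSurj

variable {X S : Scheme.{u}}

theorem genericPoint_mem_of_nonempty [IrreducibleSpace S] (V : S.Opens)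
    (hV : (V : Set S).Nonempty) : genericPoint S ∈ V := by
  obtain ⟨y, hy⟩ := hV
  exact ((genericPoint_spec S).specializes (Set.mem_univ y)).mem_open V.isOpen hy

/-- **Generic spreading of fibrewise density.** Let `T` be an irreducible closed subset of `X`
whose generic point `τ` lies over the generic point of `S`, and `U` an open neighbourhood of `τ`.
Then over a nonempty open of `S`, `U ∩ T` is fibrewise dense in `T`. -/
theorem exists_open_subset_fibCl (f : X ⟶ S) [IrreducibleSpace S] [LocallyOfFiniteType f]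
    [QuasiCompact f] (T : Set X) (τ : X) (hτ : closure {τ} = T)
    (hfτ : f τ = genericPoint S) (U : Set X) (hU : IsOpen U) (hτU : τ ∈ U) :
    ∃ V : S.Opens, genericPoint S ∈ V ∧ ∀ x ∈ T, f x ∈ V → x ∈ fibCl f (U ∩ T) := by
  have hT : IsClosed T := hτ ▸ isClosed_closure
  obtain ⟨C, i, hi, hri⟩ := exists_closedImmersion_range_eq T hT
  haveI := hi
  haveI : IrreducibleSpace C := by
    rw [irreducibleSpace_def]
    apply SectionComp.isIrreducible_of_image _ i.isEmbedding.isInducing
    rw [Set.top_eq_univ, Set.image_univ, hri, ← hτ]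
    exact isIrreducible_singleton.closure
  set h := i ≫ f with hh
  -- the generic point of `C` maps to `τ`
  have hγ : i (genericPoint C) = τ := by
    have h1 : IsGenericPoint (i (genericPoint C)) (closure (i '' Set.univ)) :=
      (genericPoint_spec C).image i.continuous
    rw [Set.image_univ, hri, hT.closure_eq] at h1
    have h2 : IsGenericPoint τ T := hτ
    exact h1.eq h2
  have hhγ : h (genericPoint C) = genericPoint S := by
    rw [hh, Scheme.Hom.comp_apply, hγ, hfτ]
  have hopen : ∀ n : ℕ, IsOpen {c : C | FlatMor.fibreDimAt h c ≤ n} :=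
    fun n => Groth.Agent.S0402.result h n
  obtain ⟨-, d, -, -, -, hd⟩ := FibreConst.exists_isGen h (genericPoint C)
  have hlow : ∀ c : C, (d : WithBot ℕ∞) ≤ FlatMor.fibreDimAt h c := fun c => by
    rw [← hd]; exact FibreGeneric.fibreDimAt_generic_le h hopen c
  have hdimC : topologicalKrullDim ↥(T ∩ f ⁻¹' {genericPoint S}) = d := by
    rw [← hri, ← dim_fiber_comp i i.isEmbedding f, ← hd, ← FibreGeneric.dim_genericFibre h, hhγ]
  -- the closed complement
  set K₀ : Set X := T ∩ Uᶜ with hK₀
  have hK₀c : IsClosed K₀ := hT.inter hU.isClosed_compl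
  by_cases hcase : ∀ x ∈ K₀, f x ≠ genericPoint S
  · obtain ⟨V, hV, H⟩ := exists_open_forall_mem_closed_not_mem f K₀ hK₀c hcase
    refine ⟨V, genericPoint_mem_of_nonempty V hV, fun x hxT hxV => ?_⟩
    apply subset_fibCl
    refine ⟨?_, hxT⟩
    by_contra hxU
    exact H x ⟨hxT, hxU⟩ hxV
  · push Not at hcase
    obtain ⟨x₀, hx₀K, hfx₀⟩ := hcase
    obtain ⟨K, k, hk, hrk⟩ := exists_closedImmersion_range_eq K₀ hK₀c
    haveI := hk
    set hK := k ≫ f with hhK
    have hx₀r : x₀ ∈ Set.range k := by rw [hrk]; exact hx₀K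
    obtain ⟨z₀, hz₀⟩ := hx₀r
    have hne : ∃ z : K, hK z = genericPoint S :=
      ⟨z₀, by rw [hhK, Scheme.Hom.comp_apply, hz₀, hfx₀]⟩
    obtain ⟨-, N, -, -, hdimK, -⟩ := FibreConst.exists_isGen_dim_eq hK (genericPoint S) hne
    -- strict inequality of the generic fibre dimensions
    have hNd : (N : WithBot ℕ∞) + 1 ≤ d := by
      rw [← hdimC]
      let Y := ↥(T ∩ f ⁻¹' {genericPoint S})
      let y₀ : Y := ⟨τ, hτ ▸ subset_closure rfl, hfτ⟩
      have hy₀ : closure ({y₀} : Set Y) = Set.univ := by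
        rw [Set.eq_univ_iff_forall]
        intro y
        rw [closure_subtype, Set.image_singleton]
        show y.1 ∈ closure {τ}
        rw [hτ]; exact y.2.1
      let A : Set Y := {y | y.1 ∈ K₀}
      have hA : IsClosed A := hK₀c.preimage continuous_subtype_val
      have hy₀A : y₀ ∉ A := fun hmem => hmem.2 hτU
      haveI : Nonempty A := ⟨⟨⟨x₀, hx₀K.1, hfx₀⟩, hx₀K⟩⟩
      have h1 := topologicalKrullDim_add_one_le_of_closed y₀ hy₀ A hA hy₀A
      refine le_trans ?_ h1
      have h2 : (N : WithBot ℕ∞) ≤ topologicalKrullDim A := by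
        rw [← hdimK, dim_fiber_comp k k.isEmbedding f, hrk]
        let ψ : ↥(K₀ ∩ f ⁻¹' {genericPoint S}) → A := fun x =>
          ⟨⟨x.1, x.2.1.1, x.2.2⟩, x.2.1⟩
        have hψc : Continuous ψ :=
          (continuous_subtype_val.subtype_mk _).subtype_mk _
        have hψ : IsInducing ψ := by
          apply IsInducing.of_comp hψc (continuous_subtype_val.comp continuous_subtype_val)
          exact IsInducing.subtypeVal
        exact hψ.topologicalKrullDim_le
      exact add_le_add h2 le_rfl
    obtain ⟨V, hVne, hV⟩ := Groth.Agent.Helper16.GenDim.main hK N hdimK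
    refine ⟨V, genericPoint_mem_of_nonempty V hVne, fun x hxT hxV => ?_⟩
    by_contra hcon
    rw [mem_fibCl_iff, mem_closure_iff] at hcon
    push Not at hcon
    obtain ⟨O, hO, hxO, hOe⟩ := hcon
    have hxr : x ∈ Set.range i := by rw [hri]; exact hxT
    obtain ⟨c, rfl⟩ := hxr
    have hsub : O ∩ Set.range i ∩ f ⁻¹' {f (i c)} ⊆ K₀ := by
      rintro y ⟨⟨hyO, hyr⟩, hyf⟩
      rw [hri] at hyr
      refine ⟨hyr, fun hyU => ?_⟩
      have : (O ∩ (U ∩ T ∩ f ⁻¹' {f (i c)})).Nonempty := ⟨y, hyO, ⟨hyU, hyr⟩, hyf⟩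
      exact this.ne_empty hOe
    have h1 := fibreDimAt_comp_le i i.isEmbedding f c O hO hxO K₀ hsub
    rw [← hrk, ← dim_fiber_comp k k.isEmbedding f, hV _ hxV] at h1
    have h2 := (hNd.trans (hlow c)).trans h1
    exact Chevalley.not_add_one_le N h2

end Groth.Agent.Helper16.FibCl
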