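import Mathlib
import Groth.Agent.Lib.Helper16.Sch.FibCl3
import Groth.Agent.Lib.Helper11.Constr
import Groth.Agent.Lib.Helper4.Constr
import Groth.Agent.Lib.Helper14.UOpenFam

set_option autoImplicit false
set_option linter.style.haveILetI false
universe u
open CategoryTheory CategoryTheory.Limits AlgebraicGeometry Opposite TopologicalSpace Topology

noncomputable section

namespace Groth.Agent.Helper16.FibCl

open Groth.Agent.Helper14 Groth.Agent.Helper16.GenSurj

/-- Induction principle for constructible subsets of a Noetherian space: it suffices to treat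
intersections of an open with an irreducible closed set. -/
theorem constructible_induction {X : Type*} [TopologicalSpace X] [NoetherianSpace X]
    (P : Set X → Prop) (h0 : P ∅) (hunion : ∀ A B, P A → P B → P (A ∪ B))
    (hirr : ∀ U T : Set X, IsOpen U → IsClosed T → IsIrreducible T → P (U ∩ T))
    (s : Set X) (hs : IsConstructible s) : P s := by
  classical
  have hfin : ∀ (ι : Type _) (t : Finset ι) (A : ι → Set X), (∀ i ∈ t, P (A i)) →
      P (⋃ i ∈ t, A i) := by
    intro ι t A
    induction t using Finset.induction_on with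
    | empty => intro _; simpa using h0
    | insert a t _ ih =>
      intro h
      simp only [Finset.mem_insert, Set.iUnion_iUnion_eq_or_left]
      exact hunion _ _ (h a (Finset.mem_insert_self a t))
        (ih fun i hi => h i (Finset.mem_insert_of_mem hi))
  obtain ⟨t, ht, rfl⟩ := Groth.Agent.Helper11.isConstructible_exists_finset_sdiff hs
  apply hfin
  intro p hp
  obtain ⟨𝒮, h𝒮f, h𝒮c, h𝒮i, h𝒮U⟩ :=
    NoetherianSpace.exists_finite_set_isClosed_irreducible (ht p hp).2.1.isClosed_compl
  have : p.1 \ p.2 = ⋃ T ∈ h𝒮f.toFinset, p.1 ∩ T := by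
    rw [Set.diff_eq, h𝒮U]
    ext x
    simp only [Set.mem_inter_iff, Set.mem_sUnion, Set.Finite.mem_toFinset, Set.mem_iUnion,
      exists_prop]
    constructor
    · rintro ⟨h1, T, hT, hxT⟩
      exact ⟨T, hT, h1, hxT⟩
    · rintro ⟨T, hT, h1, hxT⟩
      exact ⟨h1, T, hT, hxT⟩
  rw [this]
  apply hfin
  intro T hT
  rw [Set.Finite.mem_toFinset] at hT
  exact hirr _ _ (ht p hp).1.1 (h𝒮c T hT) (h𝒮i T hT)

variable {X S : Scheme.{u}}

/-- the generic description of the fibrewise closure near the generic point -/
def GenDesc (f : X ⟶ S) [IrreducibleSpace S] (A : Set X) : Prop :=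
  ∃ V : S.Opens, genericPoint S ∈ V ∧ ∃ C : Set X, IsClosed C ∧
    ∀ x : X, f x ∈ V → (x ∈ fibCl f A ↔ x ∈ C)

theorem genDesc_of_isConstructible (f : X ⟶ S) [IrreducibleSpace S] [LocallyOfFiniteType f]
    [QuasiCompact f] [NoetherianSpace X] (A : Set X) (hA : IsConstructible A) :
    GenDesc f A := by
  refine constructible_induction (GenDesc f) ?_ ?_ ?_ A hA
  · refine ⟨⊤, trivial, ∅, isClosed_empty, fun x _ => ?_⟩
    simp
  · rintro A B ⟨VA, hVA, CA, hCA, HA⟩ ⟨VB, hVB, CB, hCB, HB⟩
    refine ⟨VA ⊓ VB, ⟨hVA, hVB⟩, CA ∪ CB, hCA.union hCB, fun x hx => ?_⟩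
    rw [fibCl_union, Set.mem_union, Set.mem_union, HA x hx.1, HB x hx.2]
  · intro U T hU hT hTi
    by_cases hne : (U ∩ T).Nonempty
    · obtain ⟨τ, hτ⟩ := QuasiSober.sober hTi hT
      have hτ' : closure {τ} = T := hτ
      have hτU : τ ∈ U := by
        obtain ⟨y, hyU, hyT⟩ := hne
        have : τ ⤳ y := hτ.specializes hyT
        exact this.mem_open hU hyU
      by_cases hfτ : f τ = genericPoint S
      · obtain ⟨V, hV, H⟩ := exists_open_subset_fibCl f T τ hτ' hfτ U hU hτU
        refine ⟨V, hV, T, hT, fun x hx => ⟨fun hxf => ?_, fun hxT => H x hxT hx⟩⟩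
        have := fibCl_subset_closure f (U ∩ T) hxf
        exact (closure_minimal Set.inter_subset_right hT) this
      · have hη : genericPoint S ∉ closure ({f τ} : Set S) := by
          intro hmem
          have h1 : f τ ⤳ genericPoint S := specializes_iff_mem_closure.mpr hmem
          have h2 : genericPoint S ⤳ f τ := (genericPoint_spec S).specializes (Set.mem_univ _)
          exact hfτ (h1.antisymm h2).eq
        refine ⟨⟨(closure ({f τ} : Set S))ᶜ, isClosed_closure.isOpen_compl⟩, hη, ∅,
          isClosed_empty, fun x hx => ⟨fun hxf => ?_, fun h => absurd h (Set.notMem_empty x)⟩⟩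
        exfalso
        apply hx
        have hxT : x ∈ T := (closure_minimal Set.inter_subset_right hT)
          (fibCl_subset_closure f (U ∩ T) hxf)
        rw [← hτ'] at hxT
        have : τ ⤳ x := specializes_iff_mem_closure.mpr hxT
        exact specializes_iff_mem_closure.mp (this.map f.continuous)
    · rw [Set.not_nonempty_iff_eq_empty] at hne
      rw [hne]
      refine ⟨⊤, trivial, ∅, isClosed_empty, fun x _ => ?_⟩
      simp

end Groth.Agent.Helper16.FibCl
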