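import Mathlib
import Groth.Agent.Lib.Helper16.Sch.FibCl4

/-!
# Closures of constructible subsets of Noetherian sober spaces (helper16)
-/

set_option autoImplicit false
set_option linter.style.haveILetI false
universe u
open TopologicalSpace Topology

namespace Groth.Agent.Helper16.ConsClosure

/-- In a Noetherian quasi-sober space every point of the closure of a constructible set is a
specialization of a point of that set. -/
theorem exists_specializes_of_mem_closure {F : Type*} [TopologicalSpace F] [NoetherianSpace F]
    [QuasiSober F] {E : Set F} (hE : IsConstructible E) :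
    ∀ x ∈ closure E, ∃ a ∈ E, a ⤳ x := by
  refine Groth.Agent.Helper16.FibCl.constructible_induction
    (fun E => ∀ x ∈ closure E, ∃ a ∈ E, a ⤳ x) ?_ ?_ ?_ E hE
  · intro x hx
    simp at hx
  · intro A B hA hB x hx
    rw [closure_union] at hx
    rcases hx with hx | hx
    · obtain ⟨a, ha, hax⟩ := hA x hx
      exact ⟨a, Or.inl ha, hax⟩
    · obtain ⟨a, ha, hax⟩ := hB x hx
      exact ⟨a, Or.inr ha, hax⟩
  · intro U T hU hT hTirr x hx
    have hne : (U ∩ T).Nonempty := by
      by_contra hempty
      rw [Set.not_nonempty_iff_eq_empty] at hempty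
      rw [hempty, closure_empty] at hx
      exact hx
    obtain ⟨a, ha⟩ := QuasiSober.sober hTirr hT
    have haT : a ∈ T := ha.mem
    have haU : a ∈ U := by
      obtain ⟨b, hbU, hbT⟩ := hne
      have hab : a ⤳ b := ha.specializes hbT
      exact hab.mem_open hU hbU
    refine ⟨a, ⟨haU, haT⟩, ?_⟩
    have hxT : x ∈ T := (closure_minimal Set.inter_subset_right hT) hx
    exact ha.specializes hxT

end Groth.Agent.Helper16.ConsClosure
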