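import Mathlib
import Groth.Prelude.Def_FixPt
import Groth.Agent.Lib.Helper16.Alg.CotSmooth1

set_option autoImplicit false
set_option linter.style.haveILetI false
set_option linter.unusedSectionVars false
universe u

open CategoryTheory AlgebraicGeometry IsLocalRing KaehlerDifferential

namespace Groth.Agent.Helper16.CotSmoothSch

variable (k : Type u) [Field k] {X Y : Scheme.{u}}

/-- the structure map `k → Γ(X, U)` of a `k`-scheme. -/
noncomputable def secAlg (q : X ⟶ Spec (CommRingCat.of k)) (U : X.Opens) : k →+* Γ(X, U) :=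
  (q.appLE ⊤ U le_top).hom.comp (Scheme.ΓSpecIso (CommRingCat.of k)).inv.hom

/-- the structure map `k → 𝒪_{X,x}` of a `k`-scheme. -/
noncomputable def stalkAlg (q : X ⟶ Spec (CommRingCat.of k)) (x : X) : k →+* X.presheaf.stalk x :=
  (X.presheaf.germ ⊤ x trivial).hom.comp (secAlg k q ⊤)

theorem stalkAlg_eq (q : X ⟶ Spec (CommRingCat.of k)) (U : X.Opens) (x : X) (hx : x ∈ U) :
    stalkAlg k q x = (X.presheaf.germ U x hx).hom.comp (secAlg k q U) := by
  ext a
  simp only [stalkAlg, secAlg, RingHom.comp_apply]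
  have h1 : q.appLE ⊤ U le_top = q.appLE ⊤ ⊤ le_top ≫ X.presheaf.map (homOfLE le_top).op :=
    (Scheme.Hom.appLE_map q le_top (homOfLE (le_top : U ≤ ⊤)).op).symm
  rw [h1, CommRingCat.hom_comp, RingHom.comp_apply]
  exact (TopCat.Presheaf.germ_res_apply X.presheaf (homOfLE (le_top : U ≤ ⊤)) x hx _).symm

/-- compatibility of the structure maps with a `k`-morphism. -/
theorem stalkMap_comp_stalkAlg (qX : X ⟶ Spec (CommRingCat.of k)) (qY : Y ⟶ Spec (CommRingCat.of k))
    (f : X ⟶ Y) (hf : f ≫ qY = qX) (x : X) :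
    (f.stalkMap x).hom.comp (stalkAlg k qY (f x)) = stalkAlg k qX x := by
  subst hf
  ext a
  simp only [stalkAlg, secAlg, RingHom.comp_apply]
  rw [Scheme.Hom.germ_stalkMap_apply]
  have h1 : (f ≫ qY).appLE ⊤ ⊤ le_top = qY.appLE ⊤ ⊤ le_top ≫ f.appLE ⊤ ⊤ le_top :=
    (Scheme.Hom.appLE_comp_appLE f qY ⊤ ⊤ ⊤ le_top le_top).symm
  rw [h1, CommRingCat.hom_comp, RingHom.comp_apply]
  have h2 : f.appLE ⊤ ⊤ le_top = f.app ⊤ := by
    rw [Scheme.Hom.app_eq_appLE]
    rfl
  rw [h2]
  rfl

theorem stalkMapAt_rfl (f : X ⟶ Y) (x : X) :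
    FixPt.stalkMapAt f x (f x) rfl = (f.stalkMap x).hom := by
  unfold FixPt.stalkMapAt
  have : (Y.presheaf.stalkCongr (Inseparable.of_eq (rfl : f x = f x))).inv = 𝟙 _ := by
    simp [TopCat.Presheaf.stalkCongr, TopCat.Presheaf.stalkSpecializes_refl]
  rw [this, Category.id_comp]

/-- `Spec` of the structure map of the local ring. -/
theorem SpecMap_stalkAlg (q : X ⟶ Spec (CommRingCat.of k)) (x : X) :
    Spec.map (CommRingCat.ofHom (stalkAlg k q x)) = X.fromSpecStalk x ≫ q := by
  have h1 : q = X.toSpecΓ ≫ Spec.map q.appTop ≫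
      Spec.map (Scheme.ΓSpecIso (CommRingCat.of k)).inv := by
    rw [← Scheme.toSpecΓ_naturality_assoc, toSpecΓ_SpecMap_ΓSpecIso_inv, Category.comp_id]
  conv_rhs => rw [h1]
  rw [Scheme.fromSpecStalk_toSpecΓ_assoc, ← Spec.map_comp, ← Spec.map_comp]
  congr 1
  ext a
  simp only [stalkAlg, secAlg, CommRingCat.hom_ofHom, RingHom.comp_apply, CommRingCat.hom_comp]
  have h2 : q.appLE ⊤ ⊤ le_top = q.app ⊤ := by
    rw [Scheme.Hom.app_eq_appLE]
    rfl
  rw [h2]

/-- over an algebraically closed field, the residue field at a closed point is the base field. -/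
theorem bijective_residue_stalkAlg [IsAlgClosed k] (q : X ⟶ Spec (CommRingCat.of k))
    [LocallyOfFiniteType q] (x : X) (hx : IsClosed ({x} : Set X)) :
    Function.Bijective ((IsLocalRing.residue (X.presheaf.stalk x)).comp (stalkAlg k q x)) := by
  have h1 := SpecMap_residueFieldIsoBase_inv q x hx
  have h2 : Spec.map (CommRingCat.ofHom
      ((IsLocalRing.residue (X.presheaf.stalk x)).comp (stalkAlg k q x))) =
      X.fromSpecResidueField x ≫ q := by
    rw [Scheme.fromSpecResidueField, Category.assoc, ← SpecMap_stalkAlg, ← Spec.map_comp]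
    rfl
  have h3 : (residueFieldIsoBase q x hx).inv = CommRingCat.ofHom
      ((IsLocalRing.residue (X.presheaf.stalk x)).comp (stalkAlg k q x)) :=
    Spec.map_injective (h1.trans h2.symm)
  have h4 := ConcreteCategory.bijective_of_isIso (residueFieldIsoBase q x hx).inv
  rw [h3] at h4
  exact h4

end Groth.Agent.Helper16.CotSmoothSch
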