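import Mathlib
import Groth.Prelude.Def_FixPt
import Groth.Agent.Lib.Helper16.Sch.CotSmoothSch1

set_option autoImplicit false
set_option linter.style.haveILetI false
set_option linter.unusedSectionVars false
universe u

open CategoryTheory AlgebraicGeometry IsLocalRing KaehlerDifferential

namespace Groth.Agent.Helper16.CotSmoothSch

variable (k : Type u) [Field k] {X Y : Scheme.{u}}

/-- the local rings of a smooth `k`-scheme are formally smooth and essentially of finite type. -/
theorem formallySmooth_essFiniteType_stalk (q : X ⟶ Spec (CommRingCat.of k)) [Smooth q] (x : X) :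
    letI := (stalkAlg k q x).toAlgebra
    Algebra.FormallySmooth k (X.presheaf.stalk x) ∧ Algebra.EssFiniteType k (X.presheaf.stalk x) := by
  obtain ⟨U, hU, hxU, -⟩ := TopologicalSpace.Opens.isBasis_iff_nbhd.mp X.isBasis_affineOpens
    (TopologicalSpace.Opens.mem_top x)
  have hU : IsAffineOpen U := hU
  letI a1 : Algebra k Γ(X, U) := (secAlg k q U).toAlgebra
  letI a2 : Algebra Γ(X, U) (X.presheaf.stalk x) := X.presheaf.algebra_section_stalk ⟨x, hxU⟩
  letI a3 : Algebra k (X.presheaf.stalk x) := (stalkAlg k q x).toAlgebra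
  haveI : IsScalarTower k Γ(X, U) (X.presheaf.stalk x) :=
    IsScalarTower.of_algebraMap_eq fun a => congrArg (fun φ : k →+* _ => φ a) (stalkAlg_eq k q U x hxU)
  haveI loc := hU.isLocalization_stalk ⟨x, hxU⟩
  have hsm : (q.appLE ⊤ U le_top).hom.Smooth :=
    HasRingHomProperty.appLE @Smooth q inferInstance ⟨⊤, isAffineOpen_top _⟩ ⟨U, hU⟩ le_top
  have hbij : Function.Bijective (Scheme.ΓSpecIso (CommRingCat.of k)).inv.hom :=
    ConcreteCategory.bijective_of_isIso (Scheme.ΓSpecIso (CommRingCat.of k)).inv
  have hsm' : (secAlg k q U).Smooth := RingHom.Smooth.comp (RingHom.Smooth.of_bijective hbij) hsm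
  haveI : Algebra.Smooth k Γ(X, U) := hsm'
  haveI : Algebra.FormallySmooth Γ(X, U) (X.presheaf.stalk x) :=
    Algebra.FormallySmooth.of_isLocalization (hU.primeIdealOf ⟨x, hxU⟩).asIdeal.primeCompl
  haveI : Algebra.EssFiniteType Γ(X, U) (X.presheaf.stalk x) :=
    Algebra.EssFiniteType.of_isLocalization _ (hU.primeIdealOf ⟨x, hxU⟩).asIdeal.primeCompl
  exact ⟨Algebra.FormallySmooth.comp k Γ(X, U) (X.presheaf.stalk x),
    Algebra.EssFiniteType.comp k Γ(X, U) (X.presheaf.stalk x)⟩

/-- **Tangent criterion for smoothness at a closed point** of a morphism of smooth varieties over an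
algebraically closed field. -/
theorem mem_smoothLocus_iff [IsAlgClosed k]
    (qX : X ⟶ Spec (CommRingCat.of k)) (qY : Y ⟶ Spec (CommRingCat.of k))
    [LocallyOfFiniteType qX] [Smooth qX] [LocallyOfFiniteType qY] [Smooth qY]
    (f : X ⟶ Y) (hf : f ≫ qY = qX) [LocallyOfFinitePresentation f]
    (x : X) (hx : IsClosed ({x} : Set X)) :
    x ∈ f.smoothLocus ↔ Function.Injective (FixPt.cotangentMapAt f x (f.base x) rfl) := by
  letI aX : Algebra k (X.presheaf.stalk x) := (stalkAlg k qX x).toAlgebra
  letI aY : Algebra k (Y.presheaf.stalk (f x)) := (stalkAlg k qY (f x)).toAlgebra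
  letI aXY : Algebra (Y.presheaf.stalk (f x)) (X.presheaf.stalk x) := (f.stalkMap x).hom.toAlgebra
  haveI : IsScalarTower k (Y.presheaf.stalk (f x)) (X.presheaf.stalk x) :=
    IsScalarTower.of_algebraMap_eq fun a =>
      (congrArg (fun φ : k →+* _ => φ a) (stalkMap_comp_stalkAlg k qX qY f hf x)).symm
  haveI : IsLocalHom (algebraMap (Y.presheaf.stalk (f x)) (X.presheaf.stalk x)) :=
    (inferInstance : IsLocalHom (f.stalkMap x).hom)
  obtain ⟨hsX, heX⟩ := formallySmooth_essFiniteType_stalk k qX x
  obtain ⟨hsY, heY⟩ := formallySmooth_essFiniteType_stalk k qY (f x)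
  haveI := hsX
  haveI := heX
  haveI := hsY
  haveI := heY
  have hκ' : Function.Bijective (algebraMap k (ResidueField (X.presheaf.stalk x))) :=
    bijective_residue_stalkAlg k qX x hx
  have hκ : Function.Bijective (algebraMap k (ResidueField (Y.presheaf.stalk (f x)))) := by
    have h1 : (algebraMap k (ResidueField (X.presheaf.stalk x)) : k → _) =
        algebraMap (ResidueField (Y.presheaf.stalk (f x))) (ResidueField (X.presheaf.stalk x)) ∘
          algebraMap k (ResidueField (Y.presheaf.stalk (f x))) := by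
      ext c
      exact IsScalarTower.algebraMap_apply k (ResidueField (Y.presheaf.stalk (f x)))
        (ResidueField (X.presheaf.stalk x)) c
    refine ⟨(algebraMap k (ResidueField (Y.presheaf.stalk (f x)))).injective, ?_⟩
    have hinj : Function.Injective (algebraMap (ResidueField (Y.presheaf.stalk (f x)))
        (ResidueField (X.presheaf.stalk x))) := RingHom.injective _
    intro b
    obtain ⟨c, hc⟩ := hκ'.2 (algebraMap _ _ b)
    refine ⟨c, hinj ?_⟩
    rw [← hc, h1]
    rfl
  rw [Scheme.Hom.mem_smoothLocus]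
  have hcrit := Groth.Agent.Helper16.CotSmooth.formallySmooth_iff k (Y.presheaf.stalk (f x))
    (X.presheaf.stalk x) hκ hκ'
  have h1 : (f.stalkMap x).hom.FormallySmooth ↔
      Algebra.FormallySmooth (Y.presheaf.stalk (f x)) (X.presheaf.stalk x) := Iff.rfl
  rw [h1, hcrit]
  unfold FixPt.cotangentMapAt
  rw [Groth.Agent.Helper16.CotSmooth.injective_mapCotangent_iff]
  have h2 : ∀ a : Y.presheaf.stalk (f x),
      (FixPt.stalkMapAt f x (f x) rfl).toIntAlgHom a = algebraMap _ (X.presheaf.stalk x) a := by
    intro a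
    show FixPt.stalkMapAt f x (f x) rfl a = (f.stalkMap x).hom a
    rw [stalkMapAt_rfl]
  simp only [h2]

end Groth.Agent.Helper16.CotSmoothSch
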