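import Mathlib
import Groth.Prelude.Def_MoreMor
import Groth.Prelude.Def_Flat
import Groth.Agent.Lib.Lead.Miracle2
import Groth.Agent.Lib.Helper16.Sch.FTFlat1
import Groth.Agent.Lib.Helper16.Sch.FibComp1
import Groth.Agent.Lib.Helper16.Sch.QFCodim
import Groth.Agent.Lib.Helper14.EquidimAt

set_option autoImplicit false
set_option linter.style.haveILetI false
set_option linter.unusedSectionVars false
universe u

open CategoryTheory AlgebraicGeometry Limits IsLocalRing

namespace Groth.Agent.Helper16.MiracleSch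

open Groth.Agent.Helper16.FTDim Groth.Agent.Helper16.FibStalk Groth.Agent.Helper14

/-- the closure of a point without proper generizations is an irreducible component. -/
theorem closure_mem_irreducibleComponents {T : Type*} [TopologicalSpace T] [QuasiSober T]
    [T0Space T] (ξ : T) (h : ∀ ξ' : T, ξ' ⤳ ξ → ξ' = ξ) :
    closure ({ξ} : Set T) ∈ irreducibleComponents T := by
  refine ⟨isIrreducible_singleton.closure, ?_⟩
  intro Z' hZ' hle
  have hZc : IsIrreducible (closure Z') := hZ'.closure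
  obtain ⟨ξ', hξ'⟩ := QuasiSober.sober hZc isClosed_closure
  have hcl : closure ({ξ'} : Set T) = closure Z' := hξ'
  have h1 : ξ' ⤳ ξ := by
    rw [specializes_iff_mem_closure, hcl]
    exact subset_closure (hle (subset_closure rfl))
  have h2 : ξ' = ξ := h ξ' h1
  rw [← h2, hcl]
  exact subset_closure

variable {X Y : Scheme.{u}}

/-- on an equidimensional scheme locally of finite type over a field,
`dim 𝒪_{X,x} + trdeg κ(x)/k = dim X`. -/
theorem dim_stalk_add_td (k : Type u) [Field k] (q : X ⟶ Spec (CommRingCat.of k))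
    [LocallyOfFiniteType q] (e : ℕ)
    (hXe : ∀ Z ∈ irreducibleComponents (X : Type u), topologicalKrullDim Z = e) (x : X) :
    ∃ m : ℕ, ringKrullDim (X.presheaf.stalk x) = (m : WithBot ℕ∞) ∧ td q x + m = e := by
  obtain ⟨ξ, hmax, hξx, m, hm, htd⟩ := Groth.Agent.Helper16.FTFlat.exists_maximal_td_eq k q x
  refine ⟨m, hm, ?_⟩
  have h1 := hXe _ (closure_mem_irreducibleComponents ξ hmax)
  rw [dim_closure k q ξ] at h1
  have h2 : td q ξ = e := by exact_mod_cast h1
  omega

/-- the local fibre dimension of a morphism all of whose fibres are equidimensional. -/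
theorem fibreDimAt_eq_of_equidim (f : X ⟶ Y) [LocallyOfFiniteType f] (n : ℕ)
    (hfib : ∀ y : Y, ∀ Z ∈ irreducibleComponents (f.base ⁻¹' {y}), topologicalKrullDim Z = n)
    (x : X) : FlatMor.fibreDimAt f x = (n : WithBot ℕ∞) := by
  obtain ⟨z, N, hzx, hfz, hzmax, hN, hdim⟩ := EquidimAt.exists_maximal_trdeg_eq_fibreDimAt f x
  rw [hdim]
  have h1 := EquidimAt.topDim_closure_asFiber f z N hN
  -- transport to the subspace fibre
  let Φ := f.fiberHomeo (f z)
  haveI : QuasiSober ↥(f ⁻¹' {f z}) := Φ.symm.isOpenEmbedding.quasiSober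
  let w₀ : ↥(f ⁻¹' {f z}) := ⟨z, rfl⟩
  have hw₀ : ∀ w : ↥(f ⁻¹' {f z}), w ⤳ w₀ → w = w₀ := by
    intro w hw
    have h2 : w.1 ⤳ z := (subtype_specializes_iff _ _).1 hw
    exact Subtype.ext (hzmax w.1 w.2 h2)
  have h3 := hfib (f z) _ (closure_mem_irreducibleComponents w₀ hw₀)
  have h4 : Φ '' closure ({f.asFiber z} : Set (f.fiber (f z))) = closure ({w₀} : Set _) := by
    rw [Φ.image_closure, Set.image_singleton]
    congr 2
    exact Φ.apply_symm_apply _
  have h5 : topologicalKrullDim ↥(closure ({f.asFiber z} : Set (f.fiber (f z)))) =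
      topologicalKrullDim ↥(Φ '' closure ({f.asFiber z} : Set (f.fiber (f z)))) :=
    IsHomeomorph.topologicalKrullDim_eq _ (Φ.image _).isHomeomorph
  rw [h4, h3] at h5
  rw [h5] at h1
  exact h1.symm

/-- **Miracle flatness**, scheme form over a field. -/
theorem flat_of_equidim (k : Type u) [Field k]
    (q : Y ⟶ Spec (CommRingCat.of k)) [LocallyOfFiniteType q] (f : X ⟶ Y)
    [LocallyOfFiniteType (f ≫ q)]
    (hY : ∀ y : Y, IsRegularLocalRing (Y.presheaf.stalk y))
    (hX : ∀ x : X, LocCoh.IsCohenMacaulayLocalRing (X.presheaf.stalk x))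
    (e d : ℕ) (hde : d ≤ e)
    (hXe : ∀ Z ∈ irreducibleComponents (X : Type u), topologicalKrullDim Z = e)
    (hYd : ∀ Z ∈ irreducibleComponents (Y : Type u), topologicalKrullDim Z = d)
    (hfib : ∀ y : Y, ∀ Z ∈ irreducibleComponents (f.base ⁻¹' {y}),
      topologicalKrullDim Z = (e - d : ℕ)) :
    Flat f := by
  haveI : LocallyOfFiniteType f := locallyOfFiniteType_of_comp f q
  rw [Flat.iff_flat_stalkMap]
  intro x
  obtain ⟨mX, hmX, hX1⟩ := dim_stalk_add_td k (f ≫ q) e hXe x
  obtain ⟨mY, hmY, hY1⟩ := dim_stalk_add_td k q d hYd (f x)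
  have hF := fibreDimAt_eq_of_equidim f (e - d) hfib x
  rw [Groth.Agent.Helper16.FibComp.fibreDimAt_eq_quot_add_td f x] at hF
  have htd := td_comp f q x
  haveI := hY (f x)
  haveI hcm := hX x
  haveI : IsNoetherianRing (X.presheaf.stalk x) := inferInstance
  letI : Algebra (Y.presheaf.stalk (f x)) (X.presheaf.stalk x) := (f.stalkMap x).hom.toAlgebra
  haveI : IsLocalHom (algebraMap (Y.presheaf.stalk (f x)) (X.presheaf.stalk x)) :=
    (inferInstance : IsLocalHom (f.stalkMap x).hom)
  have hCM' : LocCoh.IsCohenMacaulayModule (X.presheaf.stalk x) (X.presheaf.stalk x) :=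
    hcm.supportDim_eq_depth
  show Module.Flat (Y.presheaf.stalk (f x)) (X.presheaf.stalk x)
  refine Groth.Agent.Lead.Miracle.flat_of_isCohenMacaulayModule _ _ _ hCM' ?_
  rw [Module.supportDim_self_eq_ringKrullDim]
  have h0 : ((maximalIdeal (Y.presheaf.stalk (f x))).map
      (algebraMap (Y.presheaf.stalk (f x)) (X.presheaf.stalk x))) •
      (⊤ : Submodule (X.presheaf.stalk x) (X.presheaf.stalk x)) =
      (maximalIdeal (Y.presheaf.stalk (f x))).map
        (algebraMap (Y.presheaf.stalk (f x)) (X.presheaf.stalk x)) := by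
    rw [Ideal.smul_eq_mul, Ideal.mul_top]
  rw [Module.supportDim_eq_of_equiv (Submodule.quotEquivOfEq _ _ h0),
    Module.supportDim_quotient_eq_ringKrullDim, hmX, hmY]
  -- the fibre ring
  have hfibdim : ringKrullDim (X.presheaf.stalk x ⧸ fibIdeal f x) +
      (td f x : WithBot ℕ∞) = ((e - d : ℕ) : WithBot ℕ∞) := hF
  obtain ⟨mF, hmF⟩ : ∃ mF : ℕ, ringKrullDim (X.presheaf.stalk x ⧸ fibIdeal f x) =
      (mF : WithBot ℕ∞) := by
    have hne_bot : ringKrullDim (X.presheaf.stalk x ⧸ fibIdeal f x) ≠ ⊥ := by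
      intro hb
      rw [hb, WithBot.bot_add] at hfibdim
      exact WithBot.bot_ne_coe hfibdim
    have hne_top : ringKrullDim (X.presheaf.stalk x ⧸ fibIdeal f x) ≠ ⊤ := by
      intro ht
      rw [ht] at hfibdim
      have : ((⊤ : ℕ∞) : WithBot ℕ∞) + ((td f x : ℕ∞) : WithBot ℕ∞) =
          (((e - d : ℕ) : ℕ∞) : WithBot ℕ∞) := hfibdim
      rw [← WithBot.coe_add, top_add] at this
      have h' := WithBot.coe_injective this
      exact ENat.top_ne_natCast _ h'
    obtain ⟨a, ha⟩ := WithBot.ne_bot_iff_exists.mp hne_bot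
    have ha_top : a ≠ ⊤ := by
      intro h; apply hne_top; rw [← ha, h]; rfl
    obtain ⟨b, hb⟩ := ENat.ne_top_iff_exists.mp ha_top
    exact ⟨b, by rw [← ha, ← hb]; rfl⟩
  rw [hmF] at hfibdim
  have h6 : mF + td f x = e - d := by exact_mod_cast hfibdim
  change _ = _ + ringKrullDim (X.presheaf.stalk x ⧸ fibIdeal f x)
  rw [hmF]
  have : mX = mY + mF := by omega
  rw [this]
  push_cast
  rfl

end Groth.Agent.Helper16.MiracleSch
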