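import Mathlib
import Groth.Prelude.Def_FixPt
import Groth.Agent.Lib.Helper16.Sch.CotSmoothSch2
import Groth.Agent.Lib.Helper16.Sch.MiracleSch
import Groth.Agent.Lib.Helper14.RegHomTFAE
import Groth.Agent.Lib.Helper14.FibreSmooth

set_option autoImplicit false
set_option linter.style.haveILetI false
set_option linter.unusedSectionVars false
universe u

open CategoryTheory AlgebraicGeometry IsLocalRing

namespace Groth.Agent.Helper16.CotSmoothSch

open Groth.Agent.Helper16.FTDim Groth.Agent.Helper16.FibStalk Groth.Agent.Helper16.MiracleSch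

variable {X Y : Scheme.{u}}

/-- the local fibre dimension of a flat morphism between equidimensional schemes locally of finite
type over a field. -/
theorem fibreDimAt_eq_of_flat_equidim (k : Type u) [Field k]
    (q : Y ⟶ Spec (CommRingCat.of k)) [LocallyOfFiniteType q] (f : X ⟶ Y)
    [LocallyOfFiniteType (f ≫ q)] [Flat f] (e d : ℕ)
    (hXe : ∀ Z ∈ irreducibleComponents (X : Type u), topologicalKrullDim Z = e)
    (hYd : ∀ Z ∈ irreducibleComponents (Y : Type u), topologicalKrullDim Z = d) (x : X) :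
    FlatMor.fibreDimAt f x = ((e - d : ℕ) : WithBot ℕ∞) := by
  haveI : LocallyOfFiniteType f := locallyOfFiniteType_of_comp f q
  obtain ⟨mX, hmX, hX1⟩ := dim_stalk_add_td k (f ≫ q) e hXe x
  obtain ⟨mY, hmY, hY1⟩ := dim_stalk_add_td k q d hYd (f x)
  rw [Groth.Agent.Helper16.FibComp.fibreDimAt_eq_quot_add_td f x]
  have htd := td_comp f q x
  haveI : IsLocallyNoetherian Y := LocallyOfFiniteType.isLocallyNoetherian q
  haveI : IsLocallyNoetherian X := LocallyOfFiniteType.isLocallyNoetherian (f ≫ q)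
  haveI : IsNoetherianRing (X.presheaf.stalk x) := inferInstance
  haveI : IsNoetherianRing (Y.presheaf.stalk (f x)) := inferInstance
  letI : Algebra (Y.presheaf.stalk (f x)) (X.presheaf.stalk x) := (f.stalkMap x).hom.toAlgebra
  haveI : IsLocalHom (algebraMap (Y.presheaf.stalk (f x)) (X.presheaf.stalk x)) :=
    (inferInstance : IsLocalHom (f.stalkMap x).hom)
  haveI : Module.Flat (Y.presheaf.stalk (f x)) (X.presheaf.stalk x) :=
    (Flat.iff_flat_stalkMap f).mp inferInstance x
  haveI : Nontrivial (X.presheaf.stalk x ⧸ (maximalIdeal (Y.presheaf.stalk (f x))).map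
      (algebraMap (Y.presheaf.stalk (f x)) (X.presheaf.stalk x))) :=
    Ideal.Quotient.nontrivial_iff.mpr (fibIdeal_ne_top f x)
  haveI : IsLocalRing (X.presheaf.stalk x ⧸ (maximalIdeal (Y.presheaf.stalk (f x))).map
      (algebraMap (Y.presheaf.stalk (f x)) (X.presheaf.stalk x))) :=
    IsLocalRing.of_surjective' (Ideal.Quotient.mk _) Ideal.Quotient.mk_surjective
  have hflat := Groth.Agent.Helper14.RegHomTFAE.dim_eq_of_flat
    (A := Y.presheaf.stalk (f x)) (B := X.presheaf.stalk x)
  change ringKrullDim (X.presheaf.stalk x) = ringKrullDim (Y.presheaf.stalk (f x)) +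
    ringKrullDim (X.presheaf.stalk x ⧸ fibIdeal f x) at hflat
  rw [hmX, hmY] at hflat
  obtain ⟨mF, hmF⟩ : ∃ mF : ℕ, ringKrullDim (X.presheaf.stalk x ⧸ fibIdeal f x) =
      (mF : WithBot ℕ∞) := by
    have hne_bot : ringKrullDim (X.presheaf.stalk x ⧸ fibIdeal f x) ≠ ⊥ := by
      intro hb
      rw [hb, WithBot.add_bot] at hflat
      exact WithBot.coe_ne_bot hflat
    have hne_top : ringKrullDim (X.presheaf.stalk x ⧸ fibIdeal f x) ≠ ⊤ := by
      intro ht
      rw [ht] at hflat
      have : (((mX : ℕ) : ℕ∞) : WithBot ℕ∞) = ((mY : ℕ∞) : WithBot ℕ∞) + ((⊤ : ℕ∞) : WithBot ℕ∞) :=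
        hflat
      rw [← WithBot.coe_add, add_top] at this
      have h' := WithBot.coe_injective this
      exact ENat.top_ne_natCast _ h'.symm
    obtain ⟨a, ha⟩ := WithBot.ne_bot_iff_exists.mp hne_bot
    have ha_top : a ≠ ⊤ := by
      intro h; apply hne_top; rw [← ha, h]; rfl
    obtain ⟨b, hb⟩ := ENat.ne_top_iff_exists.mp ha_top
    exact ⟨b, by rw [← ha, ← hb]; rfl⟩
  rw [hmF] at hflat ⊢
  have h6 : mX = mY + mF := by exact_mod_cast hflat
  have : mF + td f x = e - d := by omega
  rw [← this]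
  push_cast
  rfl

/-- a smooth morphism with constant local fibre dimension `n` is smooth of relative dimension `n`. -/
theorem smoothOfRelativeDimension_of_fibreDimAt (f : X ⟶ Y) [Smooth f] (n : ℕ)
    (h : ∀ x : X, FlatMor.fibreDimAt f x = (n : WithBot ℕ∞)) : SmoothOfRelativeDimension n f := by
  refine ⟨fun x => ?_⟩
  obtain ⟨U, hU, V, hV, hxV, e, hstd⟩ := Smooth.exists_isStandardSmooth f x
  letI alg : Algebra Γ(Y, U) Γ(X, V) := (f.appLE U V e).hom.toAlgebra
  have hstd' : Algebra.IsStandardSmooth Γ(Y, U) Γ(X, V) := hstd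
  obtain ⟨ι, σ, hσ, hι, ⟨P⟩⟩ := hstd'.out
  have hrel : (f.appLE U V e).hom.IsStandardSmoothOfRelativeDimension P.dimension := by
    show Algebra.IsStandardSmoothOfRelativeDimension P.dimension Γ(Y, U) Γ(X, V)
    exact ⟨ι, σ, hσ, hι, P, rfl⟩
  have h1 := Groth.Agent.Helper14.FibreSmooth.fibreDimAt_of_isStandardSmoothOfRelativeDimension
    f hU hV e P.dimension hrel x hxV
  rw [h x] at h1
  have h2 : n = P.dimension := by exact_mod_cast h1
  refine ⟨U, hU, V, hV, hxV, e, ?_⟩
  rw [h2]
  exact hrel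

end Groth.Agent.Helper16.CotSmoothSch
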