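import Mathlib
import Groth.Prelude.Def_FixPt
import Groth.Agent.Lib.Helper16.Sch.CotSmoothSch3
import Groth.Agent.Lib.Helper15.SchemeDim

set_option autoImplicit false
set_option linter.style.haveILetI false
set_option linter.unusedSectionVars false
universe u

open CategoryTheory AlgebraicGeometry IsLocalRing

namespace Groth.Agent.Helper16.CotSmoothSch

open Groth.Agent.Helper16.FTDim Groth.Agent.Helper16.FibStalk Groth.Agent.Helper16.MiracleSch
open Groth.Agent.Helper14

variable {X Y : Scheme.{u}}

/-- a flat morphism between equidimensional schemes locally of finite type over a field does not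
raise the dimension. -/
theorem le_of_flat_equidim (k : Type u) [Field k]
    (q : Y ⟶ Spec (CommRingCat.of k)) [LocallyOfFiniteType q] (f : X ⟶ Y)
    [LocallyOfFiniteType (f ≫ q)] [Flat f] (e d : ℕ)
    (hXe : ∀ Z ∈ irreducibleComponents (X : Type u), topologicalKrullDim Z = e)
    (hYd : ∀ Z ∈ irreducibleComponents (Y : Type u), topologicalKrullDim Z = d) (x : X) :
    d ≤ e := by
  haveI : LocallyOfFiniteType f := locallyOfFiniteType_of_comp f q
  obtain ⟨mX, hmX, hX1⟩ := dim_stalk_add_td k (f ≫ q) e hXe x
  obtain ⟨mY, hmY, hY1⟩ := dim_stalk_add_td k q d hYd (f x)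
  have htd := td_comp f q x
  haveI : IsLocallyNoetherian Y := LocallyOfFiniteType.isLocallyNoetherian q
  haveI : IsLocallyNoetherian X := LocallyOfFiniteType.isLocallyNoetherian (f ≫ q)
  have h1 := Groth.Agent.Helper15.ringKrullDim_stalk_le_of_flat f x
  rw [hmX, hmY] at h1
  have h2 : mY ≤ mX := by exact_mod_cast h1
  omega

/-- the dimension of an irreducible component of a fibre is the local fibre dimension at its
generic point. -/
theorem dim_irreducibleComponent_fiber (f : X ⟶ Y) [LocallyOfFiniteType f] (y : Y)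
    (Z : Set ↥(f.fiber y)) (hZ : Z ∈ irreducibleComponents ↥(f.fiber y)) :
    ∃ z : X, f z = y ∧ topologicalKrullDim ↥Z = FlatMor.fibreDimAt f z := by
  have hZirr : IsIrreducible Z := hZ.1
  have hZcl : IsClosed Z := isClosed_of_mem_irreducibleComponents Z hZ
  obtain ⟨ζ, hζ⟩ := QuasiSober.sober hZirr hZcl
  have hcl : closure ({ζ} : Set ↥(f.fiber y)) = Z := hζ
  have hmax : ∀ ζ' : ↥(f.fiber y), ζ' ⤳ ζ → ζ' = ζ := by
    intro ζ' h
    have h1 : Z ⊆ closure ({ζ'} : Set ↥(f.fiber y)) := by
      rw [← hcl]
      exact h.closure_subset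
    have h2 : closure ({ζ'} : Set ↥(f.fiber y)) ⊆ Z :=
      hZ.2 isIrreducible_singleton.closure h1
    have h3 : ζ ⤳ ζ' := by
      rw [specializes_iff_mem_closure, hcl]
      exact h2 (subset_closure rfl)
    exact (h.antisymm h3).eq
  haveI : LocallyOfFiniteType (f.fiberToSpecResidueField y) :=
    MorphismProperty.pullback_snd _ _ inferInstance
  have hfz : f (f.fiberι y ζ) = y := (f.fiberHomeo y ζ).2
  refine ⟨f.fiberι y ζ, hfz, ?_⟩
  obtain ⟨z', n, hz'z, hfz', -, hn, hdim⟩ :=
    EquidimAt.exists_maximal_trdeg_eq_fibreDimAt f (f.fiberι y ζ)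
  have hz' : z' = f.fiberι y ζ := by
    have hmem : z' ∈ f ⁻¹' {y} := hfz'.trans hfz
    have hspec : (f.fiberHomeo y).symm ⟨z', hmem⟩ ⤳ ζ := by
      rw [← (f.fiberι y).isEmbedding.toIsInducing.specializes_iff, f.fiberι_fiberHomeo_symm]
      exact hz'z
    have h4 := congrArg (f.fiberι y) (hmax _ hspec)
    rw [f.fiberι_fiberHomeo_symm] at h4
    exact h4
  subst hz'
  rw [hdim, ← hcl, DimClosure.dim_closure_eq (Y.residueField y) (f.fiberToSpecResidueField y)]
  have htr : DimClosure.trdegFun (f.fiberToSpecResidueField y) ζ = n := by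
    apply DimClosure.trdegFun_eq
    rw [← FibreComp.trdeg_fibre f y ζ]
    exact hn
  rw [htr]
  simp

/-- a morphism of smooth varieties over an algebraically closed field whose cotangent maps at all
closed points are injective is smooth. -/
theorem smooth_of_cotangentMapAt_injective (k : Type u) [Field k] [IsAlgClosed k]
    (qX : X ⟶ Spec (CommRingCat.of k)) (qY : Y ⟶ Spec (CommRingCat.of k))
    [LocallyOfFiniteType qX] [QuasiCompact qX] [Smooth qX] [LocallyOfFiniteType qY] [Smooth qY]
    (f : X ⟶ Y) (hf : f ≫ qY = qX)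
    (hT : ∀ x : X, IsClosed ({x} : Set ↥X) →
      Function.Injective (FixPt.cotangentMapAt f x (f.base x) rfl)) : Smooth f := by
  subst hf
  haveI : LocallyOfFiniteType f := locallyOfFiniteType_of_comp f qY
  haveI : IsLocallyNoetherian Y := LocallyOfFiniteType.isLocallyNoetherian qY
  haveI : LocallyOfFinitePresentation f := inferInstance
  have hmem := fun (x : X) (hx : IsClosed ({x} : Set ↥X)) =>
    mem_smoothLocus_iff k (f ≫ qY) qY f rfl x hx
  have htop : f.smoothLocus = ⊤ := by
    by_contra hne
    haveI : CompactSpace ↥X := QuasiCompact.compactSpace_of_compactSpace (f ≫ qY)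
    have hcl : IsClosed ((f.smoothLocus : Set ↥X)ᶜ) := f.smoothLocus.isOpen.isClosed_compl
    have hnon : ((f.smoothLocus : Set ↥X)ᶜ).Nonempty := by
      rw [Set.nonempty_compl]
      intro h
      exact hne (TopologicalSpace.Opens.ext h)
    obtain ⟨x, hx, hxcl⟩ := hcl.exists_closed_singleton hnon
    exact hx ((hmem x hxcl).mpr (hT x hxcl))
  exact Scheme.Hom.smoothLocus_eq_top_iff.mp htop

/-- the whole space is the only irreducible component of an irreducible space. -/
theorem equidim_of_irreducibleSpace (T : Type*) [TopologicalSpace T] [IrreducibleSpace T]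
    (d : WithBot ℕ∞) (h : topologicalKrullDim T = d) :
    ∀ Z ∈ irreducibleComponents T, topologicalKrullDim ↥Z = d := by
  intro Z hZ
  rw [irreducibleComponents_eq_singleton, Set.mem_singleton_iff] at hZ
  subst hZ
  rw [← h]
  exact IsHomeomorph.topologicalKrullDim_eq _ (Homeomorph.Set.univ T).isHomeomorph

end Groth.Agent.Helper16.CotSmoothSch
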