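import Mathlib
import Groth.Prelude.Def_FixPt
import Groth.Agent.Lib.Helper16.Sch.CotSmoothSch4
import Groth.Agent.Lib.Helper16.Alg.CotSmooth2
import Groth.Agent.Lib.Helper4.SmoothRegSch
import Groth.Agent.Lib.Helper18.OmegaStalk

set_option autoImplicit false
set_option linter.style.haveILetI false
set_option linter.unusedSectionVars false
universe u

open CategoryTheory AlgebraicGeometry IsLocalRing KaehlerDifferential

namespace Groth.Agent.Helper16.CotSmoothSch

open Groth.Agent.Helper16.FTDim Groth.Agent.Helper16.FibStalk Groth.Agent.Helper16.MiracleSch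
open Groth.Agent.Helper14

variable (k : Type u) [Field k] {X Y : Scheme.{u}}

/-- the residue field at a closed point of a scheme locally of finite type over a field is
algebraic over the field. -/
theorem td_eq_zero_of_isClosed (q : X ⟶ Spec (CommRingCat.of k)) [LocallyOfFiniteType q]
    (x : X) (hx : IsClosed ({x} : Set X)) : td q x = 0 := by
  have h1 := dim_closure k q x
  rw [hx.closure_eq] at h1
  have h2 : topologicalKrullDim ↥({x} : Set X) ≤ 0 :=
    topologicalKrullDim_zero_of_discreteTopology _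
  rw [h1] at h2
  have h3 : td q x ≤ 0 := by exact_mod_cast h2
  omega

/-- the rank of the differentials of the local ring at a closed point of an equidimensional smooth
scheme over an algebraically closed field. -/
theorem finrank_kaehler_stalk [IsAlgClosed k] (q : X ⟶ Spec (CommRingCat.of k))
    [LocallyOfFiniteType q] [Smooth q] (d : ℕ)
    (hXd : ∀ Z ∈ irreducibleComponents (X : Type u), topologicalKrullDim Z = d)
    (x : X) (hx : IsClosed ({x} : Set X)) :
    letI := (stalkAlg k q x).toAlgebra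
    Module.finrank (X.presheaf.stalk x) Ω[X.presheaf.stalk x⁄k] = d := by
  letI := (stalkAlg k q x).toAlgebra
  obtain ⟨hs, he⟩ := formallySmooth_essFiniteType_stalk k q x
  haveI := hs
  haveI := he
  haveI : IsRegularLocalRing (X.presheaf.stalk x) :=
    Groth.Agent.Helper4.SmoothRegSch.isRegularLocalRing_stalk k q x
  have hκ : Function.Bijective (algebraMap k (ResidueField (X.presheaf.stalk x))) :=
    bijective_residue_stalkAlg k q x hx
  have h1 := Groth.Agent.Helper16.CotSmooth.finrank_kaehler_eq_dim k (X.presheaf.stalk x) hκ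
  obtain ⟨m, hm, hmd⟩ := dim_stalk_add_td k q d hXd x
  rw [td_eq_zero_of_isClosed k q x hx, zero_add] at hmd
  rw [hm, hmd] at h1
  exact_mod_cast h1

/-- if `Ω_{X/Y}` is locally free of rank `n`, the differentials of the local rings are generated by
`n` elements. -/
theorem exists_span_kaehler_stalk (f : X ⟶ Y) [QuasiSeparated f] (n : ℕ)
    (hΩ : FlatMod.IsFinLocFreeOfRank n (Omega.sheaf f)) (x : X) :
    letI : Algebra (Y.presheaf.stalk (f x)) (X.presheaf.stalk x) := (f.stalkMap x).hom.toAlgebra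
    ∃ s : Fin n → Ω[X.presheaf.stalk x⁄Y.presheaf.stalk (f x)],
      Submodule.span (X.presheaf.stalk x) (Set.range s) = ⊤ := by
  letI iOsOx : Algebra (Y.presheaf.stalk (f x)) (X.presheaf.stalk x) := (f.stalkMap x).hom.toAlgebra
  obtain ⟨U₀, hxU₀, ⟨e₀⟩⟩ := hΩ x
  obtain ⟨_, ⟨V, hV, rfl⟩, hxV, -⟩ :=
    Y.isBasis_affineOpens.exists_subset_of_mem_open (Set.mem_univ (f x)) isOpen_univ
  obtain ⟨_, ⟨U, hU, rfl⟩, hxU, hUV⟩ :=
    X.isBasis_affineOpens.exists_subset_of_mem_open
      (show x ∈ ((U₀ ⊓ f ⁻¹ᵁ V : X.Opens) : Set X) from ⟨hxU₀, hxV⟩) (U₀ ⊓ f ⁻¹ᵁ V).2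
  have e : U ≤ f ⁻¹ᵁ V := fun z hz => (hUV hz).2
  have hUU₀ : U ≤ U₀ := fun z hz => (hUV hz).1
  obtain ⟨b⟩ := Groth.Agent.Helper13.LocFree.nonempty_basis_of_restrict_iso (Omega.sheaf f) e₀ hUU₀
  letI iBA := Groth.Agent.Helper18.OmegaSec.algUV f e
  let b' : Module.Basis (Fin n) Γ(X, U) Ω[Γ(X, U)⁄Γ(Y, V)] :=
    b.map (Groth.Agent.Helper18.OmegaSec.omegaSections f hU hV e)
  letI iBOx : Algebra Γ(X, U) (X.presheaf.stalk x) := (X.presheaf.germ U x hxU).hom.toAlgebra
  letI iAOx : Algebra Γ(Y, V) (X.presheaf.stalk x) :=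
    ((X.presheaf.germ U x hxU).hom.comp (f.appLE V U e).hom).toAlgebra
  letI iAOs : Algebra Γ(Y, V) (Y.presheaf.stalk (f x)) := (Y.presheaf.germ V (f x) hxV).hom.toAlgebra
  haveI : IsScalarTower Γ(Y, V) Γ(X, U) (X.presheaf.stalk x) :=
    IsScalarTower.of_algebraMap_eq (fun _ => rfl)
  haveI : IsScalarTower Γ(Y, V) (Y.presheaf.stalk (f x)) (X.presheaf.stalk x) := by
    refine IsScalarTower.of_algebraMap_eq (fun a => ?_)
    change X.presheaf.germ U x hxU (f.appLE V U e a) = f.stalkMap x (Y.presheaf.germ V (f x) hxV a)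
    erw [Scheme.Hom.germ_stalkMap_apply]
    simp only [Scheme.Hom.appLE, CommRingCat.comp_apply]
    exact TopCat.Presheaf.germ_res_apply X.presheaf _ x hxU _
  haveI hloc : IsLocalization.AtPrime (X.presheaf.stalk x) (hU.primeIdealOf ⟨x, hxU⟩).asIdeal :=
    hU.isLocalization_stalk ⟨x, hxU⟩
  let φ := KaehlerDifferential.map Γ(Y, V) Γ(Y, V) Γ(X, U) (X.presheaf.stalk x)
  let π := KaehlerDifferential.map Γ(Y, V) (Y.presheaf.stalk (f x)) (X.presheaf.stalk x)
    (X.presheaf.stalk x)
  haveI : IsLocalizedModule (hU.primeIdealOf ⟨x, hxU⟩).asIdeal.primeCompl φ :=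
    KaehlerDifferential.isLocalizedModule_map _ _ _ _
  have h1 : Submodule.span (X.presheaf.stalk x) (φ '' Set.range b') = ⊤ :=
    span_eq_top_of_isLocalizedModule (X.presheaf.stalk x)
      (hU.primeIdealOf ⟨x, hxU⟩).asIdeal.primeCompl φ b'.span_eq
  have hπ : Function.Surjective π :=
    KaehlerDifferential.map_surjective Γ(Y, V) (Y.presheaf.stalk (f x)) (X.presheaf.stalk x)
  refine ⟨fun i => π (φ (b' i)), ?_⟩
  have h2 : Set.range (fun i => π (φ (b' i))) = π '' (φ '' Set.range b') := by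
    rw [← Set.range_comp, ← Set.range_comp]
    rfl
  rw [h2, ← Submodule.map_span, h1, Submodule.map_top, LinearMap.range_eq_top]
  exact hπ

/-- if `Ω_{X/Y}` is locally free of rank `dim X - dim Y`, then `f` is smooth at every closed
point. -/
theorem mem_smoothLocus_of_omega [IsAlgClosed k]
    (qX : X ⟶ Spec (CommRingCat.of k)) (qY : Y ⟶ Spec (CommRingCat.of k))
    [LocallyOfFiniteType qX] [Smooth qX] [LocallyOfFiniteType qY] [Smooth qY]
    (f : X ⟶ Y) (hf : f ≫ qY = qX) [LocallyOfFinitePresentation f] [QuasiSeparated f]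
    (n dY : ℕ)
    (hXe : ∀ Z ∈ irreducibleComponents (X : Type u), topologicalKrullDim Z = ((dY + n : ℕ) : WithBot ℕ∞))
    (hYd : ∀ Z ∈ irreducibleComponents (Y : Type u), topologicalKrullDim Z = ((dY : ℕ) : WithBot ℕ∞))
    (hΩ : FlatMod.IsFinLocFreeOfRank n (Omega.sheaf f))
    (x : X) (hx : IsClosed ({x} : Set X)) : x ∈ f.smoothLocus := by
  letI aX : Algebra k (X.presheaf.stalk x) := (stalkAlg k qX x).toAlgebra
  letI aY : Algebra k (Y.presheaf.stalk (f x)) := (stalkAlg k qY (f x)).toAlgebra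
  letI aXY : Algebra (Y.presheaf.stalk (f x)) (X.presheaf.stalk x) := (f.stalkMap x).hom.toAlgebra
  haveI : IsScalarTower k (Y.presheaf.stalk (f x)) (X.presheaf.stalk x) :=
    IsScalarTower.of_algebraMap_eq fun a =>
      (congrArg (fun φ : k →+* _ => φ a) (stalkMap_comp_stalkAlg k qX qY f hf x)).symm
  obtain ⟨hsX, heX⟩ := formallySmooth_essFiniteType_stalk k qX x
  obtain ⟨hsY, heY⟩ := formallySmooth_essFiniteType_stalk k qY (f x)
  haveI := hsX
  haveI := heX
  haveI := hsY
  haveI := heY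
  haveI : JacobsonSpace ↥(Spec (CommRingCat.of k)) := inferInstance
  haveI : JacobsonSpace ↥Y := LocallyOfFiniteType.jacobsonSpace qY
  haveI : LocallyOfFiniteType f := inferInstance
  have hfx : IsClosed ({f x} : Set Y) := f.closePoints_subset_preimage_closedPoints hx
  have h1 := finrank_kaehler_stalk k qY dY hYd (f x) hfx
  have h2 := finrank_kaehler_stalk k qX (dY + n) hXe x hx
  have h3 := exists_span_kaehler_stalk f n hΩ x
  rw [Scheme.Hom.mem_smoothLocus]
  exact Groth.Agent.Helper16.CotSmooth.formallySmooth_of_rank k (Y.presheaf.stalk (f x))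
    (X.presheaf.stalk x) dY n h1 h2 h3

/-- the sheaf of differentials of a morphism smooth of relative dimension `n` is locally free of
rank `n`. -/
theorem isFinLocFreeOfRank_omega (f : X ⟶ Y) [QuasiSeparated f] (n : ℕ)
    [SmoothOfRelativeDimension n f] : FlatMod.IsFinLocFreeOfRank n (Omega.sheaf f) := by
  haveI := Groth.Agent.Helper18.OmegaSec.isQuasicoherent_omega f
  rw [Groth.Agent.Helper13.LocFree.isFinLocFreeOfRank_iff_of_isQuasicoherent]
  intro x
  obtain ⟨V, hV, U, hU, hxU, e, hstd⟩ :=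
    SmoothOfRelativeDimension.exists_isStandardSmoothOfRelativeDimension (n := n) (f := f) x
  refine ⟨U, hU, hxU, ?_⟩
  letI iBA := Groth.Agent.Helper18.OmegaSec.algUV f e
  haveI hstd' : Algebra.IsStandardSmoothOfRelativeDimension n Γ(Y, V) Γ(X, U) := hstd
  haveI : Algebra.IsStandardSmooth Γ(Y, V) Γ(X, U) := hstd'.isStandardSmooth
  haveI : Nonempty U := ⟨⟨x, hxU⟩⟩
  haveI : Nontrivial Γ(X, U) := inferInstance
  have hrank := Algebra.IsStandardSmoothOfRelativeDimension.rank_kaehlerDifferential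
    (R := Γ(Y, V)) (S := Γ(X, U)) n
  haveI : Module.Free Γ(X, U) Ω[Γ(X, U)⁄Γ(Y, V)] := inferInstance
  haveI : Module.Finite Γ(X, U) Ω[Γ(X, U)⁄Γ(Y, V)] := by
    haveI : Algebra.FiniteType Γ(Y, V) Γ(X, U) := inferInstance
    infer_instance
  have hfr : Module.finrank Γ(X, U) Ω[Γ(X, U)⁄Γ(Y, V)] = n := by
    unfold Module.finrank
    rw [hrank, Cardinal.toNat_natCast]
  let b' : Module.Basis (Fin n) Γ(X, U) Ω[Γ(X, U)⁄Γ(Y, V)] := Module.finBasisOfFinrankEq _ _ hfr
  exact ⟨b'.map (Groth.Agent.Helper18.OmegaSec.omegaSections f hU hV e).symm⟩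

end Groth.Agent.Helper16.CotSmoothSch
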