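import Mathlib
import Groth.Prelude.Def_TwC
import Groth.Prelude.Def_SGA3x
import Groth.Agent.Lib.Helper7.TwoGrpB

/-!
# Common trivialising fpqc cover over an affine open, for two groups of multiplicative type (helper16)
-/

set_option autoImplicit false
set_option linter.style.haveILetI false
universe u
open CategoryTheory CategoryTheory.Limits MonoidalCategory CartesianMonoidalCategory MonObj GrpObj
  AlgebraicGeometry

noncomputable section

namespace Groth.Agent.Helper16.CoverTriv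

/-- lift of `W.ι ≫ f` through the open `V` when `f '' W = V` -/
theorem exists_lift {S S' : Scheme.{u}} (f : S' ⟶ S) [Flat f] (V : S.Opens) (hV : IsAffineOpen V)
    (W : S'.Opens) (hWc : IsCompact (W : Set S')) (hW : f.base '' (W : Set S') = (V : Set S)) :
    ∃ q : W.toScheme ⟶ V.toScheme, q ≫ V.ι = W.ι ≫ f ∧ Flat q ∧ Surjective q ∧ QuasiCompact q := by
  have hrange : Set.range (W.ι ≫ f).base ⊆ Set.range V.ι.base := by
    rintro _ ⟨w, rfl⟩
    have : (W.ι ≫ f).base w ∈ (V : Set S) := by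
      rw [← hW]; exact ⟨w.1, w.2, rfl⟩
    rw [Scheme.Opens.range_ι]; exact this
  let q : W.toScheme ⟶ V.toScheme := IsOpenImmersion.lift V.ι (W.ι ≫ f) hrange
  have hq : q ≫ V.ι = W.ι ≫ f := IsOpenImmersion.lift_fac _ _ _
  haveI : Flat (W.ι ≫ f) := inferInstance
  have hpb : IsPullback (𝟙 W.toScheme) q (W.ι ≫ f) V.ι :=
    IsPullback.of_horiz_isIso_mono ⟨by rw [Category.id_comp, hq]⟩
  have hfl : Flat q := MorphismProperty.of_isPullback (P := @Flat) hpb inferInstance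
  haveI : IsAffine V.toScheme := hV
  haveI : CompactSpace W.toScheme := isCompact_iff_compactSpace.mp hWc
  have hqc : QuasiCompact q := (HasAffineProperty.iff_of_isAffine (P := @QuasiCompact)).mpr inferInstance
  refine ⟨q, hq, hfl, ⟨fun v => ?_⟩, hqc⟩
  have hv : v.1 ∈ f.base '' (W : Set S') := by rw [hW]; exact v.2
  obtain ⟨w, hw, hwv⟩ := hv
  refine ⟨⟨w, hw⟩, ?_⟩
  apply V.ι.injective
  have := congrArg (fun g => g.base ⟨w, hw⟩) hq
  simp only [Scheme.Hom.comp_base, TopCat.comp_app] at this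
  rw [this]
  exact hwv

/-- (CL) common trivialising fpqc cover over an affine open, for two groups of multiplicative type
of finite type -/
theorem exists_cover_triv {S : Scheme.{u}} (G H : Over S) [GrpObj G] [GrpObj H]
    (hG : SGA3x.IsMultTypeFT G) (hH : SGA3x.IsMultTypeFT H) (V : S.Opens) (hV : IsAffineOpen V) :
    ∃ (P : Scheme.{u}) (p : P ⟶ S), Flat p ∧ Set.range p.base = (V : Set S) ∧ CompactSpace P ∧
      ∀ x : P, ∃ (B : CommRingCat.{u}) (j : Spec B ⟶ P), IsOpenImmersion j ∧ x ∈ Set.range j.base ∧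
        (∃ (M : Type) (_ : AddCommGroup M), AddGroup.FG M ∧
          Nonempty (Grp.mk (Red.bc (j ≫ p) G) ≅ Grp.mk (Red.DS (Spec B) M))) ∧
        (∃ (N : Type) (_ : AddCommGroup N), AddGroup.FG N ∧
          Nonempty (Grp.mk (Red.bc (j ≫ p) H) ≅ Grp.mk (Red.DS (Spec B) N))) := by
  obtain ⟨S1, f1, hfl1, hsurj1, hqc1, hloc1⟩ := hG
  obtain ⟨S2, f2, hfl2, hsurj2, hqc2, hloc2⟩ := hH
  obtain ⟨W1, hW1c, hW1⟩ := hqc1 V hV
  obtain ⟨W2, hW2c, hW2⟩ := hqc2 V hV
  obtain ⟨q1, hq1, hq1fl, hq1s, hq1qc⟩ := exists_lift f1 V hV W1 hW1c hW1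
  obtain ⟨q2, hq2, hq2fl, hq2s, hq2qc⟩ := exists_lift f2 V hV W2 hW2c hW2
  haveI : CompactSpace W2.toScheme := isCompact_iff_compactSpace.mp hW2c
  haveI : CompactSpace ↥(pullback q1 q2) :=
    QuasiCompact.compactSpace_of_compactSpace (pullback.snd q1 q2)
  let p : pullback q1 q2 ⟶ S := pullback.fst q1 q2 ≫ W1.ι ≫ f1
  have hp2 : p = pullback.snd q1 q2 ≫ W2.ι ≫ f2 := by
    dsimp only [p]
    rw [← hq1, ← hq2, pullback.condition_assoc]
  refine ⟨pullback q1 q2, p, ?_, ?_, inferInstance, ?_⟩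
  · dsimp only [p]; infer_instance
  · apply Set.Subset.antisymm
    · rintro _ ⟨z, rfl⟩
      rw [← hW1]
      exact ⟨((pullback.fst q1 q2).base z).1, ((pullback.fst q1 q2).base z).2, rfl⟩
    · intro v hv
      obtain ⟨w1, hw1⟩ := hq1s.surj (⟨v, hv⟩ : V.toScheme)
      obtain ⟨w2, hw2⟩ := hq2s.surj (⟨v, hv⟩ : V.toScheme)
      obtain ⟨z, hz1, hz2⟩ := Scheme.Pullback.exists_preimage_pullback (f := q1) (g := q2) w1 w2
        (hw1.trans hw2.symm)
      refine ⟨z, ?_⟩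
      have h1 : p.base z = (W1.ι ≫ f1).base ((pullback.fst q1 q2).base z) := rfl
      rw [h1, hz1, ← hq1]
      change V.ι.base (q1.base w1) = v
      rw [hw1]
      rfl
  · intro x
    obtain ⟨U1, hx1, M, iM, hM, e1⟩ := hloc1 (W1.ι.base ((pullback.fst q1 q2).base x))
    obtain ⟨U2, hx2, N, iN, hN, e2⟩ := hloc2 (W2.ι.base ((pullback.snd q1 q2).base x))
    let O : (pullback q1 q2).Opens :=
      (pullback.fst q1 q2 ≫ W1.ι) ⁻¹ᵁ U1 ⊓ (pullback.snd q1 q2 ≫ W2.ι) ⁻¹ᵁ U2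
    have hxO : x ∈ O := ⟨hx1, hx2⟩
    obtain ⟨B, j, hj, hxj, hjO⟩ := Scheme.exists_affine_mem_range_and_range_subset hxO
    refine ⟨B, j, hj, hxj, ⟨M, iM, hM, ?_⟩, ⟨N, iN, hN, ?_⟩⟩
    · have hr : Set.range (j ≫ pullback.fst q1 q2 ≫ W1.ι).base ⊆ Set.range U1.ι.base := by
        rintro _ ⟨b, rfl⟩
        rw [Scheme.Opens.range_ι]
        exact (hjO ⟨b, rfl⟩).1
      let π1 : Spec B ⟶ U1.toScheme := IsOpenImmersion.lift U1.ι (j ≫ pullback.fst q1 q2 ≫ W1.ι) hr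
      have hπ1 : π1 ≫ U1.ι = j ≫ pullback.fst q1 q2 ≫ W1.ι := IsOpenImmersion.lift_fac _ _ _
      refine Groth.Agent.Helper7.TwoGrp.nonempty_triv_bc (g := U1.ι ≫ f1) π1 (j ≫ p) ?_ G M e1
      dsimp only [p]
      rw [← Category.assoc, hπ1]
      simp only [Category.assoc]
    · have hr : Set.range (j ≫ pullback.snd q1 q2 ≫ W2.ι).base ⊆ Set.range U2.ι.base := by
        rintro _ ⟨b, rfl⟩
        rw [Scheme.Opens.range_ι]
        exact (hjO ⟨b, rfl⟩).2
      let π2 : Spec B ⟶ U2.toScheme := IsOpenImmersion.lift U2.ι (j ≫ pullback.snd q1 q2 ≫ W2.ι) hr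
      have hπ2 : π2 ≫ U2.ι = j ≫ pullback.snd q1 q2 ≫ W2.ι := IsOpenImmersion.lift_fac _ _ _
      refine Groth.Agent.Helper7.TwoGrp.nonempty_triv_bc (g := U2.ι ≫ f2) π2 (j ≫ p) ?_ H N e2
      rw [hp2, ← Category.assoc, hπ2]
      simp only [Category.assoc]

end Groth.Agent.Helper16.CoverTriv
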