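import Mathlib
import Groth.Prelude.Def_BlowUp2
import Groth.Prelude.Def_Mor2
import Groth.Agent.Lib.Helper16.Alg.CurveDivC
import Groth.Agent.Lib.Helper16.Sch.SmDiv

/-!
# Relative effective Cartier divisors on a relative curve (helper16)
-/

set_option autoImplicit false
set_option linter.style.haveILetI false
universe u
open CategoryTheory CategoryTheory.Limits AlgebraicGeometry Opposite TopologicalSpace

noncomputable section

namespace Groth.Agent.Helper16.CurveDiv

/-- primes of `B` containing `J` comparable with `q` in the same fibre equal `q`, when `B/J` is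
quasi-finite. -/
theorem iso_of_quasiFinite {A B : Type u} [CommRing A] [CommRing B] [Algebra A B]
    [Algebra.FiniteType A B] (J : Ideal B) [Algebra.QuasiFinite A (B ⧸ J)]
    (q : Ideal B) [hq : q.IsPrime] (hJq : J ≤ q)
    (P : Ideal B) (hP : P.IsPrime) (hJP : J ≤ P) (hPq : P.under A = q.under A)
    (hcomp : q ≤ P ∨ P ≤ q) : P = q := by
  have hker : RingHom.ker (Ideal.Quotient.mk J) = J := Ideal.mk_ker
  haveI hq' : (q.map (Ideal.Quotient.mk J)).IsPrime :=
    Ideal.map_isPrime_of_surjective Ideal.Quotient.mk_surjective (hker.le.trans hJq)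
  have hP' : (P.map (Ideal.Quotient.mk J)).IsPrime :=
    Ideal.map_isPrime_of_surjective Ideal.Quotient.mk_surjective (hker.le.trans hJP)
  have hcq : (q.map (Ideal.Quotient.mk J)).comap (Ideal.Quotient.mk J) = q := by
    rw [Ideal.comap_map_of_surjective' _ Ideal.Quotient.mk_surjective, hker, sup_eq_left.mpr hJq]
  have hcP : (P.map (Ideal.Quotient.mk J)).comap (Ideal.Quotient.mk J) = P := by
    rw [Ideal.comap_map_of_surjective' _ Ideal.Quotient.mk_surjective, hker, sup_eq_left.mpr hJP]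
  haveI : Algebra.FiniteType A (B ⧸ J) :=
    .of_surjective (Ideal.Quotient.mkₐ A J) Ideal.Quotient.mk_surjective
  haveI : Algebra.QuasiFiniteAt A (q.map (Ideal.Quotient.mk J)) := inferInstance
  have hund : ∀ T : Ideal (B ⧸ J), T.comap (algebraMap A (B ⧸ J)) =
      (T.comap (Ideal.Quotient.mk J)).comap (algebraMap A B) := fun T => by
    rw [Ideal.comap_comap]
    rfl
  have h := isolated_of_quasiFiniteAt (R := A) (q.map (Ideal.Quotient.mk J))
    (P.map (Ideal.Quotient.mk J)) hP' (by rw [hund, hund, hcq, hcP]; exact hPq)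
    (hcomp.imp (fun h => Ideal.map_mono h) (fun h => Ideal.map_mono h))
  rw [← hcP, h, hcq]

variable {X S : Scheme.{u}}

set_option maxHeartbeats 800000 in
set_option synthInstance.maxHeartbeats 200000 in
/-- every affine neighbourhood of `x` contains a basic open standard smooth chart -/
theorem exists_chart (f : X ⟶ S) [SmoothOfRelativeDimension 1 f] (x : X) (U₀ : X.Opens)
    (hU₀ : IsAffineOpen U₀) (hx₀ : x ∈ U₀) :
    ∃ (W : S.Opens) (_ : IsAffineOpen W) (a : Γ(X, U₀)) (_ : x ∈ X.basicOpen a)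
      (e : X.basicOpen a ≤ f ⁻¹ᵁ W),
      (f.appLE W (X.basicOpen a) e).hom.IsStandardSmoothOfRelativeDimension 1 := by
  obtain ⟨W, hW, V, hV, hxV, e, hstd⟩ :=
    SmoothOfRelativeDimension.exists_isStandardSmoothOfRelativeDimension (n := 1) (f := f) x
  obtain ⟨a, b, hab, hxa⟩ := exists_basicOpen_le_affine_inter hU₀ hV x ⟨hx₀, hxV⟩
  have key : ∀ (U' : X.Opens) (_ : U' = X.basicOpen b) (e' : U' ≤ f ⁻¹ᵁ W),
      (f.appLE W U' e').hom.IsStandardSmoothOfRelativeDimension 1 := by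
    intro U' hU' e'
    subst hU'
    letI algAV : Algebra Γ(S, W) Γ(X, V) := (f.appLE W V e).hom.toAlgebra
    haveI : Algebra.IsStandardSmoothOfRelativeDimension 1 Γ(S, W) Γ(X, V) := hstd
    haveI : IsLocalization.Away b Γ(X, X.basicOpen b) := hV.isLocalization_basicOpen b
    letI algAb : Algebra Γ(S, W) Γ(X, X.basicOpen b) :=
      ((algebraMap Γ(X, V) Γ(X, X.basicOpen b)).comp (algebraMap Γ(S, W) Γ(X, V))).toAlgebra
    haveI : IsScalarTower Γ(S, W) Γ(X, V) Γ(X, X.basicOpen b) :=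
      IsScalarTower.of_algebraMap_eq fun _ => rfl
    haveI : Algebra.IsStandardSmoothOfRelativeDimension 0 Γ(X, V) Γ(X, X.basicOpen b) :=
      .localization_away b
    have h1 := Algebra.IsStandardSmoothOfRelativeDimension.trans (n := 1) (m := 0)
      Γ(S, W) Γ(X, V) Γ(X, X.basicOpen b)
    have happ : (f.appLE W (X.basicOpen b) e').hom =
        (algebraMap Γ(X, V) Γ(X, X.basicOpen b)).comp (algebraMap Γ(S, W) Γ(X, V)) := by
      rw [← Scheme.Hom.appLE_map f e (homOfLE (X.basicOpen_le b)).op]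
      rfl
    rw [happ]
    have h2 : Algebra.IsStandardSmoothOfRelativeDimension 1 Γ(S, W) Γ(X, X.basicOpen b) := by
      simpa using h1
    exact (RingHom.isStandardSmoothOfRelativeDimension_algebraMap (n := 1)).mpr h2
  have e' : X.basicOpen a ≤ f ⁻¹ᵁ W := hab ▸ ((X.basicOpen_le b).trans e)
  exact ⟨W, hW, a, hxa, e', key _ hab e'⟩

set_option maxHeartbeats 1600000 in
set_option synthInstance.maxHeartbeats 400000 in
theorem effCartier_of_lqf (f : X ⟶ S) [SmoothOfRelativeDimension 1 f]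
    (I : X.IdealSheafData) [LocallyQuasiFinite (I.subschemeι ≫ f)] [Flat (I.subschemeι ≫ f)]
    [LocallyOfFinitePresentation (I.subschemeι ≫ f)] : BlowUp.IsEffCartierIdeal I := by
  intro x
  by_cases hx : x ∈ Set.range I.subschemeι
  · obtain ⟨d, rfl⟩ := hx
    obtain ⟨U₀, hU₀, hx₀, -⟩ := Opens.isBasis_iff_nbhd.mp X.isBasis_affineOpens
      (Opens.mem_top (I.subschemeι d))
    obtain ⟨W, hW, a, hxa, e, hstd⟩ := exists_chart f (I.subschemeι d) U₀ hU₀ hx₀
    have hU : IsAffineOpen (X.basicOpen a) := hU₀.basicOpen a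
    letI algAB : Algebra Γ(S, W) Γ(X, X.basicOpen a) := (f.appLE W (X.basicOpen a) e).hom.toAlgebra
    haveI : Algebra.IsStandardSmoothOfRelativeDimension 1 Γ(S, W) Γ(X, X.basicOpen a) := hstd
    haveI : Algebra.IsStandardSmooth Γ(S, W) Γ(X, X.basicOpen a) :=
      Algebra.IsStandardSmoothOfRelativeDimension.isStandardSmooth 1
    have hV : IsAffineOpen (I.subschemeι ⁻¹ᵁ X.basicOpen a) := hU.preimage I.subschemeι
    have e₂ : I.subschemeι ⁻¹ᵁ X.basicOpen a ≤ (I.subschemeι ≫ f) ⁻¹ᵁ W := fun z hz => e hz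
    have hcompLE : (I.subschemeι ≫ f).appLE W (I.subschemeι ⁻¹ᵁ X.basicOpen a) e₂ =
        f.appLE W (X.basicOpen a) e ≫ I.subschemeι.app (X.basicOpen a) := by
      rw [I.subschemeι.app_eq_appLE, Scheme.Hom.appLE_comp_appLE]
    letI algAC : Algebra Γ(S, W) Γ(I.subscheme, I.subschemeι ⁻¹ᵁ X.basicOpen a) :=
      ((I.subschemeι ≫ f).appLE W (I.subschemeι ⁻¹ᵁ X.basicOpen a) e₂).hom.toAlgebra
    haveI : Module.Flat Γ(S, W) Γ(I.subscheme, I.subschemeι ⁻¹ᵁ X.basicOpen a) :=
      HasRingHomProperty.appLE @Flat (I.subschemeι ≫ f) inferInstance ⟨W, hW⟩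
        ⟨I.subschemeι ⁻¹ᵁ X.basicOpen a, hV⟩ e₂
    haveI : Algebra.FinitePresentation Γ(S, W) Γ(I.subscheme, I.subschemeι ⁻¹ᵁ X.basicOpen a) :=
      (I.subschemeι ≫ f).finitePresentation_appLE hW hV e₂
    haveI : Algebra.QuasiFinite Γ(S, W) Γ(I.subscheme, I.subschemeι ⁻¹ᵁ X.basicOpen a) :=
      LocallyQuasiFinite.quasiFinite_appLE (f := I.subschemeι ≫ f) hW hV e₂
    let ψ : Γ(X, X.basicOpen a) →ₐ[Γ(S, W)] Γ(I.subscheme, I.subschemeι ⁻¹ᵁ X.basicOpen a) :=
      { (I.subschemeι.app (X.basicOpen a)).hom with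
        commutes' := fun r => by
          show (I.subschemeι.app (X.basicOpen a)).hom ((f.appLE W (X.basicOpen a) e).hom r) =
            ((I.subschemeι ≫ f).appLE W (I.subschemeι ⁻¹ᵁ X.basicOpen a) e₂).hom r
          rw [hcompLE]
          rfl }
    have hψ : Function.Surjective ψ := I.subschemeι.app_surjective (X.basicOpen a) hU
    have hkerψ : RingHom.ker ψ = I.ideal ⟨X.basicOpen a, hU⟩ :=
      I.ker_subschemeι_app ⟨X.basicOpen a, hU⟩
    let eq1 : (Γ(X, X.basicOpen a) ⧸ RingHom.ker ψ) ≃ₐ[Γ(S, W)]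
        Γ(I.subscheme, I.subschemeι ⁻¹ᵁ X.basicOpen a) :=
      Ideal.quotientKerAlgEquivOfSurjective hψ
    let eq2 : (Γ(X, X.basicOpen a) ⧸ RingHom.ker ψ) ≃ₐ[Γ(S, W)]
        (Γ(X, X.basicOpen a) ⧸ I.ideal ⟨X.basicOpen a, hU⟩) :=
      Ideal.quotientEquivAlgOfEq _ hkerψ
    let eq3 := eq2.symm.trans eq1
    haveI : Module.Flat Γ(S, W) (Γ(X, X.basicOpen a) ⧸ I.ideal ⟨X.basicOpen a, hU⟩) :=
      Module.Flat.of_linearEquiv eq3.toLinearEquiv
    haveI : Algebra.QuasiFinite Γ(S, W) (Γ(X, X.basicOpen a) ⧸ I.ideal ⟨X.basicOpen a, hU⟩) :=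
      Algebra.QuasiFinite.of_surjective_algHom eq3.symm.toAlgHom eq3.symm.surjective
    have hJfg : (I.ideal ⟨X.basicOpen a, hU⟩).FG := by
      rw [← hkerψ]
      exact Algebra.FinitePresentation.ker_fG_of_surjective ψ hψ
    -- the prime
    have hJq : I.ideal ⟨X.basicOpen a, hU⟩ ≤ (hU.primeIdealOf ⟨I.subschemeι d, hxa⟩).asIdeal := by
      rw [← hkerψ]
      intro s hs
      by_contra hsq
      have h1 := Groth.Agent.Helper16.SmDiv.mem_basicOpen_of_notMem_primeIdealOf hU
        (I.subschemeι d) hxa s hsq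
      have h2 : d ∈ I.subschemeι ⁻¹ᵁ X.basicOpen s := h1
      rw [Scheme.preimage_basicOpen] at h2
      have h3 : I.subschemeι.app (X.basicOpen a) s = 0 := hs
      rw [h3, Scheme.basicOpen_zero] at h2
      exact h2
    obtain ⟨g, hgq, j, hjJ, hg⟩ := exists_principal (A := Γ(S, W))
      (I.ideal ⟨X.basicOpen a, hU⟩) hJfg
      (hU.primeIdealOf ⟨I.subschemeι d, hxa⟩).asIdeal hJq
      (fun P hP hJP hPq hcomp => iso_of_quasiFinite (A := Γ(S, W))
        (I.ideal ⟨X.basicOpen a, hU⟩) _ hJq P hP hJP hPq hcomp)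
    have hU' : IsAffineOpen (X.basicOpen g) := hU.basicOpen g
    have hxU' : I.subschemeι d ∈ X.basicOpen g :=
      Groth.Agent.Helper16.SmDiv.mem_basicOpen_of_notMem_primeIdealOf hU (I.subschemeι d) hxa g hgq
    haveI hloc : IsLocalization.Away g Γ(X, X.basicOpen g) := hU.isLocalization_basicOpen g
    obtain ⟨hnzd, hmap⟩ := hg Γ(X, X.basicOpen g)
    have hbo := I.map_ideal_basicOpen ⟨X.basicOpen a, hU⟩ g
    refine ⟨⟨X.basicOpen g, hU'⟩, hxU', algebraMap Γ(X, X.basicOpen a) Γ(X, X.basicOpen g) j,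
      hnzd, ?_⟩
    rw [← hmap]
    exact hbo.symm
  · -- off the support
    have hxs : x ∈ ((I.support : Set X)ᶜ) := by
      rw [← I.range_subschemeι]
      exact hx
    have hopen : IsOpen ((I.support : Set X)ᶜ) := I.support.isClosed.isOpen_compl
    obtain ⟨U, hU, hxU, hUle⟩ := Opens.isBasis_iff_nbhd.mp X.isBasis_affineOpens
      (show x ∈ (⟨(I.support : Set X)ᶜ, hopen⟩ : X.Opens) from hxs)
    have hempty : I.subschemeι ⁻¹ᵁ U = ⊥ := by
      ext z
      simp only [Opens.coe_bot, Set.mem_empty_iff_false, iff_false]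
      intro hz
      have h1 : I.subschemeι z ∈ (I.support : Set X)ᶜ := hUle hz
      apply h1
      rw [← I.range_subschemeι]
      exact ⟨z, rfl⟩
    haveI : Subsingleton Γ(I.subscheme, I.subschemeι ⁻¹ᵁ U) := by
      rw [hempty]
      infer_instance
    have htop : I.ideal ⟨U, hU⟩ = ⊤ := by
      rw [← I.ker_subschemeι_app ⟨U, hU⟩, Ideal.eq_top_iff_one, RingHom.mem_ker]
      exact Subsingleton.elim _ _
    refine ⟨⟨U, hU⟩, hxU, 1, one_mem _, ?_⟩
    rw [htop, Ideal.span_singleton_one]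

end Groth.Agent.Helper16.CurveDiv
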