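import Mathlib
import Groth.Agent.Lib.Helper16.Sch.CurveDivD

/-!
# Relative effective Cartier divisors on a relative curve: main statement (helper16)
-/

set_option autoImplicit false
set_option linter.style.haveILetI false
universe u
open CategoryTheory CategoryTheory.Limits AlgebraicGeometry Opposite TopologicalSpace

noncomputable section

namespace Groth.Agent.Helper16.CurveDiv

variable {X S : Scheme.{u}}

set_option maxHeartbeats 1600000 in
set_option synthInstance.maxHeartbeats 400000 in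
theorem exists_local_qf_fp (f : X ⟶ S) [SmoothOfRelativeDimension 1 f]
    (I : X.IdealSheafData) (hI : BlowUp.IsEffCartierIdeal I) [Flat (I.subschemeι ≫ f)]
    (d : I.subscheme) :
    ∃ (W : S.affineOpens) (V : I.subscheme.affineOpens) (_ : d ∈ V.1)
      (e : V.1 ≤ (I.subschemeι ≫ f) ⁻¹ᵁ W.1),
      ((I.subschemeι ≫ f).appLE W.1 V.1 e).hom.QuasiFinite ∧
        ((I.subschemeι ≫ f).appLE W.1 V.1 e).hom.FinitePresentation := by
  obtain ⟨⟨U₁, hU₁⟩, hxU₁, t, ht, hIt⟩ := hI (I.subschemeι d)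
  obtain ⟨W, hW, a, hxa, e, hstd⟩ := exists_chart f (I.subschemeι d) U₁ hU₁ hxU₁
  have hU : IsAffineOpen (X.basicOpen a) := hU₁.basicOpen a
  haveI hloc : IsLocalization.Away a Γ(X, X.basicOpen a) := hU₁.isLocalization_basicOpen a
  have ht' : algebraMap Γ(X, U₁) Γ(X, X.basicOpen a) t ∈ nonZeroDivisors Γ(X, X.basicOpen a) :=
    IsLocalization.map_nonZeroDivisors_le (.powers a) _ (Submonoid.mem_map_of_mem _ ht)
  have hIt' : I.ideal ⟨X.basicOpen a, hU⟩ =
      Ideal.span {algebraMap Γ(X, U₁) Γ(X, X.basicOpen a) t} := by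
    have h1 := I.map_ideal_basicOpen ⟨U₁, hU₁⟩ a
    rw [hIt, Ideal.map_span, Set.image_singleton] at h1
    exact h1.symm
  letI algAB : Algebra Γ(S, W) Γ(X, X.basicOpen a) := (f.appLE W (X.basicOpen a) e).hom.toAlgebra
  haveI : Algebra.IsStandardSmoothOfRelativeDimension 1 Γ(S, W) Γ(X, X.basicOpen a) := hstd
  haveI : Algebra.IsStandardSmooth Γ(S, W) Γ(X, X.basicOpen a) :=
    Algebra.IsStandardSmoothOfRelativeDimension.isStandardSmooth 1
  have hV : IsAffineOpen (I.subschemeι ⁻¹ᵁ X.basicOpen a) := hU.preimage I.subschemeι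
  have e₂ : I.subschemeι ⁻¹ᵁ X.basicOpen a ≤ (I.subschemeι ≫ f) ⁻¹ᵁ W := fun z hz => e hz
  have hcompLE : (I.subschemeι ≫ f).appLE W (I.subschemeι ⁻¹ᵁ X.basicOpen a) e₂ =
      f.appLE W (X.basicOpen a) e ≫ I.subschemeι.app (X.basicOpen a) := by
    rw [I.subschemeι.app_eq_appLE, Scheme.Hom.appLE_comp_appLE]
  letI algAC : Algebra Γ(S, W) Γ(I.subscheme, I.subschemeι ⁻¹ᵁ X.basicOpen a) :=
    ((I.subschemeι ≫ f).appLE W (I.subschemeι ⁻¹ᵁ X.basicOpen a) e₂).hom.toAlgebra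
  haveI : Module.Flat Γ(S, W) Γ(I.subscheme, I.subschemeι ⁻¹ᵁ X.basicOpen a) :=
    HasRingHomProperty.appLE @Flat (I.subschemeι ≫ f) inferInstance ⟨W, hW⟩
      ⟨I.subschemeι ⁻¹ᵁ X.basicOpen a, hV⟩ e₂
  let ψ : Γ(X, X.basicOpen a) →ₐ[Γ(S, W)] Γ(I.subscheme, I.subschemeι ⁻¹ᵁ X.basicOpen a) :=
    { (I.subschemeι.app (X.basicOpen a)).hom with
      commutes' := fun r => by
        show (I.subschemeι.app (X.basicOpen a)).hom ((f.appLE W (X.basicOpen a) e).hom r) =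
          ((I.subschemeι ≫ f).appLE W (I.subschemeι ⁻¹ᵁ X.basicOpen a) e₂).hom r
        rw [hcompLE]
        rfl }
  have hψ : Function.Surjective ψ := I.subschemeι.app_surjective (X.basicOpen a) hU
  have hkerψ : RingHom.ker ψ = Ideal.span {algebraMap Γ(X, U₁) Γ(X, X.basicOpen a) t} :=
    (I.ker_subschemeι_app ⟨X.basicOpen a, hU⟩).trans hIt'
  let eq1 : (Γ(X, X.basicOpen a) ⧸ RingHom.ker ψ) ≃ₐ[Γ(S, W)]
      Γ(I.subscheme, I.subschemeι ⁻¹ᵁ X.basicOpen a) :=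
    Ideal.quotientKerAlgEquivOfSurjective hψ
  let eq2 : (Γ(X, X.basicOpen a) ⧸ RingHom.ker ψ) ≃ₐ[Γ(S, W)]
      (Γ(X, X.basicOpen a) ⧸ Ideal.span {algebraMap Γ(X, U₁) Γ(X, X.basicOpen a) t}) :=
    Ideal.quotientEquivAlgOfEq _ hkerψ
  let eq3 := eq2.symm.trans eq1
  haveI : Module.Flat Γ(S, W)
      (Γ(X, X.basicOpen a) ⧸ Ideal.span {algebraMap Γ(X, U₁) Γ(X, X.basicOpen a) t}) :=
    Module.Flat.of_linearEquiv eq3.toLinearEquiv
  haveI hqf : Algebra.QuasiFinite Γ(S, W)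
      (Γ(X, X.basicOpen a) ⧸ Ideal.span {algebraMap Γ(X, U₁) Γ(X, X.basicOpen a) t}) :=
    quasiFinite_of_nzd _ ht'
  haveI : Algebra.QuasiFinite Γ(S, W) Γ(I.subscheme, I.subschemeι ⁻¹ᵁ X.basicOpen a) :=
    Algebra.QuasiFinite.of_surjective_algHom eq3.toAlgHom eq3.surjective
  haveI : Algebra.FinitePresentation Γ(S, W)
      (Γ(X, X.basicOpen a) ⧸ Ideal.span {algebraMap Γ(X, U₁) Γ(X, X.basicOpen a) t}) :=
    Algebra.FinitePresentation.quotient (Submodule.fg_span_singleton _)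
  haveI : Algebra.FinitePresentation Γ(S, W) Γ(I.subscheme, I.subschemeι ⁻¹ᵁ X.basicOpen a) :=
    Algebra.FinitePresentation.equiv eq3
  refine ⟨⟨W, hW⟩, ⟨I.subschemeι ⁻¹ᵁ X.basicOpen a, hV⟩, hxa, e₂, ?_, ?_⟩
  · exact ‹Algebra.QuasiFinite Γ(S, W) Γ(I.subscheme, I.subschemeι ⁻¹ᵁ X.basicOpen a)›
  · exact ‹Algebra.FinitePresentation Γ(S, W) Γ(I.subscheme, I.subschemeι ⁻¹ᵁ X.basicOpen a)›

theorem lqf_lfp_of_effCartier (f : X ⟶ S) [SmoothOfRelativeDimension 1 f]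
    (I : X.IdealSheafData) (hI : BlowUp.IsEffCartierIdeal I) [Flat (I.subschemeι ≫ f)] :
    LocallyQuasiFinite (I.subschemeι ≫ f) ∧ LocallyOfFinitePresentation (I.subschemeι ≫ f) := by
  constructor
  · rw [HasRingHomProperty.iff_exists_appLE (P := @LocallyQuasiFinite)
      (RingHom.QuasiFinite.stableUnderComposition.stableUnderCompositionWithLocalizationAway
        RingHom.QuasiFinite.holdsForLocalizationAway).left]
    intro d
    obtain ⟨W, V, hd, e, h1, -⟩ := exists_local_qf_fp f I hI d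
    exact ⟨W, V, hd, e, h1⟩
  · rw [HasRingHomProperty.iff_exists_appLE (P := @LocallyOfFinitePresentation)
      (RingHom.finitePresentation_stableUnderComposition.stableUnderCompositionWithLocalizationAway
        RingHom.finitePresentation_holdsForLocalizationAway).left]
    intro d
    obtain ⟨W, V, hd, e, -, h2⟩ := exists_local_qf_fp f I hI d
    exact ⟨W, V, hd, e, h2⟩

theorem main (f : X ⟶ S) [SmoothOfRelativeDimension 1 f] (I : X.IdealSheafData) :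
    ((BlowUp.IsEffCartierIdeal I ∧ Flat (I.subschemeι ≫ f)) ↔
      (LocallyQuasiFinite (I.subschemeι ≫ f) ∧ Flat (I.subschemeι ≫ f) ∧
        LocallyOfFinitePresentation (I.subschemeι ≫ f))) ∧
    (Mor2.IsFinLocFree (I.subschemeι ≫ f) →
      BlowUp.IsEffCartierIdeal I ∧ Flat (I.subschemeι ≫ f)) := by
  have h1 : LocallyQuasiFinite (I.subschemeι ≫ f) ∧ Flat (I.subschemeι ≫ f) ∧
      LocallyOfFinitePresentation (I.subschemeι ≫ f) →
      BlowUp.IsEffCartierIdeal I ∧ Flat (I.subschemeι ≫ f) := by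
    rintro ⟨h1, h2, h3⟩
    exact ⟨effCartier_of_lqf f I, h2⟩
  refine ⟨⟨?_, h1⟩, ?_⟩
  · rintro ⟨hI, hfl⟩
    obtain ⟨a, b⟩ := lqf_lfp_of_effCartier f I hI
    exact ⟨a, hfl, b⟩
  · rintro ⟨hfin, hfl, hfp⟩
    exact h1 ⟨inferInstance, hfl, hfp⟩

end Groth.Agent.Helper16.CurveDiv
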