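import Mathlib

set_option autoImplicit false
set_option linter.style.haveILetI false
universe u
open CategoryTheory CategoryTheory.Limits AlgebraicGeometry Opposite TopologicalSpace

noncomputable section

namespace Groth.Agent.Helper16.CurveEt

/-- an injective ring hom from a valuation ring to a domain is flat -/
theorem flat_of_injective_of_valuationRing {R A : Type*} [CommRing R] [IsDomain R]
    [ValuationRing R] [CommRing A] [IsDomain A] (φ : R →+* A) (h : Function.Injective φ) :
    φ.Flat := by
  algebraize [φ]
  show Module.Flat R A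
  rw [Module.Flat.flat_iff_torsion_eq_bot_of_isBezout, ← Submodule.isTorsionFree_iff_torsion_eq_bot,
    Module.isTorsionFree_iff_algebraMap_injective]
  exact h

theorem injective_of_map_maximalIdeal {R A : Type*} [CommRing R] [IsDomain R] [IsLocalRing R]
    (hdim : ringKrullDim R ≤ 1) [CommRing A] [IsDomain A] [IsLocalRing A] (φ : R →+* A)
    (hmap : (IsLocalRing.maximalIdeal R).map φ = IsLocalRing.maximalIdeal A)
    (hA : ¬ IsField A) : Function.Injective φ := by
  rw [RingHom.injective_iff_ker_eq_bot]
  by_contra hne
  have hprime : (RingHom.ker φ).IsPrime := RingHom.ker_isPrime φ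
  have hd : Ring.KrullDimLE 1 R := by
    rwa [Ring.krullDimLE_iff]
  have hmax : (RingHom.ker φ).IsMaximal :=
    (Ring.krullDimLE_one_iff_of_noZeroDivisors.mp hd) _ hne hprime
  have hker : RingHom.ker φ = IsLocalRing.maximalIdeal R := IsLocalRing.eq_maximalIdeal hmax
  apply hA
  rw [IsLocalRing.isField_iff_maximalIdeal_eq, ← hmap, ← hker]
  rw [Ideal.map_eq_bot_iff_le_ker]

end Groth.Agent.Helper16.CurveEt
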