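import Mathlib

set_option autoImplicit false
set_option linter.style.haveILetI false
universe u
open CategoryTheory CategoryTheory.Limits AlgebraicGeometry Opposite TopologicalSpace

noncomputable section

namespace Groth.Agent.Helper16.CurveEt

theorem not_isField_stalk_of_closed {X : Scheme.{u}} [IsIntegral X]
    (hd : topologicalKrullDim X = 1) (x : X) (hx : IsClosed ({x} : Set X)) :
    ¬ IsField (X.presheaf.stalk x) := by
  intro hF
  have h1 : genericPoint X ⤳ x := genericPoint_specializes x
  have h2 : genericPoint X ∈ Set.range (X.fromSpecStalk x) := by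
    rw [Scheme.range_fromSpecStalk]; exact h1
  obtain ⟨p, hp⟩ := h2
  letI := hF.toField
  have hss : Subsingleton (PrimeSpectrum (X.presheaf.stalk x)) := inferInstance
  have h3 : p = IsLocalRing.closedPoint (X.presheaf.stalk x) := hss.elim _ _
  rw [h3, Scheme.fromSpecStalk_closedPoint] at hp
  have h4 : closure ({x} : Set X) = Set.univ := by
    rw [hp]; exact genericPoint_spec X
  rw [hx.closure_eq] at h4
  haveI : Subsingleton X := by
    refine ⟨fun a b => ?_⟩
    have ha : a ∈ ({x} : Set X) := h4 ▸ Set.mem_univ a
    have hb : b ∈ ({x} : Set X) := h4 ▸ Set.mem_univ b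
    rw [Set.mem_singleton_iff] at ha hb
    rw [ha, hb]
  have := topologicalKrullDim_zero_of_discreteTopology X
  rw [hd] at this
  exact absurd this (by decide)

end Groth.Agent.Helper16.CurveEt
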