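import Mathlib
import Groth.Agent.Lib.Helper16.Sch.CurveEt1
import Groth.Agent.Lib.Helper16.Sch.CurveEt2
import Groth.Agent.Lib.Helper16.Sch.CurveEt3
import Groth.Agent.Lib.Helper4.SmoothRegSch
import Groth.Agent.Lib.Helper4.CurveExt2
import Groth.Agent.Lib.Helper7.FinPres

set_option autoImplicit false
set_option linter.style.haveILetI false
universe u
open CategoryTheory CategoryTheory.Limits AlgebraicGeometry Opposite TopologicalSpace

noncomputable section

namespace Groth.Agent.Helper16.CurveEt

open Groth.Agent.Helper16.UnramLocus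

/-- dimension of stalks of a scheme of dimension one -/
theorem ringKrullDim_stalk_le {Y : Scheme.{u}} (y : Y) :
    ringKrullDim (Y.presheaf.stalk y) ≤ topologicalKrullDim Y := by
  obtain ⟨_, ⟨W, hW, rfl⟩, hyW, -⟩ :=
    Y.isBasis_affineOpens.exists_subset_of_mem_open (Set.mem_univ y) isOpen_univ
  letI := TopCat.Presheaf.algebra_section_stalk Y.presheaf (⟨y, hyW⟩ : W)
  haveI := hW.isLocalization_stalk ⟨y, hyW⟩
  haveI := (hW.primeIdealOf ⟨y, hyW⟩).isPrime
  rw [IsLocalization.AtPrime.ringKrullDim_eq_height (hW.primeIdealOf ⟨y, hyW⟩).asIdeal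
    (Y.presheaf.stalk y)]
  refine (Ideal.height_le_ringKrullDim_of_ne_top (hW.primeIdealOf ⟨y, hyW⟩).isPrime.ne_top).trans ?_
  rw [← PrimeSpectrum.topologicalKrullDim_eq_ringKrullDim]
  exact hW.fromSpec.isOpenEmbedding.isInducing.topologicalKrullDim_le

/-- the residue field extension at a closed point of a scheme locally of finite type over an
algebraically closed field is surjective -/
theorem surjective_residueFieldMap_of_closed (k : Type u) [Field k] [IsAlgClosed k]
    {X Y : Scheme.{u}} (pX : X ⟶ Spec (CommRingCat.of k)) (pY : Y ⟶ Spec (CommRingCat.of k))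
    (φ : X ⟶ Y) (w : φ ≫ pY = pX) [LocallyOfFiniteType pX] (x : X)
    (hx : IsClosed ({x} : Set X)) : Function.Surjective (φ.residueFieldMap x).hom := by
  have h1 := SpecMap_residueFieldIsoBase_inv pX x hx
  have h2 : Spec.map (residueFieldIsoBase pX x hx).inv =
      Spec.map (Spec.preimage (Y.fromSpecResidueField (φ x) ≫ pY) ≫ φ.residueFieldMap x) := by
    rw [h1, Spec.map_comp, Spec.map_preimage, ← w,
      ← Scheme.Hom.SpecMap_residueFieldMap_fromSpecResidueField_assoc]
  have h3 := Spec.map_injective h2
  have h4 : Function.Surjective (residueFieldIsoBase pX x hx).inv.hom :=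
    ((ConcreteCategory.isIso_iff_bijective _).mp inferInstance).2
  rw [h3] at h4
  exact Function.Surjective.of_comp h4

end Groth.Agent.Helper16.CurveEt

namespace Groth.Agent.Helper16.CurveEt

open Groth.Agent.Helper16.UnramLocus

theorem finite_isSeparable_of_surjective {K L : Type*} [Field K] [Field L] [Algebra K L]
    (h : Function.Surjective (algebraMap K L)) : Module.Finite K L ∧ Algebra.IsSeparable K L :=
  ⟨Module.Finite.of_surjective (Algebra.linearMap K L) h,
    ⟨fun y => by obtain ⟨x, rfl⟩ := h y; exact isSeparable_algebraMap x⟩⟩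

theorem main (k : Type u) [Field k] [IsAlgClosed k] {X Y : Scheme.{u}}
    (pX : X ⟶ Spec (CommRingCat.of k)) (pY : Y ⟶ Spec (CommRingCat.of k)) (φ : X ⟶ Y)
    (w : φ ≫ pY = pX)
    [IsIntegral X] [Smooth pX] (hdX : topologicalKrullDim X = 1)
    [IsIntegral Y] [Smooth pY] (hdY : topologicalKrullDim Y = 1)
    (x : X) (hx : IsClosed ({x} : Set X)) :
    (∃ U : X.Opens, x ∈ U ∧ Etale (U.ι ≫ φ)) ↔
      Ideal.map (φ.stalkMap x).hom (IsLocalRing.maximalIdeal (Y.presheaf.stalk (φ.base x))) =
        IsLocalRing.maximalIdeal (X.presheaf.stalk x) := by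
  haveI : LocallyOfFiniteType φ := by
    have : LocallyOfFiniteType (φ ≫ pY) := by rw [w]; infer_instance
    exact locallyOfFiniteType_of_comp φ pY
  haveI : LocallyOfFinitePresentation φ := by
    have : LocallyOfFinitePresentation (φ ≫ pY) := by rw [w]; infer_instance
    exact Groth.Agent.Helper7.locallyOfFinitePresentation_of_comp φ pY this inferInstance
  constructor
  · rintro ⟨U, hxU, hU⟩
    exact ((Groth.Agent.Helper16.StalkUnr.unrAt_iff_local φ x).mp ⟨U, hxU, inferInstance⟩).1
  · intro hmap
    -- unramified near x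
    have hunr : UnrAt φ x := by
      refine (Groth.Agent.Helper16.StalkUnr.unrAt_iff_local φ x).mpr ⟨hmap, ?_⟩
      letI := (φ.residueFieldMap x).hom.toAlgebra
      exact finite_isSeparable_of_surjective
        (surjective_residueFieldMap_of_closed k pX pY φ w x hx)
    -- flat at x
    haveI : IsRegularLocalRing (Y.presheaf.stalk (φ x)) :=
      Groth.Agent.Helper4.SmoothRegSch.isRegularLocalRing_stalk k pY (φ x)
    have hdim : ringKrullDim (Y.presheaf.stalk (φ x)) ≤ 1 := by
      rw [← hdY]; exact ringKrullDim_stalk_le (φ x)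
    obtain ⟨hdom, hval⟩ := Groth.Agent.Helper4.CurveExt.valuationRing_of_regular _ hdim
    have hinj : Function.Injective (φ.stalkMap x).hom :=
      injective_of_map_maximalIdeal hdim _ hmap (not_isField_stalk_of_closed hdX x hx)
    have hflat : (φ.stalkMap x).hom.Flat := flat_of_injective_of_valuationRing _ hinj
    exact exists_etale_nhd_of_flat_of_unrAt φ x hflat hunr

end Groth.Agent.Helper16.CurveEt
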