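import Mathlib
import Groth.Prelude
import Groth.Agent.Lib.Helper16.Alg.AlgOver
import Groth.Agent.Lib.Helper16.Sch.FTDim1
import Groth.Agent.Lib.Helper14.ResFieldBridge
import Groth.Agent.Lib.Helper15.SchReduced

set_option autoImplicit false
universe u
open CategoryTheory CategoryTheory.Limits AlgebraicGeometry TopologicalSpace

namespace Groth.Agent.Helper16.CurveLift

open Groth.Agent.Helper14.ResFieldBridge

theorem exists_td_eq_zero {X Y : Scheme.{u}} (f : Y ⟶ X) [LocallyOfFiniteType f] (y1 : Y) :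
    ∃ y0 : Y, f y0 = f y1 ∧ FTDim.td f y0 = 0 := by
  obtain ⟨V, hV, hxV, -⟩ :=
    exists_isAffineOpen_mem_and_subset (X := X) (x := f y1) (U := ⊤) trivial
  obtain ⟨U, hU, hyU, hUV⟩ :=
    exists_isAffineOpen_mem_and_subset (X := Y) (x := y1) (U := f ⁻¹ᵁ V) hxV
  letI alg : Algebra Γ(X, V) Γ(Y, U) := (f.appLE V U hUV).hom.toAlgebra
  have halg : algebraMap Γ(X, V) Γ(Y, U) = (f.appLE V U hUV).hom := rfl
  haveI : Algebra.FiniteType Γ(X, V) Γ(Y, U) := f.finiteType_appLE hV hU hUV
  haveI hp1 : (hV.primeIdealOf ⟨f y1, hxV⟩).asIdeal.IsPrime := (hV.primeIdealOf _).isPrime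
  haveI hq1 : (hU.primeIdealOf ⟨y1, hyU⟩).asIdeal.IsPrime := (hU.primeIdealOf _).isPrime
  haveI : (hU.primeIdealOf ⟨y1, hyU⟩).asIdeal.LiesOver (hV.primeIdealOf ⟨f y1, hxV⟩).asIdeal :=
    ⟨(under_primeIdealOf f hU hV hUV y1 hyU halg).symm⟩
  obtain ⟨q, hqp, hql, halgq⟩ := AlgOver.exists_prime_over_isAlgebraic
    (hV.primeIdealOf ⟨f y1, hxV⟩).asIdeal (hU.primeIdealOf ⟨y1, hyU⟩).asIdeal
  have hy0U : hU.fromSpec ⟨q, hqp⟩ ∈ U := fromSpec_mem hU _
  have hq : q = (hU.primeIdealOf ⟨hU.fromSpec ⟨q, hqp⟩, hy0U⟩).asIdeal := by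
    rw [primeIdealOf_fromSpec]
  have hfy : f (hU.fromSpec ⟨q, hqp⟩) = f y1 := by
    have h1 := under_primeIdealOf f hU hV hUV (hU.fromSpec ⟨q, hqp⟩) hy0U halg
    rw [← hq] at h1
    have h2 : q.under Γ(X, V) = (hV.primeIdealOf ⟨f y1, hxV⟩).asIdeal := (hql.over).symm
    have h3 : hV.primeIdealOf ⟨f (hU.fromSpec ⟨q, hqp⟩), hUV hy0U⟩ =
        hV.primeIdealOf ⟨f y1, hxV⟩ := PrimeSpectrum.ext (h1.symm.trans h2)
    have h4 := hV.fromSpec_primeIdealOf ⟨f (hU.fromSpec ⟨q, hqp⟩), hUV hy0U⟩
    have h5 := hV.fromSpec_primeIdealOf ⟨f y1, hxV⟩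
    rw [h3] at h4
    exact h4.symm.trans h5
  refine ⟨hU.fromSpec ⟨q, hqp⟩, hfy, FTDim.td_eq f _ 0 ?_⟩
  -- the prime under q is the prime of f y0
  haveI : ((hV.primeIdealOf ⟨f y1, hxV⟩).asIdeal).IsPrime := hp1
  rw [trdeg_residueField_eq f hU hV hUV (hU.fromSpec ⟨q, hqp⟩) hy0U halg
    (hV.primeIdealOf ⟨f y1, hxV⟩).asIdeal q hq]
  rw [trdeg_eq_zero]
  simp

theorem main (k : Type u) [Field k] (X Y : Scheme.{u})
    [X.Over (Spec (CommRingCat.of k))] [IsProper (X ↘ (Spec (CommRingCat.of k)))]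
    [Y.Over (Spec (CommRingCat.of k))] [IsProper (Y ↘ (Spec (CommRingCat.of k)))]
    (f : Y ⟶ X) (hf : f ≫ (X ↘ (Spec (CommRingCat.of k))) = Y ↘ (Spec (CommRingCat.of k)))
    [Surjective f]
    (C : X.IdealSheafData) [IsIntegral C.subscheme]
    (hC : topologicalKrullDim (C.support : Set X) = 1) :
    ∃ C' : Y.IdealSheafData, IsIntegral C'.subscheme ∧
      topologicalKrullDim (C'.support : Set Y) = 1 ∧
      f.base '' (C'.support : Set Y) = (C.support : Set X) := by
  haveI : LocallyOfFiniteType (f ≫ (X ↘ (Spec (CommRingCat.of k)))) := by rw [hf]; infer_instance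
  haveI : LocallyOfFiniteType f := locallyOfFiniteType_of_comp f (X ↘ (Spec (CommRingCat.of k)))
  haveI : IsProper (f ≫ (X ↘ (Spec (CommRingCat.of k)))) := by rw [hf]; infer_instance
  haveI : IsProper f := IsProper.of_comp f (X ↘ (Spec (CommRingCat.of k)))
  -- generic point of C
  set η : X := C.subschemeι (genericPoint C.subscheme) with hη
  have hηC : closure ({η} : Set X) = (C.support : Set X) := by
    have h1 : closure ({η} : Set X) = C.subschemeι '' closure {genericPoint C.subscheme} := by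
      rw [← C.subschemeι.isClosedMap.closure_image_eq_of_continuous C.subschemeι.continuous,
        Set.image_singleton]
    rw [h1, (genericPoint_spec C.subscheme).def, Set.image_univ,
      Scheme.IdealSheafData.range_subschemeι]
  obtain ⟨y1, hy1⟩ := f.surjective η
  obtain ⟨y0, hy0, htd⟩ := exists_td_eq_zero f y1
  rw [hy1] at hy0
  let T : Closeds Y := ⟨closure {y0}, isClosed_closure⟩
  have hsupp : ((Scheme.IdealSheafData.vanishingIdeal T).support : Set Y) = closure {y0} :=
    Scheme.IdealSheafData.coe_support_vanishingIdeal T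
  refine ⟨Scheme.IdealSheafData.vanishingIdeal T, ?_, ?_, ?_⟩
  · have hrange : Set.range (Scheme.IdealSheafData.vanishingIdeal T).subschemeι = closure {y0} := by
      rw [Scheme.IdealSheafData.range_subschemeι]; exact hsupp
    have hy0mem : y0 ∈ Set.range (Scheme.IdealSheafData.vanishingIdeal T).subschemeι := by
      rw [hrange]; exact subset_closure rfl
    obtain ⟨z0, hz0⟩ := hy0mem
    have hcl : closure ({z0} : Set (Scheme.IdealSheafData.vanishingIdeal T).subscheme) = Set.univ := by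
      rw [(Scheme.IdealSheafData.vanishingIdeal T).subschemeι.isEmbedding.isInducing.closure_eq_preimage_closure_image,
        Set.image_singleton, hz0, ← hrange]
      exact Set.preimage_range _
    haveI : IrreducibleSpace (Scheme.IdealSheafData.vanishingIdeal T).subscheme := by
      rw [irreducibleSpace_def]
      change IsIrreducible (Set.univ : Set (Scheme.IdealSheafData.vanishingIdeal T).subscheme)
      rw [← hcl]
      exact isIrreducible_singleton.closure
    haveI := Groth.Agent.Helper15.isReduced_vanishingIdeal_subscheme T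
    exact isIntegral_of_irreducibleSpace_of_isReduced _
  · rw [hsupp, FTDim.dim_closure k (Y ↘ (Spec (CommRingCat.of k))) y0]
    have h1 : FTDim.td (Y ↘ (Spec (CommRingCat.of k))) y0 =
        FTDim.td (X ↘ (Spec (CommRingCat.of k))) η := by
      have := FTDim.td_comp f (X ↘ (Spec (CommRingCat.of k))) y0
      rw [htd, add_zero, hy0] at this
      rw [← this]
      congr 1
      exact hf.symm
    rw [h1, ← FTDim.dim_closure k (X ↘ (Spec (CommRingCat.of k))) η, hηC]
    exact hC
  · rw [hsupp, ← f.isClosedMap.closure_image_eq_of_continuous f.continuous, Set.image_singleton]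
    change closure {f y0} = _
    rw [hy0, hηC]

end Groth.Agent.Helper16.CurveLift
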