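import Mathlib
import Groth.Prelude.Def_Red2
import Groth.Agent.Lib.Helper16.Alg.MonAlgFree
import Groth.Agent.Lib.Helper17.AF8

/-!
# `D_S(φ)` is faithfully flat for injective `φ` (helper16)
-/

set_option autoImplicit false
set_option linter.style.haveILetI false
universe u
open CategoryTheory CategoryTheory.Limits AlgebraicGeometry MonoidalCategory
  CartesianMonoidalCategory MonObj GrpObj

noncomputable section

namespace Groth.Agent.Helper16.DSmapFF

/-- The functor `Over.pullback g` sends a morphism to a base change of it. -/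
theorem isPullback_overPullback_map {Y Z : Scheme.{u}} (g : Z ⟶ Y)
    {A B : Over Y} (f : A ⟶ B) :
    IsPullback ((Over.pullback g).map f).left (pullback.fst A.hom g) (pullback.fst B.hom g)
      f.left := by
  have hbig : IsPullback (pullback.fst A.hom g) (pullback.snd A.hom g) (f.left ≫ B.hom) g := by
    rw [Over.w f]
    exact IsPullback.of_hasPullback A.hom g
  have hright : IsPullback (pullback.fst B.hom g) (pullback.snd B.hom g) B.hom g :=
    IsPullback.of_hasPullback _ _
  have hl : ((Over.pullback g).map f).left ≫ pullback.snd B.hom g = pullback.snd A.hom g :=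
    pullback.lift_snd _ _ _
  have hf : ((Over.pullback g).map f).left ≫ pullback.fst B.hom g = pullback.fst A.hom g ≫ f.left :=
    pullback.lift_fst _ _ _
  refine IsPullback.of_right (t := hright.flip) ?_ hf
  rw [hl]
  exact hbig.flip

variable {M N : Type} [AddCommGroup M] [AddCommGroup N]

theorem diagMap_left (R : Type u) [CommRing R] (φ : M →+ N) :
    (Red.diagMap R φ).left = Spec.map (CommRingCat.ofHom
      (MonoidAlgebra.mapDomainAlgHom R R (AddMonoidHom.toMultiplicative φ)).toRingHom) := rfl

theorem flat_surjective_diagMap (R : Type u) [CommRing R] [Nontrivial R] (φ : M →+ N)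
    (hφ : Function.Injective φ) :
    Flat (Red.diagMap R φ).left ∧ Surjective (Red.diagMap R φ).left := by
  have h := (flat_and_surjective_SpecMap_iff (CommRingCat.ofHom
      (MonoidAlgebra.mapDomainAlgHom R R (AddMonoidHom.toMultiplicative φ)).toRingHom)).mpr
    (Groth.Agent.Helper16.MonAlgFree.faithfullyFlat_of_injective R
      (AddMonoidHom.toMultiplicative φ) hφ)
  exact h

/-- (FF1) for injective `φ : M → N`, the homomorphism `D_S(φ) : D_S(N) ⟶ D_S(M)` is flat and
surjective -/
theorem flat_surjective_DSmap (S : Scheme.{u}) (φ : M →+ N) (hφ : Function.Injective φ) :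
    Flat (Red.DSmap S φ).left ∧ Surjective (Red.DSmap S φ).left := by
  obtain ⟨h1, h2⟩ := flat_surjective_diagMap (ULift.{u} ℤ) φ hφ
  have hpb := isPullback_overPullback_map (Limits.IsTerminal.from specULiftZIsTerminal S)
    (Red.diagMap (ULift.{u} ℤ) φ)
  exact ⟨MorphismProperty.of_isPullback (P := @Flat) hpb.flip h1,
    MorphismProperty.of_isPullback (P := @Surjective) hpb.flip h2⟩

section Field

variable (k : Type u) [Field k]

/-- (FF2) over a field, `D_k(φ)` flat and surjective forces `φ` injective -/
theorem injective_of_flat_surjective_DSmap (φ : M →+ N)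
    (h : Flat (Red.DSmap (Spec (CommRingCat.of k)) φ).left ∧
      Surjective (Red.DSmap (Spec (CommRingCat.of k)) φ).left) : Function.Injective φ := by
  obtain ⟨h1, h2⟩ := h
  haveI : Epi (Red.DSmap (Spec (CommRingCat.of k)) φ).left :=
    Flat.epi_of_flat_of_surjective _
  haveI : Epi (Red.DSmap (Spec (CommRingCat.of k)) φ) := Over.epi_of_epi_left _
  let K : AddSubgroup M := φ.ker
  let ψ : K →+ M := K.subtype
  have hcomp : φ.comp ψ = 0 := by
    ext x
    exact x.2
  have e1 : Red.DSmap (Spec (CommRingCat.of k)) φ ≫ Red.DSmap (Spec (CommRingCat.of k)) ψ =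
      Red.DSmap (Spec (CommRingCat.of k)) φ ≫ Red.DSmap (Spec (CommRingCat.of k)) (0 : K →+ M) := by
    rw [Groth.Agent.Helper17.AF8.DSmap_comp, Groth.Agent.Helper17.AF8.DSmap_comp, hcomp]
    congr 1
    ext x
    simp
  have e2 := (cancel_epi _).mp e1
  have e3 : ψ = 0 := Groth.Agent.Helper17.AF8.DSmap_injective (k := k) e2
  rw [injective_iff_map_eq_zero]
  intro m hm
  have : ψ ⟨m, hm⟩ = 0 := by rw [e3]; rfl
  exact this

theorem flat_surjective_DSmap_iff (φ : M →+ N) :
    (Flat (Red.DSmap (Spec (CommRingCat.of k)) φ).left ∧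
      Surjective (Red.DSmap (Spec (CommRingCat.of k)) φ).left) ↔ Function.Injective φ :=
  ⟨injective_of_flat_surjective_DSmap k φ, flat_surjective_DSmap _ φ⟩

end Field

end Groth.Agent.Helper16.DSmapFF
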