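import Groth.Agent.Lib.Helper16.Sch.DenseOI
import Mathlib.AlgebraicGeometry.Morphisms.Immersion

set_option autoImplicit false
universe u
open CategoryTheory CategoryTheory.Limits AlgebraicGeometry

namespace Groth.Agent.Helper16.DenseOI

theorem injective_of_dense_immersions {X Y : Scheme.{u}} (f : X ⟶ Y) [IsSeparated f]
    {ι : Type*} (U : ι → X.Opens) (hU : ⨆ i, U i = ⊤) (hd : ∀ i, Dense (U i : Set X))
    (h : ∀ i, IsImmersion ((U i).ι ≫ f)) : Function.Injective f.base := by
  intro x x' hxx'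
  have hx : x ∈ ⨆ i, U i := by rw [hU]; trivial
  have hx' : x' ∈ ⨆ i, U i := by rw [hU]; trivial
  obtain ⟨i, hi⟩ := TopologicalSpace.Opens.mem_iSup.mp hx
  obtain ⟨j, hj⟩ := TopologicalSpace.Opens.mem_iSup.mp hx'
  haveI := h i
  haveI := h j
  obtain ⟨z, hz1, hz2⟩ := Scheme.Pullback.exists_preimage_pullback
    (f := (U i).ι ≫ f) (g := (U j).ι ≫ f) (⟨x, hi⟩ : (U i).toScheme) (⟨x', hj⟩ : (U j).toScheme)
    (by simpa using hxx')
  let p₁ : pullback ((U i).ι ≫ f) ((U j).ι ≫ f) ⟶ X := pullback.fst _ _ ≫ (U i).ι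
  let p₂ : pullback ((U i).ι ≫ f) ((U j).ι ≫ f) ⟶ X := pullback.snd _ _ ≫ (U j).ι
  have hp : p₁ ≫ f = p₂ ≫ f := by
    simp only [p₁, p₂, Category.assoc]
    exact pullback.condition
  let ιD : (U i ⊓ U j).toScheme ⟶ pullback ((U i).ι ≫ f) ((U j).ι ≫ f) :=
    pullback.lift (X.homOfLE inf_le_left) (X.homOfLE inf_le_right) (by simp)
  have hι₁ : ιD ≫ p₁ = (U i ⊓ U j).ι := by
    simp only [ιD, p₁, pullback.lift_fst_assoc, Scheme.homOfLE_ι]
  have hι₂ : ιD ≫ p₂ = (U i ⊓ U j).ι := by
    simp only [ιD, p₂, pullback.lift_snd_assoc, Scheme.homOfLE_ι]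
  haveI : IsImmersion p₁ := inferInstanceAs (IsImmersion (pullback.fst _ _ ≫ (U i).ι))
  haveI : IsDominant ιD := by
    refine ⟨dense_iff_inter_open.mpr fun O hO hne => ?_⟩
    obtain ⟨o, ho⟩ := hne
    obtain ⟨N, hN, rfl⟩ := (p₁.isEmbedding.isInducing.isOpen_iff).mp hO
    have hti : p₁.base o ∈ U i := by
      change (pullback.fst _ _ ≫ (U i).ι).base o ∈ U i
      rw [Scheme.Hom.comp_apply]
      exact ((pullback.fst ((U i).ι ≫ f) ((U j).ι ≫ f)).base o).2
    obtain ⟨t, ⟨htN, hti'⟩, htj⟩ := (hd j).inter_open_nonempty (N ∩ (U i : Set X))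
      (hN.inter (U i).2) ⟨_, ho, hti⟩
    refine ⟨ιD.base ⟨t, hti', htj⟩, ?_, ⟨_, rfl⟩⟩
    change p₁.base (ιD.base ⟨t, hti', htj⟩) ∈ N
    rw [← Scheme.Hom.comp_apply, hι₁]
    exact htN
  have key := apply_eq_of_isDominant_of_isSeparated f hp ιD (hι₁.trans hι₂.symm) z
  have e1 : p₁.base z = x := by
    change (pullback.fst _ _ ≫ (U i).ι).base z = x
    rw [Scheme.Hom.comp_apply, hz1]
    rfl
  have e2 : p₂.base z = x' := by
    change (pullback.snd _ _ ≫ (U j).ι).base z = x'
    rw [Scheme.Hom.comp_apply, hz2]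
    rfl
  rw [← e1, ← e2, key]

theorem isImmersion_of_dense_immersions {X Y : Scheme.{u}} (f : X ⟶ Y) [IsSeparated f]
    {ι : Type*} (U : ι → X.Opens) (hU : ⨆ i, U i = ⊤) (hd : ∀ i, Dense (U i : Set X))
    (h : ∀ i, IsImmersion ((U i).ι ≫ f)) : IsImmersion f := by
  have hinj := injective_of_dense_immersions f U hU hd h
  have hmem : ∀ x : X, ∃ i, x ∈ U i := fun x => by
    have hx : x ∈ ⨆ i, U i := by rw [hU]; trivial
    exact TopologicalSpace.Opens.mem_iSup.mp hx
  -- the images of the `U i`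
  have hrange : ∀ i, Set.range ((U i).ι ≫ f).base = f.base '' (U i : Set X) := by
    intro i
    ext y
    constructor
    · rintro ⟨x, rfl⟩
      exact ⟨(U i).ι.base x, x.2, rfl⟩
    · rintro ⟨x, hx, rfl⟩
      exact ⟨⟨x, hx⟩, rfl⟩
  have hcl : ∀ i, closure (f.base '' (U i : Set X)) = closure (Set.range f.base) := by
    intro i
    apply subset_antisymm (closure_mono (Set.image_subset_range _ _))
    rw [← Set.image_univ, ← (hd i).closure_eq]
    exact closure_minimal (image_closure_subset_closure_image f.continuous) isClosed_closure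
  have hlc : ∀ i, IsLocallyClosed (f.base '' (U i : Set X)) := by
    intro i
    rw [← hrange i]
    haveI := h i
    exact ((U i).ι ≫ f).isLocallyClosed_range
  -- `f '' U i = closure (range f) ∩ C i` with `C i` open
  have hC : ∀ i, f.base '' (U i : Set X) =
      closure (Set.range f.base) ∩ coborder (f.base '' (U i : Set X)) := by
    intro i
    rw [← hcl i, closure_inter_coborder]
  have hCo : ∀ i, IsOpen (coborder (f.base '' (U i : Set X))) := fun i => (hlc i).isOpen_coborder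
  have hpre : ∀ i, f.base ⁻¹' (coborder (f.base '' (U i : Set X))) = (U i : Set X) := by
    intro i
    ext x
    constructor
    · intro hx
      have : f.base x ∈ f.base '' (U i : Set X) := by
        rw [hC i]
        exact ⟨subset_closure ⟨x, rfl⟩, hx⟩
      obtain ⟨x', hx', e⟩ := this
      rwa [← hinj e]
    · intro hx
      exact subset_coborder ⟨x, hx, rfl⟩
  have hst : SurjectiveOnStalks f := by
    refine ⟨fun x => ?_⟩
    obtain ⟨i, hi⟩ := hmem x
    haveI := h i
    have h1 := ((U i).ι ≫ f).stalkMap_surjective (⟨x, hi⟩ : (U i).toScheme)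
    rw [Scheme.Hom.stalkMap_comp] at h1
    have h2 : IsIso ((U i).ι.stalkMap (⟨x, hi⟩ : (U i).toScheme)) := inferInstance
    have h3 : Function.Bijective ((U i).ι.stalkMap (⟨x, hi⟩ : (U i).toScheme)) :=
      ConcreteCategory.bijective_of_isIso _
    intro t
    obtain ⟨s, hs⟩ := h1 (((U i).ι.stalkMap (⟨x, hi⟩ : (U i).toScheme)) t)
    exact ⟨s, h3.1 hs⟩
  have hemb : Topology.IsEmbedding f.base := by
    refine ⟨⟨?_⟩, hinj⟩
    apply le_antisymm f.continuous.le_induced
    intro O hO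
    have hOi : ∀ i, ∃ N : Set Y, IsOpen N ∧ f.base ⁻¹' N ∩ (U i : Set X) = O ∩ (U i : Set X) := by
      intro i
      haveI := h i
      have : IsOpen ((U i).ι.base ⁻¹' O) := (U i).ι.continuous.isOpen_preimage O hO
      obtain ⟨N, hN, hNe⟩ := (((U i).ι ≫ f).isEmbedding.isInducing.isOpen_iff).mp this
      refine ⟨N, hN, ?_⟩
      ext x
      constructor
      · rintro ⟨hxN, hxi⟩
        have : (⟨x, hxi⟩ : (U i).toScheme) ∈ ((U i).ι ≫ f).base ⁻¹' N := hxN
        rw [hNe] at this
        exact ⟨this, hxi⟩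
      · rintro ⟨hxO, hxi⟩
        have : (⟨x, hxi⟩ : (U i).toScheme) ∈ (U i).ι.base ⁻¹' O := hxO
        rw [← hNe] at this
        exact ⟨this, hxi⟩
    choose N hN hNe using hOi
    refine ⟨⋃ i, N i ∩ coborder (f.base '' (U i : Set X)), isOpen_iUnion fun i =>
      (hN i).inter (hCo i), ?_⟩
    ext x
    simp only [Set.preimage_iUnion, Set.preimage_inter, Set.mem_iUnion, Set.mem_inter_iff,
      Set.mem_preimage]
    constructor
    · rintro ⟨i, hxN, hxC⟩
      have hxi : x ∈ (U i : Set X) := by rw [← hpre i]; exact hxC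
      exact ((hNe i).subset ⟨hxN, hxi⟩).1
    · intro hxO
      obtain ⟨i, hi⟩ := hmem x
      have := (hNe i).superset ⟨hxO, hi⟩
      exact ⟨i, this.1, by rw [← Set.mem_preimage, hpre i]; exact hi⟩
  have hpre' : IsPreimmersion f := { hst with isEmbedding := hemb }
  refine { hpre' with isLocallyClosed_range := ?_ }
  · have : Set.range f.base = closure (Set.range f.base) ∩
        ⋃ i, coborder (f.base '' (U i : Set X)) := by
      ext y
      constructor
      · rintro ⟨x, rfl⟩
        obtain ⟨i, hi⟩ := hmem x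
        exact ⟨subset_closure ⟨x, rfl⟩, Set.mem_iUnion.mpr ⟨i, subset_coborder ⟨x, hi, rfl⟩⟩⟩
      · rintro ⟨hy, hy'⟩
        obtain ⟨i, hi⟩ := Set.mem_iUnion.mp hy'
        have : y ∈ f.base '' (U i : Set X) := by rw [hC i]; exact ⟨hy, hi⟩
        exact Set.image_subset_range _ _ this
    rw [this]
    exact isClosed_closure.isLocallyClosed.inter (isOpen_iUnion hCo).isLocallyClosed

end Groth.Agent.Helper16.DenseOI
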