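import Mathlib.AlgebraicGeometry.Morphisms.Separated
import Mathlib.AlgebraicGeometry.PullbackCarrier
import Mathlib.AlgebraicGeometry.Morphisms.OpenImmersion

set_option autoImplicit false
universe u
open CategoryTheory CategoryTheory.Limits AlgebraicGeometry

namespace Groth.Agent.Helper16.DenseOI

/-- Two morphisms to `Y` agreeing over a separated `s : Y ⟶ Z` and on a dominant `ι` agree on
points. -/
theorem apply_eq_of_isDominant_of_isSeparated {W X Y Z : Scheme.{u}} {f g : X ⟶ Y}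
    (s : Y ⟶ Z) [IsSeparated s] (h : f ≫ s = g ≫ s)
    (ι : W ⟶ X) [IsDominant ι] (hU : ι ≫ f = ι ≫ g) (x : X) : f.base x = g.base x := by
  let X' : Over Z := Over.mk (f ≫ s)
  let Y' : Over Z := Over.mk s
  let U' : Over Z := Over.mk (ι ≫ f ≫ s)
  let f' : X' ⟶ Y' := Over.homMk f
  let g' : X' ⟶ Y' := Over.homMk g
  let ι' : U' ⟶ X' := Over.homMk ι
  have : IsSeparated Y'.hom := ‹_›
  have : IsDominant (equalizer.ι f' g').left := by
    apply +allowSynthFailures IsDominant.of_comp (equalizer.lift ι' ?_).left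
    · rwa [← Over.comp_left, equalizer.lift_ι]
    · ext1; exact hU
  have : Surjective (equalizer.ι f' g').left :=
    surjective_of_isDominant_of_isClosed_range _ (Scheme.Hom.isClosedEmbedding _).isClosed_range
  obtain ⟨e, rfl⟩ := (equalizer.ι f' g').left.surjective x
  have := congr($(equalizer.condition f' g').left)
  change (equalizer.ι f' g').left ≫ f = (equalizer.ι f' g').left ≫ g at this
  rw [← Scheme.Hom.comp_apply, ← Scheme.Hom.comp_apply, this]

theorem injective_of_dense_openImmersions {X Y : Scheme.{u}} (f : X ⟶ Y) [IsSeparated f]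
    {ι : Type*} (U : ι → X.Opens) (hU : ⨆ i, U i = ⊤) (hd : ∀ i, Dense (U i : Set X))
    (h : ∀ i, IsOpenImmersion ((U i).ι ≫ f)) : Function.Injective f.base := by
  intro x x' hxx'
  have hx : x ∈ ⨆ i, U i := by rw [hU]; trivial
  have hx' : x' ∈ ⨆ i, U i := by rw [hU]; trivial
  obtain ⟨i, hi⟩ := TopologicalSpace.Opens.mem_iSup.mp hx
  obtain ⟨j, hj⟩ := TopologicalSpace.Opens.mem_iSup.mp hx'
  haveI := h i
  haveI := h j
  obtain ⟨z, hz1, hz2⟩ := Scheme.Pullback.exists_preimage_pullback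
    (f := (U i).ι ≫ f) (g := (U j).ι ≫ f) (⟨x, hi⟩ : (U i).toScheme) (⟨x', hj⟩ : (U j).toScheme)
    (by simpa using hxx')
  let p₁ : pullback ((U i).ι ≫ f) ((U j).ι ≫ f) ⟶ X := pullback.fst _ _ ≫ (U i).ι
  let p₂ : pullback ((U i).ι ≫ f) ((U j).ι ≫ f) ⟶ X := pullback.snd _ _ ≫ (U j).ι
  have hp : p₁ ≫ f = p₂ ≫ f := by
    simp only [p₁, p₂, Category.assoc]
    exact pullback.condition
  let ιD : (U i ⊓ U j).toScheme ⟶ pullback ((U i).ι ≫ f) ((U j).ι ≫ f) :=
    pullback.lift (X.homOfLE inf_le_left) (X.homOfLE inf_le_right) (by simp)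
  have hι₁ : ιD ≫ p₁ = (U i ⊓ U j).ι := by
    simp only [ιD, p₁, pullback.lift_fst_assoc, Scheme.homOfLE_ι]
  have hι₂ : ιD ≫ p₂ = (U i ⊓ U j).ι := by
    simp only [ιD, p₂, pullback.lift_snd_assoc, Scheme.homOfLE_ι]
  haveI : IsDominant ιD := by
    refine ⟨dense_iff_inter_open.mpr fun O hO hne => ?_⟩
    obtain ⟨o, ho⟩ := hne
    -- image of `O` in `X` under the open immersion `p₁`
    have hopen : IsOpen (p₁.base '' O) := p₁.isOpenEmbedding.isOpenMap O hO
    obtain ⟨t, ⟨o', ho', rfl⟩, htj⟩ := (hd j).inter_open_nonempty _ hopen ⟨_, o, ho, rfl⟩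
    have hti : p₁.base o' ∈ U i := by
      change (pullback.fst _ _ ≫ (U i).ι).base o' ∈ U i
      rw [Scheme.Hom.comp_apply]
      exact ((pullback.fst ((U i).ι ≫ f) ((U j).ι ≫ f)).base o').2
    refine ⟨o', ho', ⟨⟨p₁.base o', hti, htj⟩, ?_⟩⟩
    apply p₁.isOpenEmbedding.injective
    rw [← Scheme.Hom.comp_apply, hι₁]
    rfl
  have key := apply_eq_of_isDominant_of_isSeparated f hp ιD (hι₁.trans hι₂.symm) z
  have e1 : p₁.base z = x := by
    change (pullback.fst _ _ ≫ (U i).ι).base z = x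
    rw [Scheme.Hom.comp_apply, hz1]
    rfl
  have e2 : p₂.base z = x' := by
    change (pullback.snd _ _ ≫ (U j).ι).base z = x'
    rw [Scheme.Hom.comp_apply, hz2]
    rfl
  rw [← e1, ← e2, key]

theorem isOpenImmersion_of_dense_openImmersions {X Y : Scheme.{u}} (f : X ⟶ Y) [IsSeparated f]
    {ι : Type*} (U : ι → X.Opens) (hU : ⨆ i, U i = ⊤) (hd : ∀ i, Dense (U i : Set X))
    (h : ∀ i, IsOpenImmersion ((U i).ι ≫ f)) : IsOpenImmersion f := by
  rw [isOpenImmersion_iff_stalk]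
  have hinj := injective_of_dense_openImmersions f U hU hd h
  have hmem : ∀ x : X, ∃ i, x ∈ U i := fun x => by
    have hx : x ∈ ⨆ i, U i := by rw [hU]; trivial
    exact TopologicalSpace.Opens.mem_iSup.mp hx
  refine ⟨Topology.IsOpenEmbedding.of_continuous_injective_isOpenMap f.continuous hinj ?_, fun x => ?_⟩
  · intro O hO
    have : f.base '' O = ⋃ i, ((U i).ι ≫ f).base '' ((U i).ι.base ⁻¹' O) := by
      ext y
      simp only [Set.mem_image, Set.mem_iUnion, Set.mem_preimage]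
      constructor
      · rintro ⟨x, hxO, rfl⟩
        obtain ⟨i, hi⟩ := hmem x
        exact ⟨i, ⟨x, hi⟩, hxO, rfl⟩
      · rintro ⟨i, x, hxO, rfl⟩
        exact ⟨(U i).ι.base x, hxO, rfl⟩
    rw [this]
    refine isOpen_iUnion fun i => ?_
    haveI := h i
    exact ((U i).ι ≫ f).isOpenEmbedding.isOpenMap _ ((U i).ι.continuous.isOpen_preimage O hO)
  · obtain ⟨i, hi⟩ := hmem x
    haveI := h i
    have h1 : IsIso (((U i).ι ≫ f).stalkMap (⟨x, hi⟩ : (U i).toScheme)) := inferInstance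
    rw [Scheme.Hom.stalkMap_comp] at h1
    have h2 : IsIso ((U i).ι.stalkMap (⟨x, hi⟩ : (U i).toScheme)) := inferInstance
    exact @IsIso.of_isIso_comp_right _ _ _ _ _ (f.stalkMap ((U i).ι.base ⟨x, hi⟩))
      ((U i).ι.stalkMap (⟨x, hi⟩ : (U i).toScheme)) h2 h1

end Groth.Agent.Helper16.DenseOI
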