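import Mathlib
import Groth.Prelude
import Groth.Agent.Lib.Helper16.Sch.CMSch3
import Groth.Agent.Lib.Helper16.Sch.CMDim
import Groth.Agent.Lib.Helper16.Sch.FTDim1
import Groth.Agent.Lib.Helper14.EquidimAtMk
import Groth.Agent.Lib.Helper14.FibreMax
import Groth.Agent.Lib.Helper15.AlgSpFinLocFree

set_option autoImplicit false
set_option linter.style.haveILetI false
set_option linter.unusedSectionVars false
universe u

open AlgebraicGeometry CategoryTheory Limits IsLocalRing TopologicalSpace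

namespace Groth.Agent.Helper16.EqCM

open Groth.Agent.Helper16.FTDim

/-- **EGA IV 15.4.?**: flat at `x` with Cohen–Macaulay fibre local ring implies equidimensional at
`x` (locally Noetherian base). -/
theorem isEquidimAt_of_flat_of_fibCM {X Y : Scheme.{u}} [IsLocallyNoetherian Y] (f : X ⟶ Y)
    [LocallyOfFiniteType f] (x : X) (hflat : (f.stalkMap x).hom.Flat)
    (hCM : LocCoh.IsCohenMacaulayLocalRing ((f.fiber (f.base x)).presheaf.stalk (f.asFiber x))) :
    EGA43.IsEquidimAt f x := by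
  haveI : LocallyOfFinitePresentation f :=
    Groth.Agent.Helper15.lfp_of_lft_of_isLocallyNoetherian f
  haveI : IsLocallyNoetherian X := LocallyOfFiniteType.isLocallyNoetherian f
  obtain ⟨n, U₀, hxU₀, g, hcomm, hqf, hfl⟩ :=
    Groth.Agent.Helper16.CMSch.exists_qf_flat_to_affineSpace f x ⟨hflat, hCM⟩
  haveI := hqf
  haveI := hfl
  obtain ⟨U₁, hxU₁, hU₁⟩ := Groth.Agent.Helper14.EquidimAt.exists_nhd_maximal_specializes x
  refine Groth.Agent.Helper14.EquidimAt.of_spec f x n (U₀ ⊓ U₁) ⟨hxU₀, hxU₁⟩ ?_ ?_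
  · intro ξ hξ hξmax
    refine ⟨?_, (hU₁ ξ hξ.2 hξmax).map f.continuous⟩
    intro η' hη'
    haveI : Flat (U₀.ι ≫ f) := by
      rw [← hcomm]; infer_instance
    have hgen : GeneralizingMap (U₀.ι ≫ f).base := Flat.generalizingMap _
    obtain ⟨ξ', hξ', hfξ'⟩ := hgen (a := (⟨ξ, hξ.1⟩ : U₀)) (b := η') hη'
    have h1 : U₀.ι ξ' = ξ := hξmax _ (hξ'.map U₀.ι.continuous)
    rw [← hfξ']
    change f (U₀.ι ξ') = f ξ
    rw [h1]
  · intro z hz hzmax
    have h1 := Groth.Agent.Helper16.CMSch.fibreDimAt_eq_of_qf_flat f n U₀ g hcomm z hz.1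
      (Flat.stalkMap g ⟨z, hz.1⟩)
    have h2 := Groth.Agent.Helper14.FibreMax.fibreDimAt_eq_of_maximal f z hzmax (td f z)
      (td_spec f z)
    rw [td_spec f z]
    have h3 : ((td f z : ℕ) : WithBot ℕ∞) = ((n : ℕ) : WithBot ℕ∞) := h2.symm.trans h1
    have h4 : td f z = n := by exact_mod_cast h3
    rw [h4]

end Groth.Agent.Helper16.EqCM
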