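import Mathlib
import Groth.Agent.Lib.Helper16.Sch.FibCl4

set_option autoImplicit false
set_option linter.style.haveILetI false
universe u
open CategoryTheory CategoryTheory.Limits AlgebraicGeometry Opposite TopologicalSpace Topology

noncomputable section

namespace Groth.Agent.Helper16.FibCl

open Groth.Agent.Helper14 Groth.Agent.Helper16.GenSurj

/-- fibrewise closures commute with base change -/
theorem fibCl_preimage_of_isPullback {X S X' S' : Scheme.{u}} {f : X ⟶ S} {g : S' ⟶ S}
    {g' : X' ⟶ X} {f' : X' ⟶ S'} (hsq : IsPullback g' f' f g) (E : Set X) :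
    fibCl f' (g' ⁻¹' E) = g' ⁻¹' (fibCl f E) := by
  ext x'
  have key := UOpenFam.closure_fibre_bc hsq E (f' x')
  have hw : g (f' x') = f (g' x') := by
    rw [← Scheme.Hom.comp_apply, ← Scheme.Hom.comp_apply, hsq.w]
  constructor
  · intro hx
    have : x' ∈ f' ⁻¹' {f' x'} ∩ closure (g' ⁻¹' E ∩ f' ⁻¹' {f' x'}) := ⟨rfl, hx⟩
    rw [key] at this
    have h2 := this.2
    rw [Set.mem_preimage, hw] at h2
    exact h2
  · intro hx
    have : x' ∈ f' ⁻¹' {f' x'} ∩ g' ⁻¹' (closure (E ∩ f ⁻¹' {g (f' x')})) := by
      refine ⟨rfl, ?_⟩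
      rw [Set.mem_preimage, hw]
      exact hx
    rw [← key] at this
    exact this.2

variable {X S : Scheme.{u}}

/-- **Fibrewise closures of constructible sets are constructible** (Noetherian case). -/
theorem isConstructible_fibCl_of_noetherian (f : X ⟶ S) [LocallyOfFiniteType f] [QuasiCompact f]
    [NoetherianSpace X] [NoetherianSpace S] (E : Set X) (hE : IsConstructible E) :
    IsConstructible (fibCl f E) := by
  have key : ∀ Z : Set S, IsClosed Z → IsConstructible (fibCl f E ∩ f ⁻¹' Z) := by
    apply Groth.Agent.Helper4.Constr.noeth_induction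
    · intro Z hZ hZi IH
      obtain ⟨S', i, hi, hri⟩ := exists_closedImmersion_range_eq Z hZ
      haveI := hi
      haveI : IrreducibleSpace S' := by
        rw [irreducibleSpace_def]
        apply SectionComp.isIrreducible_of_image _ i.isEmbedding.isInducing
        rw [Set.top_eq_univ, Set.image_univ, hri]
        exact hZi
      let f' := pullback.snd f i
      let g' := pullback.fst f i
      have hsq : IsPullback g' f' f i := IsPullback.of_hasPullback f i
      have hrg : Set.range g' = f ⁻¹' Z := by
        rw [← hri]; exact Scheme.Pullback.range_fst f i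
      haveI : NoetherianSpace ↥(pullback f i) := g'.isEmbedding.isInducing.noetherianSpace
      have hE' : IsConstructible (g' ⁻¹' E) := g'.isConstructible_preimage hE
      obtain ⟨V', hV', C', hC', H⟩ := genDesc_of_isConstructible f' (g' ⁻¹' E) hE'
      rw [fibCl_preimage_of_isPullback hsq] at H
      obtain ⟨O, hO, hOV⟩ := i.isEmbedding.isInducing.isOpen_iff.mp V'.isOpen
      have hIH := IH (Z ∩ Oᶜ) (hZ.inter hO.isClosed_compl) (by
        refine ⟨Set.inter_subset_left, fun hsub => ?_⟩
        have h1 : i (genericPoint S') ∈ Z := by rw [← hri]; exact ⟨_, rfl⟩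
        have h2 : i (genericPoint S') ∈ O := by
          have : genericPoint S' ∈ i ⁻¹' O := by rw [hOV]; exact hV'
          exact this
        exact (hsub h1).2 h2)
      have hsecond : fibCl f E ∩ f ⁻¹' (Z ∩ O) = g' '' C' ∩ f ⁻¹' O := by
        ext x
        constructor
        · rintro ⟨hxf, hxZ, hxO⟩
          have : x ∈ Set.range g' := by rw [hrg]; exact hxZ
          obtain ⟨x', rfl⟩ := this
          have hfx' : f' x' ∈ V' := by
            have : f' x' ∈ i ⁻¹' O := by
              show i (f' x') ∈ O
              rw [← Scheme.Hom.comp_apply, ← hsq.w, Scheme.Hom.comp_apply]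
              exact hxO
            rw [hOV] at this
            exact this
          exact ⟨⟨x', (H x' hfx').mp hxf, rfl⟩, hxO⟩
        · rintro ⟨⟨x', hx'C, rfl⟩, hxO⟩
          have hfx' : f' x' ∈ V' := by
            have : f' x' ∈ i ⁻¹' O := by
              show i (f' x') ∈ O
              rw [← Scheme.Hom.comp_apply, ← hsq.w, Scheme.Hom.comp_apply]
              exact hxO
            rw [hOV] at this
            exact this
          refine ⟨(H x' hfx').mpr hx'C, ?_, hxO⟩
          have : g' x' ∈ Set.range g' := ⟨x', rfl⟩
          rw [hrg] at this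
          exact this
      have hsplit : fibCl f E ∩ f ⁻¹' Z =
          (fibCl f E ∩ f ⁻¹' (Z ∩ Oᶜ)) ∪ (fibCl f E ∩ f ⁻¹' (Z ∩ O)) := by
        ext x
        simp only [Set.mem_inter_iff, Set.mem_preimage, Set.mem_union, Set.mem_compl_iff]
        tauto
      rw [hsplit, hsecond]
      refine hIH.union (IsConstructible.inter ?_ ?_)
      · exact Groth.Agent.Helper4.Constr.isConstructible_of_isClosed
          (g'.isClosedEmbedding.isClosedMap _ hC')
      · exact Groth.Agent.Helper4.Constr.isConstructible_of_isOpen (hO.preimage f.continuous)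
    · intro 𝒮 h𝒮f _ h𝒮
      rw [Set.preimage_sUnion, Set.inter_iUnion₂]
      exact IsConstructible.biUnion h𝒮f h𝒮
  have := key Set.univ isClosed_univ
  simpa using this

end Groth.Agent.Helper16.FibCl
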