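import Mathlib
import Groth.Agent.Lib.Helper16.Sch.FibCl5
import Groth.Agent.Lib.Helper16.Sch.ConsFD5

set_option autoImplicit false
set_option linter.style.haveILetI false
universe u
open CategoryTheory CategoryTheory.Limits AlgebraicGeometry Opposite TopologicalSpace Topology

noncomputable section

namespace Groth.Agent.Helper16.FibCl

open Groth.Agent.Helper14 Groth.Agent.Helper21.FS Groth.Agent.Helper16.ConsFD

/-- A finitely presented algebra is the base change of a finitely presented algebra over a
finite type `ℤ`-algebra, such that finitely many given elements come from the model. -/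
theorem exists_model_finset (R B : Type u) [CommRing R] [CommRing B] [Algebra R B]
    [Algebra.FinitePresentation R B] (T : Finset B) :
    ∃ (R₀ : Type u) (_ : CommRing R₀) (_ : Algebra R₀ R) (B₀ : Type u) (_ : CommRing B₀)
      (_ : Algebra R₀ B₀) (_ : Algebra B₀ B) (_ : Algebra R₀ B) (_ : IsScalarTower R₀ R B)
      (_ : IsScalarTower R₀ B₀ B),
      Algebra.FiniteType ℤ R₀ ∧ Algebra.FinitePresentation R₀ B₀ ∧
        Algebra.IsPushout R₀ R B₀ B ∧ ∀ t ∈ T, t ∈ Set.range (algebraMap B₀ B) := by
  classical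
  let P := Algebra.Presentation.ofFinitePresentation R B
  let coef : Set R := P.coeffs ∪ ⋃ t ∈ T, ((P.σ t).coeffs : Set R)
  have hcoef : coef.Finite :=
    P.finite_coeffs.union (T.finite_toSet.biUnion fun t _ => (P.σ t).coeffs.finite_toSet)
  let A : Subalgebra ℤ R := Algebra.adjoin ℤ coef
  haveI : P.HasCoeffs A :=
    ⟨fun x hx => ⟨⟨x, Algebra.subset_adjoin (Or.inl hx)⟩, rfl⟩⟩
  haveI : Algebra.FiniteType ℤ A := Algebra.FiniteType.adjoin_of_finite hcoef
  let S₁ := P.ModelOfHasCoeffs A
  letI : Algebra S₁ B := modelAlgebra P A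
  haveI : IsScalarTower A S₁ B := model_isScalarTower P A
  haveI : Algebra.IsPushout A R S₁ B := model_isPushout P A
  refine ⟨A, inferInstance, inferInstance, S₁, inferInstance, inferInstance, inferInstance,
    inferInstance, inferInstance, inferInstance, inferInstance, ?_, inferInstance, ?_⟩
  · infer_instance
  · intro t ht
    have hsub : ((P.σ t).coeffs : Set R) ⊆ Set.range (algebraMap A R) := by
      intro x hx
      refine ⟨⟨x, Algebra.subset_adjoin (Or.inr ?_)⟩, rfl⟩
      simp only [Set.mem_iUnion]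
      exact ⟨t, ht, hx⟩
    obtain ⟨q, hq⟩ := MvPolynomial.mem_range_map_iff_coeffs_subset.mpr hsub
    refine ⟨Ideal.Quotient.mk _ q, ?_⟩
    rw [modelAlgebra_mk, ← MvPolynomial.aeval_map_algebraMap (R := A) (A := R) (B := B), hq]
    exact P.aeval_val_σ t

open PrimeSpectrum in
theorem exists_basicConstructibleSetData_map {B₀ B : Type u} [CommRing B₀] [CommRing B]
    (φ : B₀ →+* B) (c : BasicConstructibleSetData B) (hf : c.f ∈ Set.range φ)
    (hg : ∀ i, c.g i ∈ Set.range φ) : ∃ c₀ : BasicConstructibleSetData B₀, c₀.map φ = c := by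
  choose g₀ hg₀ using hg
  obtain ⟨f₀, hf₀⟩ := hf
  refine ⟨⟨f₀, c.n, g₀⟩, ?_⟩
  obtain ⟨f, n, g⟩ := c
  simp only [BasicConstructibleSetData.map, BasicConstructibleSetData.mk.injEq, heq_eq_eq,
    true_and]
  refine ⟨hf₀, ?_⟩
  ext i
  exact hg₀ i

/-- **Fibrewise closures of constructible sets are constructible** (affine case). -/
theorem isConstructible_fibCl_Spec (R B : Type u) [CommRing R] [CommRing B] [Algebra R B]
    [Algebra.FinitePresentation R B] (E : Set (Spec (.of B))) (hE : IsConstructible E) :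
    IsConstructible (fibCl (Spec.map (CommRingCat.ofHom (algebraMap R B))) E) := by
  classical
  obtain ⟨C, hC⟩ := PrimeSpectrum.exists_constructibleSetData_iff.mpr hE
  let T : Finset B := C.biUnion fun c => insert c.f (Finset.univ.image c.g)
  obtain ⟨R₀, _, _, B₀, _, _, _, _, _, _, hR₀, hB₀, hpo, hT⟩ := exists_model_finset R B T
  have hsq := isPullback_of_isPushout R₀ R B₀ B hpo
  have hc₀ : ∀ c ∈ C, ∃ c₀ : PrimeSpectrum.BasicConstructibleSetData B₀,
      c₀.map (algebraMap B₀ B) = c := by
    intro c hc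
    apply exists_basicConstructibleSetData_map
    · apply hT
      simp only [T, Finset.mem_biUnion]
      exact ⟨c, hc, Finset.mem_insert_self _ _⟩
    · intro i
      apply hT
      simp only [T, Finset.mem_biUnion]
      exact ⟨c, hc, Finset.mem_insert_of_mem (Finset.mem_image_of_mem _ (Finset.mem_univ i))⟩
  haveI : Nonempty (PrimeSpectrum.BasicConstructibleSetData B₀) := ⟨⟨0, 0, fun _ => 0⟩⟩
  choose! c₀ hc₀ using hc₀
  let E₀ : Set (Spec (.of B₀)) := ⋃ c ∈ C, (c₀ c).toSet
  have hE₀ : IsConstructible E₀ := by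
    refine IsConstructible.biUnion C.finite_toSet fun c _ => ?_
    have := PrimeSpectrum.ConstructibleSetData.isConstructible_toSet
      ({c₀ c} : PrimeSpectrum.ConstructibleSetData B₀)
    simp only [PrimeSpectrum.ConstructibleSetData.toSet, Finset.mem_singleton,
      Set.iUnion_iUnion_eq_left] at this
    exact this
  have hEE₀ : E = (Spec.map (CommRingCat.ofHom (algebraMap B₀ B))) ⁻¹' E₀ := by
    rw [← hC]
    show C.toSet = PrimeSpectrum.comap (algebraMap B₀ B) ⁻¹' (⋃ c ∈ C, (c₀ c).toSet)
    rw [Set.preimage_iUnion₂]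
    unfold PrimeSpectrum.ConstructibleSetData.toSet
    refine Set.iUnion₂_congr fun c hc => ?_
    rw [← PrimeSpectrum.BasicConstructibleSetData.toSet_map, hc₀ c hc]
  haveI : IsNoetherianRing R₀ := Algebra.FiniteType.isNoetherianRing ℤ R₀
  haveI : IsNoetherianRing B₀ := Algebra.FiniteType.isNoetherianRing R₀ B₀
  haveI : LocallyOfFiniteType (Spec.map (CommRingCat.ofHom (algebraMap R₀ B₀))) := by
    rw [HasRingHomProperty.Spec_iff (P := @LocallyOfFiniteType)]
    exact RingHom.finiteType_algebraMap.mpr inferInstance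
  haveI : NoetherianSpace (Spec (.of B₀)) := inferInstanceAs (NoetherianSpace (PrimeSpectrum B₀))
  haveI : NoetherianSpace (Spec (.of R₀)) := inferInstanceAs (NoetherianSpace (PrimeSpectrum R₀))
  have h1 := isConstructible_fibCl_of_noetherian
    (Spec.map (CommRingCat.ofHom (algebraMap R₀ B₀))) E₀ hE₀
  have h2 := (Spec.map (CommRingCat.ofHom (algebraMap B₀ B))).isConstructible_preimage h1
  rw [hEE₀, fibCl_preimage_of_isPullback hsq]
  exact h2

end Groth.Agent.Helper16.FibCl
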