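import Mathlib
import Groth.Agent.Lib.Helper16.Sch.FibCl6

set_option autoImplicit false
set_option linter.style.haveILetI false
universe u
open CategoryTheory CategoryTheory.Limits AlgebraicGeometry Opposite TopologicalSpace Topology

noncomputable section

namespace Groth.Agent.Helper16.FibCl

open Groth.Agent.Helper14 Groth.Agent.Helper16.ConsFD

variable {X S : Scheme.{u}}

theorem isConstructible_fibCl_SpecMap {R B : CommRingCat.{u}} (φ : R ⟶ B)
    (hφ : φ.hom.FinitePresentation) (E : Set (Spec B)) (hE : IsConstructible E) :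
    IsConstructible (fibCl (Spec.map φ) E) := by
  letI := φ.hom.toAlgebra
  haveI : Algebra.FinitePresentation R B := hφ
  exact isConstructible_fibCl_Spec R B E hE

/-- **Fibrewise closures of locally constructible sets are locally constructible**, for a
morphism locally of finite presentation. -/
theorem isLocallyConstructible_fibCl (f : X ⟶ S) [LocallyOfFinitePresentation f] (E : Set X)
    (hE : IsLocallyConstructible E) : IsLocallyConstructible (fibCl f E) := by
  intro x
  obtain ⟨_, ⟨W, hW, rfl⟩, hxW, -⟩ := S.isBasis_affineOpens.exists_subset_of_mem_open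
    (Set.mem_univ (f x)) isOpen_univ
  have hW : IsAffineOpen W := hW
  obtain ⟨_, ⟨U, hU, rfl⟩, hxU, e⟩ := X.isBasis_affineOpens.exists_subset_of_mem_open
    (show x ∈ f ⁻¹ᵁ W from hxW) (f ⁻¹ᵁ W).isOpen
  have hU : IsAffineOpen U := hU
  have e : U ≤ f ⁻¹ᵁ W := e
  refine ⟨U, U.isOpen.mem_nhds hxU, U.isOpen, ?_⟩
  have hφ : (f.appLE W U e).hom.FinitePresentation :=
    HasRingHomProperty.appLE (P := @LocallyOfFinitePresentation) f inferInstance ⟨W, hW⟩ ⟨U, hU⟩ e
  have hE' : IsConstructible (hU.fromSpec ⁻¹' E) :=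
    (hE.preimage_of_isOpenEmbedding hU.fromSpec.isOpenEmbedding).isConstructible
  have hc := isConstructible_fibCl_SpecMap (f.appLE W U e) hφ _ hE'
  have hsq := IsAffineOpen.SpecMap_appLE_fromSpec f hW hU e
  have h1 : fibCl (Spec.map (f.appLE W U e)) (hU.fromSpec ⁻¹' E) =
      hU.fromSpec ⁻¹' (fibCl f E) := by
    rw [← fibCl_preimage_of_isOpenEmbedding f hU.fromSpec.isOpenEmbedding E,
      ← fibCl_comp_injective (Spec.map (f.appLE W U e)) hW.fromSpec.isOpenEmbedding.injective]
    congr 1
    ext z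
    simp only [Function.comp_apply]
    rw [← Scheme.Hom.comp_apply, ← Scheme.Hom.comp_apply, hsq]
  rw [h1] at hc
  have hpre := hc.preimage_of_isOpenEmbedding hU.isoSpec.hom.isOpenEmbedding
  refine (congrArg IsConstructible (Set.ext fun u => ?_)).mpr hpre
  show u.1 ∈ fibCl f E ↔ hU.fromSpec (hU.isoSpec.hom u) ∈ fibCl f E
  have h3 : hU.fromSpec (hU.isoSpec.hom u) = u.1 := by
    rw [← Scheme.Hom.comp_apply, hU.isoSpec_hom_fromSpec]
    rfl
  rw [h3]

end Groth.Agent.Helper16.FibCl
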