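import Mathlib
import Groth.Agent.Lib.Helper16.Sch.FibCl7

set_option autoImplicit false
set_option linter.style.haveILetI false
universe u
open CategoryTheory CategoryTheory.Limits AlgebraicGeometry Opposite TopologicalSpace Topology

noncomputable section

namespace Groth.Agent.Helper16.FibCl

open Groth.Agent.Helper14 Groth.Agent.Helper16.ConsFD

section top

variable {X S : Type*} [TopologicalSpace X]

theorem closure_preimage_val_fiber (f : X → S) (s : S) (A : Set X) :
    closure (Subtype.val ⁻¹' A : Set ↥(f ⁻¹' {s})) = Subtype.val ⁻¹' (fibCl f A) := by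
  ext x
  rw [IsInducing.subtypeVal.closure_eq_preimage_closure_image, Subtype.image_preimage_coe,
    Set.mem_preimage, Set.mem_preimage, mem_fibCl_iff, Set.inter_comm]
  have : f x.1 = s := x.2
  rw [this]

theorem isClosed_preimage_val_fiber_iff (f : X → S) (s : S) (A : Set X) :
    IsClosed (Subtype.val ⁻¹' A : Set ↥(f ⁻¹' {s})) ↔ ∀ x, f x = s → x ∈ fibCl f A → x ∈ A := by
  rw [← closure_subset_iff_isClosed, closure_preimage_val_fiber]
  constructor
  · intro h x hx hxf
    exact h (a := ⟨x, hx⟩) hxf
  · intro h x hx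
    exact h x.1 x.2 hx

theorem isOpen_preimage_val_fiber_iff (f : X → S) (s : S) (A : Set X) :
    IsOpen (Subtype.val ⁻¹' A : Set ↥(f ⁻¹' {s})) ↔ ∀ x, f x = s → x ∈ fibCl f Aᶜ → x ∈ Aᶜ := by
  rw [← isClosed_preimage_val_fiber_iff, ← isOpen_compl_iff, Set.preimage_compl, compl_compl]

theorem isLocallyClosed_preimage_val_fiber_iff (f : X → S) (s : S) (A : Set X) :
    IsLocallyClosed (Subtype.val ⁻¹' A : Set ↥(f ⁻¹' {s})) ↔
      ∀ x, f x = s → x ∈ fibCl f (fibCl f A \ A) → x ∈ fibCl f A \ A := by
  rw [isLocallyClosed_iff_isOpen_coborder, coborder, isOpen_compl_iff,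
    closure_preimage_val_fiber, ← Set.preimage_diff, isClosed_preimage_val_fiber_iff]

end top

variable {X S : Scheme.{u}}

/-- the complement-of-image description of loci defined fibrewise -/
theorem isLocallyConstructible_forall_fiber (f : X ⟶ S) [LocallyOfFinitePresentation f]
    [QuasiCompact f] (A B : Set X) (hA : IsLocallyConstructible A)
    (hB : IsLocallyConstructible B) :
    IsLocallyConstructible {s : S | ∀ x, f x = s → x ∈ A → x ∈ B} := by
  have h1 := f.isLocallyConstructible_image (hA.inter (isLocallyConstructible_compl hB))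
  have h2 := isLocallyConstructible_compl h1
  convert h2 using 1
  ext s
  simp only [Set.mem_setOf_eq, Set.mem_compl_iff, Set.mem_image, Set.mem_inter_iff, not_exists,
    not_and]
  constructor
  · intro h x hx hfx
    exact hx.2 (h x hfx hx.1)
  · intro h x hfx hxA
    by_contra hxB
    exact h x ⟨hxA, hxB⟩ hfx

/-- **S3427** -/
theorem main3427 (f : X ⟶ S) [LocallyOfFinitePresentation f] [QuasiCompact f] (Z Z' : Set X)
    (hZ : IsLocallyConstructible Z) (hZ' : IsLocallyConstructible Z') :
    IsLocallyConstructible {s : S | Z' ∩ f.base ⁻¹' {s} ⊆ closure (Z ∩ f.base ⁻¹' {s})} := by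
  have := isLocallyConstructible_forall_fiber f Z' (fibCl f Z) hZ'
    (isLocallyConstructible_fibCl f Z hZ)
  convert this using 1
  ext s
  simp only [Set.mem_setOf_eq]
  constructor
  · intro h x hfx hxZ'
    have := h ⟨hxZ', hfx⟩
    rw [mem_fibCl_iff, hfx]
    exact this
  · rintro h x ⟨hxZ', hfx⟩
    have := h x hfx hxZ'
    rw [mem_fibCl_iff] at this
    have hfx' : f x = s := hfx
    rw [hfx'] at this
    exact this

/-- **S3428** -/
theorem main3428 (f : X ⟶ S) [LocallyOfFinitePresentation f] [QuasiCompact f] (Z : Set X)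
    (hZ : IsLocallyConstructible Z) :
    IsLocallyConstructible {s : S | IsClosed (Subtype.val ⁻¹' Z : Set ↥(f.base ⁻¹' {s}))} ∧
      IsLocallyConstructible {s : S | IsOpen (Subtype.val ⁻¹' Z : Set ↥(f.base ⁻¹' {s}))} ∧
      IsLocallyConstructible
        {s : S | IsLocallyClosed (Subtype.val ⁻¹' Z : Set ↥(f.base ⁻¹' {s}))} := by
  have hF := isLocallyConstructible_fibCl f Z hZ
  have hZc := isLocallyConstructible_compl hZ
  have hFc := isLocallyConstructible_fibCl f Zᶜ hZc
  have hD : IsLocallyConstructible (fibCl f Z \ Z) := by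
    rw [Set.diff_eq]; exact hF.inter hZc
  have hFD := isLocallyConstructible_fibCl f _ hD
  refine ⟨?_, ?_, ?_⟩
  · have := isLocallyConstructible_forall_fiber f (fibCl f Z) Z hF hZ
    convert this using 1
    ext s
    exact isClosed_preimage_val_fiber_iff f s Z
  · have := isLocallyConstructible_forall_fiber f (fibCl f Zᶜ) Zᶜ hFc hZc
    convert this using 1
    ext s
    exact isOpen_preimage_val_fiber_iff f s Z
  · have := isLocallyConstructible_forall_fiber f (fibCl f (fibCl f Z \ Z)) (fibCl f Z \ Z) hFD hD
    convert this using 1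
    ext s
    exact isLocallyClosed_preimage_val_fiber_iff f s Z

end Groth.Agent.Helper16.FibCl
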