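import Mathlib
import Groth.Agent.Lib.Helper16.Sch.FibMod10
import Groth.Agent.Lib.Helper16.Alg.ModCons2

/-!
# Local constructibility of the level sets of the rectified depth on the fibres (helper16)
-/

set_option autoImplicit false
set_option linter.style.haveILetI false
set_option linter.unusedSectionVars false
universe u

open AlgebraicGeometry CategoryTheory Limits IsLocalRing TensorProduct Topology

namespace Groth.Agent.Helper16.FibMod

open Groth.Agent.Helper16.FibStalk Groth.Agent.Helper16.FibModAlg Groth.Agent.Helper16.FTDim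
open Groth.Agent.Helper13.QCohLoc Groth.Agent.Helper16.FibModCore Groth.Agent.Helper16.RingFibDim
open Groth.Agent.Helper16.ModCons

variable {X Y : Scheme.{u}} (f : X ⟶ Y) (ℱ : X.Modules)

/-- **Local constructibility of the level sets of the rectified depth of a module on the
fibres.** -/
theorem isLocallyConstructible_rdepth_eq [LocallyOfFinitePresentation f] (hF : CohB1.IsFP ℱ)
    (n : ℕ∞) :
    IsLocallyConstructible {x : X | cdepth f ℱ x + (td f x : ℕ∞) = n} := by
  haveI := hF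
  intro x
  obtain ⟨_, ⟨V, hV, rfl⟩, hxV, -⟩ := Y.isBasis_affineOpens.exists_subset_of_mem_open
    (Set.mem_univ (f x)) isOpen_univ
  have hV : IsAffineOpen V := hV
  obtain ⟨_, ⟨U, hU, rfl⟩, hxU, e⟩ := X.isBasis_affineOpens.exists_subset_of_mem_open
    (show x ∈ f ⁻¹ᵁ V from hxV) (f ⁻¹ᵁ V).isOpen
  have hU : IsAffineOpen U := hU
  have e : U ≤ f ⁻¹ᵁ V := e
  refine ⟨U, U.isOpen.mem_nhds hxU, U.isOpen, ?_⟩
  have hφ : (f.appLE V U e).hom.FinitePresentation :=
    HasRingHomProperty.appLE (P := @LocallyOfFinitePresentation) f inferInstance ⟨V, hV⟩ ⟨U, hU⟩ e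
  letI := (f.appLE V U e).hom.toAlgebra
  haveI : Algebra.FinitePresentation Γ(Y, V) Γ(X, U) := hφ
  haveI : Module.FinitePresentation Γ(X, U) Γ(ℱ, U) :=
    Groth.Agent.Helper13.LocFree.finitePresentation_sections_of_isFinitePresentation ℱ hU
  haveI hlft : LocallyOfFiniteType (Spec.map (f.appLE V U e)) :=
    inferInstanceAs (LocallyOfFiniteType (specMap Γ(Y, V) Γ(X, U)))
  have hc := isConstructible_rdLevel n Γ(Y, V) Γ(X, U) Γ(ℱ, U)
  have hpre := hc.preimage_of_isOpenEmbedding hU.isoSpec.hom.isOpenEmbedding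
  refine (congrArg IsConstructible (Set.ext fun u => ?_)).mpr hpre
  obtain ⟨-, h2⟩ := chart f ℱ hU hV e u
  change cdepth f ℱ u.1 + (td f u.1 : ℕ∞) = n ↔
    adepth Γ(Y, V) Γ(X, U) (hU.isoSpec.hom u).asIdeal Γ(ℱ, U) +
      (td (specMap Γ(Y, V) Γ(X, U)) (hU.isoSpec.hom u) : ℕ∞) = n
  rw [h2, td_chart f hU hV e u]
  rfl

/-- the rectified depth at a point of a fibre, in terms of `cdepth` and `td`: level sets. -/
theorem rdepth_fibre_eq [LocallyOfFiniteType f] [ℱ.IsQuasicoherent]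
    (hfin : ∀ x : X, Module.Finite (X.presheaf.stalk x) (ℱ.presheaf.stalk x)) (n : ℕ∞)
    (y : Y) (w : f.fiber y) :
    (((LocCoh.depth ((f.fiber y).presheaf.stalk w)
        (((Scheme.Modules.pullback (f.fiberι y)).obj ℱ).presheaf.stalk w) : ℕ∞) : WithBot ℕ∞) +
        topologicalKrullDim ↥(closure ({w} : Set ↥(f.fiber y))) = ((n : ℕ∞) : WithBot ℕ∞)) ↔
      cdepth f ℱ (f.fiberι y w) + (td f (f.fiberι y w) : ℕ∞) = n := by
  haveI := hfin (f.fiberι y w)
  obtain ⟨-, h2⟩ := bridge1 f ℱ y w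
  rw [h2, dim_closure_fibre f y w]
  change ((cdepth f ℱ (f.fiberι y w) : ℕ∞) : WithBot ℕ∞) +
    (((td f (f.fiberι y w) : ℕ) : ℕ∞) : WithBot ℕ∞) = ((n : ℕ∞) : WithBot ℕ∞) ↔ _
  rw [← WithBot.coe_add, WithBot.coe_inj]

end Groth.Agent.Helper16.FibMod
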