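import Mathlib
import Groth.Agent.Lib.Helper16.Sch.ConsClosure1
import Groth.Agent.Lib.Helper16.Sch.FibCl7
import Groth.Agent.Lib.Helper16.Sch.FibSk2

/-!
# Constructibility of fibrewise closures of the points of large transcendence degree (helper16)
-/

set_option autoImplicit false
set_option linter.style.haveILetI false
set_option linter.unusedSectionVars false
universe u

open AlgebraicGeometry CategoryTheory Limits IsLocalRing TopologicalSpace Topology

namespace Groth.Agent.Helper16.SmCd

open Groth.Agent.Helper16.FibCl Groth.Agent.Helper16.FTDim Groth.Agent.Helper4.Constr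

variable {X S : Scheme.{u}} (f : X ⟶ S)

/-- the specializations, within their fibre, of the points of `L` whose residue field has
transcendence degree at least `n` over the base. -/
def Gn (n : ℕ) (L : Set X) : Set X :=
  {x : X | ∃ z : X, z ∈ L ∧ z ⤳ x ∧ f z = f x ∧ n ≤ td f z}

theorem Gn_empty (n : ℕ) : Gn f n ∅ = ∅ := by
  ext x
  simp [Gn]

theorem Gn_union (n : ℕ) (A B : Set X) : Gn f n (A ∪ B) = Gn f n A ∪ Gn f n B := by
  ext x
  constructor
  · rintro ⟨z, hz | hz, h⟩
    · exact Or.inl ⟨z, hz, h⟩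
    · exact Or.inr ⟨z, hz, h⟩
  · rintro (⟨z, hz, h⟩ | ⟨z, hz, h⟩)
    · exact ⟨z, Or.inl hz, h⟩
    · exact ⟨z, Or.inr hz, h⟩

theorem Gn_mono (n : ℕ) {A B : Set X} (h : A ⊆ B) : Gn f n A ⊆ Gn f n B := by
  rintro x ⟨z, hz, h'⟩
  exact ⟨z, h hz, h'⟩

theorem Gn_anti {n n' : ℕ} (h : n ≤ n') (A : Set X) : Gn f n' A ⊆ Gn f n A := by
  rintro x ⟨z, hz, h1, h2, h3⟩
  exact ⟨z, hz, h1, h2, h.trans h3⟩

theorem isClosed_Gn [LocallyOfFiniteType f] (n : ℕ) {T : Set X} (hT : IsClosed T) :
    IsClosed (Gn f n T) :=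
  Groth.Agent.Helper16.FibSk.isClosed_td_ge f ⟨T, hT⟩ n

theorem noetherianSpace_fiber [NoetherianSpace X] (y : S) : NoetherianSpace (f.fiber y) :=
  (f.fiberι y).isEmbedding.isInducing.noetherianSpace

/-- points of the fibrewise closure of a constructible set are specializations, within the fibre,
of points of that set. -/
theorem exists_specializes_of_mem_fibCl [NoetherianSpace X] {E : Set X} (hE : IsConstructible E)
    (x : X) (hx : x ∈ fibCl f E) : ∃ a ∈ E, a ⤳ x ∧ f a = f x := by
  haveI := noetherianSpace_fiber f (f x)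
  have hemb := (f.fiberι (f x)).isEmbedding
  have hA : IsConstructible ((f.fiberι (f x)) ⁻¹' E) :=
    hE.preimage (f.fiberι (f x)).continuous (fun _ _ _ => fun _ _ _ => NoetherianSpace.isCompact _)
  have hι : f.fiberι (f x) (f.asFiber x) = x := f.fiberι_asFiber x
  have h1 : E ∩ f ⁻¹' {f x} = (f.fiberι (f x)) '' ((f.fiberι (f x)) ⁻¹' E) := by
    rw [Set.image_preimage_eq_inter_range, f.range_fiberι]
  rw [mem_fibCl_iff, h1] at hx
  have h2 : f.asFiber x ∈ closure ((f.fiberι (f x)) ⁻¹' E) := by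
    rw [hemb.isInducing.closure_eq_preimage_closure_image]
    show f.fiberι (f x) (f.asFiber x) ∈
      closure ((f.fiberι (f x)) '' ((f.fiberι (f x)) ⁻¹' E))
    rw [hι]
    exact hx
  obtain ⟨a', ha', haw⟩ :=
    Groth.Agent.Helper16.ConsClosure.exists_specializes_of_mem_closure hA _ h2
  refine ⟨f.fiberι (f x) a', ha', ?_, ?_⟩
  · have := haw.map (f.fiberι (f x)).continuous
    rw [hι] at this
    exact this
  · exact Groth.Agent.Helper16.FibStalk.apply_fiberι f (f x) a'

theorem Gn_inter_open [NoetherianSpace X] [LocallyOfFiniteType f] (n : ℕ) {T U : Set X}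
    (hT : IsClosed T) (hU : IsOpen U) : Gn f n (U ∩ T) = fibCl f (Gn f n T ∩ U) := by
  apply Set.Subset.antisymm
  · rintro x ⟨z, ⟨hzU, hzT⟩, hzx, hfz, hn⟩
    rw [mem_fibCl_iff]
    have hz : z ∈ Gn f n T ∩ U ∩ f ⁻¹' {f x} :=
      ⟨⟨⟨z, hzT, specializes_rfl, rfl, hn⟩, hzU⟩, hfz⟩
    exact hzx.mem_closed isClosed_closure (subset_closure hz)
  · intro x hx
    have hc : IsConstructible (Gn f n T ∩ U) :=
      (isConstructible_of_isClosed (isClosed_Gn f n hT)).inter (isConstructible_of_isOpen hU)
    obtain ⟨a, ⟨⟨z, hzT, hza, hfz, hn⟩, haU⟩, hax, hfa⟩ := exists_specializes_of_mem_fibCl f hc x hx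
    exact ⟨z, ⟨hza.mem_open hU haU, hzT⟩, hza.trans hax, hfz.trans hfa, hn⟩

/-- **Lemma GN**: for a Noetherian source, `Gn f n L` is constructible for constructible `L`. -/
theorem isConstructible_Gn [NoetherianSpace X] [LocallyOfFinitePresentation f] (n : ℕ)
    {L : Set X} (hL : IsConstructible L) : IsConstructible (Gn f n L) := by
  refine constructible_induction (fun L => IsConstructible (Gn f n L)) ?_ ?_ ?_ L hL
  · show IsConstructible (Gn f n ∅)
    rw [Gn_empty]
    exact IsConstructible.empty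
  · intro A B hA hB
    show IsConstructible (Gn f n (A ∪ B))
    rw [Gn_union]
    exact hA.union hB
  · intro U T hU hT _
    show IsConstructible (Gn f n (U ∩ T))
    rw [Gn_inter_open f n hT hU]
    have hc : IsConstructible (Gn f n T ∩ U) :=
      (isConstructible_of_isClosed (isClosed_Gn f n hT)).inter (isConstructible_of_isOpen hU)
    exact (isLocallyConstructible_fibCl f _ hc.isLocallyConstructible).isConstructible

end Groth.Agent.Helper16.SmCd
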