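import Mathlib
import Groth.Agent.Lib.Helper16.Sch.FibCons1
import Groth.Agent.Lib.Helper16.Sch.SmoothLocusBC2

set_option autoImplicit false
set_option linter.style.haveILetI false
set_option linter.unusedSectionVars false
universe u

open CategoryTheory AlgebraicGeometry Limits IsLocalRing TensorProduct Topology

namespace Groth.Agent.Helper16.FibCons

open Groth.Agent.Helper16.SmoothLocusBC Groth.Agent.Helper16.SmoothFibreSch

/-- the fibre of `f` through `x` is smooth at `x` over the residue field. -/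
def FibSm {X S : Scheme.{u}} (f : X ⟶ S) (x : X) : Prop :=
  ((f.fiberToSpecResidueField (f x)).stalkMap (f.asFiber x)).hom.FormallySmooth

theorem fibSm_iff_of_eq {X S : Scheme.{u}} (f : X ⟶ S) (x : X) (s : S) (hs : f x = s)
    (z : f.fiber s) (hz : f.fiberι s z = x) :
    FibSm f x ↔ ((f.fiberToSpecResidueField s).stalkMap z).hom.FormallySmooth := by
  subst hs
  have : z = f.asFiber x :=
    (f.fiberι (f x)).isEmbedding.injective (hz.trans (f.fiberι_asFiber x).symm)
  subst this
  rfl

instance lfp_fiber_of_lft {X S : Scheme.{u}} (f : X ⟶ S) [LocallyOfFiniteType f] (s : S) :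
    LocallyOfFinitePresentation (f.fiberToSpecResidueField s) := by
  haveI : LocallyOfFiniteType (f.fiberToSpecResidueField s) :=
    MorphismProperty.pullback_snd _ _ inferInstance
  infer_instance

section BC

variable {X Y X' Y' : Scheme.{u}} {f : X ⟶ Y} {g : Y' ⟶ Y} {f' : X' ⟶ Y'} {g' : X' ⟶ X}

theorem fibSm_bc [LocallyOfFiniteType f] (H : IsPullback g' f' f g) (x' : X') :
    FibSm f' x' ↔ FibSm f (g' x') := by
  haveI hft' : LocallyOfFiniteType f' := MorphismProperty.of_isPullback H ‹_›
  let φ : f'.fiber (f' x') ⟶ f.fiber (g (f' x')) :=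
    pullback.map _ _ _ _ g' (Spec.map (g.residueFieldMap (f' x'))) g H.w.symm (by simp)
  have FS : IsPullback φ (f'.fiberToSpecResidueField (f' x'))
      (f.fiberToSpecResidueField (g (f' x'))) (Spec.map (g.residueFieldMap (f' x'))) :=
    isPullback_fiberToSpecResidueField_of_isPullback H (f' x')
  haveI : Flat (Spec.map (g.residueFieldMap (f' x'))) := by
    rw [HasRingHomProperty.Spec_iff (P := @Flat)]
    rw [RingHom.Flat]
    letI := (g.residueFieldMap (f' x')).hom.toAlgebra
    infer_instance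
  have h1 := smoothLocus_eq_preimage_of_flat FS
  have e : φ ≫ f.fiberι (g (f' x')) = f'.fiberι (f' x') ≫ g' := pullback.lift_fst _ _ _
  have hs : f (g' x') = g (f' x') := by
    rw [← Scheme.Hom.comp_apply, H.w, Scheme.Hom.comp_apply]
  have hz : f.fiberι (g (f' x')) (φ (f'.asFiber x')) = g' x' := by
    have := congrArg (fun (h : f'.fiber (f' x') ⟶ X) => h (f'.asFiber x')) e
    simpa using this
  rw [fibSm_iff_of_eq f (g' x') (g (f' x')) hs (φ (f'.asFiber x')) hz]
  show f'.asFiber x' ∈ (f'.fiberToSpecResidueField (f' x')).smoothLocus ↔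
    φ (f'.asFiber x') ∈ (f.fiberToSpecResidueField (g (f' x'))).smoothLocus
  rw [h1]
  rfl

end BC

theorem fibSm_oi {U X S : Scheme.{u}} (j : U ⟶ X) [IsOpenImmersion j] (f : X ⟶ S)
    [LocallyOfFiniteType f] (u : U) : FibSm (j ≫ f) u ↔ FibSm f (j u) := by
  let s : S := f (j u)
  let ψ : (j ≫ f).fiber s ⟶ f.fiber s :=
    pullback.map _ _ _ _ j (𝟙 _) (𝟙 _) (by simp) (by simp)
  haveI : IsOpenImmersion ψ :=
    Scheme.pullback_map_isOpenImmersion _ _ _ _ j (𝟙 _) (𝟙 _) _ _
  have e1 : ψ ≫ f.fiberToSpecResidueField s = (j ≫ f).fiberToSpecResidueField s :=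
    (pullback.lift_snd _ _ _).trans (Category.comp_id _)
  have e2 : ψ ≫ f.fiberι s = (j ≫ f).fiberι s ≫ j := pullback.lift_fst _ _ _
  have hz : f.fiberι s (ψ ((j ≫ f).asFiber u)) = j u := by
    rw [← Scheme.Hom.comp_apply, e2, Scheme.Hom.comp_apply]
    exact congrArg j ((j ≫ f).fiberι_asFiber u)
  rw [fibSm_iff_of_eq f (j u) s rfl (ψ ((j ≫ f).asFiber u)) hz]
  have h1 := Scheme.Hom.preimage_smoothLocus_eq ψ (f.fiberToSpecResidueField s)
  show (j ≫ f).asFiber u ∈ ((j ≫ f).fiberToSpecResidueField s).smoothLocus ↔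
    ψ ((j ≫ f).asFiber u) ∈ (f.fiberToSpecResidueField s).smoothLocus
  have h2 : ((j ≫ f).fiberToSpecResidueField s).smoothLocus =
      (ψ ≫ f.fiberToSpecResidueField s).smoothLocus := by
    congr 1
    exact e1.symm
  rw [h2, ← h1]
  rfl

theorem fibSm_open_flat {X S : Scheme.{u}} (f : X ⟶ S) [Flat f] [LocallyOfFinitePresentation f] :
    IsOpen {x | FibSm f x} := by
  have : {x | FibSm f x} = (f.smoothLocus : Set X) := by
    ext x
    have := mem_smoothLocus_iff_flat_and_fiber f x
    constructor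
    · intro h
      exact this.mpr ⟨Flat.stalkMap f x, h⟩
    · intro h
      exact (this.mp h).2
  rw [this]
  exact f.smoothLocus.isOpen

/-- the fibrewise smooth locus as a `FibProp`. -/
def fibSmProp : FibProp.{u} where
  P := fun f x => FibSm f x
  bc := fun H x' => fibSm_bc H x'
  oi := fun j _ f _ u => fibSm_oi j f u
  open_flat := fun f _ _ => fibSm_open_flat f

theorem isLocallyConstructible_fibSm {X S : Scheme.{u}} (f : X ⟶ S)
    [LocallyOfFinitePresentation f] : IsLocallyConstructible {x : X | FibSm f x} :=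
  fibSmProp.isLocallyConstructible f

end Groth.Agent.Helper16.FibCons
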