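import Mathlib
import Groth.Agent.Lib.Helper14.PullbackPts
import Groth.Agent.Lib.Helper16.Sch.FibMap1
import Groth.Prelude.Def_FDesc

/-!
# Geometric pointwise properties of fibres are insensitive to open immersions of the source
(helper16)
-/

set_option autoImplicit false
set_option linter.style.haveILetI false
set_option linter.unusedSectionVars false
universe u

open AlgebraicGeometry CategoryTheory Limits IsLocalRing

namespace Groth.Agent.Helper16.GeomOI

section Field

variable {k : Type u} [Field k] {W W' : Scheme.{u}} (φ : W' ⟶ W)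
  (g : W ⟶ Spec (CommRingCat.of k)) (g' : W' ⟶ Spec (CommRingCat.of k)) (hg : φ ≫ g = g')
  (K : Type u) [Field K] [Algebra k K]

/-- the morphism induced on base changes to a field extension. -/
noncomputable def bcMap : FBase.bc g' K ⟶ FBase.bc g K :=
  pullback.map g' (Spec.map (CommRingCat.ofHom (algebraMap k K))) g
    (Spec.map (CommRingCat.ofHom (algebraMap k K))) φ (𝟙 _) (𝟙 _)
    (by rw [Category.comp_id, hg]) (by rw [Category.comp_id, Category.id_comp])

theorem bcMap_π : bcMap φ g g' hg K ≫ FBase.bcπ g K = FBase.bcπ g' K ≫ φ :=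
  pullback.lift_fst _ _ _

theorem bcMap_str : bcMap φ g g' hg K ≫ FBase.bcStr g K = FBase.bcStr g' K := by
  exact (pullback.lift_snd _ _ _).trans (Category.comp_id _)

theorem isPullback_bcMap : IsPullback (FBase.bcπ g' K) (bcMap φ g g' hg K) φ (FBase.bcπ g K) := by
  have hbig : IsPullback (FBase.bcπ g' K) (bcMap φ g g' hg K ≫ FBase.bcStr g K) (φ ≫ g)
      (Spec.map (CommRingCat.ofHom (algebraMap k K))) := by
    rw [bcMap_str, hg]
    exact IsPullback.of_hasPullback _ _
  have hright : IsPullback (FBase.bcπ g K) (FBase.bcStr g K) g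
      (Spec.map (CommRingCat.ofHom (algebraMap k K))) := IsPullback.of_hasPullback _ _
  exact IsPullback.of_bot hbig (bcMap_π φ g g' hg K).symm hright

instance isOpenImmersion_bcMap [IsOpenImmersion φ] : IsOpenImmersion (bcMap φ g g' hg K) :=
  MorphismProperty.of_isPullback (P := @IsOpenImmersion) (isPullback_bcMap φ g g' hg K) inferInstance

include hg in
/-- a property of the local rings at the points of a base change over a given point is insensitive
to open immersions. -/
theorem forall_stalk_iff [IsOpenImmersion φ] (P : ∀ (R : Type u) [CommRing R], Prop)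
    (hP : ∀ (R R' : Type u) [CommRing R] [CommRing R'], (R ≃+* R') → P R → P R') (w' : W') :
    (∀ x' : ↥(FBase.bc g' K), (FBase.bcπ g' K).base x' = w' →
      P ((FBase.bc g' K).presheaf.stalk x')) ↔
    (∀ x : ↥(FBase.bc g K), (FBase.bcπ g K).base x = φ w' →
      P ((FBase.bc g K).presheaf.stalk x)) := by
  have key : ∀ x' : ↥(FBase.bc g' K),
      (FBase.bc g K).presheaf.stalk (bcMap φ g g' hg K x') ≃+* (FBase.bc g' K).presheaf.stalk x' :=
    fun x' => (asIso ((bcMap φ g g' hg K).stalkMap x')).commRingCatIsoToRingEquiv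
  constructor
  · intro H x hx
    obtain ⟨x'', h1, h2⟩ := Groth.Agent.Helper14.exists_preimage_of_isPullback
      (isPullback_bcMap φ g g' hg K) w' x hx.symm
    subst h2
    exact hP _ _ (key x'').symm (H x'' h1)
  · intro H x' hx'
    refine hP _ _ (key x') (H _ ?_)
    have := congrArg (fun ψ : FBase.bc g' K ⟶ W => ψ x') (bcMap_π φ g g' hg K)
    simp only [Scheme.Hom.comp_apply] at this
    rw [← hx']
    exact this

end Field

section Fibre

variable {U X S : Scheme.{u}} (j : U ⟶ X) [IsOpenImmersion j] (f : X ⟶ S)

open Groth.Agent.Helper16.FibMap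

/-- the open immersion of fibres induced by an open immersion of the sources. -/
noncomputable def fibOI (s : S) : (j ≫ f).fiber s ⟶ f.fiber s := fibMap j f s

instance (s : S) : IsOpenImmersion (fibOI j f s) :=
  MorphismProperty.of_isPullback (P := @IsOpenImmersion) (isPullback_fibMap j f s) inferInstance

theorem fibOI_str (s : S) :
    fibOI j f s ≫ f.fiberToSpecResidueField s = (j ≫ f).fiberToSpecResidueField s :=
  pullback.lift_snd _ _ _

theorem fibOI_ι (s : S) : fibOI j f s ≫ f.fiberι s = (j ≫ f).fiberι s ≫ j :=
  pullback.lift_fst _ _ _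

theorem fibOI_asFiber (u : U) : fibOI j f (f (j u)) ((j ≫ f).asFiber u) = f.asFiber (j u) := by
  apply (f.fiberι (f (j u))).isEmbedding.injective
  have h1 := congrArg (fun ψ : (j ≫ f).fiber (f (j u)) ⟶ X => ψ ((j ≫ f).asFiber u))
    (fibOI_ι j f (f (j u)))
  simp only [Scheme.Hom.comp_apply] at h1
  rw [h1, f.fiberι_asFiber]
  exact congrArg j ((j ≫ f).fiberι_asFiber u)

/-- **Geometric pointwise properties of the fibres** (tested on finite extensions) are
insensitive to open immersions of the source. -/
theorem geomFin_oi (P : ∀ (R : Type u) [CommRing R], Prop)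
    (hP : ∀ (R R' : Type u) [CommRing R] [CommRing R'], (R ≃+* R') → P R → P R') (u : U) :
    (∀ (K : Type u) [Field K]
        [Algebra (IsLocalRing.ResidueField (S.presheaf.stalk ((j ≫ f).base u))) K],
        Module.Finite (IsLocalRing.ResidueField (S.presheaf.stalk ((j ≫ f).base u))) K →
        ∀ x' : ↥(FBase.bc ((j ≫ f).fiberToSpecResidueField ((j ≫ f).base u)) K),
          (FBase.bcπ ((j ≫ f).fiberToSpecResidueField ((j ≫ f).base u)) K).base x' =
            (j ≫ f).asFiber u →
          P ((FBase.bc ((j ≫ f).fiberToSpecResidueField ((j ≫ f).base u)) K).presheaf.stalk x')) ↔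
    (∀ (K : Type u) [Field K]
        [Algebra (IsLocalRing.ResidueField (S.presheaf.stalk (f.base (j u)))) K],
        Module.Finite (IsLocalRing.ResidueField (S.presheaf.stalk (f.base (j u)))) K →
        ∀ x' : ↥(FBase.bc (f.fiberToSpecResidueField (f.base (j u))) K),
          (FBase.bcπ (f.fiberToSpecResidueField (f.base (j u))) K).base x' = f.asFiber (j u) →
          P ((FBase.bc (f.fiberToSpecResidueField (f.base (j u))) K).presheaf.stalk x')) := by
  have h := fun (K : Type u) [Field K]
      [Algebra (IsLocalRing.ResidueField (S.presheaf.stalk (f.base (j u)))) K] =>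
    forall_stalk_iff (k := IsLocalRing.ResidueField (S.presheaf.stalk (f.base (j u))))
      (fibOI j f (f (j u))) (f.fiberToSpecResidueField (f (j u)))
      ((j ≫ f).fiberToSpecResidueField (f (j u))) (fibOI_str j f (f (j u))) K P hP
      ((j ≫ f).asFiber u)
  constructor
  · intro H K iF iA hfin x' hx'
    have H' := @H K iF iA hfin
    refine (@h K iF iA).mp H' x' ?_
    rw [fibOI_asFiber]
    exact hx'
  · intro H K iF iA hfin x' hx'
    refine (@h K iF iA).mpr ?_ x' hx'
    intro x hx
    rw [fibOI_asFiber] at hx
    exact @H K iF iA hfin x hx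

end Fibre

end Groth.Agent.Helper16.GeomOI
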