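import Mathlib
import Groth.Agent.Lib.Helper16.Sch.GeomRk1
import Groth.Agent.Lib.Helper16.Sch.FibStalk
import Groth.Agent.Lib.Helper16.Sch.SmoothLocusBC2
import Groth.Agent.Lib.Lead.Fib1
import Groth.Agent.Lib.Helper12.StalkReg
import Groth.Agent.Lib.Helper12.FieldSm
import Groth.Agent.Lib.Helper12.SmoothNhd
import Groth.Agent.Lib.Helper3.SmoothRegSch
import Groth.Agent.Lib.Helper7.SmoothGeomReg

/-!
# Geometric `(R_k)` at a point of a scheme locally of finite type over a field (helper16)

`mem_smoothLocus_of_geomRk` / `geomRk_of_smooth`: the geometric condition `(R_r)` at `w` holds iff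
all generizations of `w` of codimension `≤ r` are smooth points.
-/

set_option autoImplicit false
set_option linter.style.haveILetI false
set_option linter.unusedSectionVars false
universe u

open AlgebraicGeometry CategoryTheory Limits IsLocalRing
open scoped TensorProduct

namespace Groth.Agent.Helper16.GeomRk

/-- stalks of a locally Artinian scheme have dimension zero -/
theorem ringKrullDim_stalk_eq_zero_of_isLocallyArtinian (Z : Scheme.{u}) [IsLocallyArtinian Z]
    (z : Z) : ringKrullDim (Z.presheaf.stalk z) = 0 := by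
  obtain ⟨_, ⟨V, hV, rfl⟩, hzV, -⟩ :=
    Z.isBasis_affineOpens.exists_subset_of_mem_open (Set.mem_univ z) isOpen_univ
  have hV' : IsAffineOpen V := hV
  letI := TopCat.Presheaf.algebra_section_stalk Z.presheaf (⟨z, hzV⟩ : V)
  haveI : IsLocalization.AtPrime (Z.presheaf.stalk z) (hV'.primeIdealOf ⟨z, hzV⟩).asIdeal :=
    hV'.isLocalization_stalk ⟨z, hzV⟩
  haveI : IsArtinianRing Γ(Z, V) := IsLocallyArtinian.isArtinianRing_presheaf_obj ⟨V, hV'⟩
  have h1 := IsLocalization.AtPrime.ringKrullDim_eq_height
    (hV'.primeIdealOf ⟨z, hzV⟩).asIdeal (Z.presheaf.stalk z)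
  have h2 : ((hV'.primeIdealOf ⟨z, hzV⟩).asIdeal.height : WithBot ℕ∞) ≤ ringKrullDim Γ(Z, V) :=
    Ideal.height_le_ringKrullDim_of_ne_top (hV'.primeIdealOf ⟨z, hzV⟩).2.ne_top
  have h3 : ringKrullDim Γ(Z, V) ≤ 0 := Ring.krullDimLE_iff.mp inferInstance
  refine le_antisymm (h1 ▸ h2.trans h3) ?_
  exact ringKrullDim_nonneg_of_nontrivial

/-- along a flat morphism the dimension of the local rings goes up -/
theorem ringKrullDim_stalk_le_of_flat {W' W : Scheme.{u}} (π : W' ⟶ W) [Flat π]
    [IsLocallyNoetherian W] [IsLocallyNoetherian W'] (v' : W') :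
    ringKrullDim (W.presheaf.stalk (π v')) ≤ ringKrullDim (W'.presheaf.stalk v') := by
  letI : Algebra (W.presheaf.stalk (π v')) (W'.presheaf.stalk v') := (π.stalkMap v').hom.toAlgebra
  haveI : IsLocalHom (algebraMap (W.presheaf.stalk (π v')) (W'.presheaf.stalk v')) :=
    inferInstanceAs (IsLocalHom (π.stalkMap v').hom)
  haveI : Module.Flat (W.presheaf.stalk (π v')) (W'.presheaf.stalk v') :=
    Flat.stalkMap π v'
  haveI : Nontrivial (W'.presheaf.stalk v' ⧸ Groth.Agent.Helper16.FibStalk.fibIdeal π v') :=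
    Ideal.Quotient.nontrivial_iff.mpr (Groth.Agent.Helper16.FibStalk.fibIdeal_ne_top π v')
  haveI : IsLocalRing (W'.presheaf.stalk v' ⧸ Groth.Agent.Helper16.FibStalk.fibIdeal π v') :=
    IsLocalRing.of_surjective' (Ideal.Quotient.mk _) Ideal.Quotient.mk_surjective
  have h := Groth.Agent.Lead.Fib.height_eq_add_fibre (R := W.presheaf.stalk (π v'))
    (S := W'.presheaf.stalk v') (Groth.Agent.Helper16.FibStalk.fibIdeal π v') rfl
  rw [← IsLocalRing.maximalIdeal_height_eq_ringKrullDim,
    ← IsLocalRing.maximalIdeal_height_eq_ringKrullDim, h]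
  exact_mod_cast le_self_add

/-- along a flat locally quasi-finite morphism the dimension of the local rings is preserved -/
theorem ringKrullDim_stalk_eq_of_flat_of_locallyQuasiFinite {W' W : Scheme.{u}} (π : W' ⟶ W)
    [Flat π] [LocallyQuasiFinite π]
    [IsLocallyNoetherian W] [IsLocallyNoetherian W'] (v' : W') :
    ringKrullDim (W'.presheaf.stalk v') = ringKrullDim (W.presheaf.stalk (π v')) := by
  letI : Algebra (W.presheaf.stalk (π v')) (W'.presheaf.stalk v') := (π.stalkMap v').hom.toAlgebra
  haveI : IsLocalHom (algebraMap (W.presheaf.stalk (π v')) (W'.presheaf.stalk v')) :=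
    inferInstanceAs (IsLocalHom (π.stalkMap v').hom)
  haveI : Module.Flat (W.presheaf.stalk (π v')) (W'.presheaf.stalk v') :=
    Flat.stalkMap π v'
  haveI : Nontrivial (W'.presheaf.stalk v' ⧸ Groth.Agent.Helper16.FibStalk.fibIdeal π v') :=
    Ideal.Quotient.nontrivial_iff.mpr (Groth.Agent.Helper16.FibStalk.fibIdeal_ne_top π v')
  haveI : IsLocalRing (W'.presheaf.stalk v' ⧸ Groth.Agent.Helper16.FibStalk.fibIdeal π v') :=
    IsLocalRing.of_surjective' (Ideal.Quotient.mk _) Ideal.Quotient.mk_surjective
  have h := Groth.Agent.Lead.Fib.height_eq_add_fibre (R := W.presheaf.stalk (π v'))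
    (S := W'.presheaf.stalk v') (Groth.Agent.Helper16.FibStalk.fibIdeal π v') rfl
  have h0 : ringKrullDim (W'.presheaf.stalk v' ⧸ Groth.Agent.Helper16.FibStalk.fibIdeal π v') = 0 := by
    rw [ringKrullDim_eq_of_ringEquiv (Groth.Agent.Helper16.FibStalk.fibStalkEquiv π v')]
    exact ringKrullDim_stalk_eq_zero_of_isLocallyArtinian _ _
  rw [← IsLocalRing.maximalIdeal_height_eq_ringKrullDim] at h0
  have h0' : (maximalIdeal (W'.presheaf.stalk v' ⧸ Groth.Agent.Helper16.FibStalk.fibIdeal π v')).height = 0 := by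
    exact_mod_cast h0
  rw [h0', add_zero] at h
  rw [← IsLocalRing.maximalIdeal_height_eq_ringKrullDim,
    ← IsLocalRing.maximalIdeal_height_eq_ringKrullDim, h]

/-- a smooth point of a scheme over a field has a regular local ring -/
theorem isRegularLocalRing_stalk_of_mem_smoothLocus {k : Type u} [Field k] {W : Scheme.{u}}
    (g : W ⟶ Spec (CommRingCat.of k)) [LocallyOfFinitePresentation g] (w : W)
    (hw : w ∈ g.smoothLocus) : IsRegularLocalRing (W.presheaf.stalk w) := by
  set U := g.smoothLocus with hU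
  letI : (U : Scheme.{u}).Over (Spec (CommRingCat.of k)) := ⟨U.ι ≫ g⟩
  haveI : Smooth ((U : Scheme.{u}) ↘ (Spec (CommRingCat.of k))) := by
    change Smooth (U.ι ≫ g)
    rw [← Scheme.Hom.smoothLocus_eq_top_iff, ← Scheme.Hom.preimage_smoothLocus_eq, ← hU]
    exact U.ι_preimage_self
  have h := Groth.Agent.Helper3.SmoothRegSch.main k (U : Scheme.{u}) ⟨w, hw⟩
  exact IsRegularLocalRing.of_ringEquiv
    (Groth.Agent.Helper12.SmoothNhd.stalkEquiv w U hw).symm

variable {k : Type u} [Field k] {W : Scheme.{u}} (g : W ⟶ Spec (CommRingCat.of k))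
  (K : Type u) [Field K] [Algebra k K]

theorem isPullback_bc : IsPullback (FBase.bcπ g K) (FBase.bcStr g K) g
    (Spec.map (CommRingCat.ofHom (algebraMap k K))) :=
  IsPullback.of_hasPullback _ _

instance flat_Spec_map_field : Flat (Spec.map (CommRingCat.ofHom (algebraMap k K))) := by
  rw [HasRingHomProperty.Spec_iff (P := @Flat)]
  show (algebraMap k K).Flat
  rw [RingHom.flat_algebraMap_iff]
  infer_instance

instance flat_bcπ : Flat (FBase.bcπ g K) :=
  MorphismProperty.pullback_fst _ _ inferInstance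

instance lfp_bcStr [LocallyOfFinitePresentation g] :
    LocallyOfFinitePresentation (FBase.bcStr g K) :=
  MorphismProperty.pullback_snd _ _ inferInstance

theorem isFinite_bcπ [Module.Finite k K] : IsFinite (FBase.bcπ g K) := by
  haveI : IsFinite (Spec.map (CommRingCat.ofHom (algebraMap k K))) := by
    rw [IsFinite.SpecMap_iff]
    show (algebraMap k K).Finite
    rw [RingHom.finite_algebraMap]
    infer_instance
  exact MorphismProperty.pullback_fst _ _ inferInstance

instance : IsLocallyNoetherian (Spec (CommRingCat.of k)) := inferInstance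

theorem isLocallyNoetherian_of_lft [LocallyOfFiniteType g] : IsLocallyNoetherian W :=
  LocallyOfFiniteType.isLocallyNoetherian g

theorem stalkHom_eq (v : W) :
    Groth.Agent.Helper12.FieldSm.stalkHom g v = Groth.Agent.Helper18.StalkBC.stalkHom g v := rfl

/-- a point all of whose finite base changes have regular local rings is a smooth point -/
theorem mem_smoothLocus_of_forall_finite_reg [LocallyOfFinitePresentation g] (v : W)
    (H : ∀ (K : Type u) [Field K] [Algebra k K], Module.Finite k K →
      ∀ v' : ↥(FBase.bc g K), (FBase.bcπ g K).base v' = v →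
        IsRegularLocalRing ((FBase.bc g K).presheaf.stalk v')) :
    v ∈ g.smoothLocus := by
  haveI := isLocallyNoetherian_of_lft g
  rw [Groth.Agent.Helper12.FieldSm.mem_smoothLocus_iff]
  letI := (Groth.Agent.Helper12.FieldSm.stalkHom g v).toAlgebra
  haveI := Groth.Agent.Helper12.FieldSm.essFiniteType_stalk g v
  have hgr : CAlg.IsGeometricallyRegular k (W.presheaf.stalk v) := by
    intro K _ _ hfin
    haveI := hfin
    haveI : Algebra.IsIntegral k K := inferInstance
    have hN : IsNoetherianRing ((W.presheaf.stalk v) ⊗[k] K) := by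
      haveI : Module.Finite (W.presheaf.stalk v) ((W.presheaf.stalk v) ⊗[k] K) :=
        inferInstance
      exact IsNoetherianRing.of_finite (W.presheaf.stalk v) _
    have h1 := Groth.Agent.Helper12.StalkReg.isRegularRing_tensor_of_reg_stalk g v K hN (H K hfin)
    exact @IsRegularRing.of_ringEquiv _ _ _ _
      (Algebra.TensorProduct.comm k (W.presheaf.stalk v) K).toRingEquiv h1
  have h2 := Groth.Agent.Helper7.GeomRegFG.adicFS_of_geomRegular k (W.presheaf.stalk v) hgr
  exact Groth.Agent.Helper14.AdicFSJacobi.formallySmooth_of_adicFS_of_essFiniteType h2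

/-- **Theorem G, first half**: the geometric `(R_r)` condition at `w` (tested on finite extensions)
forces all generizations of codimension `≤ r` to be smooth points. -/
theorem mem_smoothLocus_of_geomRk [LocallyOfFinitePresentation g] (w : W) (r : ℕ)
    (H : ∀ (K : Type u) [Field K] [Algebra k K], Module.Finite k K →
      ∀ w' : ↥(FBase.bc g K), (FBase.bcπ g K).base w' = w →
        LocCoh.HasRk r ((FBase.bc g K).presheaf.stalk w'))
    (v : W) (hv : v ⤳ w) (hdim : ringKrullDim (W.presheaf.stalk v) ≤ (r : WithBot ℕ∞)) :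
    v ∈ g.smoothLocus := by
  haveI := isLocallyNoetherian_of_lft g
  apply mem_smoothLocus_of_forall_finite_reg
  intro K _ _ hfin v' hv'
  haveI := hfin
  haveI := isFinite_bcπ g K
  haveI : IsLocallyNoetherian (FBase.bc g K) := isLocallyNoetherian_of_lft (FBase.bcStr g K)
  have hcl : IsClosedMap (FBase.bcπ g K).base := (FBase.bcπ g K).isClosedMap
  have hv'' : (FBase.bcπ g K).base v' ⤳ w := hv' ▸ hv
  obtain ⟨w', hw'spec, hw'⟩ := hcl.specializingMap hv''
  refine (hasRk_stalk_iff _ w' r).mp (H K hfin w' hw') v' hw'spec ?_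
  rw [ringKrullDim_stalk_eq_of_flat_of_locallyQuasiFinite (FBase.bcπ g K) v']
  have : (FBase.bcπ g K) v' = v := hv'
  rw [this]
  exact hdim

/-- **Theorem G, second half**: if all generizations of `w` of codimension `≤ r` are smooth points
then the geometric `(R_r)` condition holds at `w` (for all field extensions). -/
theorem geomRk_of_smooth [LocallyOfFinitePresentation g] (w : W) (r : ℕ)
    (H : ∀ v : W, v ⤳ w → ringKrullDim (W.presheaf.stalk v) ≤ (r : WithBot ℕ∞) →
      v ∈ g.smoothLocus)
    (w' : ↥(FBase.bc g K)) (hw' : (FBase.bcπ g K).base w' = w) :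
    LocCoh.HasRk r ((FBase.bc g K).presheaf.stalk w') := by
  haveI := isLocallyNoetherian_of_lft g
  haveI : IsLocallyNoetherian (FBase.bc g K) := isLocallyNoetherian_of_lft (FBase.bcStr g K)
  rw [hasRk_stalk_iff]
  intro v' hv' hdim
  have h1 : (FBase.bcπ g K) v' ⤳ w := hw' ▸ hv'.map (FBase.bcπ g K).continuous
  have h2 := ringKrullDim_stalk_le_of_flat (FBase.bcπ g K) v'
  have h3 := H _ h1 (h2.trans hdim)
  have h4 : v' ∈ (FBase.bcStr g K).smoothLocus :=
    Groth.Agent.Helper16.SmoothLocusBC.preimage_smoothLocus_le (isPullback_bc g K) h3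
  exact isRegularLocalRing_stalk_of_mem_smoothLocus (FBase.bcStr g K) v' h4

end Groth.Agent.Helper16.GeomRk
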