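import Mathlib
import Groth.Agent.Lib.Helper16.Sch.GeomRk2
import Groth.Agent.Lib.Helper16.Sch.FibSk2
import Groth.Agent.Lib.Helper12.EtStalk2
import Groth.Agent.Lib.Helper1.SerreNormal

/-!
# Geometric normality at a point of a scheme locally of finite type over a field (helper16)
-/

set_option autoImplicit false
set_option linter.style.haveILetI false
set_option linter.unusedSectionVars false
universe u

open AlgebraicGeometry CategoryTheory Limits IsLocalRing
open scoped TensorProduct

namespace Groth.Agent.Helper16.GeomRk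

/-- a Noetherian local normal domain satisfies `(R_1)` and `(S_2)`. -/
theorem hasRk_one_hasSk_two_of_normal (A : Type u) [CommRing A] [IsNoetherianRing A]
    [IsDomain A] [IsIntegrallyClosed A] : LocCoh.HasRk 1 A ∧ LocCoh.HasSk 2 A A := by
  refine (Groth.Agent.Helper1.SerreNormal.serre_criterion A).mp ?_
  intro p hp
  haveI : IsDomain (Localization.AtPrime p) :=
    IsLocalization.isDomain_localization (le_nonZeroDivisors_of_noZeroDivisors
      (fun h => (Ideal.mem_primeCompl_iff.mp h) p.zero_mem))
  refine ⟨inferInstance, ?_⟩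
  exact isIntegrallyClosed_of_isLocalization (Localization.AtPrime p) p.primeCompl
    (le_nonZeroDivisors_of_noZeroDivisors (fun h => (Ideal.mem_primeCompl_iff.mp h) p.zero_mem))

variable {k : Type u} [Field k] {W : Scheme.{u}} (g : W ⟶ Spec (CommRingCat.of k))
  (K : Type u) [Field K] [Algebra k K]

/-- the local ring of a scheme over a field is the local ring of its (unique) fibre -/
noncomputable def stalkEquivFs (w : W) :
    W.presheaf.stalk w ≃+* (g.fiber (g w)).presheaf.stalk (g.asFiber w) :=
  Groth.Agent.Helper12.EtStalk.fibStalkEquivOfBot g w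
    (Groth.Agent.Helper12.EtStalk.maximalIdeal_stalk_Spec_field k _)

instance surjective_Spec_map_field : Surjective (Spec.map (CommRingCat.ofHom (algebraMap k K))) := by
  have h : (CommRingCat.ofHom (algebraMap k K)).hom.FaithfullyFlat := by
    show (algebraMap k K).FaithfullyFlat
    rw [RingHom.faithfullyFlat_algebraMap_iff]
    infer_instance
  exact ((flat_and_surjective_SpecMap_iff _).mpr h).2

instance surjective_bcπ : Surjective (FBase.bcπ g K) :=
  MorphismProperty.pullback_fst _ _ inferInstance

/-- `(S_n)` for the local rings of a base change to a field extension. -/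
theorem hasSk_stalk_bc_iff [LocallyOfFiniteType g] (n : ℕ) (w' : ↥(FBase.bc g K)) :
    LocCoh.HasSk n ((FBase.bc g K).presheaf.stalk w') ((FBase.bc g K).presheaf.stalk w') ↔
    LocCoh.HasSk n (W.presheaf.stalk ((FBase.bcπ g K) w'))
      (W.presheaf.stalk ((FBase.bcπ g K) w')) := by
  haveI := isLocallyNoetherian_of_lft g
  haveI : LocallyOfFiniteType (FBase.bcStr g K) := MorphismProperty.pullback_snd _ _ inferInstance
  haveI : IsLocallyNoetherian (FBase.bc g K) := isLocallyNoetherian_of_lft (FBase.bcStr g K)
  have h := Groth.Agent.Helper16.FibSk.hasSk_fs_baseChange_iff (isPullback_bc g K) w' n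
  have e1 := stalkEquivFs (FBase.bcStr g K) w'
  have e2 := stalkEquivFs g ((FBase.bcπ g K) w')
  haveI := Groth.Agent.Helper16.FibCons.isNoetherianRing_fs (FBase.bcStr g K) w'
  haveI := Groth.Agent.Helper16.FibCons.isNoetherianRing_fs g ((FBase.bcπ g K) w')
  constructor
  · intro H
    exact Groth.Agent.Helper7.FieldCM.hasSk_of_ringEquiv e2.symm n
      (h.mp (Groth.Agent.Helper7.FieldCM.hasSk_of_ringEquiv e1 n H))
  · intro H
    exact Groth.Agent.Helper7.FieldCM.hasSk_of_ringEquiv e1.symm n
      (h.mpr (Groth.Agent.Helper7.FieldCM.hasSk_of_ringEquiv e2 n H))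

/-- **Geometric normality at a point** in terms of the smooth locus and `(S_2)`. -/
theorem geomNormal_iff [LocallyOfFinitePresentation g] (w : W) :
    (∀ (K : Type u) [Field K] [Algebra k K], Module.Finite k K →
      ∀ w' : ↥(FBase.bc g K), (FBase.bcπ g K).base w' = w →
        IsDomain ((FBase.bc g K).presheaf.stalk w') ∧
          IsIntegrallyClosed ((FBase.bc g K).presheaf.stalk w')) ↔
    (∀ v : W, v ⤳ w → ringKrullDim (W.presheaf.stalk v) ≤ ((1 : ℕ) : WithBot ℕ∞) →
      v ∈ g.smoothLocus) ∧ LocCoh.HasSk 2 (W.presheaf.stalk w) (W.presheaf.stalk w) := by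
  haveI := isLocallyNoetherian_of_lft g
  constructor
  · intro H
    refine ⟨?_, ?_⟩
    · refine mem_smoothLocus_of_geomRk g w 1 ?_
      intro K _ _ hfin w' hw'
      haveI : IsLocallyNoetherian (FBase.bc g K) := isLocallyNoetherian_of_lft (FBase.bcStr g K)
      obtain ⟨hd, hic⟩ := H K hfin w' hw'
      exact (hasRk_one_hasSk_two_of_normal _).1
    · obtain ⟨w', hw'⟩ := (FBase.bcπ g k).surjective w
      haveI : IsLocallyNoetherian (FBase.bc g k) := isLocallyNoetherian_of_lft (FBase.bcStr g k)
      obtain ⟨hd, hic⟩ := H k inferInstance w' hw'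
      have h2 := (hasRk_one_hasSk_two_of_normal ((FBase.bc g k).presheaf.stalk w')).2
      have h3 := (hasSk_stalk_bc_iff g k 2 w').mp h2
      have : (FBase.bcπ g k) w' = w := hw'
      rw [this] at h3
      exact h3
  · rintro ⟨H1, H2⟩ K _ _ hfin w' hw'
    haveI : IsLocallyNoetherian (FBase.bc g K) := isLocallyNoetherian_of_lft (FBase.bcStr g K)
    have hR1 := geomRk_of_smooth g K w 1 H1 w' hw'
    have hS2 : LocCoh.HasSk 2 ((FBase.bc g K).presheaf.stalk w')
        ((FBase.bc g K).presheaf.stalk w') := by
      rw [hasSk_stalk_bc_iff g K 2 w']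
      have : (FBase.bcπ g K) w' = w := hw'
      rw [this]
      exact H2
    exact Groth.Agent.Helper1.SerreNormal.normal_of_local hR1 hS2

end Groth.Agent.Helper16.GeomRk
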