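import Mathlib
import Groth.Agent.Lib.Helper16.Sch.GenLift1
import Groth.Agent.Lib.Helper16.Sch.GeomRk2
import Groth.Agent.Lib.Helper16.Sch.GeomNormal1

/-!
# The condition "all generizations of small codimension are smooth points" (helper16)
-/

set_option autoImplicit false
set_option linter.style.haveILetI false
set_option linter.unusedSectionVars false
universe u

open AlgebraicGeometry CategoryTheory Limits IsLocalRing

namespace Groth.Agent.Helper16.SmCd

/-- all generizations of `w` of codimension at most `r` are smooth points of `g`. -/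
def SmCond {W T : Scheme.{u}} (g : W ⟶ T) (w : W) (r : ℕ) : Prop :=
  ∀ v : W, v ⤳ w → ringKrullDim (W.presheaf.stalk v) ≤ ((r : ℕ) : WithBot ℕ∞) →
    (g.stalkMap v).hom.FormallySmooth

theorem smCond_iff {W T : Scheme.{u}} (g : W ⟶ T) [LocallyOfFinitePresentation g] (w : W)
    (r : ℕ) : SmCond g w r ↔
      ∀ v : W, v ⤳ w → ringKrullDim (W.presheaf.stalk v) ≤ ((r : ℕ) : WithBot ℕ∞) →
        v ∈ g.smoothLocus := Iff.rfl

/-- **base change** of `SmCond` along a flat morphism of the bases. -/
theorem smCond_bc {W' T' W T : Scheme.{u}} {φ : W' ⟶ W} {g' : W' ⟶ T'} {g : W ⟶ T} {h : T' ⟶ T}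
    (sq : IsPullback φ g' g h) [Flat h] [LocallyOfFinitePresentation g]
    [IsLocallyNoetherian W] [IsLocallyNoetherian W'] (w' : W') (r : ℕ) :
    SmCond g' w' r ↔ SmCond g (φ w') r := by
  haveI : LocallyOfFinitePresentation g' := MorphismProperty.of_isPullback sq inferInstance
  haveI : Flat φ := MorphismProperty.of_isPullback sq.flip inferInstance
  have hsm := Groth.Agent.Helper16.SmoothLocusBC.smoothLocus_eq_preimage_of_flat sq
  constructor
  · intro H v hv hdim
    obtain ⟨v', hv', rfl, hd⟩ :=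
      Groth.Agent.Helper16.GenLift.exists_generization_lift_of_flat φ w' v hv
    have h1 : v' ∈ g'.smoothLocus := H v' hv' (hd ▸ hdim)
    rw [hsm] at h1
    exact h1
  · intro H v' hv' hdim
    have h1 := Groth.Agent.Helper16.GeomRk.ringKrullDim_stalk_le_of_flat φ v'
    have h2 : φ v' ∈ g.smoothLocus := H (φ v') (hv'.map φ.continuous) (h1.trans hdim)
    show v' ∈ g'.smoothLocus
    rw [hsm]
    exact h2

/-- `SmCond` is insensitive to restricting to an open subscheme. -/
theorem smCond_oi {W' W T : Scheme.{u}} (ψ : W' ⟶ W) [IsOpenImmersion ψ] (g : W ⟶ T)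
    [LocallyOfFinitePresentation g] (w' : W') (r : ℕ) :
    SmCond (ψ ≫ g) w' r ↔ SmCond g (ψ w') r := by
  have hsm := Scheme.Hom.preimage_smoothLocus_eq ψ g
  constructor
  · intro H v hv hdim
    obtain ⟨v', rfl⟩ : v ∈ Set.range ψ :=
      hv.mem_open ψ.isOpenEmbedding.isOpen_range ⟨w', rfl⟩
    have hv' : v' ⤳ w' := ψ.isOpenEmbedding.isInducing.specializes_iff.mp hv
    have hd : ringKrullDim (W'.presheaf.stalk v') = ringKrullDim (W.presheaf.stalk (ψ v')) :=
      (ringKrullDim_eq_of_ringEquiv (asIso (ψ.stalkMap v')).commRingCatIsoToRingEquiv).symm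
    have h1 : v' ∈ (ψ ≫ g).smoothLocus := H v' hv' (hd ▸ hdim)
    rw [← hsm] at h1
    exact h1
  · intro H v' hv' hdim
    have hd : ringKrullDim (W'.presheaf.stalk v') = ringKrullDim (W.presheaf.stalk (ψ v')) :=
      (ringKrullDim_eq_of_ringEquiv (asIso (ψ.stalkMap v')).commRingCatIsoToRingEquiv).symm
    have h2 : ψ v' ∈ g.smoothLocus := H (ψ v') (hv'.map ψ.continuous) (hd ▸ hdim)
    show v' ∈ (ψ ≫ g).smoothLocus
    rw [← hsm]
    exact h2

theorem smCond_congr {W T : Scheme.{u}} {g g' : W ⟶ T} (h : g = g') (w : W) (r : ℕ) :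
    SmCond g w r ↔ SmCond g' w r := by subst h; rfl

variable {k : Type u} [Field k] {W : Scheme.{u}} (g : W ⟶ Spec (CommRingCat.of k))

/-- **Theorem G** for all field extensions: the geometric condition `(R_r)` at `w`. -/
theorem geomRk_all_iff [LocallyOfFinitePresentation g] (w : W) (r : ℕ) :
    (∀ (K : Type u) [Field K] [Algebra k K] (w' : ↥(FBase.bc g K)),
      (FBase.bcπ g K).base w' = w → LocCoh.HasRk r ((FBase.bc g K).presheaf.stalk w')) ↔
    SmCond g w r := by
  constructor
  · intro H
    exact Groth.Agent.Helper16.GeomRk.mem_smoothLocus_of_geomRk g w r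
      (fun K _ _ _ w' hw' => H K w' hw')
  · intro H K _ _ w' hw'
    exact Groth.Agent.Helper16.GeomRk.geomRk_of_smooth g K w r H w' hw'

/-- geometric normality at `w` (for all field extensions). -/
theorem geomNormal_all_iff [LocallyOfFinitePresentation g] (w : W) :
    (∀ (K : Type u) [Field K] [Algebra k K] (w' : ↥(FBase.bc g K)),
      (FBase.bcπ g K).base w' = w →
        IsDomain ((FBase.bc g K).presheaf.stalk w') ∧
          IsIntegrallyClosed ((FBase.bc g K).presheaf.stalk w')) ↔
    SmCond g w 1 ∧ LocCoh.HasSk 2 (W.presheaf.stalk w) (W.presheaf.stalk w) := by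
  haveI := Groth.Agent.Helper16.GeomRk.isLocallyNoetherian_of_lft g
  constructor
  · intro H
    exact (Groth.Agent.Helper16.GeomRk.geomNormal_iff g w).mp (fun K _ _ _ w' hw' => H K w' hw')
  · rintro ⟨H1, H2⟩ K _ _ w' hw'
    haveI : IsLocallyNoetherian (FBase.bc g K) :=
      Groth.Agent.Helper16.GeomRk.isLocallyNoetherian_of_lft (FBase.bcStr g K)
    have hR1 := Groth.Agent.Helper16.GeomRk.geomRk_of_smooth g K w 1 H1 w' hw'
    have hS2 : LocCoh.HasSk 2 ((FBase.bc g K).presheaf.stalk w')
        ((FBase.bc g K).presheaf.stalk w') := by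
      rw [Groth.Agent.Helper16.GeomRk.hasSk_stalk_bc_iff g K 2 w']
      have : (FBase.bcπ g K) w' = w := hw'
      rw [this]
      exact H2
    exact Groth.Agent.Helper1.SerreNormal.normal_of_local hR1 hS2

end Groth.Agent.Helper16.SmCd
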