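import Mathlib
import Groth.Agent.Lib.Helper16.Sch.SmCond1
import Groth.Agent.Lib.Helper16.Sch.FibSm
import Groth.Agent.Lib.Helper16.Sch.FibOpen1
import Groth.Agent.Lib.Helper16.Sch.GeomOI1

/-!
# The fibrewise condition "generizations of small codimension in the fibre are smooth" (helper16)
-/

set_option autoImplicit false
set_option linter.style.haveILetI false
set_option linter.unusedSectionVars false
universe u

open AlgebraicGeometry CategoryTheory Limits IsLocalRing

namespace Groth.Agent.Helper16.SmCd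

open Groth.Agent.Helper16.FibCons Groth.Agent.Helper16.SmoothLocusBC
  Groth.Agent.Helper16.SmoothFibreSch

/-- in the fibre through `x`, all generizations of `x` of codimension `≤ r` are smooth points. -/
def FibSmCond (r : ℕ) {X S : Scheme.{u}} (f : X ⟶ S) (x : X) : Prop :=
  SmCond (f.fiberToSpecResidueField (f x)) (f.asFiber x) r

theorem fibSmCond_iff_of_eq (r : ℕ) {X S : Scheme.{u}} (f : X ⟶ S) (x : X) (s : S)
    (hs : f x = s) (z : f.fiber s) (hz : f.fiberι s z = x) :
    FibSmCond r f x ↔ SmCond (f.fiberToSpecResidueField s) z r := by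
  subst hs
  have : z = f.asFiber x :=
    (f.fiberι (f x)).isEmbedding.injective (hz.trans (f.fiberι_asFiber x).symm)
  subst this
  rfl

theorem isLocallyNoetherian_fiber {X S : Scheme.{u}} (f : X ⟶ S) [LocallyOfFiniteType f] (s : S) :
    IsLocallyNoetherian (f.fiber s) := by
  haveI : LocallyOfFiniteType (f.fiberToSpecResidueField s) :=
    MorphismProperty.pullback_snd _ _ inferInstance
  exact LocallyOfFiniteType.isLocallyNoetherian (f.fiberToSpecResidueField s)

section BC

variable {X Y X' Y' : Scheme.{u}} {f : X ⟶ Y} {g : Y' ⟶ Y} {f' : X' ⟶ Y'} {g' : X' ⟶ X}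

theorem fibSmCond_bc (r : ℕ) [LocallyOfFiniteType f] (H : IsPullback g' f' f g) (x' : X') :
    FibSmCond r f' x' ↔ FibSmCond r f (g' x') := by
  haveI hft' : LocallyOfFiniteType f' := MorphismProperty.of_isPullback H ‹_›
  let φ : f'.fiber (f' x') ⟶ f.fiber (g (f' x')) :=
    pullback.map _ _ _ _ g' (Spec.map (g.residueFieldMap (f' x'))) g H.w.symm (by simp)
  have FS : IsPullback φ (f'.fiberToSpecResidueField (f' x'))
      (f.fiberToSpecResidueField (g (f' x'))) (Spec.map (g.residueFieldMap (f' x'))) :=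
    isPullback_fiberToSpecResidueField_of_isPullback H (f' x')
  haveI : Flat (Spec.map (g.residueFieldMap (f' x'))) := by
    rw [HasRingHomProperty.Spec_iff (P := @Flat)]
    rw [RingHom.Flat]
    letI := (g.residueFieldMap (f' x')).hom.toAlgebra
    infer_instance
  haveI := isLocallyNoetherian_fiber f (g (f' x'))
  haveI := isLocallyNoetherian_fiber f' (f' x')
  have e : φ ≫ f.fiberι (g (f' x')) = f'.fiberι (f' x') ≫ g' := pullback.lift_fst _ _ _
  have hs : f (g' x') = g (f' x') := by
    rw [← Scheme.Hom.comp_apply, H.w, Scheme.Hom.comp_apply]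
  have hz : f.fiberι (g (f' x')) (φ (f'.asFiber x')) = g' x' := by
    have := congrArg (fun (h : f'.fiber (f' x') ⟶ X) => h (f'.asFiber x')) e
    simpa using this
  rw [fibSmCond_iff_of_eq r f (g' x') (g (f' x')) hs (φ (f'.asFiber x')) hz]
  exact smCond_bc FS (f'.asFiber x') r

end BC

theorem fibSmCond_oi (r : ℕ) {U X S : Scheme.{u}} (j : U ⟶ X) [IsOpenImmersion j] (f : X ⟶ S)
    [LocallyOfFiniteType f] (u : U) : FibSmCond r (j ≫ f) u ↔ FibSmCond r f (j u) := by
  let s : S := f (j u)
  let ψ : (j ≫ f).fiber s ⟶ f.fiber s :=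
    pullback.map _ _ _ _ j (𝟙 _) (𝟙 _) (by simp) (by simp)
  haveI : IsOpenImmersion ψ :=
    Scheme.pullback_map_isOpenImmersion _ _ _ _ j (𝟙 _) (𝟙 _) _ _
  have e1 : ψ ≫ f.fiberToSpecResidueField s = (j ≫ f).fiberToSpecResidueField s :=
    (pullback.lift_snd _ _ _).trans (Category.comp_id _)
  have e2 : ψ ≫ f.fiberι s = (j ≫ f).fiberι s ≫ j := pullback.lift_fst _ _ _
  have hz : f.fiberι s (ψ ((j ≫ f).asFiber u)) = j u := by
    rw [← Scheme.Hom.comp_apply, e2, Scheme.Hom.comp_apply]
    exact congrArg j ((j ≫ f).fiberι_asFiber u)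
  rw [fibSmCond_iff_of_eq r f (j u) s rfl (ψ ((j ≫ f).asFiber u)) hz]
  have h1 := smCond_oi ψ (f.fiberToSpecResidueField s) ((j ≫ f).asFiber u) r
  rw [← h1]
  exact smCond_congr e1.symm _ r

/-- the fibrewise condition as a `FibProp0`. -/
def fibSmCondProp (r : ℕ) : FibProp0.{u} where
  P := fun f x => FibSmCond r f x
  bc := fun H x' => fibSmCond_bc r H x'
  oi := fun j _ f _ u => fibSmCond_oi r j f u

end Groth.Agent.Helper16.SmCd
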