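import Mathlib
import Groth.Agent.Lib.Helper16.Sch.GnCons1
import Groth.Agent.Lib.Helper16.Sch.GenLift1
import Groth.Agent.Lib.Helper16.Sch.FibMod8
import Groth.Agent.Lib.Helper16.Sch.SmCondFib1

/-!
# Base change and localisation of the sets `Gn f n L` (helper16)
-/

set_option autoImplicit false
set_option linter.style.haveILetI false
set_option linter.unusedSectionVars false
universe u

open AlgebraicGeometry CategoryTheory Limits IsLocalRing TopologicalSpace Topology

namespace Groth.Agent.Helper16.SmCd

open Groth.Agent.Helper16.FibCl Groth.Agent.Helper16.FTDim Groth.Agent.Helper16.FibMod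
open Groth.Agent.Helper16.FibStalk Groth.Agent.Helper16.SmoothFibreSch

/-- the dimension of the fibre local ring at a point given in the fibre. -/
theorem fdim_eq_of_eq {X S : Scheme.{u}} (f : X ⟶ S) (x : X) (s : S) (hs : f x = s)
    (w : f.fiber s) (hw : f.fiberι s w = x) :
    fdim f x = ringKrullDim ((f.fiber s).presheaf.stalk w) := by
  subst hs
  have : w = f.asFiber x :=
    (f.fiberι (f x)).isEmbedding.injective (hw.trans (f.fiberι_asFiber x).symm)
  subst this
  rfl

section BC

variable {X Y X' Y' : Scheme.{u}} {f : X ⟶ Y} {g : Y' ⟶ Y} {f' : X' ⟶ Y'} {g' : X' ⟶ X}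

/-- lifting a generization within the fibre along a base change, keeping the transcendence
degree. -/
theorem exists_generization_lift_bc [LocallyOfFiniteType f] (hsq : IsPullback g' f' f g)
    (x' : X') (z : X) (hz : z ⤳ g' x') (hfz : f z = f (g' x')) :
    ∃ z' : X', z' ⤳ x' ∧ f' z' = f' x' ∧ g' z' = z ∧ td f' z' = td f z := by
  haveI hft' : LocallyOfFiniteType f' := MorphismProperty.of_isPullback hsq ‹_›
  let φ : f'.fiber (f' x') ⟶ f.fiber (g (f' x')) :=
    pullback.map _ _ _ _ g' (Spec.map (g.residueFieldMap (f' x'))) g hsq.w.symm (by simp)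
  have FS : IsPullback φ (f'.fiberToSpecResidueField (f' x'))
      (f.fiberToSpecResidueField (g (f' x'))) (Spec.map (g.residueFieldMap (f' x'))) :=
    isPullback_fiberToSpecResidueField_of_isPullback hsq (f' x')
  haveI : Flat (Spec.map (g.residueFieldMap (f' x'))) := by
    rw [HasRingHomProperty.Spec_iff (P := @Flat)]
    rw [RingHom.Flat]
    letI := (g.residueFieldMap (f' x')).hom.toAlgebra
    infer_instance
  haveI : Flat φ := MorphismProperty.of_isPullback FS.flip inferInstance
  haveI := isLocallyNoetherian_fiber f (g (f' x'))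
  haveI := isLocallyNoetherian_fiber f' (f' x')
  have e : φ ≫ f.fiberι (g (f' x')) = f'.fiberι (f' x') ≫ g' := pullback.lift_fst _ _ _
  have he : ∀ v' : f'.fiber (f' x'), f.fiberι (g (f' x')) (φ v') = g' (f'.fiberι (f' x') v') := by
    intro v'
    have := congrArg (fun (h : f'.fiber (f' x') ⟶ X) => h v') e
    simpa using this
  have hs : f (g' x') = g (f' x') := by
    rw [← Scheme.Hom.comp_apply, hsq.w, Scheme.Hom.comp_apply]
  have hι' : f'.fiberι (f' x') (f'.asFiber x') = x' := f'.fiberι_asFiber x'
  have hembι := (f.fiberι (g (f' x'))).isEmbedding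
  obtain ⟨v, rfl⟩ : z ∈ Set.range (f.fiberι (g (f' x'))) := by
    rw [f.range_fiberι]
    exact hfz.trans hs
  have hv : v ⤳ φ (f'.asFiber x') := by
    rw [← hembι.isInducing.specializes_iff, he, hι']
    exact hz
  obtain ⟨v', hv', hφv', hd⟩ :=
    Groth.Agent.Helper16.GenLift.exists_generization_lift_of_flat φ (f'.asFiber x') v hv
  refine ⟨f'.fiberι (f' x') v', ?_, apply_fiberι f' (f' x') v', ?_, ?_⟩
  · have := hv'.map (f'.fiberι (f' x')).continuous
    rw [hι'] at this
    exact this
  · rw [← he, hφv']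
  · have hg'z' : g' (f'.fiberι (f' x') v') = f.fiberι (g (f' x')) v := by rw [← he, hφv']
    have h1 : fdim f' (f'.fiberι (f' x') v') =
        fdim f (g' (f'.fiberι (f' x') v')) + ((0 : ℕ) : WithBot ℕ∞) := by
      rw [fdim_eq_of_eq f' _ (f' x') (apply_fiberι f' (f' x') v') v' rfl, hg'z',
        fdim_eq_of_eq f _ (g (f' x')) (apply_fiberι f (g (f' x')) v) v rfl, hd]
      simp
    have h2 := td_baseChange hsq (f'.fiberι (f' x') v') 0 h1
    rw [hg'z'] at h2
    simpa using h2

/-- the transcendence degree can only drop under base change. -/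
theorem td_le_of_isPullback [LocallyOfFiniteType f] (hsq : IsPullback g' f' f g) (x' : X') :
    td f' x' ≤ td f (g' x') := by
  haveI hft' : LocallyOfFiniteType f' := MorphismProperty.of_isPullback hsq ‹_›
  have h1 := (Groth.Agent.Helper14.FibreBC.trdeg_of_isPullback hsq x').1
  rw [td_spec f' x', td_spec f (g' x')] at h1
  exact_mod_cast h1

/-- **the sets `Gn` commute with base change.** -/
theorem Gn_preimage_of_isPullback [LocallyOfFiniteType f] (hsq : IsPullback g' f' f g) (n : ℕ)
    (E : Set X) : Gn f' n (g' ⁻¹' E) = g' ⁻¹' (Gn f n E) := by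
  ext x'
  constructor
  · rintro ⟨z', hz'E, hz'x', hfz', hn⟩
    refine ⟨g' z', hz'E, hz'x'.map g'.continuous, ?_, hn.trans (td_le_of_isPullback hsq z')⟩
    rw [← Scheme.Hom.comp_apply, ← Scheme.Hom.comp_apply, hsq.w, Scheme.Hom.comp_apply,
      Scheme.Hom.comp_apply, hfz']
  · rintro ⟨z, hzE, hzx, hfz, hn⟩
    obtain ⟨z', hz'x', hfz', hgz', htd⟩ := exists_generization_lift_bc hsq x' z hzx hfz
    exact ⟨z', by rw [Set.mem_preimage, hgz']; exact hzE, hz'x', hfz', by rw [htd]; exact hn⟩

end BC

end Groth.Agent.Helper16.SmCd
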