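import Mathlib
import Groth.Agent.Lib.Helper16.Sch.GnBC1
import Groth.Agent.Lib.Helper16.Sch.FibCl7

/-!
# Local constructibility of the sets `Gn f n L` for morphisms locally of finite presentation
(helper16)
-/

set_option autoImplicit false
set_option linter.style.haveILetI false
set_option linter.unusedSectionVars false
universe u

open AlgebraicGeometry CategoryTheory Limits IsLocalRing TopologicalSpace Topology

namespace Groth.Agent.Helper16.SmCd

open Groth.Agent.Helper16.FibCl Groth.Agent.Helper16.FTDim Groth.Agent.Helper16.FibMod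
open Groth.Agent.Helper16.ConsFD Groth.Agent.Helper14

theorem Gn_congr {X S : Scheme.{u}} {f f' : X ⟶ S} (h : f = f') (n : ℕ) (E : Set X) :
    Gn f n E = Gn f' n E := by subst h; rfl

/-- the sets `Gn` and restriction to an open subscheme of the source. -/
theorem Gn_preimage_of_isOpenImmersion {U X S : Scheme.{u}} (j : U ⟶ X) [IsOpenImmersion j]
    (f : X ⟶ S) [LocallyOfFiniteType f] (n : ℕ) (E : Set X) :
    Gn (j ≫ f) n (j ⁻¹' E) = j ⁻¹' (Gn f n E) := by
  have htd : ∀ z : U, td (j ≫ f) z = td f (j z) := by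
    intro z
    rw [td_comp j f z, td_of_surjectiveOnStalks j z, add_zero]
  ext u
  constructor
  · rintro ⟨z, hzE, hzu, hfz, hn⟩
    exact ⟨j z, hzE, hzu.map j.continuous, hfz, by rw [← htd]; exact hn⟩
  · rintro ⟨z₀, hzE, hzu, hfz, hn⟩
    obtain ⟨z, rfl⟩ : z₀ ∈ Set.range j := hzu.mem_open j.isOpenEmbedding.isOpen_range ⟨u, rfl⟩
    exact ⟨z, hzE, j.isOpenEmbedding.isInducing.specializes_iff.mp hzu, hfz,
      by rw [htd]; exact hn⟩

/-- the sets `Gn` do not change when composing with an open immersion of the target. -/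
theorem Gn_comp_isOpenImmersion {X Y' Y : Scheme.{u}} (h : X ⟶ Y') (m : Y' ⟶ Y)
    [IsOpenImmersion m] [LocallyOfFiniteType h] (n : ℕ) (E : Set X) :
    Gn (h ≫ m) n E = Gn h n E := by
  have htd : ∀ z : X, td (h ≫ m) z = td h z := by
    intro z
    rw [td_comp h m z, td_of_surjectiveOnStalks m (h z), zero_add]
  have hinj := m.isOpenEmbedding.injective
  ext x
  constructor
  · rintro ⟨z, hzE, hzx, hfz, hn⟩
    exact ⟨z, hzE, hzx, hinj hfz, by rw [← htd]; exact hn⟩
  · rintro ⟨z, hzE, hzx, hfz, hn⟩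
    exact ⟨z, hzE, hzx, congrArg m hfz, by rw [htd]; exact hn⟩

/-- **the sets `Gn` of constructible sets are constructible** (affine case). -/
theorem isConstructible_Gn_Spec (R B : Type u) [CommRing R] [CommRing B] [Algebra R B]
    [Algebra.FinitePresentation R B] (n : ℕ) (E : Set (Spec (.of B))) (hE : IsConstructible E) :
    IsConstructible (Gn (Spec.map (CommRingCat.ofHom (algebraMap R B))) n E) := by
  classical
  obtain ⟨C, hC⟩ := PrimeSpectrum.exists_constructibleSetData_iff.mpr hE
  let T : Finset B := C.biUnion fun c => insert c.f (Finset.univ.image c.g)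
  obtain ⟨R₀, _, _, B₀, _, _, _, _, _, _, hR₀, hB₀, hpo, hT⟩ := exists_model_finset R B T
  have hsq := isPullback_of_isPushout R₀ R B₀ B hpo
  have hc₀ : ∀ c ∈ C, ∃ c₀ : PrimeSpectrum.BasicConstructibleSetData B₀,
      c₀.map (algebraMap B₀ B) = c := by
    intro c hc
    apply exists_basicConstructibleSetData_map
    · apply hT
      simp only [T, Finset.mem_biUnion]
      exact ⟨c, hc, Finset.mem_insert_self _ _⟩
    · intro i
      apply hT
      simp only [T, Finset.mem_biUnion]
      exact ⟨c, hc, Finset.mem_insert_of_mem (Finset.mem_image_of_mem _ (Finset.mem_univ i))⟩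
  haveI : Nonempty (PrimeSpectrum.BasicConstructibleSetData B₀) := ⟨⟨0, 0, fun _ => 0⟩⟩
  choose! c₀ hc₀ using hc₀
  let E₀ : Set (Spec (.of B₀)) := ⋃ c ∈ C, (c₀ c).toSet
  have hE₀ : IsConstructible E₀ := by
    refine IsConstructible.biUnion C.finite_toSet fun c _ => ?_
    have := PrimeSpectrum.ConstructibleSetData.isConstructible_toSet
      ({c₀ c} : PrimeSpectrum.ConstructibleSetData B₀)
    simp only [PrimeSpectrum.ConstructibleSetData.toSet, Finset.mem_singleton,
      Set.iUnion_iUnion_eq_left] at this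
    exact this
  have hEE₀ : E = (Spec.map (CommRingCat.ofHom (algebraMap B₀ B))) ⁻¹' E₀ := by
    rw [← hC]
    show C.toSet = PrimeSpectrum.comap (algebraMap B₀ B) ⁻¹' (⋃ c ∈ C, (c₀ c).toSet)
    rw [Set.preimage_iUnion₂]
    unfold PrimeSpectrum.ConstructibleSetData.toSet
    refine Set.iUnion₂_congr fun c hc => ?_
    rw [← PrimeSpectrum.BasicConstructibleSetData.toSet_map, hc₀ c hc]
  haveI : IsNoetherianRing R₀ := Algebra.FiniteType.isNoetherianRing ℤ R₀
  haveI : IsNoetherianRing B₀ := Algebra.FiniteType.isNoetherianRing R₀ B₀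
  haveI : LocallyOfFinitePresentation (Spec.map (CommRingCat.ofHom (algebraMap R₀ B₀))) := by
    rw [HasRingHomProperty.Spec_iff (P := @LocallyOfFinitePresentation)]
    exact RingHom.finitePresentation_algebraMap.mpr inferInstance
  haveI : NoetherianSpace (Spec (.of B₀)) := inferInstanceAs (NoetherianSpace (PrimeSpectrum B₀))
  have h1 := isConstructible_Gn (Spec.map (CommRingCat.ofHom (algebraMap R₀ B₀))) n hE₀
  have h2 := (Spec.map (CommRingCat.ofHom (algebraMap B₀ B))).isConstructible_preimage h1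
  rw [hEE₀, Gn_preimage_of_isPullback hsq]
  exact h2

theorem isConstructible_Gn_SpecMap {R B : CommRingCat.{u}} (φ : R ⟶ B)
    (hφ : φ.hom.FinitePresentation) (n : ℕ) (E : Set (Spec B)) (hE : IsConstructible E) :
    IsConstructible (Gn (Spec.map φ) n E) := by
  letI := φ.hom.toAlgebra
  haveI : Algebra.FinitePresentation R B := hφ
  exact isConstructible_Gn_Spec R B n E hE

/-- **The sets `Gn f n E` are locally constructible** for `E` locally constructible and `f` locally
of finite presentation. -/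
theorem isLocallyConstructible_Gn {X S : Scheme.{u}} (f : X ⟶ S) [LocallyOfFinitePresentation f]
    (n : ℕ) (E : Set X) (hE : IsLocallyConstructible E) : IsLocallyConstructible (Gn f n E) := by
  intro x
  obtain ⟨_, ⟨W, hW, rfl⟩, hxW, -⟩ := S.isBasis_affineOpens.exists_subset_of_mem_open
    (Set.mem_univ (f x)) isOpen_univ
  have hW : IsAffineOpen W := hW
  obtain ⟨_, ⟨U, hU, rfl⟩, hxU, e⟩ := X.isBasis_affineOpens.exists_subset_of_mem_open
    (show x ∈ f ⁻¹ᵁ W from hxW) (f ⁻¹ᵁ W).isOpen
  have hU : IsAffineOpen U := hU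
  have e : U ≤ f ⁻¹ᵁ W := e
  refine ⟨U, U.isOpen.mem_nhds hxU, U.isOpen, ?_⟩
  have hφ : (f.appLE W U e).hom.FinitePresentation :=
    HasRingHomProperty.appLE (P := @LocallyOfFinitePresentation) f inferInstance ⟨W, hW⟩ ⟨U, hU⟩ e
  have hE' : IsConstructible (hU.fromSpec ⁻¹' E) :=
    (hE.preimage_of_isOpenEmbedding hU.fromSpec.isOpenEmbedding).isConstructible
  have hc := isConstructible_Gn_SpecMap (f.appLE W U e) hφ n _ hE'
  have hsq := IsAffineOpen.SpecMap_appLE_fromSpec f hW hU e
  haveI : LocallyOfFiniteType (Spec.map (f.appLE W U e)) := by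
    haveI : LocallyOfFinitePresentation (Spec.map (f.appLE W U e)) := by
      rw [HasRingHomProperty.Spec_iff (P := @LocallyOfFinitePresentation)]
      exact hφ
    infer_instance
  have h1 : Gn (Spec.map (f.appLE W U e)) n (hU.fromSpec ⁻¹' E) =
      hU.fromSpec ⁻¹' (Gn f n E) := by
    rw [← Gn_preimage_of_isOpenImmersion hU.fromSpec f n E,
      ← Gn_comp_isOpenImmersion (Spec.map (f.appLE W U e)) hW.fromSpec n]
    exact Gn_congr hsq n _
  rw [h1] at hc
  have hpre := hc.preimage_of_isOpenEmbedding hU.isoSpec.hom.isOpenEmbedding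
  refine (congrArg IsConstructible (Set.ext fun u => ?_)).mpr hpre
  show u.1 ∈ Gn f n E ↔ hU.fromSpec (hU.isoSpec.hom u) ∈ Gn f n E
  have h3 : hU.fromSpec (hU.isoSpec.hom u) = u.1 := by
    rw [← Scheme.Hom.comp_apply, hU.isoSpec_hom_fromSpec]
    rfl
  rw [h3]

end Groth.Agent.Helper16.SmCd
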