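import Mathlib
import Groth.Agent.Lib.Helper16.Alg.SuppOpen1
import Groth.Agent.Lib.Helper13.QCohLoc
import Groth.Agent.Lib.Helper13.FinPresAffine
import Groth.Agent.Lib.Helper13.FlatOverAffine
import Groth.Prelude.Def_CohB1

/-!
# The image of the support of a flat finitely presented module is open: schemes (helper16)
-/

set_option autoImplicit false
set_option linter.style.haveILetI false
set_option linter.unusedSectionVars false
universe u

open AlgebraicGeometry CategoryTheory Limits Topology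

namespace Groth.Agent.Helper16.SuppOpen

open Groth.Agent.Helper13.QCohLoc

variable {X Y : Scheme.{u}} (f : X ⟶ Y) (ℱ : X.Modules)

/-- support of a quasi-coherent module in an affine chart. -/
theorem mem_support_iff_chart [ℱ.IsQuasicoherent] {U : X.Opens} (hU : IsAffineOpen U) (x : U) :
    (x : X) ∈ CohB1.support ℱ ↔ hU.primeIdealOf x ∈ Module.support Γ(X, U) Γ(ℱ, U) := by
  letI modN : Module Γ(X, U) (ℱ.presheaf.stalk (x : X)) := modStalk ℱ x
  haveI := isLocalizedModule_germ ℱ hU x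
  rw [Module.mem_support_iff]
  change ¬ Subsingleton (ℱ.presheaf.stalk (x : X)) ↔ _
  rw [not_subsingleton_iff_nontrivial]
  exact (IsLocalizedModule.iso (hU.primeIdealOf x).asIdeal.primeCompl
    (germLin ℱ x)).toEquiv.nontrivial_congr.symm

/-- **The image of the support of a flat finitely presented module under a morphism locally of
finite presentation is open** (more generally the image of the intersection of the support with an
open set). -/
theorem isOpen_image_inter_support [LocallyOfFinitePresentation f] (hF : CohB1.IsFP ℱ)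
    (hflat : FlatMod.IsFlatOver f ℱ) (O : Set X) (hO : IsOpen O) :
    IsOpen (f '' (O ∩ CohB1.support ℱ)) := by
  haveI := hF
  rw [isOpen_iff_forall_mem_open]
  rintro _ ⟨x, ⟨hxO, hxS⟩, rfl⟩
  obtain ⟨_, ⟨V, hV, rfl⟩, hxV, -⟩ := Y.isBasis_affineOpens.exists_subset_of_mem_open
    (Set.mem_univ (f x)) isOpen_univ
  have hV : IsAffineOpen V := hV
  obtain ⟨_, ⟨U, hU, rfl⟩, hxU, e⟩ := X.isBasis_affineOpens.exists_subset_of_mem_open
    (show x ∈ (f ⁻¹ᵁ V : Set X) ∩ O from ⟨hxV, hxO⟩) ((f ⁻¹ᵁ V).isOpen.inter hO)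
  have hU : IsAffineOpen U := hU
  have eV : U ≤ f ⁻¹ᵁ V := fun z hz => (e hz).1
  have eO : (U : Set X) ⊆ O := fun z hz => (e hz).2
  have hφ : (f.appLE V U eV).hom.FinitePresentation :=
    HasRingHomProperty.appLE (P := @LocallyOfFinitePresentation) f inferInstance ⟨V, hV⟩ ⟨U, hU⟩ eV
  letI := (f.appLE V U eV).hom.toAlgebra
  haveI : Algebra.FinitePresentation Γ(Y, V) Γ(X, U) := hφ
  haveI : Module.FinitePresentation Γ(X, U) Γ(ℱ, U) :=
    Groth.Agent.Helper13.LocFree.finitePresentation_sections_of_isFinitePresentation ℱ hU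
  letI modA : Module Γ(Y, V) Γ(ℱ, U) := Module.compHom Γ(ℱ, U) (f.appLE V U eV).hom
  haveI : IsScalarTower Γ(Y, V) Γ(X, U) Γ(ℱ, U) :=
    IsScalarTower.of_algebraMap_smul (fun _ _ => rfl)
  haveI : Module.Flat Γ(Y, V) Γ(ℱ, U) :=
    Groth.Agent.Helper13.FlatOver.flat_sections_of_isFlatOverAt f ℱ hU hV eV
      (fun z _ => hflat z)
  have hopen := isOpen_comap_image_support Γ(Y, V) Γ(X, U) Γ(ℱ, U)
  have hcont : Continuous (fun v : V => hV.primeIdealOf v) := hV.isoSpec.hom.continuous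
  have hT : IsOpen ((fun v : V => hV.primeIdealOf v) ⁻¹'
      (PrimeSpectrum.comap (algebraMap Γ(Y, V) Γ(X, U)) '' Module.support Γ(X, U) Γ(ℱ, U))) :=
    hopen.preimage hcont
  refine ⟨Subtype.val '' ((fun v : V => hV.primeIdealOf v) ⁻¹'
      (PrimeSpectrum.comap (algebraMap Γ(Y, V) Γ(X, U)) '' Module.support Γ(X, U) Γ(ℱ, U))),
    ?_, V.isOpen.isOpenMap_subtype_val _ hT, ?_⟩
  · rintro _ ⟨v, ⟨q, hq, hqv⟩, rfl⟩
    -- the point of `U` attached to `q`
    have hmem : hU.fromSpec q ∈ U := by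
      have : hU.fromSpec q ∈ hU.fromSpec.opensRange := ⟨_, rfl⟩
      rwa [hU.opensRange_fromSpec] at this
    have hq' : hU.primeIdealOf ⟨hU.fromSpec q, hmem⟩ = q :=
      Groth.Agent.Helper13.FlatOver.primeIdealOf_fromSpec' hU q hmem
    refine ⟨hU.fromSpec q, ⟨eO hmem, ?_⟩, ?_⟩
    · rw [mem_support_iff_chart ℱ hU ⟨hU.fromSpec q, hmem⟩, hq']
      exact hq
    · have h1 := IsAffineOpen.comap_primeIdealOf_appLE (f := f) V hV U hU eV hmem
      rw [hq'] at h1
      have h2 : hV.primeIdealOf ⟨f (hU.fromSpec q), eV hmem⟩ = hV.primeIdealOf v := by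
        rw [← h1]
        exact hqv
      have h3 := hV.isoSpec.hom.homeomorph.injective h2
      exact congrArg Subtype.val h3
  · refine ⟨⟨f x, hxV⟩, ⟨hU.primeIdealOf ⟨x, hxU⟩, ?_, ?_⟩, rfl⟩
    · exact (mem_support_iff_chart ℱ hU ⟨x, hxU⟩).mp hxS
    · exact IsAffineOpen.comap_primeIdealOf_appLE (f := f) V hV U hU eV hxU

end Groth.Agent.Helper16.SuppOpen
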