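import Mathlib
import Groth.Agent.Lib.Helper16.Sch.AssFib1
import Groth.Agent.Lib.Helper16.Sch.SuppOpenSch

/-!
# Generic points of the supports of the fibre modules (helper16)
-/

set_option autoImplicit false
set_option linter.style.haveILetI false
set_option linter.unusedSectionVars false
universe u

open AlgebraicGeometry CategoryTheory Limits IsLocalRing TopologicalSpace

namespace Groth.Agent.Helper16.EquiSk

open Groth.Agent.Helper16.FibStalk Groth.Agent.Helper16.FibMod Groth.Agent.Helper16.FTDim
open Groth.Agent.Helper14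

variable {X Y : Scheme.{u}} (f : X ⟶ Y) (ℱ : X.Modules)

section Basic

variable [LocallyOfFiniteType f]

/-- the transcendence degree drops strictly along proper specializations in a fibre. -/
theorem td_lt_of_specializes_ne (x z : X) (hzx : z ⤳ x) (hfz : f z = f x) (hne : z ≠ x) :
    td f x < td f z := by
  have hemb := (f.fiberι (f x)).isEmbedding
  have hι : f.fiberι (f x) (f.asFiber x) = x := f.fiberι_asFiber x
  obtain ⟨v, rfl⟩ : z ∈ Set.range (f.fiberι (f x)) := by
    rw [f.range_fiberι]
    exact hfz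
  have hvw : v ⤳ f.asFiber x := by
    rw [← hemb.isInducing.specializes_iff, hι]
    exact hzx
  have hne' : v ≠ f.asFiber x := by
    rintro rfl
    exact hne hι
  have h := (isDimFun_fibre f (f x) v (f.asFiber x) hvw hne').1
  simp only at h
  rw [td_congr_point f hι] at h
  exact_mod_cast h

variable (hF : CohB1.IsFP ℱ)

include hF

/-- the points where the fibre module has dimension zero are the maximal points of the support in
their fibre. -/
theorem cdim_eq_zero_iff (x : X) :
    cdim f ℱ x = 0 ↔ x ∈ CohB1.support ℱ ∧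
      ∀ z : X, z ⤳ x → f z = f x → z ∈ CohB1.support ℱ → z = x := by
  obtain ⟨hform1, hform2⟩ := cdim_formula f ℱ hF x
  constructor
  · intro h0
    have hx : cdim f ℱ x ≠ ⊥ := by rw [h0]; exact WithBot.zero_ne_bot
    refine ⟨(cdim_ne_bot_iff f ℱ hF x).mp hx, ?_⟩
    intro z hzx hfz hzS
    by_contra hne
    have h1 := hform1 z hzx hfz ((cdim_ne_bot_iff f ℱ hF z).mpr hzS)
    rw [h0, zero_add] at h1
    have h2 : td f z ≤ td f x := by exact_mod_cast h1
    have h3 := td_lt_of_specializes_ne f x z hzx hfz hne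
    omega
  · rintro ⟨hxS, hmin⟩
    have hx : cdim f ℱ x ≠ ⊥ := (cdim_ne_bot_iff f ℱ hF x).mpr hxS
    obtain ⟨z, hzx, hfz, hz, heq⟩ := hform2 hx
    have hzx' : z = x := hmin z hzx hfz ((cdim_ne_bot_iff f ℱ hF z).mp hz)
    obtain ⟨a, b, ha, -, -⟩ := exists_nat_cinvariants f ℱ hF x hx
    rw [hzx', ha] at heq
    have : a + td f x = td f x := by exact_mod_cast heq
    have ha0 : a = 0 := by omega
    rw [ha, ha0]
    rfl

/-- every point of the support has a generization in its fibre which is a maximal point of the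
support, with the expected transcendence degree. -/
theorem exists_generic (x : X) (hx : x ∈ CohB1.support ℱ) :
    ∃ z : X, z ⤳ x ∧ f z = f x ∧ cdim f ℱ z = 0 ∧
      cdim f ℱ x + (td f x : WithBot ℕ∞) = (td f z : WithBot ℕ∞) := by
  obtain ⟨hform1, hform2⟩ := cdim_formula f ℱ hF x
  obtain ⟨z, hzx, hfz, hz, heq⟩ := hform2 ((cdim_ne_bot_iff f ℱ hF x).mpr hx)
  refine ⟨z, hzx, hfz, ?_, heq⟩
  rw [cdim_eq_zero_iff f ℱ hF z]
  refine ⟨(cdim_ne_bot_iff f ℱ hF z).mp hz, ?_⟩
  intro z' hz'z hfz' hz'S
  by_contra hne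
  have h1 := hform1 z' (hz'z.trans hzx) (hfz'.trans hfz) ((cdim_ne_bot_iff f ℱ hF z').mpr hz'S)
  rw [heq] at h1
  have h2 : td f z' ≤ td f z := by exact_mod_cast h1
  have h3 := td_lt_of_specializes_ne f z z' hz'z hfz' hne
  omega

/-- the depth of the fibre module vanishes at the maximal points of the support. -/
theorem cdepth_eq_zero_of_cdim_eq_zero (x : X) (h : cdim f ℱ x = 0) : cdepth f ℱ x = 0 := by
  have hx : cdim f ℱ x ≠ ⊥ := by rw [h]; exact WithBot.zero_ne_bot
  obtain ⟨a, b, ha, hb, hba⟩ := exists_nat_cinvariants f ℱ hF x hx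
  rw [ha] at h
  have ha0 : a = 0 := by exact_mod_cast h
  rw [hb]
  have : b = 0 := by omega
  rw [this]
  rfl

end Basic

end Groth.Agent.Helper16.EquiSk
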