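import Mathlib
import Groth.Agent.Lib.Helper16.Sch.SuppComp1
import Groth.Agent.Lib.Helper16.Top.ClosedComp

/-!
# Dimensions of the irreducible components of the supports of the fibre modules (helper16)
-/

set_option autoImplicit false
set_option linter.style.haveILetI false
set_option linter.unusedSectionVars false
universe u

open AlgebraicGeometry CategoryTheory Limits IsLocalRing TopologicalSpace

namespace Groth.Agent.Helper16.EquiSk

open Groth.Agent.Helper16.FibStalk Groth.Agent.Helper16.FibMod Groth.Agent.Helper16.FTDim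
open Groth.Agent.Helper14

variable {X Y : Scheme.{u}} (f : X ⟶ Y) (ℱ : X.Modules)

/-- the transcendence degrees of the maximal points of the support of the fibre module over `y`. -/
def genDims (y : Y) : Set ℕ := {n | ∃ x : X, f x = y ∧ cdim f ℱ x = 0 ∧ td f x = n}

variable [LocallyOfFiniteType f] (hF : CohB1.IsFP ℱ)

include hF

theorem nontrivial_stalk_fibre_iff (y : Y) (v : f.fiber y) :
    Nontrivial (((Scheme.Modules.pullback (f.fiberι y)).obj ℱ).presheaf.stalk v) ↔
      f.fiberι y v ∈ CohB1.support ℱ := by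
  obtain ⟨hv1, -⟩ := fibre_invariants f ℱ hF y v
  rw [← cdim_ne_bot_iff f ℱ hF, ← hv1, Module.supportDim_ne_bot_iff_nontrivial]

theorem isClosed_support_fibre (y : Y) :
    IsClosed {z : ↥(f.fiber y) |
      Nontrivial (((Scheme.Modules.pullback (f.fiberι y)).obj ℱ).presheaf.stalk z)} := by
  haveI : SheafOfModules.IsFinitePresentation (R := X.ringCatSheaf) ℱ := hF
  have hcl : IsClosed (CohB1.support ℱ) := Groth.Agent.Helper28.SuppProper.isClosed_support ℱ
  have := hcl.preimage (f.fiberι y).continuous
  convert this using 1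
  ext v
  exact nontrivial_stalk_fibre_iff f ℱ hF y v

/-- **The dimensions of the irreducible components of the support of the fibre module.** -/
theorem dims_fibre (y : Y) :
    (fun Z : Set ↥{z : ↥(f.fiber y) |
        Nontrivial (((Scheme.Modules.pullback (f.fiberι y)).obj ℱ).presheaf.stalk z)} =>
      topologicalKrullDim ↥Z) '' irreducibleComponents ↥{z : ↥(f.fiber y) |
        Nontrivial (((Scheme.Modules.pullback (f.fiberι y)).obj ℱ).presheaf.stalk z)} =
    (fun n : ℕ => (n : WithBot ℕ∞)) '' genDims f ℱ y := by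
  have hemb := (f.fiberι y).isEmbedding
  rw [Groth.Agent.Helper16.ClosedComp.dims_components _ (isClosed_support_fibre f ℱ hF y)]
  ext d
  simp only [Set.mem_ofPred_eq, Set.mem_image]
  constructor
  · rintro ⟨η, hηS, hmin, rfl⟩
    refine ⟨td f (f.fiberι y η), ⟨f.fiberι y η, apply_fiberι f y η, ?_, rfl⟩,
      (dim_closure_fibre f y η).symm⟩
    rw [cdim_eq_zero_iff f ℱ hF]
    refine ⟨(nontrivial_stalk_fibre_iff f ℱ hF y η).mp hηS, ?_⟩
    intro z hzx hfz hzS
    obtain ⟨v, rfl⟩ : z ∈ Set.range (f.fiberι y) := by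
      rw [f.range_fiberι]
      exact hfz.trans (apply_fiberι f y η)
    have hvw : v ⤳ η := by
      rw [← hemb.isInducing.specializes_iff]
      exact hzx
    rw [hmin v ((nontrivial_stalk_fibre_iff f ℱ hF y v).mpr hzS) hvw]
  · rintro ⟨n, ⟨x, hfx, h0, rfl⟩, rfl⟩
    obtain ⟨η, rfl⟩ : x ∈ Set.range (f.fiberι y) := by
      rw [f.range_fiberι]
      exact hfx
    obtain ⟨hS, hmin⟩ := (cdim_eq_zero_iff f ℱ hF _).mp h0
    refine ⟨η, (nontrivial_stalk_fibre_iff f ℱ hF y η).mpr hS, ?_, dim_closure_fibre f y η⟩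
    intro z hzS hzη
    apply hemb.injective
    exact hmin _ (hemb.isInducing.specializes_iff.mpr hzη)
      ((apply_fiberι f y z).trans (apply_fiberι f y η).symm)
      ((nontrivial_stalk_fibre_iff f ℱ hF y z).mp hzS)

end Groth.Agent.Helper16.EquiSk
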