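import Mathlib
import Groth.Agent.Lib.Helper16.Sch.SuppComp2

/-!
# Openness of conditions on the dimensions of the components of the supports of the fibre modules
(helper16)
-/

set_option autoImplicit false
set_option linter.style.haveILetI false
set_option linter.unusedSectionVars false
universe u

open AlgebraicGeometry CategoryTheory Limits IsLocalRing TopologicalSpace

namespace Groth.Agent.Helper16.EquiSk

open Groth.Agent.Helper16.FibStalk Groth.Agent.Helper16.FibMod Groth.Agent.Helper16.FTDim
open Groth.Agent.Helper14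

variable {X Y : Scheme.{u}} (f : X ⟶ Y) (ℱ : X.Modules)

variable [LocallyOfFinitePresentation f] (hF : CohB1.IsFP ℱ) (hflat : FlatMod.IsFlatOver f ℱ)

include hF in
omit [LocallyOfFinitePresentation f] in
theorem exists_component_dim_iff [LocallyOfFiniteType f] (y : Y) (n : ℕ) :
    (∃ Z ∈ irreducibleComponents ↥{z : ↥(f.fiber y) |
        Nontrivial (((Scheme.Modules.pullback (f.fiberι y)).obj ℱ).presheaf.stalk z)},
      topologicalKrullDim ↥Z = (n : WithBot ℕ∞)) ↔ n ∈ genDims f ℱ y := by
  have hd := dims_fibre f ℱ hF y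
  have hinj : Function.Injective (fun n : ℕ => (n : WithBot ℕ∞)) := fun a b h => by
    simpa using h
  rw [← hinj.mem_set_image, ← hd]
  simp only [Set.mem_image]

include hF hflat

/-- the set of points of the base over which the support of the fibre module has a component of
dimension `n`, as an image. -/
theorem setOf_mem_genDims_eq (n : ℕ) :
    {y : Y | n ∈ genDims f ℱ y} =
      f '' (({x : X | (n : ℕ∞) ≤ cdepth f ℱ x + (td f x : ℕ∞)} ∩ (setD f ℱ (n + 1))ᶜ) ∩
        CohB1.support ℱ) := by
  ext y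
  simp only [Set.mem_ofPred_eq, Set.mem_image, Set.mem_inter_iff, Set.mem_compl_iff]
  constructor
  · rintro ⟨x, rfl, h0, htd⟩
    obtain ⟨hS, hmin⟩ := (cdim_eq_zero_iff f ℱ hF x).mp h0
    refine ⟨x, ⟨⟨?_, ?_⟩, hS⟩, rfl⟩
    · rw [cdepth_eq_zero_of_cdim_eq_zero f ℱ hF x h0, zero_add, htd]
    · rintro ⟨z, hzS, hzx, hfz, hm⟩
      rw [hmin z hzx hfz hzS] at hm
      omega
  · rintro ⟨x, ⟨⟨hrd, hD⟩, hS⟩, rfl⟩
    obtain ⟨z, hzx, hfz, hz0, heq⟩ := exists_generic f ℱ hF x hS
    have hzS : z ∈ CohB1.support ℱ := ((cdim_eq_zero_iff f ℱ hF z).mp hz0).1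
    refine ⟨z, hfz, hz0, ?_⟩
    have hx : cdim f ℱ x ≠ ⊥ := (cdim_ne_bot_iff f ℱ hF x).mpr hS
    obtain ⟨a, b, ha, hb, hba⟩ := exists_nat_cinvariants f ℱ hF x hx
    rw [ha] at heq
    have h1 : a + td f x = td f z := by exact_mod_cast heq
    rw [hb] at hrd
    have h2 : n ≤ b + td f x := by exact_mod_cast hrd
    have h3 : ¬ (n + 1 ≤ td f z) := fun h => hD ⟨z, hzS, hzx, hfz, h⟩
    omega

/-- **Openness of the set of points of the base over which the support of the fibre module has a
component of dimension `n`.** -/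
theorem isOpen_setOf_mem_genDims (n : ℕ) : IsOpen {y : Y | n ∈ genDims f ℱ y} := by
  rw [setOf_mem_genDims_eq f ℱ hF hflat n]
  exact Groth.Agent.Helper16.SuppOpen.isOpen_image_inter_support f ℱ hF hflat _
    ((isOpen_rdepth_ge f ℱ hF hflat n).inter (isClosed_setD f ℱ hF (n + 1)).isOpen_compl)

/-- **EGA IV 12.2.1 (ii)**-type statement: openness of the set of points of the base over which
the set of dimensions of the components of the support of the fibre module contains `Φ`. -/
theorem isOpen_setOf_subset_genDims (Φ : Finset ℕ) :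
    IsOpen {y : Y | ∀ n ∈ Φ, n ∈ genDims f ℱ y} := by
  have : {y : Y | ∀ n ∈ Φ, n ∈ genDims f ℱ y} = ⋂ n ∈ Φ, {y : Y | n ∈ genDims f ℱ y} := by
    ext y
    simp
  rw [this]
  exact isOpen_biInter_finset fun n _ => isOpen_setOf_mem_genDims f ℱ hF hflat n

/-- **EGA IV 12.2.1**-type statement, in terms of the irreducible components of the supports of
the fibre modules. -/
theorem isOpen_setOf_components_dims_supset (Φ : Finset ℕ) :
    IsOpen {y : Y | ∀ n ∈ Φ, ∃ Z ∈ irreducibleComponents ↥{z : ↥(f.fiber y) |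
        Nontrivial (((Scheme.Modules.pullback (f.fiberι y)).obj ℱ).presheaf.stalk z)},
      topologicalKrullDim ↥Z = (n : WithBot ℕ∞)} := by
  have h := isOpen_setOf_subset_genDims f ℱ hF hflat Φ
  convert h using 1
  ext y
  simp only [Set.mem_ofPred_eq]
  exact forall₂_congr fun n _ => exists_component_dim_iff f ℱ hF y n

end Groth.Agent.Helper16.EquiSk
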