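import Mathlib
import Groth.Agent.Lib.Helper16.Sch.SuppComp3

/-!
# Openness of the set of points over which the fibre module has no embedded associated points and
the components of its support have prescribed dimensions (helper16)
-/

set_option autoImplicit false
set_option linter.style.haveILetI false
set_option linter.unusedSectionVars false
universe u

open AlgebraicGeometry CategoryTheory Limits IsLocalRing TopologicalSpace

namespace Groth.Agent.Helper16.EquiSk

open Groth.Agent.Helper16.FibStalk Groth.Agent.Helper16.FibMod Groth.Agent.Helper16.FTDim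
open Groth.Agent.Helper14

variable {X Y : Scheme.{u}} (f : X ⟶ Y) (ℱ : X.Modules)

/-- the set `E_j`: points having as a generization in the fibre an embedded associated point of the
fibre module, with residue field of transcendence degree `j`. -/
def setE (j : ℕ) : Set X :=
  {x | ∃ z : X, z ∈ lowRd f ℱ (j + 1) ∩ setD f ℱ (j + 1) ∧ z ⤳ x ∧ f z = f x ∧ j ≤ td f z}

section

variable [LocallyOfFiniteType f] (hF : CohB1.IsFP ℱ)

include hF

theorem mem_lowRd_iff (j : ℕ) (z : X) (hj : j ≤ td f z) :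
    z ∈ lowRd f ℱ (j + 1) ↔ cdepth f ℱ z = 0 ∧ td f z = j := by
  constructor
  · intro hzC
    have hcd : cdim f ℱ z ≠ ⊥ := by
      intro hbot
      apply hzC
      rw [cdepth_eq_top_of_cdim_eq_bot f ℱ z hbot, top_add]
      exact le_top
    obtain ⟨a, b, -, hb, -⟩ := exists_nat_cinvariants f ℱ hF z hcd
    have hlt : b + td f z < j + 1 := by
      have : ¬ (((j + 1 : ℕ) : ℕ∞) ≤ (b : ℕ∞) + (td f z : ℕ∞)) := by rw [← hb]; exact hzC
      rw [not_le] at this
      exact_mod_cast this
    rw [hb]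
    refine ⟨?_, by omega⟩
    have : b = 0 := by omega
    rw [this]
    rfl
  · rintro ⟨h0, htd⟩
    unfold lowRd
    rw [Set.mem_ofPred_eq, h0, zero_add, htd, not_le]
    exact_mod_cast Nat.lt_succ_self j

theorem mem_support_of_cdepth_eq_zero (z : X) (h0 : cdepth f ℱ z = 0) :
    z ∈ CohB1.support ℱ := by
  rw [← cdim_ne_bot_iff f ℱ hF z]
  intro hbot
  rw [cdepth_eq_top_of_cdim_eq_bot f ℱ z hbot] at h0
  exact absurd h0 (by simp)

theorem mem_setE_iff (j : ℕ) (x : X) :
    x ∈ setE f ℱ j ↔ ∃ z : X, z ⤳ x ∧ f z = f x ∧ cdepth f ℱ z = 0 ∧ td f z = j ∧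
      cdim f ℱ z ≠ 0 := by
  constructor
  · rintro ⟨z, ⟨hzC, z', hz'S, hz'z, hfz', hm⟩, hzx, hfz, hj⟩
    obtain ⟨h0, htd⟩ := (mem_lowRd_iff f ℱ hF j z hj).mp hzC
    refine ⟨z, hzx, hfz, h0, htd, ?_⟩
    intro hcd
    have := ((cdim_eq_zero_iff f ℱ hF z).mp hcd).2 z' hz'z hfz' hz'S
    rw [this] at hm
    omega
  · rintro ⟨z, hzx, hfz, h0, htd, hne⟩
    refine ⟨z, ⟨(mem_lowRd_iff f ℱ hF j z htd.ge).mpr ⟨h0, htd⟩, ?_⟩, hzx, hfz, htd.ge⟩
    have hzS := mem_support_of_cdepth_eq_zero f ℱ hF z h0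
    obtain ⟨z', hz'z, hfz', hz'0, heq⟩ := exists_generic f ℱ hF z hzS
    have hz'S : z' ∈ CohB1.support ℱ := ((cdim_eq_zero_iff f ℱ hF z').mp hz'0).1
    refine ⟨z', hz'S, hz'z, hfz', ?_⟩
    obtain ⟨a, b, ha, -, -⟩ := exists_nat_cinvariants f ℱ hF z
      ((cdim_ne_bot_iff f ℱ hF z).mpr hzS)
    rw [ha] at heq hne
    have h1 : a + td f z = td f z' := by exact_mod_cast heq
    have h2 : a ≠ 0 := by
      intro h
      apply hne
      rw [h]
      rfl
    omega

theorem setE_subset_setD (j : ℕ) : setE f ℱ j ⊆ setD f ℱ j := by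
  intro x hx
  obtain ⟨z, hzx, hfz, h0, htd, -⟩ := (mem_setE_iff f ℱ hF j x).mp hx
  exact ⟨z, mem_support_of_cdepth_eq_zero f ℱ hF z h0, hzx, hfz, htd.ge⟩

theorem isClosed_setE [LocallyOfFinitePresentation f] (hflat : FlatMod.IsFlatOver f ℱ)
    (j : ℕ) : IsClosed (setE f ℱ j) := by
  have hcl : IsClosed (lowRd f ℱ (j + 1) ∩ setD f ℱ (j + 1)) :=
    (isOpen_rdepth_ge f ℱ hF hflat (j + 1)).isClosed_compl.inter (isClosed_setD f ℱ hF (j + 1))
  exact Groth.Agent.Helper16.FibSk.isClosed_td_ge f ⟨_, hcl⟩ j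

/-- the closed set of specializations in the fibres of the embedded associated points of the fibre
modules. -/
theorem isClosed_iUnion_setE [LocallyOfFinitePresentation f] (hflat : FlatMod.IsFlatOver f ℱ) :
    IsClosed (⋃ j, setE f ℱ j) := by
  have := isClosed_iUnion_of_subset_setD f ℱ hF (setE f ℱ) (isClosed_setE f ℱ hF hflat)
    (setE_subset_setD f ℱ hF) Set.univ
  simpa using this

/-- the fibre module has no embedded associated points iff its associated points are maximal
points of its support. -/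
theorem noEmbedded_fibre_iff (y : Y) :
    AssSch.NoEmbedded ((Scheme.Modules.pullback (f.fiberι y)).obj ℱ) ↔
      ∀ x : X, f x = y → cdepth f ℱ x = 0 → cdim f ℱ x = 0 := by
  have hemb := (f.fiberι y).isEmbedding
  constructor
  · intro H x hfx h0
    obtain ⟨w, rfl⟩ : x ∈ Set.range (f.fiberι y) := by
      rw [f.range_fiberι]
      exact hfx
    have hS := mem_support_of_cdepth_eq_zero f ℱ hF _ h0
    obtain ⟨z, hzx, hfz, hz0, -⟩ := exists_generic f ℱ hF _ hS
    obtain ⟨v, rfl⟩ : z ∈ Set.range (f.fiberι y) := by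
      rw [f.range_fiberι]
      exact hfz.trans (apply_fiberι f y w)
    have hvw : v ⤳ w := by
      rw [← hemb.isInducing.specializes_iff]
      exact hzx
    have hw : w ∈ AssSch.Ass ((Scheme.Modules.pullback (f.fiberι y)).obj ℱ) :=
      (mem_ass_fibre_iff f ℱ hF y w).mpr h0
    have hv : v ∈ AssSch.Ass ((Scheme.Modules.pullback (f.fiberι y)).obj ℱ) :=
      (mem_ass_fibre_iff f ℱ hF y v).mpr (cdepth_eq_zero_of_cdim_eq_zero f ℱ hF _ hz0)
    rw [H w hw v hv hvw]
    exact hz0
  · intro H w hw v hv hvw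
    have h0w := (mem_ass_fibre_iff f ℱ hF y w).mp hw
    have h0v := (mem_ass_fibre_iff f ℱ hF y v).mp hv
    have hcw := H _ (apply_fiberι f y w) h0w
    have hmin := ((cdim_eq_zero_iff f ℱ hF _).mp hcw).2
    have := hmin (f.fiberι y v) (hemb.isInducing.specializes_iff.mpr hvw)
      ((apply_fiberι f y v).trans (apply_fiberι f y w).symm)
      (mem_support_of_cdepth_eq_zero f ℱ hF _ h0v)
    exact (hemb.injective this).symm

theorem setOf_not_noEmbedded_eq :
    {y : Y | AssSch.NoEmbedded ((Scheme.Modules.pullback (f.fiberι y)).obj ℱ)}ᶜ =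
      f '' (⋃ j, setE f ℱ j) := by
  ext y
  simp only [Set.mem_compl_iff, Set.mem_ofPred_eq, Set.mem_image, Set.mem_iUnion]
  rw [noEmbedded_fibre_iff f ℱ hF y]
  constructor
  · intro h
    push Not at h
    obtain ⟨x, hfx, h0, hne⟩ := h
    exact ⟨x, ⟨td f x, (mem_setE_iff f ℱ hF _ x).mpr ⟨x, specializes_rfl, rfl, h0, rfl, hne⟩⟩, hfx⟩
  · rintro ⟨x, ⟨j, hj⟩, rfl⟩ h
    obtain ⟨z, hzx, hfz, h0, htd, hne⟩ := (mem_setE_iff f ℱ hF j x).mp hj
    exact hne (h z hfz h0)

/-- **Openness of the set of points of the base over which the fibre module has no embedded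
associated points**, for a closed morphism. -/
theorem isOpen_setOf_noEmbedded [LocallyOfFinitePresentation f] (hcl : IsClosedMap f)
    (hflat : FlatMod.IsFlatOver f ℱ) :
    IsOpen {y : Y | AssSch.NoEmbedded ((Scheme.Modules.pullback (f.fiberι y)).obj ℱ)} := by
  rw [← isClosed_compl_iff, setOf_not_noEmbedded_eq f ℱ hF]
  exact hcl _ (isClosed_iUnion_setE f ℱ hF hflat)

end

end Groth.Agent.Helper16.EquiSk
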