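import Mathlib
import Groth.Agent.Lib.Helper16.Sch.GnLC1
import Groth.Agent.Lib.Helper16.Sch.FibMod11
import Groth.Agent.Lib.Helper16.Sch.SuppComp4
import Groth.Agent.Lib.Helper16.Sch.SuppOpenSch
import Groth.Agent.Lib.Helper16.Sch.AssFib1
import Groth.Agent.Lib.Helper16.Sch.FibCl8

/-!
# Local constructibility of loci attached to the fibre modules of a finitely presented module
(helper16)
-/

set_option autoImplicit false
set_option linter.style.haveILetI false
set_option linter.unusedSectionVars false
universe u

open AlgebraicGeometry CategoryTheory Limits IsLocalRing TopologicalSpace Topology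

namespace Groth.Agent.Helper16.ModLoci

open Groth.Agent.Helper16.SmCd Groth.Agent.Helper16.FTDim Groth.Agent.Helper16.FibMod
open Groth.Agent.Helper16.EquiSk

/-- a set which locally agrees with locally constructible sets is locally constructible. -/
theorem isLocallyConstructible_of_locally {T : Type*} [TopologicalSpace T] {s : Set T}
    (H : ∀ x : T, ∃ U : Opens T, x ∈ U ∧ ∃ s' : Set T, IsLocallyConstructible s' ∧
      s ∩ U = s' ∩ U) : IsLocallyConstructible s := by
  choose U hxU s' hs' heq using H
  have hcov : IsOpenCover U := by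
    apply IsOpenCover.mk
    rw [eq_top_iff]
    intro x _
    exact Opens.mem_iSup.mpr ⟨x, hxU x⟩
  refine IsLocallyConstructible.of_isOpenCover hcov fun x => ?_
  have h1 : (Subtype.val ⁻¹' s : Set ↥(U x : Set T)) = Subtype.val ⁻¹' (s' x) := by
    ext ⟨y, hy⟩
    constructor
    · intro h
      have : y ∈ s ∩ U x := ⟨h, hy⟩
      rw [heq x] at this
      exact this.1
    · intro h
      have : y ∈ s' x ∩ U x := ⟨h, hy⟩
      rw [← heq x] at this
      exact this.1
  rw [h1]
  exact (hs' x).preimage_of_isOpenEmbedding (U x).2.isOpenEmbedding_subtypeVal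

variable {X Y : Scheme.{u}} (f : X ⟶ Y) (ℱ : X.Modules)

/-- the support of a finitely presented module is locally constructible. -/
theorem isLocallyConstructible_support (hF : CohB1.IsFP ℱ) :
    IsLocallyConstructible (CohB1.support ℱ) := by
  haveI : SheafOfModules.IsFinitePresentation (R := X.ringCatSheaf) ℱ := hF
  intro x
  obtain ⟨_, ⟨U, hU, rfl⟩, hxU, -⟩ := X.isBasis_affineOpens.exists_subset_of_mem_open
    (Set.mem_univ x) isOpen_univ
  have hU : IsAffineOpen U := hU
  refine ⟨U, U.isOpen.mem_nhds hxU, U.isOpen, ?_⟩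
  haveI : Module.FinitePresentation Γ(X, U) Γ(ℱ, U) :=
    Groth.Agent.Helper13.LocFree.finitePresentation_sections_of_isFinitePresentation ℱ hU
  have hc : IsConstructible (Module.support Γ(X, U) Γ(ℱ, U)) :=
    Groth.Agent.Helper16.SuppOpen.isConstructible_support Γ(X, U) Γ(ℱ, U)
  have hpre := hc.preimage_of_isOpenEmbedding
    (f := fun u : U => hU.primeIdealOf u) (by
      have := hU.isoSpec.hom.isOpenEmbedding
      exact this)
  refine (congrArg IsConstructible (Set.ext fun u => ?_)).mpr hpre
  exact Groth.Agent.Helper16.SuppOpen.mem_support_iff_chart ℱ hU u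

variable [LocallyOfFinitePresentation f] (hF : CohB1.IsFP ℱ)

include hF

/-- the locus where the rectified depth is small is locally constructible. -/
theorem isLocallyConstructible_lowRd (m : ℕ) : IsLocallyConstructible (lowRd f ℱ m) := by
  have h : lowRd f ℱ m = ⋃ n ∈ Set.Iio m,
      {x : X | cdepth f ℱ x + (td f x : ℕ∞) = ((n : ℕ) : ℕ∞)} := by
    ext x
    simp only [lowRd, Set.mem_ofPred_eq, Set.mem_iUnion, Set.mem_Iio, exists_prop, not_le]
    constructor
    · intro hlt
      obtain ⟨n, hn⟩ := ENat.ne_top_iff_exists.mp (ne_top_of_lt hlt)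
      refine ⟨n, ?_, hn.symm⟩
      rw [← hn] at hlt
      exact_mod_cast hlt
    · rintro ⟨n, hn, heq⟩
      rw [heq]
      exact_mod_cast hn
  rw [h]
  exact IsLocallyConstructible.biUnion (Set.finite_Iio m)
    (fun n _ => isLocallyConstructible_rdepth_eq f ℱ hF n)

/-- the sets `setD` are locally constructible. -/
theorem isLocallyConstructible_setD (m : ℕ) : IsLocallyConstructible (setD f ℱ m) :=
  isLocallyConstructible_Gn f m _ (isLocallyConstructible_support ℱ hF)

/-- the sets `setE` are locally constructible. -/
theorem isLocallyConstructible_setE (j : ℕ) : IsLocallyConstructible (setE f ℱ j) :=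
  isLocallyConstructible_Gn f j _
    ((isLocallyConstructible_lowRd f ℱ hF (j + 1)).inter
      (isLocallyConstructible_setD f ℱ hF (j + 1)))

/-- the sets `setA` are locally constructible. -/
theorem isLocallyConstructible_setA (j : ℕ) : IsLocallyConstructible (setA f ℱ j) :=
  isLocallyConstructible_Gn f j _ (isLocallyConstructible_lowRd f ℱ hF (j + 1))

/-- a union of locally constructible sets `A j ⊆ setD j` is locally constructible. -/
theorem isLocallyConstructible_iUnion_of_subset_setD (A : ℕ → Set X)
    (hA : ∀ j, IsLocallyConstructible (A j)) (hsub : ∀ j, A j ⊆ setD f ℱ j) (J : Set ℕ) :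
    IsLocallyConstructible (⋃ j ∈ J, A j) := by
  classical
  apply isLocallyConstructible_of_locally
  intro x
  obtain ⟨N, hN⟩ := exists_notMem_setD f ℱ hF x
  refine ⟨⟨(setD f ℱ (N + 1))ᶜ, (isClosed_setD f ℱ hF _).isOpen_compl⟩, hN,
    ⋃ j ∈ {j ∈ J | j < N + 1}, A j, ?_, ?_⟩
  · refine IsLocallyConstructible.biUnion ?_ (fun j _ => hA j)
    exact (Set.finite_Iio (N + 1)).subset (fun j hj => hj.2)
  · ext y
    simp only [Set.mem_inter_iff, Set.mem_iUnion, exists_prop, Opens.coe_mk, Set.mem_compl_iff,
      Set.mem_ofPred_eq]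
    constructor
    · rintro ⟨⟨j, hjJ, hj⟩, hy⟩
      refine ⟨⟨j, ⟨hjJ, ?_⟩, hj⟩, hy⟩
      by_contra hlt
      exact hy (setD_anti f ℱ (by omega) (hsub j hj))
    · rintro ⟨⟨j, ⟨hjJ, -⟩, hj⟩, hy⟩
      exact ⟨⟨j, hjJ, hj⟩, hy⟩

/-- the fibrewise closure of the set of embedded associated points of the fibre modules is locally
constructible. -/
theorem isLocallyConstructible_iUnion_setE : IsLocallyConstructible (⋃ j, setE f ℱ j) := by
  have := isLocallyConstructible_iUnion_of_subset_setD f ℱ hF (setE f ℱ)
    (isLocallyConstructible_setE f ℱ hF) (setE_subset_setD f ℱ hF) Set.univ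
  simpa using this

/-- **S5871**: the set of points of the base over which the fibre module has no embedded
associated points is locally constructible. -/
theorem isLocallyConstructible_noEmbedded [QuasiCompact f] :
    IsLocallyConstructible
      {s : Y | AssSch.NoEmbedded ((Scheme.Modules.pullback (f.fiberι s)).obj ℱ)} := by
  have h1 := f.isLocallyConstructible_image (isLocallyConstructible_iUnion_setE f ℱ hF)
  rw [← setOf_not_noEmbedded_eq f ℱ hF] at h1
  have h2 := Groth.Agent.Helper16.ConsFD.isLocallyConstructible_compl h1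
  rwa [compl_compl] at h2

end Groth.Agent.Helper16.ModLoci
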