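import Mathlib
import Groth.Agent.Lib.Helper16.Sch.ModLoci1

/-!
# Local constructibility of the function "dimensions of the associated prime cycles of the fibre
module" (helper16)
-/

set_option autoImplicit false
set_option linter.style.haveILetI false
set_option linter.unusedSectionVars false
universe u

open AlgebraicGeometry CategoryTheory Limits IsLocalRing TopologicalSpace Topology

namespace Groth.Agent.Helper16.ModLoci

open Groth.Agent.Helper16.SmCd Groth.Agent.Helper16.FTDim Groth.Agent.Helper16.FibMod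
open Groth.Agent.Helper16.EquiSk Groth.Agent.Helper16.FibStalk

variable {X Y : Scheme.{u}} (f : X ⟶ Y) (ℱ : X.Modules)

section LFT

variable [LocallyOfFiniteType f] (hF : CohB1.IsFP ℱ)

include hF

/-- `s ∈ f '' setA j` iff the fibre module over `s` has an associated point with residue field of
transcendence degree `j`. -/
theorem mem_image_setA_iff (j : ℕ) (s : Y) :
    s ∈ f '' (setA f ℱ j) ↔ ∃ w : f.fiber s,
      w ∈ AssSch.Ass ((Scheme.Modules.pullback (f.fiberι s)).obj ℱ) ∧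
        td f (f.fiberι s w) = j := by
  constructor
  · rintro ⟨x, hx, rfl⟩
    obtain ⟨z, hzx, hfz, h0, htd⟩ := (mem_setA_iff f ℱ hF j x).mp hx
    obtain ⟨w, rfl⟩ : z ∈ Set.range (f.fiberι (f x)) := by
      rw [f.range_fiberι]
      exact hfz
    exact ⟨w, (mem_ass_fibre_iff f ℱ hF (f x) w).mpr h0, htd⟩
  · rintro ⟨w, hw, htd⟩
    refine ⟨f.fiberι s w, ?_, apply_fiberι f s w⟩
    exact (mem_setA_iff f ℱ hF j _).mpr
      ⟨_, specializes_rfl, rfl, (mem_ass_fibre_iff f ℱ hF s w).mp hw, htd⟩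

/-- the set of dimensions of the associated prime cycles of the fibre module, in terms of the
sets `setA`. -/
theorem assDims_eq_iff (Φ : Finset ℕ) (s : Y) :
    ((fun z : ↥(f.fiber s) => topologicalKrullDim ↥(closure ({z} : Set ↥(f.fiber s)))) ''
          AssSch.Ass ((Scheme.Modules.pullback (f.fiberι s)).obj ℱ) =
        (fun n : ℕ => (n : WithBot ℕ∞)) '' (Φ : Set ℕ)) ↔
      (∀ j : (Φ : Set ℕ), s ∈ f '' (setA f ℱ j)) ∧
        s ∈ (f '' (⋃ j ∈ ((Φ : Set ℕ)ᶜ : Set ℕ), setA f ℱ j))ᶜ := by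
  constructor
  · intro H
    refine ⟨?_, ?_⟩
    · rintro ⟨j, hj⟩
      have h1 : ((j : ℕ) : WithBot ℕ∞) ∈ (fun n : ℕ => (n : WithBot ℕ∞)) '' (Φ : Set ℕ) :=
        ⟨j, hj, rfl⟩
      rw [← H] at h1
      obtain ⟨w, hw, hdim⟩ := h1
      rw [mem_image_setA_iff f ℱ hF]
      refine ⟨w, hw, ?_⟩
      have h2 : topologicalKrullDim ↥(closure ({w} : Set ↥(f.fiber s))) = ((j : ℕ) : WithBot ℕ∞) :=
        hdim
      rw [dim_closure_fibre f s w] at h2
      exact_mod_cast h2
    · rintro ⟨x, hx, rfl⟩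
      simp only [Set.mem_iUnion, exists_prop] at hx
      obtain ⟨j, hjΦ, hj⟩ := hx
      obtain ⟨w, hw, htd⟩ := (mem_image_setA_iff f ℱ hF j (f x)).mp ⟨x, hj, rfl⟩
      have h1 : ((j : ℕ) : WithBot ℕ∞) ∈
          (fun z : ↥(f.fiber (f x)) =>
            topologicalKrullDim ↥(closure ({z} : Set ↥(f.fiber (f x))))) ''
          AssSch.Ass ((Scheme.Modules.pullback (f.fiberι (f x))).obj ℱ) := by
        refine ⟨w, hw, ?_⟩
        show topologicalKrullDim ↥(closure ({w} : Set ↥(f.fiber (f x)))) = _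
        rw [dim_closure_fibre f (f x) w, htd]
      rw [H] at h1
      obtain ⟨n, hn, hnj⟩ := h1
      have hnj' : ((n : ℕ) : WithBot ℕ∞) = ((j : ℕ) : WithBot ℕ∞) := hnj
      have : n = j := by exact_mod_cast hnj'
      subst this
      exact hjΦ hn
  · rintro ⟨H1, H2⟩
    ext a
    constructor
    · rintro ⟨w, hw, rfl⟩
      show topologicalKrullDim ↥(closure ({w} : Set ↥(f.fiber s))) ∈ _
      rw [dim_closure_fibre f s w]
      refine ⟨td f (f.fiberι s w), ?_, rfl⟩
      by_contra hnot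
      apply H2
      obtain ⟨x, hx, hfx⟩ := (mem_image_setA_iff f ℱ hF _ s).mpr ⟨w, hw, rfl⟩
      refine ⟨x, ?_, hfx⟩
      simp only [Set.mem_iUnion, exists_prop]
      exact ⟨_, hnot, hx⟩
    · rintro ⟨n, hn, rfl⟩
      obtain ⟨w, hw, htd⟩ := (mem_image_setA_iff f ℱ hF n s).mp (H1 ⟨n, hn⟩)
      refine ⟨w, hw, ?_⟩
      show topologicalKrullDim ↥(closure ({w} : Set ↥(f.fiber s))) = _
      rw [dim_closure_fibre f s w, htd]

end LFT

/-- **S5874** -/
theorem isLocallyConstructible_assDims_eq [LocallyOfFinitePresentation f] [QuasiCompact f]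
    (hF : CohB1.IsFP ℱ) (Φ : Finset ℕ) :
    IsLocallyConstructible {s : Y |
      (fun z : ↥(f.fiber s) => topologicalKrullDim ↥(closure ({z} : Set ↥(f.fiber s)))) ''
          AssSch.Ass ((Scheme.Modules.pullback (f.fiberι s)).obj ℱ) =
        (fun n : ℕ => (n : WithBot ℕ∞)) '' (Φ : Set ℕ)} := by
  have h1 : ∀ j : (Φ : Set ℕ), IsLocallyConstructible (f '' (setA f ℱ j)) := fun j =>
    f.isLocallyConstructible_image (isLocallyConstructible_setA f ℱ hF j)
  have h2 : IsLocallyConstructible (f '' (⋃ j ∈ ((Φ : Set ℕ)ᶜ : Set ℕ), setA f ℱ j))ᶜ :=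
    Groth.Agent.Helper16.ConsFD.isLocallyConstructible_compl
      (f.isLocallyConstructible_image
        (isLocallyConstructible_iUnion_of_subset_setD f ℱ hF (setA f ℱ)
          (isLocallyConstructible_setA f ℱ hF) (setA_subset_setD f ℱ hF) _))
  haveI : Finite (Φ : Set ℕ) := Φ.finite_toSet
  have h3 := (IsLocallyConstructible.iInter h1).inter h2
  convert h3 using 1
  ext s
  rw [Set.mem_ofPred_eq, assDims_eq_iff f ℱ hF Φ s]
  simp only [Set.mem_inter_iff, Set.mem_iInter]

end Groth.Agent.Helper16.ModLoci
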