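import Mathlib
import Groth.Agent.Lib.Helper16.Sch.ModLoci2
import Groth.Agent.Lib.Helper16.Sch.SuppComp3

/-!
# Local constructibility of the function "dimensions of the irreducible components of the support of
the fibre module" (helper16)
-/

set_option autoImplicit false
set_option linter.style.haveILetI false
set_option linter.unusedSectionVars false
universe u

open AlgebraicGeometry CategoryTheory Limits IsLocalRing TopologicalSpace Topology

namespace Groth.Agent.Helper16.ModLoci

open Groth.Agent.Helper16.SmCd Groth.Agent.Helper16.FTDim Groth.Agent.Helper16.FibMod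
open Groth.Agent.Helper16.EquiSk Groth.Agent.Helper16.FibStalk

variable {X Y : Scheme.{u}} (f : X ⟶ Y) (ℱ : X.Modules)

/-- the fibrewise closure of the set of maximal points of the supports of the fibre modules with
residue field of transcendence degree `j`. -/
def setC (j : ℕ) : Set X := Gn f j (CohB1.support ℱ ∩ (setD f ℱ (j + 1))ᶜ)

theorem setC_subset_setD (j : ℕ) : setC f ℱ j ⊆ setD f ℱ j :=
  Gn_mono f j Set.inter_subset_left

section LFT

variable [LocallyOfFiniteType f] (hF : CohB1.IsFP ℱ)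

include hF

theorem mem_image_setC_iff (j : ℕ) (s : Y) : s ∈ f '' (setC f ℱ j) ↔ j ∈ genDims f ℱ s := by
  constructor
  · rintro ⟨x, ⟨z, ⟨hzS, hzD⟩, hzx, hfz, hj⟩, rfl⟩
    have htd : td f z = j := by
      by_contra hne
      exact hzD ⟨z, hzS, specializes_rfl, rfl, by omega⟩
    refine ⟨z, hfz, ?_, htd⟩
    rw [cdim_eq_zero_iff f ℱ hF]
    refine ⟨hzS, ?_⟩
    intro z' hz'z hfz' hz'S
    by_contra hne
    have := td_lt_of_specializes_ne f z z' hz'z hfz' hne
    exact hzD ⟨z', hz'S, hz'z, hfz', by omega⟩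
  · rintro ⟨x, rfl, h0, htd⟩
    obtain ⟨hS, hmin⟩ := (cdim_eq_zero_iff f ℱ hF x).mp h0
    refine ⟨x, ⟨x, ⟨hS, ?_⟩, specializes_rfl, rfl, htd.ge⟩, rfl⟩
    rintro ⟨z', hz'S, hz'x, hfz', hm⟩
    rw [hmin z' hz'x hfz' hz'S] at hm
    omega

/-- the support of the fibre module as a subset of the fibre. -/
theorem support_fibre_eq (s : Y) :
    CohB1.support ((Scheme.Modules.pullback (f.fiberι s)).obj ℱ) =
      {z : ↥(f.fiber s) |
        Nontrivial (((Scheme.Modules.pullback (f.fiberι s)).obj ℱ).presheaf.stalk z)} := by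
  ext z
  exact not_subsingleton_iff_nontrivial

/-- the set of dimensions of the irreducible components of the support of the fibre module, in
terms of the sets `setC`. -/
theorem compDims_eq_iff (Φ : Finset ℕ) (s : Y) :
    ((fun Z : Set ↥(CohB1.support ((Scheme.Modules.pullback (f.fiberι s)).obj ℱ)) =>
        topologicalKrullDim ↥Z) ''
          irreducibleComponents ↥(CohB1.support ((Scheme.Modules.pullback (f.fiberι s)).obj ℱ)) =
        (fun n : ℕ => (n : WithBot ℕ∞)) '' (Φ : Set ℕ)) ↔
      (∀ j : (Φ : Set ℕ), s ∈ f '' (setC f ℱ j)) ∧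
        s ∈ (f '' (⋃ j ∈ ((Φ : Set ℕ)ᶜ : Set ℕ), setC f ℱ j))ᶜ := by
  have key : ∀ S₁ S₂ : Set ↥(f.fiber s), S₁ = S₂ →
      (fun Z : Set ↥S₁ => topologicalKrullDim ↥Z) '' irreducibleComponents ↥S₁ =
        (fun Z : Set ↥S₂ => topologicalKrullDim ↥Z) '' irreducibleComponents ↥S₂ := by
    rintro _ _ rfl
    rfl
  rw [key _ _ (support_fibre_eq f ℱ hF s), dims_fibre f ℱ hF s]
  have hinj : Function.Injective (fun n : ℕ => (n : WithBot ℕ∞)) := fun a b h => by
    simpa using h
  rw [hinj.image_injective.eq_iff]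
  constructor
  · intro H
    refine ⟨?_, ?_⟩
    · rintro ⟨j, hj⟩
      rw [mem_image_setC_iff f ℱ hF]
      rw [H]
      exact hj
    · rintro ⟨x, hx, rfl⟩
      simp only [Set.mem_iUnion, exists_prop] at hx
      obtain ⟨j, hjΦ, hj⟩ := hx
      have := (mem_image_setC_iff f ℱ hF j (f x)).mp ⟨x, hj, rfl⟩
      rw [H] at this
      exact hjΦ this
  · rintro ⟨H1, H2⟩
    ext j
    constructor
    · intro hj
      by_contra hnot
      apply H2
      obtain ⟨x, hx, hfx⟩ := (mem_image_setC_iff f ℱ hF j s).mpr hj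
      refine ⟨x, ?_, hfx⟩
      simp only [Set.mem_iUnion, exists_prop]
      exact ⟨j, hnot, hx⟩
    · intro hj
      exact (mem_image_setC_iff f ℱ hF j s).mp (H1 ⟨j, hj⟩)

end LFT

theorem isLocallyConstructible_setC [LocallyOfFinitePresentation f] (hF : CohB1.IsFP ℱ) (j : ℕ) :
    IsLocallyConstructible (setC f ℱ j) :=
  isLocallyConstructible_Gn f j _
    ((isLocallyConstructible_support ℱ hF).inter
      (Groth.Agent.Helper16.ConsFD.isLocallyConstructible_compl
        (isLocallyConstructible_setD f ℱ hF (j + 1))))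

/-- **S5875** -/
theorem isLocallyConstructible_compDims_eq [LocallyOfFinitePresentation f] [QuasiCompact f]
    (hF : CohB1.IsFP ℱ) (Φ : Finset ℕ) :
    IsLocallyConstructible {s : Y |
      (fun Z : Set ↥(CohB1.support ((Scheme.Modules.pullback (f.fiberι s)).obj ℱ)) =>
        topologicalKrullDim ↥Z) ''
          irreducibleComponents ↥(CohB1.support ((Scheme.Modules.pullback (f.fiberι s)).obj ℱ)) =
        (fun n : ℕ => (n : WithBot ℕ∞)) '' (Φ : Set ℕ)} := by
  have h1 : ∀ j : (Φ : Set ℕ), IsLocallyConstructible (f '' (setC f ℱ j)) := fun j =>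
    f.isLocallyConstructible_image (isLocallyConstructible_setC f ℱ hF j)
  have h2 : IsLocallyConstructible (f '' (⋃ j ∈ ((Φ : Set ℕ)ᶜ : Set ℕ), setC f ℱ j))ᶜ :=
    Groth.Agent.Helper16.ConsFD.isLocallyConstructible_compl
      (f.isLocallyConstructible_image
        (isLocallyConstructible_iUnion_of_subset_setD f ℱ hF (setC f ℱ)
          (isLocallyConstructible_setC f ℱ hF) (setC_subset_setD f ℱ) _))
  haveI : Finite (Φ : Set ℕ) := Φ.finite_toSet
  have h3 := (IsLocallyConstructible.iInter h1).inter h2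
  convert h3 using 1
  ext s
  rw [Set.mem_ofPred_eq, compDims_eq_iff f ℱ hF Φ s]
  simp only [Set.mem_inter_iff, Set.mem_iInter]

end Groth.Agent.Helper16.ModLoci
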