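import Mathlib
import Groth.Agent.Lib.Helper16.Sch.ModLoci3
import Groth.Agent.Lib.Helper16.Sch.UnitMod1
import Groth.Agent.Lib.Helper16.Top.ClosedComp

/-!
# Local constructibility of the locus where the fibres are equidimensional (helper16)
-/

set_option autoImplicit false
set_option linter.style.haveILetI false
set_option linter.unusedSectionVars false
universe u

open AlgebraicGeometry CategoryTheory Limits IsLocalRing TopologicalSpace Topology

namespace Groth.Agent.Helper16.ModLoci

open Groth.Agent.Helper16.SmCd Groth.Agent.Helper16.FTDim Groth.Agent.Helper16.FibMod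
open Groth.Agent.Helper16.EquiSk Groth.Agent.Helper16.FibStalk Groth.Agent.Helper16.UnitMod

/-- equidimensionality at a point of a sober space, through the maximal points. -/
theorem equidimAt_iff_generic {W : Type*} [TopologicalSpace W] [QuasiSober W] [T0Space W] (w : W)
    (e : WithBot ℕ∞) :
    (∀ Z ∈ irreducibleComponents W, w ∈ Z → topologicalKrullDim ↥Z = e) ↔
      ∀ η : W, η ⤳ w → (∀ z : W, z ⤳ η → z = η) →
        topologicalKrullDim ↥(closure ({η} : Set W)) = e := by
  constructor
  · intro H η hηw hmax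
    have hgp : η ∈ genericPoints W :=
      (Groth.Agent.Helper16.ClosedComp.mem_genericPoints_iff η).mpr hmax
    exact H _ hgp hηw.mem_closure
  · intro H Z hZ hwZ
    let g := genericPoints.ofComponent ⟨Z, hZ⟩
    have hg : IsGenericPoint g.1 Z := genericPoints.isGenericPoint_ofComponent ⟨Z, hZ⟩
    have hmin := (Groth.Agent.Helper16.ClosedComp.mem_genericPoints_iff g.1).mp g.2
    have := H g.1 (hg.specializes hwZ) hmin
    rw [hg.def] at this
    exact this

variable {X Y : Scheme.{u}} (f : X ⟶ Y) (ℱ : X.Modules)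

section LFT

variable [LocallyOfFiniteType f] (hF : CohB1.IsFP ℱ)

include hF

theorem mem_setC_iff (j : ℕ) (x : X) : x ∈ setC f ℱ j ↔
    ∃ z : X, z ⤳ x ∧ f z = f x ∧ cdim f ℱ z = 0 ∧ td f z = j := by
  constructor
  · rintro ⟨z, ⟨hzS, hzD⟩, hzx, hfz, hj⟩
    have htd : td f z = j := by
      by_contra hne
      exact hzD ⟨z, hzS, specializes_rfl, rfl, by omega⟩
    refine ⟨z, hzx, hfz, ?_, htd⟩
    rw [cdim_eq_zero_iff f ℱ hF]
    refine ⟨hzS, ?_⟩
    intro z' hz'z hfz' hz'S
    by_contra hne
    have := td_lt_of_specializes_ne f z z' hz'z hfz' hne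
    exact hzD ⟨z', hz'S, hz'z, hfz', by omega⟩
  · rintro ⟨z, hzx, hfz, h0, htd⟩
    obtain ⟨hS, hmin⟩ := (cdim_eq_zero_iff f ℱ hF z).mp h0
    refine ⟨z, ⟨hS, ?_⟩, hzx, hfz, htd.ge⟩
    rintro ⟨z', hz'S, hz'z, hfz', hm⟩
    rw [hmin z' hz'z hfz' hz'S] at hm
    omega

/-- the locus where the maximal points of the support of the fibre module which specialise to the
given point do not all have the same transcendence degree. -/
theorem not_mem_iUnion_setC_inter_setD_iff (x : X) (hx : x ∈ CohB1.support ℱ) :
    x ∉ ⋃ j, (setC f ℱ j ∩ setD f ℱ (j + 1)) ↔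
      ∃ e : ℕ, ∀ z : X, z ⤳ x → f z = f x → cdim f ℱ z = 0 → td f z = e := by
  obtain ⟨z₀, hz₀x, hfz₀, hz₀0, heq⟩ := exists_generic f ℱ hF x hx
  obtain ⟨hform1, -⟩ := cdim_formula f ℱ hF x
  constructor
  · intro H
    refine ⟨td f z₀, ?_⟩
    intro z hzx hfz h0
    have hzS := ((cdim_eq_zero_iff f ℱ hF z).mp h0).1
    have h1 := hform1 z hzx hfz ((cdim_ne_bot_iff f ℱ hF z).mpr hzS)
    rw [heq] at h1
    have h2 : td f z ≤ td f z₀ := by exact_mod_cast h1
    by_contra hne
    apply H
    simp only [Set.mem_iUnion, Set.mem_inter_iff]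
    refine ⟨td f z, (mem_setC_iff f ℱ hF _ x).mpr ⟨z, hzx, hfz, h0, rfl⟩, ?_⟩
    exact ⟨z₀, ((cdim_eq_zero_iff f ℱ hF z₀).mp hz₀0).1, hz₀x, hfz₀, by omega⟩
  · rintro ⟨e, He⟩ hmem
    simp only [Set.mem_iUnion, Set.mem_inter_iff] at hmem
    obtain ⟨j, hC, z', hz'S, hz'x, hfz', hm⟩ := hmem
    obtain ⟨z₁, hz₁x, hfz₁, hz₁0, htd₁⟩ := (mem_setC_iff f ℱ hF j x).mp hC
    have hej : e = j := (He z₁ hz₁x hfz₁ hz₁0).symm.trans htd₁
    obtain ⟨z₂, hz₂z', hfz₂, hz₂0, heq₂⟩ := exists_generic f ℱ hF z' hz'S
    have h3 := He z₂ (hz₂z'.trans hz'x) (hfz₂.trans hfz') hz₂0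
    obtain ⟨a, b, ha, -, -⟩ := exists_nat_cinvariants f ℱ hF z'
      ((cdim_ne_bot_iff f ℱ hF z').mpr hz'S)
    rw [ha] at heq₂
    have h4 : a + td f z' = td f z₂ := by exact_mod_cast heq₂
    omega

end LFT

/-- the locus of non-equidimensionality of the support of the fibre modules is locally
constructible. -/
theorem isLocallyConstructible_iUnion_setC_inter_setD [LocallyOfFinitePresentation f]
    (hF : CohB1.IsFP ℱ) :
    IsLocallyConstructible (⋃ j, (setC f ℱ j ∩ setD f ℱ (j + 1))) := by
  have := isLocallyConstructible_iUnion_of_subset_setD f ℱ hF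
    (fun j => setC f ℱ j ∩ setD f ℱ (j + 1))
    (fun j => (isLocallyConstructible_setC f ℱ hF j).inter
      (isLocallyConstructible_setD f ℱ hF (j + 1)))
    (fun j => Set.inter_subset_left.trans (setC_subset_setD f ℱ j)) Set.univ
  simpa using this

/-- **S3451**: the locus where the fibre is equidimensional at the point is locally
constructible. -/
theorem isLocallyConstructible_equidimAt [LocallyOfFinitePresentation f] :
    IsLocallyConstructible {x : X | ∃ e : ℕ,
      ∀ Z ∈ irreducibleComponents (↥(f.fiber (f.base x)) : Type u), f.asFiber x ∈ Z →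
        topologicalKrullDim (↥Z : Type u) = e} := by
  have hF := isFP_structureModule X
  have h1 := Groth.Agent.Helper16.ConsFD.isLocallyConstructible_compl
    (isLocallyConstructible_iUnion_setC_inter_setD f (Coh.structureModule X) hF)
  convert h1 using 1
  ext x
  rw [Set.mem_compl_iff, not_mem_iUnion_setC_inter_setD_iff f _ hF x
    (by rw [support_structureModule]; trivial)]
  have hemb := (f.fiberι (f x)).isEmbedding
  have hι : f.fiberι (f x) (f.asFiber x) = x := f.fiberι_asFiber x
  refine exists_congr fun e => ?_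
  rw [equidimAt_iff_generic]
  constructor
  · intro H z hzx hfz h0
    obtain ⟨η, rfl⟩ : z ∈ Set.range (f.fiberι (f x)) := by
      rw [f.range_fiberι]
      exact hfz
    have hηw : η ⤳ f.asFiber x := by
      rw [← hemb.isInducing.specializes_iff, hι]
      exact hzx
    obtain ⟨-, hmin⟩ := (cdim_eq_zero_iff f _ hF _).mp h0
    have h2 := H η hηw (by
      intro v hv
      apply hemb.injective
      exact hmin _ (hemb.isInducing.specializes_iff.mpr hv)
        ((apply_fiberι f (f x) v).trans (apply_fiberι f (f x) η).symm)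
        (by rw [support_structureModule]; trivial))
    rw [dim_closure_fibre f (f x) η] at h2
    exact_mod_cast h2
  · intro H η hηw hmax
    rw [dim_closure_fibre f (f x) η]
    have hzx : f.fiberι (f x) η ⤳ x := by
      have := hemb.isInducing.specializes_iff.mpr hηw
      rw [hι] at this
      exact this
    have h0 : cdim f (Coh.structureModule X) (f.fiberι (f x) η) = 0 := by
      rw [cdim_eq_zero_iff f _ hF]
      refine ⟨by rw [support_structureModule]; trivial, ?_⟩
      intro z hz hfz _
      obtain ⟨v, rfl⟩ : z ∈ Set.range (f.fiberι (f x)) := by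
        rw [f.range_fiberι]
        exact hfz.trans (apply_fiberι f (f x) η)
      rw [hmax v (hemb.isInducing.specializes_iff.mp hz)]
    have := H _ hzx (apply_fiberι f (f x) η) h0
    exact_mod_cast this

end Groth.Agent.Helper16.ModLoci
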