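import Mathlib
import Groth.Agent.Lib.Helper16.Sch.UnrFib

set_option autoImplicit false
set_option linter.style.haveILetI false
universe u
open CategoryTheory CategoryTheory.Limits AlgebraicGeometry Opposite TopologicalSpace Topology
open IsLocalRing

namespace Groth.Agent.Helper16.UnramLocus

theorem formallyUnramified_iff_fibre_field {R S : Type u} [CommRing R] [CommRing S]
    [IsLocalRing R] [IsLocalRing S] (φ : R →+* S) [IsLocalHom φ] (hφ : φ.EssFiniteType) :
    φ.FormallyUnramified ↔
      letI := (Ideal.quotientMap ((maximalIdeal R).map φ) φ Ideal.le_comap_map).toAlgebra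
      IsField (S ⧸ (maximalIdeal R).map φ) ∧
        Module.Finite (R ⧸ maximalIdeal R) (S ⧸ (maximalIdeal R).map φ) ∧
        Algebra.IsSeparable (R ⧸ maximalIdeal R) (S ⧸ (maximalIdeal R).map φ) := by
  algebraize [φ]
  letI alg : Algebra (ResidueField R) (S ⧸ (maximalIdeal R).map (algebraMap R S)) :=
    (Ideal.quotientMap ((maximalIdeal R).map φ) φ Ideal.le_comap_map).toAlgebra
  haveI : IsLocalHom (algebraMap R S) := ‹IsLocalHom φ›
  have mkE : ∀ H : (maximalIdeal R).map (algebraMap R S) = maximalIdeal S,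
      (S ⧸ (maximalIdeal R).map (algebraMap R S)) ≃ₐ[ResidueField R] ResidueField S := fun H =>
    { Ideal.quotEquivOfEq H with
      commutes' := by
        intro r
        obtain ⟨r, rfl⟩ := Ideal.Quotient.mk_surjective r
        rfl }
  constructor
  · intro h
    have FU : Algebra.FormallyUnramified R S := h
    have H := Algebra.FormallyUnramified.map_maximalIdeal (R := R) (S := S)
    refine ⟨Algebra.FormallyUnramified.isField_quotient_map_maximalIdeal, ?_, ?_⟩
    · change Module.Finite (ResidueField R) (S ⧸ (maximalIdeal R).map (algebraMap R S))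
      exact Module.Finite.equiv (mkE H).symm.toLinearEquiv
    · change Algebra.IsSeparable (ResidueField R) (S ⧸ (maximalIdeal R).map (algebraMap R S))
      exact AlgEquiv.Algebra.isSeparable (mkE H).symm
  · rintro ⟨h1, h2, h3⟩
    have hmax : ((maximalIdeal R).map (algebraMap R S)).IsMaximal :=
      Ideal.Quotient.maximal_of_isField _ h1
    have H : (maximalIdeal R).map (algebraMap R S) = maximalIdeal S :=
      IsLocalRing.eq_maximalIdeal hmax
    haveI h3' : Algebra.IsSeparable (ResidueField R)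
        (S ⧸ (maximalIdeal R).map (algebraMap R S)) := h3
    haveI : Algebra.IsSeparable (ResidueField R) (ResidueField S) :=
      AlgEquiv.Algebra.isSeparable (mkE H)
    exact Algebra.FormallyUnramified.of_map_maximalIdeal H

theorem etale_iff_flat_and_fibre_fields {X Y : Scheme.{u}} (f : X ⟶ Y)
    [LocallyOfFinitePresentation f] :
    Etale f ↔ Flat f ∧ ∀ x : X,
      letI φ := (f.stalkMap x).hom
      letI 𝔪 := IsLocalRing.maximalIdeal ↑(Y.presheaf.stalk (f.base x))
      letI := (Ideal.quotientMap (𝔪.map φ) φ Ideal.le_comap_map).toAlgebra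
      IsField (↑(X.presheaf.stalk x) ⧸ 𝔪.map φ) ∧
        Module.Finite (↑(Y.presheaf.stalk (f.base x)) ⧸ 𝔪) (↑(X.presheaf.stalk x) ⧸ 𝔪.map φ) ∧
        Algebra.IsSeparable (↑(Y.presheaf.stalk (f.base x)) ⧸ 𝔪)
          (↑(X.presheaf.stalk x) ⧸ 𝔪.map φ) := by
  rw [Etale.iff_flat_and_formallyUnramified]
  have key : FormallyUnramified f ↔ ∀ x : X,
      letI φ := (f.stalkMap x).hom
      letI 𝔪 := IsLocalRing.maximalIdeal ↑(Y.presheaf.stalk (f.base x))
      letI := (Ideal.quotientMap (𝔪.map φ) φ Ideal.le_comap_map).toAlgebra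
      IsField (↑(X.presheaf.stalk x) ⧸ 𝔪.map φ) ∧
        Module.Finite (↑(Y.presheaf.stalk (f.base x)) ⧸ 𝔪) (↑(X.presheaf.stalk x) ⧸ 𝔪.map φ) ∧
        Algebra.IsSeparable (↑(Y.presheaf.stalk (f.base x)) ⧸ 𝔪)
          (↑(X.presheaf.stalk x) ⧸ 𝔪.map φ) := by
    rw [formallyUnramified_iff_forall_unrAt]
    refine forall_congr' fun x => ?_
    rw [unrAt_iff_stalkMap]
    exact formallyUnramified_iff_fibre_field (f.stalkMap x).hom (LocallyOfFiniteType.stalkMap f x)
  rw [key]
  exact ⟨fun h => ⟨h.1, h.2.1⟩, fun h => ⟨h.1, h.2, inferInstance⟩⟩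

end Groth.Agent.Helper16.UnramLocus
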