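import Mathlib
import Groth.Agent.Lib.Helper15.AlgSpDescent

set_option autoImplicit false
universe u
open AlgebraicGeometry CategoryTheory CategoryTheory.Limits

namespace Groth.Agent.Helper16.EtField

/-- a scheme with exactly one point is affine -/
theorem isAffineOpen_singleton {U : Scheme.{u}} (V : U.Opens) (x : U) (hV : (V : Set U) = {x}) :
    IsAffineOpen V := by
  obtain ⟨W, hW, hxW, hWV⟩ := U.isBasis_affineOpens.exists_subset_of_mem_open
    (show x ∈ (V : Set U) by rw [hV]; rfl) V.2
  obtain ⟨W, hWaff, rfl⟩ := hW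
  have : W = V := by
    apply TopologicalSpace.Opens.ext
    apply Set.Subset.antisymm hWV
    rw [hV, Set.singleton_subset_iff]
    exact hxW
  rw [← this]
  exact hWaff


set_option backward.isDefEq.respectTransparency.types false in
theorem exists_point_chart (k : Type u) [Field k] (U : Scheme.{u})
    (φ : U ⟶ Spec (CommRingCat.of k)) [Etale φ] (x : U) :
    ∃ (K : Type u) (_ : Field K) (_ : Algebra k K) (_ : FiniteDimensional k K)
      (_ : Algebra.IsSeparable k K) (g : Spec (CommRingCat.of K) ⟶ U),
      IsOpenImmersion g ∧ Set.range g = {x} ∧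
        g ≫ φ = Spec.map (CommRingCat.ofHom (algebraMap k K)) := by
  haveI : LocallyQuasiFinite φ :=
    Groth.Agent.Helper15.locallyQuasiFinite_of_formallyUnramified φ
  have hdisc := φ.isDiscrete_preimage_singleton (φ x)
  obtain ⟨W, hWo, hW⟩ := isDiscrete_iff_forall_mem_exists_isOpen.mp hdisc x rfl
  have huniv : φ ⁻¹' {φ x} = Set.univ := by
    ext y
    simp only [Set.mem_preimage, Set.mem_singleton_iff, Set.mem_univ, iff_true]
    exact Subsingleton.elim _ _
  rw [huniv, Set.inter_univ] at hW
  let V : U.Opens := ⟨W, hWo⟩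
  have hV : IsAffineOpen V := isAffineOpen_singleton V x hW
  let R := Γ(U, V)
  let ψ : CommRingCat.of k ⟶ R := Spec.preimage (hV.fromSpec ≫ φ)
  have hψ : Spec.map ψ = hV.fromSpec ≫ φ := Spec.map_preimage _
  letI : Algebra k R := ψ.hom.toAlgebra
  haveI het : Algebra.Etale k R := by
    have : Etale (Spec.map ψ) := by rw [hψ]; infer_instance
    exact (HasRingHomProperty.Spec_iff (P := @Etale)).mp this
  haveI := Algebra.FormallyUnramified.finite_of_free k R
  haveI := Algebra.FormallyUnramified.isReduced_of_field k R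
  haveI : IsArtinianRing R := IsArtinianRing.of_finite k R
  have hrange : Set.range hV.fromSpec = {x} := by
    rw [hV.range_fromSpec]; exact hW
  haveI : Nonempty (PrimeSpectrum R) := by
    have : x ∈ Set.range hV.fromSpec := by rw [hrange]; rfl
    obtain ⟨y, -⟩ := this
    exact ⟨y⟩
  haveI : Subsingleton (PrimeSpectrum R) := by
    constructor
    intro a b
    apply hV.fromSpec.isOpenEmbedding.injective
    have ha : hV.fromSpec a ∈ Set.range hV.fromSpec := ⟨a, rfl⟩
    have hb : hV.fromSpec b ∈ Set.range hV.fromSpec := ⟨b, rfl⟩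
    rw [hrange] at ha hb
    exact ha.trans hb.symm
  haveI : Nontrivial R := (PrimeSpectrum.nonempty_iff_nontrivial).mp inferInstance
  haveI : IsLocalRing R := by
    obtain ⟨m, hm⟩ := Ideal.exists_maximal R
    refine IsLocalRing.of_unique_max_ideal ⟨m, hm, fun m' hm' => ?_⟩
    exact congrArg PrimeSpectrum.asIdeal
      (Subsingleton.elim (⟨m', hm'.isPrime⟩ : PrimeSpectrum R) ⟨m, hm.isPrime⟩)
  have hfield : IsField R := IsArtinianRing.isField_of_isReduced_of_isLocalRing R
  letI F : Field R := hfield.toField
  refine ⟨R, F, inferInstance, inferInstance, ?_, hV.fromSpec, inferInstance, hrange, ?_⟩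
  · exact Algebra.FormallyUnramified.isSeparable k R
  · rw [← hψ]
    rfl


open scoped Function in
theorem etale_over_field_iff (k : Type u) [Field k] (U : Scheme.{u})
    (φ : U ⟶ Spec (CommRingCat.of k)) :
    Etale φ ↔
      ∃ (ι : Type u) (K : ι → Type u) (_ : ∀ i, Field (K i)) (_ : ∀ i, Algebra k (K i))
        (_ : ∀ i, FiniteDimensional k (K i)) (_ : ∀ i, Algebra.IsSeparable k (K i))
        (e : (∐ fun i => Spec (CommRingCat.of (K i))) ≅ U),
        ∀ i, Sigma.ι (fun i => Spec (CommRingCat.of (K i))) i ≫ e.hom ≫ φ =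
          Spec.map (CommRingCat.ofHom (algebraMap k (K i))) := by
  constructor
  · intro h
    choose K hF hA hfd hsep g hgo hgr hgφ using exists_point_chart k U φ
    have hcov : ⨆ x, (g x).opensRange = ⊤ := by
      rw [eq_top_iff]
      intro x _
      rw [TopologicalSpace.Opens.mem_iSup]
      refine ⟨x, ?_⟩
      show x ∈ Set.range (g x)
      rw [hgr]; rfl
    have hdisj : Pairwise (Disjoint on (g · |>.opensRange)) := by
      intro x y hxy
      rw [Function.onFun_apply, disjoint_iff]
      apply TopologicalSpace.Opens.ext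
      show Set.range (g x) ∩ Set.range (g y) = ∅
      rw [hgr, hgr]
      exact Set.singleton_inter_eq_empty.mpr (fun h => hxy (by simpa using h))
    obtain ⟨hc⟩ := nonempty_isColimit_cofanMk_of
      (X := fun x : U => Spec (CommRingCat.of (K x))) g hcov hdisj
    let e : (∐ fun x : U => Spec (CommRingCat.of (K x))) ≅ U :=
      (colimit.isColimit _).coconePointUniqueUpToIso hc
    refine ⟨U, K, hF, hA, hfd, hsep, e, fun i => ?_⟩
    have h1 : Sigma.ι (fun x : U => Spec (CommRingCat.of (K x))) i ≫ e.hom = g i :=
      (colimit.isColimit _).comp_coconePointUniqueUpToIso_hom hc ⟨i⟩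
    rw [← Category.assoc, h1, hgφ]
  · rintro ⟨ι, K, hF, hA, hfd, hsep, e, he⟩
    have h2 : Etale (e.hom ≫ φ) := by
      rw [IsZariskiLocalAtSource.iff_of_openCover (P := @Etale)
        (sigmaOpenCover (fun i => Spec (CommRingCat.of (K i))))]
      intro i
      show Etale (Sigma.ι (fun i => Spec (CommRingCat.of (K i))) i ≫ e.hom ≫ φ)
      rw [he i]
      have : Algebra.Etale k (K i) :=
        ⟨Algebra.FormallyEtale.of_isSeparable k (K i),
          Algebra.FinitePresentation.of_finiteType.mp inferInstance⟩
      exact (HasRingHomProperty.Spec_iff (P := @Etale)).mpr (RingHom.etale_algebraMap.mpr this)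
    have h3 : φ = e.inv ≫ e.hom ≫ φ := by rw [Iso.inv_hom_id_assoc]
    rw [h3]
    infer_instance

end Groth.Agent.Helper16.EtField
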