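import Mathlib
import Groth.Agent.Lib.Helper16.AlgSp.FlatDesc
import Groth.Agent.Lib.Helper16.Sch.DSmapFF

/-!
# "flat and surjective" for a morphism of `T`-schemes can be tested after an fpqc base change
(helper16)
-/

set_option autoImplicit false
set_option linter.style.haveILetI false
universe u
open CategoryTheory CategoryTheory.Limits AlgebraicGeometry MorphismProperty

noncomputable section

namespace Groth.Agent.Helper16.FFDesc

open Groth.Agent.Helper16.DSmapFF

/-- a property stable under base change which descends along fpqc covers, for a morphism over `T`,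
can be tested after an fpqc base change `T' ⟶ T` -/
theorem prop_bc_iff (P : MorphismProperty Scheme.{u}) [P.IsStableUnderBaseChange]
    [P.DescendsAlong (@Surjective ⊓ @Flat ⊓ @QuasiCompact)]
    {T T' : Scheme.{u}} (q : T' ⟶ T) [Flat q] [Surjective q] [QuasiCompact q]
    {A B : Over T} (v : A ⟶ B) :
    P ((Over.pullback q).map v).left ↔ P v.left := by
  have hpb := isPullback_overPullback_map q v
  constructor
  · intro h
    -- `pullback.fst B.hom q` is an fpqc cover of `B.left`
    have hQ : (@Surjective ⊓ @Flat ⊓ @QuasiCompact : MorphismProperty Scheme.{u})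
        (pullback.fst B.hom q) := ⟨⟨inferInstance, inferInstance⟩, inferInstance⟩
    exact MorphismProperty.of_isPullback_of_descendsAlong
      (Q := @Surjective ⊓ @Flat ⊓ @QuasiCompact) hpb hQ h
  · intro h
    exact MorphismProperty.of_isPullback hpb.flip h

theorem flat_surjective_bc_iff {T T' : Scheme.{u}} (q : T' ⟶ T) [Flat q] [Surjective q]
    [QuasiCompact q] {A B : Over T} (v : A ⟶ B) :
    (Flat ((Over.pullback q).map v).left ∧ Surjective ((Over.pullback q).map v).left) ↔
      (Flat v.left ∧ Surjective v.left) := by
  haveI := Groth.Agent.Helper16.AS.flat_descendsAlong_fpqc.{u}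
  rw [prop_bc_iff @Flat q v, prop_bc_iff @Surjective q v]

end Groth.Agent.Helper16.FFDesc
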