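import Mathlib
import Groth.Agent.Lib.Helper7.MLD
import Groth.Agent.Lib.Helper16.Sch.DSmapFF
import Groth.Agent.Lib.Helper16.AlgSp.FlatSrc

/-!
# "flat and surjective" locus of a homomorphism of groups of multiplicative type, I (helper16)

`FFOver u t`: the base change of `u : G ⟶ H` along `t : T ⟶ S` is flat and surjective.
Adaptation of helper7's `MonoOver` machinery (`Lib/Helper7/MLA`–`MLD`).
-/

set_option autoImplicit false
set_option linter.style.haveILetI false
set_option linter.unusedSectionVars false
universe u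
open CategoryTheory CategoryTheory.Limits MonoidalCategory CartesianMonoidalCategory MonObj GrpObj
  AlgebraicGeometry

noncomputable section

namespace Groth.Agent.Helper16.FFLocus

open Groth.Agent.Helper18 Groth.Agent.Helper18.MultToGa Groth.Agent.Helper7.MTRig
  Groth.Agent.Helper7.GL Groth.Agent.Helper7.ML Groth.Agent.Helper16.DSmapFF

/-- flat and surjective -/
abbrev FF : MorphismProperty Scheme.{u} := @Flat ⊓ @Surjective

variable {S : Scheme.{u}} {G H : Over S} (u : G ⟶ H)

/-- the base change of `u` along `t` is flat and surjective -/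
def FFOver {T : Scheme.{u}} (t : T ⟶ S) : Prop := FF ((Over.pullback t).map u).left

theorem ffOver_iff {T : Scheme.{u}} (t : T ⟶ S) :
    FFOver u t ↔ Flat ((Over.pullback t).map u).left ∧
      Surjective ((Over.pullback t).map u).left := Iff.rfl

theorem isIso_left {Y : Scheme.{u}} {A B : Over Y} (f : A ⟶ B) [IsIso f] : IsIso f.left :=
  (inferInstance : IsIso ((CategoryTheory.Over.forget Y).map f))

theorem comp_iff {T T' : Scheme.{u}} (t : T ⟶ S) (π : T' ⟶ T) :
    FFOver u (π ≫ t) ↔ FF ((Over.pullback π).map ((Over.pullback t).map u)).left := by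
  have nat := (Over.pullbackComp π t).hom.naturality u
  have nat' := congrArg (fun k => k.left) nat
  simp only [Over.comp_left, Functor.comp_map] at nat'
  unfold FFOver
  haveI : IsIso ((Over.pullbackComp π t).hom.app G).left := isIso_left _
  haveI : IsIso ((Over.pullbackComp π t).hom.app H).left := isIso_left _
  rw [← FF.cancel_right_of_respectsIso _ ((Over.pullbackComp π t).hom.app H).left, nat',
    FF.cancel_left_of_respectsIso]
  exact Iff.rfl

theorem FFOver.comp {T T' : Scheme.{u}} {t : T ⟶ S} (h : FFOver u t) (π : T' ⟶ T) :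
    FFOver u (π ≫ t) := by
  rw [comp_iff]
  exact MorphismProperty.of_isPullback (isPullback_overPullback_map π _).flip h

theorem FFOver.of_eq {T T' : Scheme.{u}} {t : T ⟶ S} (h : FFOver u t) (π : T' ⟶ T)
    (t' : T' ⟶ S) (ht : π ≫ t = t') : FFOver u t' := by
  subst ht
  exact h.comp u π

/-- descent along a jointly surjective family of flat morphisms -/
theorem FFOver.of_family {T : Scheme.{u}} (t : T ⟶ S) {I : Type*} {T' : I → Scheme.{u}}
    (q : ∀ i, T' i ⟶ T) (hq : ∀ i, Flat (q i)) (hs : ∀ x : T, ∃ i, x ∈ Set.range (q i))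
    (h : ∀ i, FFOver u (q i ≫ t)) : FFOver u t := by
  have hw : ∀ i, FF ((Over.pullback (q i)).map ((Over.pullback t).map u)).left :=
    fun i => (comp_iff u t (q i)).1 (h i)
  have hpb := fun i => isPullback_overPullback_map (q i) ((Over.pullback t).map u)
  constructor
  · refine Groth.Agent.Helper16.AS.flat_of_flat_comp_of_jointly_surjective
      ((Over.pullback t).map u).left (fun i => pullback.fst (Red.bc t G).hom (q i))
      (fun i => ?_) ?_ ?_
    · haveI := hq i
      infer_instance
    · intro a
      obtain ⟨i, x', hx'⟩ := hs ((Red.bc t G).hom a)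
      obtain ⟨z, hz1, -⟩ := Scheme.Pullback.exists_preimage_pullback
        (f := (Red.bc t G).hom) (g := q i) a x' hx'.symm
      exact ⟨i, z, hz1⟩
    · intro i
      rw [← (hpb i).w]
      haveI := (hw i).1
      haveI := hq i
      infer_instance
  · constructor
    intro b
    obtain ⟨i, x', hx'⟩ := hs ((Red.bc t H).hom b)
    obtain ⟨z, hz1, -⟩ := Scheme.Pullback.exists_preimage_pullback
      (f := (Red.bc t H).hom) (g := q i) b x' hx'.symm
    obtain ⟨z', rfl⟩ := (hw i).2.surj z
    refine ⟨pullback.fst (Red.bc t G).hom (q i) z', ?_⟩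
    have := congrArg (fun k => k.base z') (hpb i).w
    rw [← hz1]
    exact this.symm

theorem FFOver.descend {T T' : Scheme.{u}} (t : T ⟶ S) (q : T' ⟶ T) [Flat q] [Surjective q]
    (h : FFOver u (q ≫ t)) : FFOver u t :=
  FFOver.of_family u t (I := Unit) (fun _ => q) (fun _ => inferInstance)
    (fun x => ⟨(), Surjective.surj (f := q) x⟩) (fun _ => h)

theorem FFOver.of_local {T : Scheme.{u}} (t : T ⟶ S)
    (h : ∀ x : T, ∃ W : T.Opens, x ∈ W ∧ FFOver u (W.ι ≫ t)) : FFOver u t := by
  choose W hxW hW using h
  refine FFOver.of_family u t (I := T) (fun x => (W x).ι) (fun _ => inferInstance) ?_ hW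
  intro x
  refine ⟨x, ?_⟩
  rw [Scheme.Opens.range_ι]
  exact hxW x

section Transfer

variable {B : CommRingCat.{u}} (v : Spec B ⟶ S) {M N : Type} [AddCommGroup M] [AddCommGroup N]
  (εGi : Red.DS (Spec B) M ⟶ Red.bc v G) (εH : Red.bc v H ⟶ Red.DS (Spec B) N)

theorem ffOver_psi_iff [IsIso εGi] [IsIso εH] {T : Scheme.{u}} (τ : T ⟶ Spec B) :
    FFOver (psiOf u v εGi εH) τ ↔ FFOver u (τ ≫ v) := by
  rw [comp_iff]
  unfold FFOver psiOf
  rw [Functor.map_comp, Functor.map_comp, Over.comp_left, Over.comp_left]
  haveI : IsIso ((Over.pullback τ).map εGi).left := isIso_left _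
  haveI : IsIso ((Over.pullback τ).map εH).left := isIso_left _
  rw [FF.cancel_left_of_respectsIso, FF.cancel_right_of_respectsIso]

end Transfer

end Groth.Agent.Helper16.FFLocus
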