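import Mathlib
import Groth.Agent.Lib.Helper16.Sch.FFLocus1

/-!
# "flat and surjective" locus of a homomorphism of groups of multiplicative type, II (helper16)

A homomorphism `ψ : D(M) ⟶ D(N)` in standard form `φ` is, after base change, `D(φ)`; hence it is
flat and surjective when `φ` is injective, and conversely over a field.
-/

set_option autoImplicit false
set_option linter.style.haveILetI false
set_option linter.unusedSectionVars false
universe u
open CategoryTheory CategoryTheory.Limits MonoidalCategory CartesianMonoidalCategory MonObj GrpObj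
  AlgebraicGeometry

noncomputable section

namespace Groth.Agent.Helper16.FFLocus

open Groth.Agent.Helper18 Groth.Agent.Helper18.MultToGa Groth.Agent.Helper7.MTRig
  Groth.Agent.Helper7.GL Groth.Agent.Helper7.ML Groth.Agent.Helper16.DSmapFF
  Groth.Agent.Helper7.TwoGrp

/-- morphisms of `U`-schemes agreeing on affine points are equal -/
theorem over_hom_ext {U : Scheme.{u}} {X Y : Over U} (f g : X ⟶ Y)
    (h : ∀ (D : CommRingCat.{u}) (τ : Spec D ⟶ U) (k : Over.mk τ ⟶ X), k ≫ f = k ≫ g) :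
    f = g := by
  apply Over.OverMorphism.ext
  apply Groth.Agent.Helper7.Nil.hom_ext_of_local
  intro y
  obtain ⟨D, j, hj, hy, -⟩ :=
    Scheme.exists_affine_mem_range_and_range_subset (U := (⊤ : X.left.Opens)) (x := y) trivial
  refine ⟨D, j, hj, hy, ?_⟩
  let k : Over.mk (j ≫ X.hom) ⟶ X := Over.homMk j rfl
  exact congrArg (fun m => m.left) (h D _ k)

variable {B : CommRingCat.{u}} {M N : Type} [AddCommGroup M] [AddCommGroup N]
  (ψ : Red.DS (Spec B) M ⟶ Red.DS (Spec B) N)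

theorem pt_psi_of_std {C : CommRingCat.{u}} (θ : B ⟶ C)
    (φ : Multiplicative N →* Multiplicative M)
    (h : Std ψ θ φ) {D : CommRingCat.{u}} (σ : Spec D ⟶ Spec B) (τ : Spec D ⟶ Spec C)
    (hτ : τ ≫ Spec.map θ = σ) (χ : Multiplicative M →* D) :
    pt σ χ ≫ ψ = pt σ (χ.comp φ) := by
  have hσ : σ = Spec.map (θ ≫ Spec.preimage τ) := by
    rw [Spec.map_comp, Spec.map_preimage, hτ]
  subst hσ
  rw [pt_comp_psi, PhiPsi_of_std ψ θ φ h]

theorem charOfPt_pt {U : Scheme.{u}} {D : CommRingCat.{u}} (σ : Spec D ⟶ U)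
    (χ : Multiplicative M →* D) :
    DSPts.charOfPt (pt σ χ) = ((Scheme.ΓSpecIso D).inv.hom : D →* Γ(Spec D, ⊤)).comp χ := by
  unfold pt
  rw [DSPts.charOfPt_ptOfChar]

theorem charOfPt_comp_psi_of_std {C : CommRingCat.{u}} (θ : B ⟶ C)
    (φ : Multiplicative N →* Multiplicative M)
    (h : Std ψ θ φ) {D : CommRingCat.{u}} (σ : Spec D ⟶ Spec B) (τ : Spec D ⟶ Spec C)
    (hτ : τ ≫ Spec.map θ = σ) (s : Over.mk σ ⟶ Red.DS (Spec B) M) :
    DSPts.charOfPt (s ≫ ψ) = (DSPts.charOfPt s).comp φ := by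
  have e : pt σ (((Scheme.ΓSpecIso D).hom.hom : Γ(Spec D, ⊤) →* D).comp (DSPts.charOfPt s)) = s :=
    pt_char σ s
  have e2 : DSPts.charOfPt s = ((Scheme.ΓSpecIso D).inv.hom : D →* Γ(Spec D, ⊤)).comp
      (((Scheme.ΓSpecIso D).hom.hom : Γ(Spec D, ⊤) →* D).comp (DSPts.charOfPt s)) := by
    rw [← charOfPt_pt, e]
  calc DSPts.charOfPt (s ≫ ψ)
      = DSPts.charOfPt (pt σ (((Scheme.ΓSpecIso D).hom.hom : Γ(Spec D, ⊤) →* D).comp
          (DSPts.charOfPt s)) ≫ ψ) := by rw [e]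
    _ = DSPts.charOfPt (pt σ ((((Scheme.ΓSpecIso D).hom.hom : Γ(Spec D, ⊤) →* D).comp
          (DSPts.charOfPt s)).comp φ)) := by rw [pt_psi_of_std ψ θ φ h σ τ hτ]
    _ = ((Scheme.ΓSpecIso D).inv.hom : D →* Γ(Spec D, ⊤)).comp
          ((((Scheme.ΓSpecIso D).hom.hom : Γ(Spec D, ⊤) →* D).comp
          (DSPts.charOfPt s)).comp φ) := charOfPt_pt _ _
    _ = (((Scheme.ΓSpecIso D).inv.hom : D →* Γ(Spec D, ⊤)).comp
          (((Scheme.ΓSpecIso D).hom.hom : Γ(Spec D, ⊤) →* D).comp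
          (DSPts.charOfPt s))).comp φ := rfl
    _ = (DSPts.charOfPt s).comp φ := by rw [← e2]

/-- the comparison: in standard form `φ`, the base change of `ψ` is `D(φ)` -/
theorem cmp {C : CommRingCat.{u}} (θ : B ⟶ C) (φa : N →+ M)
    (h : Std ψ θ (AddMonoidHom.toMultiplicative φa)) :
    bcDS' (Spec.map θ) M ≫ (Over.pullback (Spec.map θ)).map ψ ≫ bcDS (Spec.map θ) N =
      Red.DSmap (Spec C) φa := by
  apply over_hom_ext
  intro D τ k
  have e1 : k ≫ bcDS' (Spec.map θ) M ≫ (Over.pullback (Spec.map θ)).map ψ ≫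
      bcDS (Spec.map θ) N = q (Spec.map θ) N (q' (Spec.map θ) M k ≫ ψ) := by
    rw [← Category.assoc, ← Category.assoc, comp_bcDS', ← up_map ψ (Spec.map θ), comp_bcDS,
      dn_up]
  rw [e1]
  apply DSPts.charOfPt_injective
  rw [DSPts.charOfPt_DSmap]
  have e2 : DSPts.charOfPt (q (Spec.map θ) N (q' (Spec.map θ) M k ≫ ψ)) =
      DSPts.charOfPt (q' (Spec.map θ) M k ≫ ψ) := by
    unfold q
    rw [DSPts.charOfPt_ptOfChar]
  have e3 : DSPts.charOfPt (q' (Spec.map θ) M k) = DSPts.charOfPt k := by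
    unfold q'
    rw [DSPts.charOfPt_ptOfChar]
  rw [e2]
  have e4 := charOfPt_comp_psi_of_std ψ θ (AddMonoidHom.toMultiplicative φa) h
    (τ ≫ Spec.map θ) τ rfl (q' (Spec.map θ) M k)
  rw [e4, e3]

theorem ffOver_iff_DSmap {C : CommRingCat.{u}} (θ : B ⟶ C) (φa : N →+ M)
    (h : Std ψ θ (AddMonoidHom.toMultiplicative φa)) :
    FFOver ψ (Spec.map θ) ↔ FF (Red.DSmap (Spec C) φa).left := by
  rw [← cmp ψ θ φa h]
  unfold FFOver
  haveI : IsIso (bcDS' (Spec.map θ) M) :=
    ⟨bcDS (Spec.map θ) M, bcDS'_bcDS (Spec.map θ) M, bcDS_bcDS' (Spec.map θ) M⟩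
  haveI : IsIso (bcDS (Spec.map θ) N) :=
    ⟨bcDS' (Spec.map θ) N, bcDS_bcDS' (Spec.map θ) N, bcDS'_bcDS (Spec.map θ) N⟩
  haveI : IsIso (bcDS' (Spec.map θ) M).left := isIso_left _
  haveI : IsIso (bcDS (Spec.map θ) N).left := isIso_left _
  rw [Over.comp_left, Over.comp_left, FF.cancel_left_of_respectsIso,
    FF.cancel_right_of_respectsIso]

theorem exists_toMultiplicative (φ : Multiplicative N →* Multiplicative M) :
    ∃ φa : N →+ M, AddMonoidHom.toMultiplicative φa = φ ∧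
      (Function.Injective φa ↔ Function.Injective φ) := by
  refine ⟨MonoidHom.toAdditive φ, rfl, Iff.rfl⟩

/-- in standard form with `φ` injective, `ψ` is flat and surjective after the base change -/
theorem ffOver_of_std {C : CommRingCat.{u}} (θ : B ⟶ C)
    (φ : Multiplicative N →* Multiplicative M) (h : Std ψ θ φ) (hφ : Function.Injective φ) :
    FFOver ψ (Spec.map θ) := by
  obtain ⟨φa, rfl, hinj⟩ := exists_toMultiplicative φ
  rw [ffOver_iff_DSmap ψ θ φa h]
  exact flat_surjective_DSmap (Spec C) φa (hinj.2 hφ)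

/-- conversely over a field -/
theorem injective_of_std (k : Type u) [Field k] (θ : B ⟶ CommRingCat.of k)
    (φ : Multiplicative N →* Multiplicative M) (h : Std ψ θ φ)
    (hm : FFOver ψ (Spec.map θ)) : Function.Injective φ := by
  obtain ⟨φa, rfl, hinj⟩ := exists_toMultiplicative φ
  rw [ffOver_iff_DSmap ψ θ φa h] at hm
  exact hinj.1 (injective_of_flat_surjective_DSmap k φa hm)

end Groth.Agent.Helper16.FFLocus
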