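import Mathlib
import Groth.Agent.Lib.Helper16.Sch.FibCl8
import Groth.Agent.Lib.Helper16.Sch.FibMap3

set_option autoImplicit false
set_option linter.style.haveILetI false
universe u
open CategoryTheory CategoryTheory.Limits AlgebraicGeometry Opposite TopologicalSpace Topology

noncomputable section

namespace Groth.Agent.Helper16.FibCl

open Groth.Agent.Helper14 Groth.Agent.Helper16.ConsFD Groth.Agent.Helper16.FibMap

variable {X Y S : Scheme.{u}}

theorem isDominant_fibMap_iff (f : X ⟶ Y) (g : Y ⟶ S) (s : S) :
    IsDominant (fibMap f g s) ↔ ∀ y : Y, g y = s → y ∈ fibCl g (Set.range f) := by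
  rw [isDominant_iff, DenseRange, range_snd_of_isPullback (isPullback_fibMap f g s)]
  refine ((g.fiberι s).isEmbedding.isInducing.dense_iff
    (s := (g.fiberι s) ⁻¹' Set.range f)).trans ?_
  have hr : Set.range (g.fiberι s) = g ⁻¹' {s} := g.range_fiberι s
  have himg : (g.fiberι s) '' ((g.fiberι s) ⁻¹' Set.range f) =
      Set.range f ∩ g ⁻¹' {s} := by
    rw [Set.image_preimage_eq_inter_range, hr]
  rw [himg]
  constructor
  · intro h y hy
    have : y ∈ Set.range (g.fiberι s) := by rw [hr]; exact hy
    obtain ⟨y', rfl⟩ := this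
    rw [mem_fibCl_iff, hy]
    exact h y'
  · intro h y'
    have hy : g (g.fiberι s y') = s := by
      have : g.fiberι s y' ∈ g ⁻¹' {s} := by rw [← hr]; exact ⟨y', rfl⟩
      exact this
    have := h _ hy
    rw [mem_fibCl_iff, hy] at this
    exact this

/-- **S3425** -/
theorem main3425 (f : X ⟶ Y) (g : Y ⟶ S)
    [LocallyOfFinitePresentation g] [QuasiCompact g] [QuasiSeparated g]
    [LocallyOfFinitePresentation (f ≫ g)] [QuasiCompact (f ≫ g)] :
    IsLocallyConstructible {s : S | IsDominant (fibMap f g s)} := by
  haveI := lfp_of_comp f g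
  haveI : QuasiCompact f := QuasiCompact.of_comp f g
  have h1 := f.isLocallyConstructible_image IsLocallyConstructible.univ
  rw [Set.image_univ] at h1
  have h2 := isLocallyConstructible_fibCl g _ h1
  have := isLocallyConstructible_forall_fiber g Set.univ (fibCl g (Set.range f))
    IsLocallyConstructible.univ h2
  convert this using 1
  ext s
  simp only [Set.mem_setOf_eq, isDominant_fibMap_iff, Set.mem_univ, forall_true_left]

end Groth.Agent.Helper16.FibCl
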