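import Mathlib
import Groth.Agent.Lib.Helper16.Sch.FibCl9

set_option autoImplicit false
set_option linter.style.haveILetI false
universe u
open CategoryTheory CategoryTheory.Limits AlgebraicGeometry Opposite TopologicalSpace Topology

noncomputable section

namespace Groth.Agent.Helper16.FibCl

open Groth.Agent.Helper14 Groth.Agent.Helper16.ConsFD Groth.Agent.Helper16.FibMap

variable {X Y S : Scheme.{u}}

theorem isSeparated_iff_isClosed_range_diagonal {X Y : Scheme.{u}} (h : X ⟶ Y) :
    IsSeparated h ↔ IsClosed (Set.range (pullback.diagonal h)) := by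
  constructor
  · intro _
    exact (pullback.diagonal h).isClosedEmbedding.isClosed_range
  · intro hc
    exact ⟨IsClosedImmersion.of_isPreimmersion _ hc⟩

/-- A base change of `Spec κ(s) ⟶ S` is an embedding onto the set-theoretic fibre. -/
theorem isEmbedding_of_isPullback_fromSpecResidueField {P P' : Scheme.{u}} (q : P ⟶ S) (s : S)
    (a : P' ⟶ P) (b : P' ⟶ Spec (S.residueField s))
    (hsq : IsPullback a b q (S.fromSpecResidueField s)) :
    IsEmbedding a ∧ Set.range a = q ⁻¹' {s} := by
  have ha : a = hsq.isoPullback.hom ≫ q.fiberι s := (hsq.isoPullback_hom_fst).symm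
  constructor
  · rw [ha, Scheme.Hom.comp_base, TopCat.coe_comp]
    exact (q.fiberι s).isEmbedding.comp hsq.isoPullback.hom.homeomorph.isEmbedding
  · rw [ha]
    rw [Scheme.Hom.comp_base, TopCat.coe_comp, Set.range_comp]
    have hsurj : Set.range hsq.isoPullback.hom = Set.univ :=
      hsq.isoPullback.hom.homeomorph.surjective.range_eq
    rw [hsurj, Set.image_univ]
    exact q.range_fiberι s

theorem isClosed_preimage_iff_of_isEmbedding {A B : Type*} [TopologicalSpace A]
    [TopologicalSpace B] (a : A → B) (ha : IsEmbedding a) (F R : Set B) (hr : Set.range a = F) :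
    IsClosed (a ⁻¹' R) ↔ IsClosed (Subtype.val ⁻¹' R : Set ↥F) := by
  let e : A ≃ₜ ↥F := ha.toHomeomorph.trans (.setCongr hr)
  have : a ⁻¹' R = e ⁻¹' (Subtype.val ⁻¹' R) := rfl
  rw [this, e.isClosed_preimage]

theorem isSeparated_fibMap_iff (f : X ⟶ Y) (g : Y ⟶ S) (s : S) :
    IsSeparated (fibMap f g s) ↔
      IsClosed (Subtype.val ⁻¹' (Set.range (pullback.diagonal f)) :
        Set ↥(((pullback.fst f f ≫ f) ≫ g) ⁻¹' {s})) := by
  have hsq := isPullback_fibMap f g s
  have h1 := isPullback_sqMap_base hsq
  have h2 : IsPullback (pullback.fst g (S.fromSpecResidueField s))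
      (pullback.snd g (S.fromSpecResidueField s)) g (S.fromSpecResidueField s) :=
    IsPullback.of_hasPullback _ _
  have h3 := h1.paste_vert h2
  obtain ⟨hemb, hrange⟩ := isEmbedding_of_isPullback_fromSpecResidueField _ s _ _ h3
  rw [isSeparated_iff_isClosed_range_diagonal,
    range_snd_of_isPullback (isPullback_diagonal hsq).flip]
  exact isClosed_preimage_iff_of_isEmbedding _ hemb _ _ hrange

/-- **S3424** -/
theorem main3424 (f : X ⟶ Y) (g : Y ⟶ S)
    [LocallyOfFinitePresentation g] [QuasiSeparated g]
    [LocallyOfFinitePresentation (f ≫ g)] [QuasiCompact (f ≫ g)] [QuasiSeparated (f ≫ g)] :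
    IsLocallyConstructible {s : S | IsSeparated (fibMap f g s)} := by
  haveI := lfp_of_comp f g
  haveI : QuasiCompact f := QuasiCompact.of_comp f g
  haveI : QuasiSeparated f := QuasiSeparated.of_comp f g
  haveI : LocallyOfFinitePresentation (pullback.diagonal f) := by
    apply Groth.Agent.Helper7.locallyOfFinitePresentation_of_comp (pullback.diagonal f)
      (pullback.fst f f) _ inferInstance
    rw [pullback.diagonal_fst]
    infer_instance
  have h1 := (pullback.diagonal f).isLocallyConstructible_image IsLocallyConstructible.univ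
  rw [Set.image_univ] at h1
  haveI : LocallyOfFinitePresentation ((pullback.fst f f ≫ f) ≫ g) := by
    rw [Category.assoc]; infer_instance
  haveI : QuasiCompact ((pullback.fst f f ≫ f) ≫ g) := by
    rw [Category.assoc]; infer_instance
  have := (main3428 ((pullback.fst f f ≫ f) ≫ g) _ h1).1
  convert this using 1
  ext s
  exact isSeparated_fibMap_iff f g s

end Groth.Agent.Helper16.FibCl
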