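import Mathlib
import Groth.Agent.Lib.Helper16.Sch.FibComp1
import Groth.Agent.Lib.Helper14.FieldBC
import Groth.Agent.Lib.Helper14.FibreDimBC

set_option autoImplicit false
set_option linter.style.haveILetI false
universe u
open CategoryTheory CategoryTheory.Limits AlgebraicGeometry Opposite TopologicalSpace Topology

noncomputable section

namespace Groth.Agent.Helper16.FibComp

open Groth.Agent.Helper14 Groth.Agent.Helper16 Groth.Agent.Helper16.FTDim

variable {X Y : Scheme.{u}}

/-- the local dimension of a product of schemes locally of finite type over a field. -/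
theorem localDim_pullback (k : Type u) [Field k] (p : X ⟶ Spec (CommRingCat.of k))
    (q : Y ⟶ Spec (CommRingCat.of k)) [LocallyOfFiniteType p] [LocallyOfFiniteType q]
    (z : ↥(pullback p q)) :
    FlatMor.localDim ↥(pullback p q) z =
      FlatMor.localDim ↥X (pullback.fst p q z) + FlatMor.localDim ↥Y (pullback.snd p q z) := by
  haveI : Subsingleton ↥(Spec (CommRingCat.of k)) :=
    inferInstanceAs (Subsingleton (PrimeSpectrum k))
  haveI : Flat q := inferInstance
  haveI : Flat (pullback.fst p q) := MorphismProperty.pullback_fst _ _ inferInstance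
  haveI : LocallyOfFiniteType (pullback.fst p q) := MorphismProperty.pullback_fst _ _ inferInstance
  have hsq : IsPullback (pullback.snd p q) (pullback.fst p q) q p :=
    (IsPullback.of_hasPullback p q).flip
  have h1 := fibreDimAt_comp_eq (pullback.fst p q) p z (Flat.stalkMap (pullback.fst p q) z)
  rw [FibreDimBC.fibreDimAt_eq hsq z, FieldBC.fibreDimAt_eq_localDim,
    FieldBC.fibreDimAt_eq_localDim, FieldBC.fibreDimAt_eq_localDim] at h1
  rw [h1, add_comm]

end Groth.Agent.Helper16.FibComp
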