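import Mathlib
import Groth.Prelude
import Groth.Agent.Lib.Helper7.FinBir
import Groth.Agent.Lib.Helper16.Sch.QFGen

set_option autoImplicit false
universe u
open CategoryTheory CategoryTheory.Limits AlgebraicGeometry TopologicalSpace

namespace Groth.Agent.Helper16.GoDown

/-- Going down for a finite dominant morphism from an integral scheme onto a normal integral
scheme. -/
theorem generalizingMap_of_finite_of_normal {W Z : Scheme.{u}} [IsIntegral W] [IsIntegral Z]
    (hN : ∀ z : Z, IsIntegrallyClosed (Z.presheaf.stalk z)) (ψ : W ⟶ Z) [IsFinite ψ]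
    [IsDominant ψ] : GeneralizingMap ψ := by
  intro w z' hz'
  obtain ⟨_, ⟨V, hV, rfl⟩, hwV, -⟩ :=
    Z.isBasis_affineOpens.exists_subset_of_mem_open (Set.mem_univ (ψ w)) isOpen_univ
  have hV : IsAffineOpen V := hV
  have hz'V : z' ∈ V := hz'.mem_open V.2 hwV
  have hU : IsAffineOpen (ψ ⁻¹ᵁ V) := hV.preimage ψ
  have hwU : w ∈ ψ ⁻¹ᵁ V := hwV
  letI : Algebra Γ(Z, V) Γ(W, ψ ⁻¹ᵁ V) := (ψ.app V).hom.toAlgebra
  haveI : Nonempty V := ⟨⟨_, hwV⟩⟩
  haveI : Nonempty (ψ ⁻¹ᵁ V) := ⟨⟨w, hwU⟩⟩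
  haveI : IsIntegrallyClosed Γ(Z, V) := Groth.Agent.Helper7.FinBir.isIntegrallyClosed_of_stalk hN V hV
  haveI : IsDomain Γ(W, ψ ⁻¹ᵁ V) := inferInstance
  haveI : IsSchemeTheoreticallyDominant ψ := .of_isDominant ψ
  have hinj : Function.Injective (algebraMap Γ(Z, V) Γ(W, ψ ⁻¹ᵁ V)) := ψ.app_injective V
  haveI : FaithfulSMul Γ(Z, V) Γ(W, ψ ⁻¹ᵁ V) := (faithfulSMul_iff_algebraMap_injective _ _).mpr hinj
  haveI : Module.Finite Γ(Z, V) Γ(W, ψ ⁻¹ᵁ V) := ψ.finite_app V hV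
  haveI : Algebra.IsIntegral Γ(Z, V) Γ(W, ψ ⁻¹ᵁ V) := Algebra.IsIntegral.of_finite _ _
  have hgd : GeneralizingMap (PrimeSpectrum.comap (algebraMap Γ(Z, V) Γ(W, ψ ⁻¹ᵁ V))) :=
    Algebra.HasGoingDown.iff_generalizingMap_primeSpectrumComap.mp inferInstance
  have hsq : Spec.map (ψ.app V) ≫ hV.fromSpec = hU.fromSpec ≫ ψ := by
    rw [Scheme.Hom.app_eq_appLE]
    exact IsAffineOpen.SpecMap_appLE_fromSpec ψ hV hU le_rfl
  have hsq' : ∀ q : Spec Γ(W, ψ ⁻¹ᵁ V),
      hV.fromSpec (PrimeSpectrum.comap (algebraMap Γ(Z, V) Γ(W, ψ ⁻¹ᵁ V)) q) = ψ (hU.fromSpec q) := by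
    intro q
    have := congrArg (fun g => g.base q) hsq
    exact this
  set q := hU.primeIdealOf ⟨w, hwU⟩ with hq
  set p' := hV.primeIdealOf ⟨z', hz'V⟩ with hp'
  have hq1 : hU.fromSpec q = w := hU.fromSpec_primeIdealOf ⟨w, hwU⟩
  have hp1 : hV.fromSpec p' = z' := hV.fromSpec_primeIdealOf ⟨z', hz'V⟩
  have hsp : p' ⤳ PrimeSpectrum.comap (algebraMap Γ(Z, V) Γ(W, ψ ⁻¹ᵁ V)) q := by
    have h1 : hV.fromSpec p' ⤳
        hV.fromSpec (PrimeSpectrum.comap (algebraMap Γ(Z, V) Γ(W, ψ ⁻¹ᵁ V)) q) := by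
      rw [hsq', hq1, hp1]; exact hz'
    exact hV.fromSpec.isOpenEmbedding.isInducing.specializes_iff.mp h1
  obtain ⟨q', hq', hq'2⟩ := hgd hsp
  refine ⟨hU.fromSpec q', ?_, ?_⟩
  · rw [← hq1]
    exact hq'.map hU.fromSpec.continuous
  · rw [← hsq', hq'2, hp1]

theorem main (R : Type u) [CommRing R] [IsDomain R] [IsDiscreteValuationRing R]
    (W Z : Over (Spec (CommRingCat.of R))) [IsIntegral W.left] [IsIntegral Z.left]
    (hZn : Pi1.IsNormalScheme Z.left)
    (ψ : W ⟶ Z) [IsFinite ψ.left] [Surjective ψ.left]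
    (z : Z.left) (w : W.left) (hw : ψ.left.base w = z)
    (Δ : Set Z.left) (hΔ : Δ ∈ Models.fibreComponents R Z) (hzΔ : z ∈ Δ) :
    ∃ Γ ∈ Models.fibreComponents R W, w ∈ Γ ∧ ψ.left.base '' Γ = Δ := by
  have hcomp : ∀ a : W.left, W.hom.base a = Z.hom.base (ψ.left.base a) := by
    intro a
    have := Over.w ψ
    rw [← this]
    rfl
  have hsfs : ∀ a : W.left, a ∈ Models.specialFibreSet R W ↔ ψ.left.base a ∈ Models.specialFibreSet R Z := by
    intro a
    unfold Models.specialFibreSet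
    rw [Set.mem_preimage, Set.mem_preimage, hcomp]
  replace hΔ : Maximal (fun S : Set Z.left => IsIrreducible S ∧ S ⊆ Models.specialFibreSet R Z) Δ := hΔ
  have hΔirr : IsIrreducible Δ := hΔ.prop.1
  have hΔsub : Δ ⊆ Models.specialFibreSet R Z := hΔ.prop.2
  have hΔcl : IsClosed Δ := by
    have h1 : closure Δ ⊆ Δ := hΔ.le_of_ge ⟨hΔirr.closure,
      closure_minimal hΔsub (Models.isClosed_specialFibreSet R Z)⟩ subset_closure
    exact closure_eq_iff_isClosed.mp (Set.Subset.antisymm h1 subset_closure)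
  obtain ⟨δ, hδ⟩ := QuasiSober.sober hΔirr hΔcl
  have hδΔ : closure ({δ} : Set Z.left) = Δ := hδ.def
  have hδz : δ ⤳ ψ.left.base w := by
    rw [hw, specializes_iff_mem_closure, hδΔ]; exact hzΔ
  have hgm : GeneralizingMap ψ.left :=
    generalizingMap_of_finite_of_normal (fun z => (hZn z).2) ψ.left
  obtain ⟨γ, hγw, hγδ⟩ := hgm hδz
  have hδmem : δ ∈ Δ := by rw [← hδΔ]; exact subset_closure rfl
  have hγsfs : γ ∈ Models.specialFibreSet R W := by
    rw [hsfs]
    change ψ.left γ ∈ _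
    rw [hγδ]; exact hΔsub hδmem
  have hΓsub : closure ({γ} : Set W.left) ⊆ Models.specialFibreSet R W :=
    closure_minimal (Set.singleton_subset_iff.mpr hγsfs) (Models.isClosed_specialFibreSet R W)
  refine ⟨closure {γ}, ?_, specializes_iff_mem_closure.mp hγw, ?_⟩
  · refine ⟨⟨isIrreducible_singleton.closure, hΓsub⟩, ?_⟩
    rintro S ⟨hSirr, hSsub⟩ hΓS
    have hTsub : closure S ⊆ Models.specialFibreSet R W :=
      closure_minimal hSsub (Models.isClosed_specialFibreSet R W)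
    obtain ⟨γ', hγ'⟩ := QuasiSober.sober hSirr.closure isClosed_closure
    have hγ'T : closure ({γ'} : Set W.left) = closure S := hγ'.def
    have hγ'γ : γ' ⤳ γ := by
      rw [specializes_iff_mem_closure, hγ'T]
      exact subset_closure (hΓS (subset_closure rfl))
    have hψsp : ψ.left γ' ⤳ δ := by
      rw [← hγδ]; exact hγ'γ.map ψ.left.continuous
    have hγ'sfs : ψ.left γ' ∈ Models.specialFibreSet R Z := by
      have : γ' ∈ Models.specialFibreSet R W := hTsub (hγ'T ▸ subset_closure rfl)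
      exact (hsfs γ').mp this
    have h1 : closure ({ψ.left γ'} : Set Z.left) ⊆ Δ := by
      refine hΔ.le_of_ge ⟨isIrreducible_singleton.closure,
        closure_minimal (Set.singleton_subset_iff.mpr hγ'sfs) (Models.isClosed_specialFibreSet R Z)⟩ ?_
      rw [← hδΔ]
      exact closure_minimal (Set.singleton_subset_iff.mpr (specializes_iff_mem_closure.mp hψsp))
        isClosed_closure
    have hδsp : δ ⤳ ψ.left γ' := by
      rw [specializes_iff_mem_closure, hδΔ]
      exact h1 (subset_closure rfl)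
    have heq : ψ.left γ' = ψ.left γ := by
      rw [hγδ]; exact (hψsp.antisymm hδsp).eq
    have hγeq : γ' = γ := QFGen.eq_of_specializes_of_quasiFiniteAt ψ.left γ' γ hγ'γ heq
      (ψ.left.quasiFiniteAt γ')
    rw [← hγeq, hγ'T]
    exact subset_closure
  · rw [← ψ.left.isClosedMap.closure_image_eq_of_continuous ψ.left.continuous, Set.image_singleton]
    change closure {ψ.left γ} = Δ
    rw [hγδ, hδΔ]

end Groth.Agent.Helper16.GoDown
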