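import Mathlib
import Groth.Prelude
import Groth.Agent.Lib.Helper15.ProjSpaceProper
import Groth.Agent.Lib.Helper16.Sch.GoDown

set_option autoImplicit false
universe u
open CategoryTheory CategoryTheory.Limits AlgebraicGeometry TopologicalSpace

namespace Groth.Agent.Helper16.FibCompCard

theorem finite_fibreComponents (R : Type u) [CommRing R] [IsDomain R] [IsDiscreteValuationRing R]
    (X : Over (Spec (CommRingCat.of R))) [NoetherianSpace X.left] :
    (Models.fibreComponents R X).Finite := by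
  obtain ⟨S, hSf, hSc, hSi, hS⟩ := NoetherianSpace.exists_finite_set_isClosed_irreducible
    (Models.isClosed_specialFibreSet R X)
  refine hSf.subset ?_
  intro Γ hΓ
  replace hΓ : Maximal (fun S : Set X.left => IsIrreducible S ∧ S ⊆ Models.specialFibreSet R X) Γ := hΓ
  have h1 : Γ ⊆ ⋃₀ S := hS ▸ hΓ.prop.2
  obtain ⟨t, htS, hΓt⟩ := (isIrreducible_iff_sUnion_isClosed.mp hΓ.prop.1) hSf.toFinset
    (by intro z hz; exact hSc z (hSf.mem_toFinset.mp hz)) (by simpa using h1)
  have htS' : t ∈ S := hSf.mem_toFinset.mp htS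
  have h2 : t ⊆ Γ := hΓ.le_of_ge ⟨hSi t htS', by rw [hS]; exact Set.subset_sUnion_of_mem htS'⟩ hΓt
  rw [Set.Subset.antisymm hΓt h2]
  exact htS'

theorem main (R : Type u) [CommRing R] [IsDomain R] [IsDiscreteValuationRing R]
    (X Y : Over (Spec (CommRingCat.of R))) [IsIntegral X.left] [IsIntegral Y.left]
    (hpX : Neron.IsProjectiveOver R X)
    (hnor : ∀ q : Y.left, IsIntegrallyClosed (Y.left.presheaf.stalk q))
    (f : X ⟶ Y) [IsFinite f.left] [Surjective f.left]
    (y : Y.left)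
    (x : X.left) (hx : f.left.base x = y) :
    {Z : Set Y.left | Z ∈ Models.fibreComponents R Y ∧ y ∈ Z}.ncard ≤
      {Z : Set X.left | Z ∈ Models.fibreComponents R X ∧ x ∈ Z}.ncard := by
  haveI : IsProper X.hom := by
    obtain ⟨n, i, hi, hi2⟩ := hpX
    rw [← hi2]
    infer_instance
  haveI : IsLocallyNoetherian X.left := LocallyOfFiniteType.isLocallyNoetherian X.hom
  haveI : CompactSpace X.left := QuasiCompact.compactSpace_of_compactSpace X.hom
  haveI : IsNoetherian X.left := {}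
  have hfin : {Z : Set X.left | Z ∈ Models.fibreComponents R X ∧ x ∈ Z}.Finite :=
    (finite_fibreComponents R X).subset (fun Z hZ => hZ.1)
  have hYn : Pi1.IsNormalScheme Y.left := fun q => ⟨inferInstance, hnor q⟩
  have hsub : {Z : Set Y.left | Z ∈ Models.fibreComponents R Y ∧ y ∈ Z} ⊆
      (fun Γ : Set X.left => f.left.base '' Γ) ''
        {Z : Set X.left | Z ∈ Models.fibreComponents R X ∧ x ∈ Z} := by
    rintro Δ ⟨hΔ, hyΔ⟩
    obtain ⟨Γ, hΓ, hxΓ, hΓΔ⟩ := GoDown.main R X Y hYn f y x hx Δ hΔ hyΔ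
    exact ⟨Γ, ⟨hΓ, hxΓ⟩, hΓΔ⟩
  calc {Z : Set Y.left | Z ∈ Models.fibreComponents R Y ∧ y ∈ Z}.ncard
      ≤ ((fun Γ : Set X.left => f.left.base '' Γ) ''
        {Z : Set X.left | Z ∈ Models.fibreComponents R X ∧ x ∈ Z}).ncard :=
        Set.ncard_le_ncard hsub (hfin.image _)
    _ ≤ _ := Set.ncard_image_le hfin

end Groth.Agent.Helper16.FibCompCard
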