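import Mathlib
import Groth.Agent.Lib.Helper16.Sch.FibOpen1

/-!
# Local constructibility of fibrewise properties from the Noetherian affine case (helper16)

A fibrewise property `Q.P f x` (invariant under base change and under restriction to open
subschemes of the source) whose locus is constructible for algebras of finite type over
Noetherian rings has a locally constructible locus for every morphism locally of finite
presentation (`FibProp0.isLocallyConstructible_of_consNoeth`).
-/

set_option autoImplicit false
set_option linter.style.haveILetI false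
set_option linter.unusedSectionVars false
universe u

open CategoryTheory AlgebraicGeometry Limits IsLocalRing TensorProduct Topology

namespace Groth.Agent.Helper16.FibCons

open Groth.Agent.Helper16.CMCons

namespace FibProp0

variable (Q : FibProp0.{u})

/-- the hypothesis of constructibility in the Noetherian affine case. -/
def ConsNoeth : Prop :=
  ∀ (R B : Type u) [CommRing R] [CommRing B] [Algebra R B] [IsNoetherianRing R]
    [Algebra.FiniteType R B], IsConstructible (Q.locus R B)

variable {Q}

theorem isConstructible_locus_of_consNoeth (hQ : Q.ConsNoeth) (R B : Type u) [CommRing R]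
    [CommRing B] [Algebra R B] [Algebra.FinitePresentation R B] :
    IsConstructible (Q.locus R B) := by
  obtain ⟨R₀, _, _, B₀, _, _, _, _, _, _, hR₀, hB₀, hpo⟩ :=
    Groth.Agent.Helper16.ConsFD.exists_model R B
  haveI : IsNoetherianRing R₀ := Algebra.FiniteType.isNoetherianRing ℤ R₀
  haveI : Algebra.FiniteType R₀ B₀ := inferInstance
  have hcons := hQ R₀ B₀
  have h1 := (Spec.map (CommRingCat.ofHom (algebraMap B₀ B))).isConstructible_preimage hcons
  haveI := lft_SpecMap (R := R₀) (B := B₀)
  have h2 : (Spec.map (CommRingCat.ofHom (algebraMap B₀ B))) ⁻¹' Q.locus R₀ B₀ = Q.locus R B := by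
    ext x
    exact (Q.bc (isPullback_of_isPushout R B hpo) x).symm
  rw [h2] at h1
  exact h1

theorem isConstructible_SpecMap_of_consNoeth (hQ : Q.ConsNoeth) {R B : CommRingCat.{u}}
    (φ : R ⟶ B) (hφ : φ.hom.FinitePresentation) :
    IsConstructible {x : Spec B | Q.P (Spec.map φ) x} := by
  letI := φ.hom.toAlgebra
  haveI : Algebra.FinitePresentation R B := hφ
  exact isConstructible_locus_of_consNoeth hQ R B

/-- **Local constructibility of a fibrewise property** for morphisms locally of finite
presentation, from constructibility in the Noetherian affine case. -/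
theorem isLocallyConstructible_of_consNoeth (hQ : Q.ConsNoeth) {X Y : Scheme.{u}} (f : X ⟶ Y)
    [LocallyOfFinitePresentation f] :
    IsLocallyConstructible {x : X | Q.P f x} := by
  intro x
  obtain ⟨_, ⟨W, hW, rfl⟩, hxW, -⟩ := Y.isBasis_affineOpens.exists_subset_of_mem_open
    (Set.mem_univ (f x)) isOpen_univ
  have hW : IsAffineOpen W := hW
  obtain ⟨_, ⟨U, hU, rfl⟩, hxU, e⟩ := X.isBasis_affineOpens.exists_subset_of_mem_open
    (show x ∈ f ⁻¹ᵁ W from hxW) (f ⁻¹ᵁ W).isOpen
  have hU : IsAffineOpen U := hU
  have e : U ≤ f ⁻¹ᵁ W := e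
  refine ⟨U, U.isOpen.mem_nhds hxU, U.isOpen, ?_⟩
  have hφ : (f.appLE W U e).hom.FinitePresentation :=
    HasRingHomProperty.appLE (P := @LocallyOfFinitePresentation) f inferInstance ⟨W, hW⟩ ⟨U, hU⟩ e
  have hc := isConstructible_SpecMap_of_consNoeth hQ (f.appLE W U e) hφ
  have hpre := hc.preimage_of_isOpenEmbedding hU.isoSpec.hom.isOpenEmbedding
  refine (congrArg IsConstructible (Set.ext fun u => ?_)).mpr hpre
  show Q.P f u.1 ↔ Q.P (Spec.map (f.appLE W U e)) (hU.isoSpec.hom u)
  have hsq := IsAffineOpen.SpecMap_appLE_fromSpec f hW hU e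
  haveI : LocallyOfFiniteType (Spec.map (f.appLE W U e) ≫ hW.fromSpec) := by
    rw [hsq]; infer_instance
  have h1 := Q.comp_mono (Spec.map (f.appLE W U e)) hW.fromSpec (hU.isoSpec.hom u)
  have h2 := Q.oi hU.fromSpec f (hU.isoSpec.hom u)
  have h3 : hU.fromSpec (hU.isoSpec.hom u) = u.1 := by
    rw [← Scheme.Hom.comp_apply, hU.isoSpec_hom_fromSpec]
    rfl
  rw [h3] at h2
  rw [h1, ← h2]
  exact Q.of_eq hsq.symm _

end FibProp0

end Groth.Agent.Helper16.FibCons
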