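import Mathlib
import Groth.Agent.Lib.Helper16.Sch.FibDecA
import Groth.Agent.Lib.Helper16.Alg.FibDecB
import Groth.Agent.Lib.Helper16.Alg.RegLocA
import Groth.Agent.Lib.Helper2.RelGCI7
import Groth.Agent.Lib.Helper14.ConsDim
import Groth.Agent.Lib.Helper14.LocalDimSpec
import Groth.Agent.S2680

set_option autoImplicit false
set_option linter.style.haveILetI false
set_option linter.unusedSectionVars false
universe u

open CategoryTheory AlgebraicGeometry Limits
open scoped TensorProduct

namespace Groth.Agent.Helper16.FibDec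

open Groth.Agent.Helper16 Groth.Agent.Helper16.RingFibDim Groth.Agent.Helper14

section partC

variable (R S : Type u) [CommRing R] [CommRing S] [Algebra R S]

theorem flat_quot_idem [Module.Flat R S] (e : S) (he : IsIdempotentElem e) :
    Module.Flat R (S ⧸ Ideal.span {1 - e}) := by
  haveI := IsLocalization.Away.quotient_of_isIdempotentElem he
  haveI : Module.Flat S (S ⧸ Ideal.span {1 - e}) := IsLocalization.flat _ (Submonoid.powers e)
  exact Module.Flat.trans R S _

theorem fp_quot_idem [Algebra.FinitePresentation R S] (e : S) :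
    Algebra.FinitePresentation R (S ⧸ Ideal.span {1 - e}) :=
  Algebra.FinitePresentation.quotient ⟨{1 - e}, by simp⟩

theorem mk_idem_eq_one (e : S) :
    Ideal.Quotient.mk (Ideal.span {1 - e}) e = 1 := by
  rw [← sub_eq_zero, ← neg_eq_zero, neg_sub, ← map_one (Ideal.Quotient.mk (Ideal.span {1 - e})),
    ← map_sub, Ideal.Quotient.eq_zero_iff_mem]
  exact Ideal.subset_span rfl

theorem idem_notMem_comap (e : S) (q' : Ideal (S ⧸ Ideal.span {1 - e})) [q'.IsPrime] :
    e ∉ q'.comap (Ideal.Quotient.mk (Ideal.span {1 - e})) := by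
  intro h
  rw [Ideal.mem_comap, mk_idem_eq_one] at h
  exact (Ideal.IsPrime.ne_top inferInstance) ((Ideal.eq_top_iff_one _).2 h)

/-- the ideal `(1 - e)` dies in the fibre local rings at primes not containing `e`. -/
theorem map_span_one_sub_eq_bot (e : S) (he : IsIdempotentElem e) (q : Ideal S) [q.IsPrime]
    (heq : e ∉ q) :
    (Ideal.span {1 - e}).map (algebraMap S (EGA4.FibLocRing R S q)) = ⊥ := by
  rw [Ideal.map_span, Set.image_singleton, Ideal.span_singleton_eq_bot]
  have hu : IsUnit (algebraMap S (Localization.AtPrime q) e) :=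
    IsLocalization.map_units (Localization.AtPrime q) (⟨e, heq⟩ : q.primeCompl)
  have hu' : IsUnit (algebraMap S (EGA4.FibLocRing R S q) e) := by
    have : algebraMap S (EGA4.FibLocRing R S q) e =
        Ideal.Quotient.mk _ (algebraMap S (Localization.AtPrime q) e) := rfl
    rw [this]
    exact hu.map _
  have h0 : algebraMap S (EGA4.FibLocRing R S q) e * algebraMap S (EGA4.FibLocRing R S q) (1 - e) = 0 := by
    rw [← map_mul, mul_sub, mul_one, he.eq, sub_self, map_zero]
  exact (hu'.mul_right_eq_zero).1 h0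

theorem isCM_fiber_quot_idem [Algebra.FiniteType R S]
    (hCM : ∀ p : PrimeSpectrum R, LocCoh.IsCohenMacaulayRing (p.asIdeal.Fiber S))
    (e : S) (he : IsIdempotentElem e) (p : PrimeSpectrum R) :
    LocCoh.IsCohenMacaulayRing (p.asIdeal.Fiber (S ⧸ Ideal.span {1 - e})) := by
  haveI : Algebra.FiniteType p.asIdeal.ResidueField (p.asIdeal.Fiber (S ⧸ Ideal.span {1 - e})) :=
    inferInstance
  haveI : IsNoetherianRing (p.asIdeal.Fiber (S ⧸ Ideal.span {1 - e})) :=
    Algebra.FiniteType.isNoetherianRing p.asIdeal.ResidueField _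
  refine ⟨fun Q' _ => ?_⟩
  let q' : Ideal (S ⧸ Ideal.span {1 - e}) := Q'.comap (Algebra.TensorProduct.includeRight :
      (S ⧸ Ideal.span {1 - e}) →ₐ[R] p.asIdeal.Fiber (S ⧸ Ideal.span {1 - e})).toRingHom
  haveI : q'.IsPrime := Ideal.comap_isPrime _ _
  haveI : q'.LiesOver p.asIdeal := by
    constructor
    have h1 : p.asIdeal = Q'.under R := Ideal.LiesOver.over
    rw [h1]
    ext r
    simp only [Ideal.under_def, Ideal.mem_comap, q']
    rw [AlgHom.toRingHom_eq_coe, RingHom.coe_coe, AlgHom.commutes]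
  obtain ⟨eT⟩ := RegLoc.nonempty_ringEquiv_fibLocRing R (S ⧸ Ideal.span {1 - e}) p.asIdeal q' Q' rfl
  let q : Ideal S := q'.comap (Ideal.Quotient.mk (Ideal.span {1 - e}))
  haveI : q.IsPrime := Ideal.comap_isPrime _ _
  obtain ⟨eB⟩ := RegLoc.nonempty_ringEquiv_fibLocRing_quotient R S (Ideal.span {1 - e}) q q' rfl
  have hbot := map_span_one_sub_eq_bot R S e he q (idem_notMem_comap S e q')
  haveI hF : LocCoh.IsCohenMacaulayLocalRing (EGA4.FibLocRing R S q) :=
    isCM_fibLocRing R S hCM ⟨q, inferInstance⟩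
  let e0 : EGA4.FibLocRing R S q ≃+*
      (EGA4.FibLocRing R S q ⧸ (Ideal.span {1 - e}).map (algebraMap S (EGA4.FibLocRing R S q))) :=
    (RingEquiv.quotientBot _).symm.trans (Ideal.quotEquivOfEq hbot.symm)
  exact FibCM.isCM_of_ringEquiv (A := EGA4.FibLocRing R S q) ((e0.trans eB).trans eT.symm)

end partC

end Groth.Agent.Helper16.FibDec
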