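import Mathlib
import Groth.Agent.Lib.Helper16.Sch.FibDecC

set_option autoImplicit false
set_option linter.style.haveILetI false
set_option linter.unusedSectionVars false
universe u

open CategoryTheory AlgebraicGeometry Limits
open scoped TensorProduct

namespace Groth.Agent.Helper16.FibDec

open Groth.Agent.Helper16 Groth.Agent.Helper16.RingFibDim Groth.Agent.Helper14

section field

variable (k Φ : Type u) [Field k] [CommRing Φ] [Algebra k Φ] [Algebra.FiniteType k Φ]

/-- dimension of a finite type domain from its transcendence degree. -/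
theorem dim_eq_of_trdeg (P : Ideal Φ) [P.IsPrime] (r : ℕ)
    (hr : Algebra.trdeg k (Φ ⧸ P) = (r : Cardinal.{u})) :
    ringKrullDim (Φ ⧸ P) = (r : WithBot ℕ∞) := by
  obtain ⟨n, hn1, hn2, -⟩ := Groth.Agent.S2680.result k (Φ ⧸ P)
  haveI : Algebra.IsAlgebraic (Φ ⧸ P) (FractionRing (Φ ⧸ P)) :=
    IsLocalization.isAlgebraic (FractionRing (Φ ⧸ P)) (nonZeroDivisors (Φ ⧸ P))
  haveI : FaithfulSMul k (Φ ⧸ P) := inferInstance
  have t1 := _root_.trdeg_add_eq k (Φ ⧸ P) (A := FractionRing (Φ ⧸ P))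
  have t2 : Algebra.trdeg (Φ ⧸ P) (FractionRing (Φ ⧸ P)) = 0 := _root_.trdeg_eq_zero
  rw [t2, add_zero, hr, hn1] at t1
  have : r = n := by exact_mod_cast t1
  rw [hn2, this]

include k in
/-- local dimension at a minimal prime. -/
theorem localDim_minimalPrime (P : Ideal Φ) (hP : P ∈ minimalPrimes Φ) :
    haveI : P.IsPrime := hP.1.1
    FlatMor.localDim (PrimeSpectrum Φ) ⟨P, hP.1.1⟩ = ringKrullDim (Φ ⧸ P) := by
  haveI : P.IsPrime := hP.1.1
  have hfin : Algebra.trdeg k (Φ ⧸ P) < Cardinal.aleph0 := trdeg_lt_aleph0_of_finiteType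
  obtain ⟨r, hr⟩ := Cardinal.lt_aleph0.mp hfin
  have h0 : P.height = 0 := Ideal.height_eq_zero_iff.2 hP
  rw [LocalDimSpec.localDim_eq k Φ P r hr, h0, dim_eq_of_trdeg k Φ P r hr]
  simp

end field

section partC

variable (R S : Type u) [CommRing R] [CommRing S] [Algebra R S]

theorem specMap_quot (I : Ideal S) :
    Spec.map (CommRingCat.ofHom (Ideal.Quotient.mk I)) ≫ specMap R S = specMap R (S ⧸ I) := by
  unfold specMap
  rw [← Spec.map_comp]
  rfl

theorem fibreDimAt_quot_idem [Algebra.FiniteType R S] (e : S) (he : IsIdempotentElem e)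
    (q' : PrimeSpectrum (S ⧸ Ideal.span {1 - e})) :
    FlatMor.fibreDimAt (specMap R (S ⧸ Ideal.span {1 - e})) q' =
      FlatMor.fibreDimAt (specMap R S)
        (PrimeSpectrum.comap (Ideal.Quotient.mk (Ideal.span {1 - e})) q') := by
  haveI := IsLocalization.Away.quotient_of_isIdempotentElem he
  haveI : IsOpenImmersion (Spec.map (CommRingCat.ofHom
      (algebraMap S (S ⧸ Ideal.span {1 - e})))) :=
    IsOpenImmersion.of_isLocalization e
  have h := Groth.Agent.Helper2.RelGCI.fibreDimAt_openImmersion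
    (Spec.map (CommRingCat.ofHom (algebraMap S (S ⧸ Ideal.span {1 - e})))) (specMap R S) q'
  have h2 : Spec.map (CommRingCat.ofHom (algebraMap S (S ⧸ Ideal.span {1 - e}))) ≫ specMap R S =
      specMap R (S ⧸ Ideal.span {1 - e}) := specMap_quot R S _
  rw [h2] at h
  exact h

theorem equidim_fiber_quot_idem [Algebra.FiniteType R S] (e : S) (he : IsIdempotentElem e) (d : ℕ)
    (hd : ∀ q : PrimeSpectrum S, e ∉ q.asIdeal →
      FlatMor.fibreDimAt (specMap R S) q = (d : WithBot ℕ∞))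
    (p : PrimeSpectrum R) (P : Ideal (p.asIdeal.Fiber (S ⧸ Ideal.span {1 - e})))
    (hP : P ∈ minimalPrimes (p.asIdeal.Fiber (S ⧸ Ideal.span {1 - e}))) :
    ringKrullDim (p.asIdeal.Fiber (S ⧸ Ideal.span {1 - e}) ⧸ P) = (d : WithBot ℕ∞) := by
  haveI : P.IsPrime := hP.1.1
  haveI : Algebra.FiniteType p.asIdeal.ResidueField (p.asIdeal.Fiber (S ⧸ Ideal.span {1 - e})) :=
    inferInstance
  rw [← localDim_minimalPrime p.asIdeal.ResidueField _ P hP,
    Groth.Agent.Helper2.RelGCI.localDim_fibre_eq R (S ⧸ Ideal.span {1 - e}) p.asIdeal ⟨P, hP.1.1⟩,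
    fibreDimAt_quot_idem R S e he]
  apply hd
  exact idem_notMem_comap S e _

/-- **Decomposition by fibre dimension.** -/
theorem main [Module.Flat R S] [Algebra.FinitePresentation R S]
    (hCM : ∀ p : PrimeSpectrum R, LocCoh.IsCohenMacaulayRing (p.asIdeal.Fiber S)) :
    ∃ (N : ℕ) (T : Fin (N + 1) → Type u) (_ : ∀ d, CommRing (T d)) (_ : ∀ d, Algebra R (T d)),
      Nonempty (S ≃ₐ[R] ((d : Fin (N + 1)) → T d)) ∧
        ∀ d : Fin (N + 1), Module.Flat R (T d) ∧ Algebra.FinitePresentation R (T d) ∧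
          (∀ p : PrimeSpectrum R, LocCoh.IsCohenMacaulayRing (p.asIdeal.Fiber (T d))) ∧
          ∀ (p : PrimeSpectrum R), ∀ P ∈ minimalPrimes (p.asIdeal.Fiber (T d)),
            ringKrullDim (p.asIdeal.Fiber (T d) ⧸ P) = ((d : ℕ) : WithBot ℕ∞) := by
  haveI : Algebra.FiniteType R S := inferInstance
  choose δ hδ using fun q : PrimeSpectrum S =>
    ConsDim.exists_nat_fibreDimAt (specMap R S) q
  have hloc : ∀ q, ∃ U : Set (PrimeSpectrum S), IsOpen U ∧ q ∈ U ∧ ∀ q' ∈ U, δ q' = δ q := by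
    intro q
    obtain ⟨n, U, hU, hqU, hc⟩ := exists_open_const R S hCM q
    refine ⟨U, hU, hqU, fun q' hq' => ?_⟩
    have h1 := hc q' hq'
    have h2 := hc q hqU
    rw [hδ] at h1 h2
    have h1' : δ q' = n := by exact_mod_cast h1
    have h2' : δ q = n := by exact_mod_cast h2
    rw [h1', h2']
  obtain ⟨N, e, he, hmem, ⟨iso⟩⟩ := exists_pi_decomposition R S δ hloc
  refine ⟨N, fun d => S ⧸ Ideal.span {1 - e d}, fun d => inferInstance, fun d => inferInstance,
    ⟨iso⟩, fun d => ⟨flat_quot_idem R S (e d) (he d), fp_quot_idem R S (e d),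
      fun p => isCM_fiber_quot_idem R S hCM (e d) (he d) p, fun p P hP => ?_⟩⟩
  refine equidim_fiber_quot_idem R S (e d) (he d) d (fun q hq => ?_) p P hP
  rw [hδ, (hmem d q).1 hq]

end partC

end Groth.Agent.Helper16.FibDec
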