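import Mathlib.AlgebraicGeometry.Morphisms.Flat
import Mathlib.AlgebraicGeometry.Pullbacks

set_option autoImplicit false
set_option linter.style.haveILetI false
universe u
open CategoryTheory CategoryTheory.Limits AlgebraicGeometry

namespace Groth.Agent.Helper16.FibFlatSch

/-- pullback over a mono -/
theorem isPullback_comp_mono {C : Type*} [Category C] {P X Y W Z : C} {fst : P ⟶ X} {snd : P ⟶ Y}
    {f : X ⟶ W} {g : Y ⟶ W} (sq : IsPullback fst snd f g) (i : W ⟶ Z) [Mono i] :
    IsPullback fst snd (f ≫ i) (g ≫ i) :=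
  IsPullback.of_isLimit (PullbackCone.isLimitOfCompMono f g i sq.cone sq.isLimit)

/-- fibrewise flatness hypothesis for `U ⟶ V ⟶ W` -/
def FibFlat {U V W : Scheme.{u}} (a : U ⟶ V) (b : V ⟶ W) : Prop :=
  ∀ (K : Type u) [Field K] (w : Spec (CommRingCat.of K) ⟶ W) (Uw Vw : Scheme.{u})
    (pU : Uw ⟶ U) (qU : Uw ⟶ Spec (CommRingCat.of K)) (pV : Vw ⟶ V)
    (qV : Vw ⟶ Spec (CommRingCat.of K)) (aw : Uw ⟶ Vw),
    IsPullback pU qU (a ≫ b) w → IsPullback pV qV b w → aw ≫ pV = pU ≫ a → aw ≫ qV = qU → Flat aw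

theorem FibFlat.restrict {U V W U' V' W' : Scheme.{u}} {a : U ⟶ V} {b : V ⟶ W}
    (h : FibFlat a b) (jU : U' ⟶ U) (jV : V' ⟶ V) (jW : W' ⟶ W) [Flat jU] [IsOpenImmersion jV]
    [Mono jW] (a' : U' ⟶ V') (b' : V' ⟶ W') (ha : a' ≫ jV = jU ≫ a) (hb : b' ≫ jW = jV ≫ b) :
    FibFlat a' b' := by
  intro K _ w' Uw' Vw' pU' qU' pV' qV' aw' sqU' sqV' e1 e2
  let w := w' ≫ jW
  let aw : pullback (a ≫ b) w ⟶ pullback b w :=
    pullback.lift (pullback.fst _ _ ≫ a) (pullback.snd _ _)
      (by rw [Category.assoc, pullback.condition])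
  have haw : Flat aw := h K w _ _ _ _ _ _ aw (IsPullback.of_hasPullback _ _)
    (IsPullback.of_hasPullback _ _) (pullback.lift_fst _ _ _) (pullback.lift_snd _ _ _)
  have cV : (pV' ≫ jV) ≫ b = qV' ≫ w := by
    rw [Category.assoc, ← hb, ← Category.assoc, sqV'.w, Category.assoc]
  let iV : Vw' ⟶ pullback b w := pullback.lift (pV' ≫ jV) qV' cV
  have cU : (pU' ≫ jU) ≫ a ≫ b = qU' ≫ w := by
    rw [Category.assoc, ← Category.assoc jU, ← ha, Category.assoc, ← hb, ← Category.assoc a',
      ← Category.assoc, sqU'.w, Category.assoc]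
  let iU : Uw' ⟶ pullback (a ≫ b) w := pullback.lift (pU' ≫ jU) qU' cU
  have hcomm : aw' ≫ iV = iU ≫ aw := by
    apply pullback.hom_ext
    · simp only [Category.assoc, iV, iU, aw, pullback.lift_fst, pullback.lift_fst_assoc]
      rw [← Category.assoc, e1, Category.assoc, ha]
    · simp only [Category.assoc, iV, iU, aw, pullback.lift_snd]
      exact e2
  -- `iV` is an open immersion
  have sqV'' : IsPullback pV' qV' (b' ≫ jW) (w' ≫ jW) := isPullback_comp_mono sqV' jW
  have pbV : IsPullback iV pV' (pullback.fst b w) jV := by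
    refine IsPullback.of_right (h₁₂ := pullback.snd b w) (v₁₃ := w) (h₂₂ := b) ?_
      (pullback.lift_fst _ _ _) (IsPullback.of_hasPullback b w).flip
    rw [pullback.lift_snd, ← hb]
    exact sqV''.flip
  haveI : IsOpenImmersion iV := MorphismProperty.of_isPullback (P := @IsOpenImmersion) pbV.flip
    inferInstance
  -- `iU` is flat
  have sqU'' : IsPullback pU' qU' ((a' ≫ b') ≫ jW) (w' ≫ jW) := isPullback_comp_mono sqU' jW
  have pbU : IsPullback iU pU' (pullback.fst (a ≫ b) w) jU := by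
    refine IsPullback.of_right (h₁₂ := pullback.snd (a ≫ b) w) (v₁₃ := w) (h₂₂ := a ≫ b) ?_
      (pullback.lift_fst _ _ _) (IsPullback.of_hasPullback (a ≫ b) w).flip
    rw [pullback.lift_snd]
    have : jU ≫ a ≫ b = (a' ≫ b') ≫ jW := by
      rw [← Category.assoc, ← ha, Category.assoc, ← hb, Category.assoc]
    rw [this]
    exact sqU''.flip
  haveI : Flat iU := MorphismProperty.of_isPullback (P := @Flat) pbU.flip inferInstance
  haveI : Flat (aw' ≫ iV) := by
    rw [hcomm]
    infer_instance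
  exact MorphismProperty.of_postcomp (W := @Flat) (W' := @IsOpenImmersion) aw' iV inferInstance
    inferInstance

end Groth.Agent.Helper16.FibFlatSch
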