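import Groth.Agent.Lib.Helper16.Alg.FibFlat2
import Groth.Agent.Lib.Helper16.Sch.FibFlatSch

set_option autoImplicit false
set_option linter.style.haveILetI false
universe u
open CategoryTheory CategoryTheory.Limits AlgebraicGeometry TensorProduct

namespace Groth.Agent.Helper16.FibFlatSch

open Groth.Agent.Helper16.FibFlat

/-- the fibre ring maps are flat -/
theorem fibre_ringHom_flat_of_fibFlat {A B C : CommRingCat.{u}} (φ : A ⟶ B) (ψ : B ⟶ C)
    (hfib : FibFlat (Spec.map ψ) (Spec.map φ)) :
    letI aAB : Algebra A B := φ.hom.toAlgebra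
    letI aBC : Algebra B C := ψ.hom.toAlgebra
    letI aAC : Algebra A C := (φ ≫ ψ).hom.toAlgebra
    haveI t : IsScalarTower A B C := IsScalarTower.of_algebraMap_eq' rfl
    ∀ (p : Ideal A) [p.IsPrime], (Algebra.TensorProduct.map (IsScalarTower.toAlgHom A B C)
      (AlgHom.id A p.ResidueField)).toRingHom.Flat := by
  letI aAB : Algebra A B := φ.hom.toAlgebra
  letI aBC : Algebra B C := ψ.hom.toAlgebra
  letI aAC : Algebra A C := (φ ≫ ψ).hom.toAlgebra
  haveI t : IsScalarTower A B C := IsScalarTower.of_algebraMap_eq' rfl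
  intro p _
  have sqV := isPullback_SpecMap_of_isPushout _ _ _ _
    (CommRingCat.isPushout_tensorProduct A B p.ResidueField)
  have sqU := isPullback_SpecMap_of_isPushout _ _ _ _
    (CommRingCat.isPushout_tensorProduct A C p.ResidueField)
  have := hfib p.ResidueField (Spec.map (CommRingCat.ofHom (algebraMap A p.ResidueField))) _ _
    _ _ _ _ (Spec.map (CommRingCat.ofHom (Algebra.TensorProduct.map (IsScalarTower.toAlgHom A B C)
    (AlgHom.id A p.ResidueField)).toRingHom)) (by
      rw [← Spec.map_comp]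
      exact sqU) sqV ?_ ?_
  · exact (HasRingHomProperty.Spec_iff (P := @Flat)).mp this
  · rw [← Spec.map_comp, ← Spec.map_comp]
    congr 1
  · rw [← Spec.map_comp]
    congr 1
    ext x
    simp

/-- the criterion for spectra -/
theorem flat_Spec_of_fibFlat {A B C : CommRingCat.{u}} (φ : A ⟶ B) (ψ : B ⟶ C)
    [IsNoetherianRing A] [IsNoetherianRing B] [IsNoetherianRing C]
    (hfl : Flat (Spec.map (φ ≫ ψ))) (hfib : FibFlat (Spec.map ψ) (Spec.map φ)) :
    Flat (Spec.map ψ) := by
  letI aAB : Algebra A B := φ.hom.toAlgebra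
  letI aBC : Algebra B C := ψ.hom.toAlgebra
  letI aAC : Algebra A C := (φ ≫ ψ).hom.toAlgebra
  haveI t : IsScalarTower A B C := IsScalarTower.of_algebraMap_eq' rfl
  haveI : Module.Flat A C := (HasRingHomProperty.Spec_iff (P := @Flat)).mp hfl
  have key := fibre_ringHom_flat_of_fibFlat φ ψ hfib
  obtain ⟨h1, -⟩ := flat_of_fibres (A := A) (B := B) (C := C) key
  exact (HasRingHomProperty.Spec_iff (P := @Flat)).mpr h1

/-- second half, with arbitrary source -/
theorem flat_of_fibFlat_of_surjective_Spec {U : Scheme.{u}} [IsLocallyNoetherian U]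
    {A B : CommRingCat.{u}} [IsNoetherianRing A] [IsNoetherianRing B] (a : U ⟶ Spec B) (φ : A ⟶ B)
    [Flat (a ≫ Spec.map φ)] (hfib : FibFlat a (Spec.map φ)) (hs : Function.Surjective a.base) :
    φ.hom.Flat := by
  refine RingHom.Flat.ofLocalizationPrime _ fun q hq => ?_
  haveI := hq
  obtain ⟨u, hu⟩ := hs ⟨q, hq⟩
  obtain ⟨U', hU', huU', -⟩ := exists_isAffineOpen_mem_and_subset (x := u) (U := ⊤) trivial
  haveI : IsNoetherianRing Γ(U, U') := IsLocallyNoetherian.component_noetherian ⟨U', hU'⟩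
  let C : CommRingCat.{u} := Γ(U, U')
  let g : Spec C ⟶ Spec B := hU'.fromSpec ≫ a
  let ψ : B ⟶ C := Spec.preimage g
  have hψ : Spec.map ψ = g := Spec.map_preimage g
  have hfib' : FibFlat (Spec.map ψ) (Spec.map φ) :=
    hfib.restrict hU'.fromSpec (𝟙 _) (𝟙 _) (Spec.map ψ) (Spec.map φ)
      (by rw [Category.comp_id, hψ]) (by rw [Category.comp_id, Category.id_comp])
  haveI hfl : Flat (Spec.map (φ ≫ ψ)) := by
    rw [Spec.map_comp, hψ, Category.assoc]
    infer_instance
  letI aAB : Algebra A B := φ.hom.toAlgebra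
  letI aBC : Algebra B C := ψ.hom.toAlgebra
  letI aAC : Algebra A C := (φ ≫ ψ).hom.toAlgebra
  haveI t : IsScalarTower A B C := IsScalarTower.of_algebraMap_eq' rfl
  haveI : Module.Flat A C := (HasRingHomProperty.Spec_iff (P := @Flat)).mp hfl
  have key := fibre_ringHom_flat_of_fibFlat φ ψ hfib'
  -- the prime of `C` corresponding to `u`
  obtain ⟨x, hx⟩ : ∃ x : Spec C, hU'.fromSpec.base x = u := by
    have : u ∈ Set.range hU'.fromSpec.base := by
      rw [hU'.range_fromSpec]
      exact huU'
    exact this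
  have hqq' : q = x.asIdeal.comap (algebraMap B C) := by
    have h1 : (Spec.map ψ).base x = ⟨q, hq⟩ := by
      rw [hψ]
      change a.base (hU'.fromSpec.base x) = _
      rw [hx, hu]
    exact (congrArg PrimeSpectrum.asIdeal h1).symm
  exact (flat_localRingHom_of_fibre x.asIdeal q hqq' (q.comap (algebraMap A B)) rfl (key _)).2

end Groth.Agent.Helper16.FibFlatSch
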