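import Mathlib
import Groth.Prelude
import Groth.Agent.Lib.Helper16.Sch.FibFree1
import Groth.Agent.Lib.Helper16.Sch.FibMod11

/-!
# Constructibility of the locus of fibrewise freeness (helper16)
-/

set_option autoImplicit false
set_option linter.style.haveILetI false
set_option linter.unusedSectionVars false
universe u

open AlgebraicGeometry CategoryTheory Limits IsLocalRing TopologicalSpace TensorProduct Topology

namespace Groth.Agent.Helper16.FibFree

open Groth.Agent.Helper16.FibStalk Groth.Agent.Helper16.FibMod Groth.Agent.Helper16.FibModAlg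
open Groth.Agent.Helper16.FreeRk Groth.Agent.Helper16.RingFibDim Groth.Agent.Helper16.SpecFib
open Groth.Agent.Helper13.QCohLoc Groth.Agent.Helper16.ModCons

section Chart

variable {X Y : Scheme.{u}} (f : X ⟶ Y) (ℱ : X.Modules) [ℱ.IsQuasicoherent]
  {U : X.Opens} (hU : IsAffineOpen U) {V : Y.Opens} (hV : IsAffineOpen V) (e : U ≤ f ⁻¹ᵁ V)

include hU hV in
/-- fibrewise freeness computed in an affine chart. -/
theorem FRAt_chart (o : Option ℕ) (x : U) :
    letI := (f.appLE V U e).hom.toAlgebra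
    FRAt f ℱ o (x : X) ↔ hU.primeIdealOf x ∈ frLocus o Γ(Y, V) Γ(X, U) Γ(ℱ, U) := by
  letI := (f.appLE V U e).hom.toAlgebra
  haveI h4 : IsLocalization.AtPrime (X.presheaf.stalk (x : X))
      (hU.primeIdealOf x).asIdeal := hU.isLocalization_stalk x
  letI modN : Module Γ(X, U) (ℱ.presheaf.stalk (x : X)) := modStalk ℱ x
  haveI : IsScalarTower Γ(X, U) (X.presheaf.stalk (x : X)) (ℱ.presheaf.stalk (x : X)) :=
    isScalarTower_stalk ℱ x
  haveI := isLocalizedModule_germ ℱ hU x
  exact chart_FR (A := Γ(Y, V)) (B := Γ(X, U)) (hU.primeIdealOf x).asIdeal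
    (fibIdeal f (x : X)) (fibIdeal_chart f hU hV e x) o (germLin ℱ x)

end Chart

section Tilde

variable (A : Type u) [CommRing A] (B : CommRingCat.{u}) [Algebra A B] (M : ModuleCat.{u} B)

/-- fibrewise freeness of `M^~`. -/
theorem FRAt_tilde (o : Option ℕ) (q : ↥(Spec (CommRingCat.of B))) :
    FRAt (specMap A B) (tilde M) o q ↔ q ∈ frLocus o A B M := by
  letI := stAlg B q
  haveI := isLocalization_st B q
  haveI : IsScalarTower B ((Spec (CommRingCat.of B)).presheaf.stalk q)
      ((tilde M).presheaf.stalk q) := IsScalarTower.of_algebraMap_smul fun _ _ => rfl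
  haveI : IsLocalizedModule (PrimeSpectrum.asIdeal q).primeCompl
      (tilde.toStalk M q).hom := inferInstance
  refine chart_FR (A := A) (B := B) (PrimeSpectrum.asIdeal q)
    (fibIdeal (specMap A B) q) ?_ o (tilde.toStalk M q).hom
  rw [fibIdeal_eq, Ideal.map_map]
  rfl

end Tilde

section AlgBC

variable (A₀ A B₀ B : Type u) [CommRing A₀] [CommRing A] [CommRing B₀] [CommRing B]
  [Algebra A₀ A] [Algebra A₀ B₀] [Algebra A B] [Algebra B₀ B] [Algebra A₀ B]
  [IsScalarTower A₀ A B] [IsScalarTower A₀ B₀ B]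

/-- the locus only depends on the isomorphism class of the module. -/
theorem frLocus_congr (o : Option ℕ) {M M' : Type u} [AddCommGroup M] [Module B M]
    [AddCommGroup M'] [Module B M'] (e : M ≃ₗ[B] M') :
    frLocus o A B M = frLocus o A B M' := by
  ext q
  have h1 := FRAt_tilde A (CommRingCat.of B) (ModuleCat.of B M) o q
  have h2 := FRAt_tilde A (CommRingCat.of B) (ModuleCat.of B M') o q
  have h3 := FRAt_congr (specMap A B) o
    ((tilde.functor (CommRingCat.of B)).mapIso e.toModuleIso) q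
  exact h1.symm.trans (h3.trans h2)

/-- **Base change of the locus of fibrewise freeness.** -/
theorem frLocus_bc (o : Option ℕ) (hpo : Algebra.IsPushout A₀ A B₀ B) [Algebra.FiniteType A₀ B₀]
    (M₀ : Type u) [AddCommGroup M₀] [Module B₀ M₀] [Module.Finite B₀ M₀]
    (M : Type u) [AddCommGroup M] [Module B M] [Module B₀ M] [IsScalarTower B₀ B M]
    (φ : M₀ →ₗ[B₀] M) (hφ : IsBaseChange B φ) :
    PrimeSpectrum.comap (algebraMap B₀ B) ⁻¹' frLocus o A₀ B₀ M₀ = frLocus o A B M := by
  ext q
  haveI : LocallyOfFiniteType (specMap A₀ B₀) := Groth.Agent.Helper16.CMCons.lft_SpecMap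
  have hsq : IsPullback (specMap B₀ B) (specMap A B) (specMap A₀ B₀) (specMap A₀ A) :=
    Groth.Agent.Helper16.ConsFD.isPullback_of_isPushout A₀ A B₀ B hpo
  let qq : ↥(Spec (CommRingCat.of B)) := q
  have hbc := FRAt_baseChange_iff hsq (tilde (ModuleCat.of B₀ M₀))
    (fun x => finite_stalk_tilde (CommRingCat.of B₀) (ModuleCat.of B₀ M₀) x) o qq
  have h0 := FRAt_tilde A₀ (CommRingCat.of B₀) (ModuleCat.of B₀ M₀) o (specMap B₀ B qq)
  have h1 := FRAt_tilde A (CommRingCat.of B) (ModuleCat.of B (B ⊗[B₀] M₀)) o qq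
  have h2 := FRAt_congr (specMap A B) o
    (Groth.Agent.Helper13.Pullback.pullbackTildeIso' B₀ B M₀) qq
  rw [← frLocus_congr A B o hφ.equiv]
  exact h0.symm.trans (hbc.symm.trans (h2.trans h1))

end AlgBC

section Cons

/-- the locus of fibrewise freeness as a `ModLocus`. -/
def frModLocus (o : Option ℕ) : ModLocus.{u} where
  L := fun A B _ _ _ M _ _ => frLocus o A B M
  bc := fun A₀ A B₀ B _ _ _ _ _ _ _ _ _ _ _ hpo _ M₀ _ _ _ M _ _ _ _ φ hφ =>
    frLocus_bc A₀ A B₀ B o hpo M₀ M φ hφ
  consFlat := fun A B _ _ _ _ _ M _ _ _ _ _ _ => by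
    haveI : IsNoetherianRing B := Algebra.FiniteType.isNoetherianRing A B
    exact Groth.Agent.Helper4.Constr.isConstructible_of_isOpen (isOpen_frLocus_of_flat A B M o)

/-- **Constructibility of the locus of fibrewise freeness**: affine case. -/
theorem isConstructible_frLocus (o : Option ℕ) (A B : Type u) [CommRing A] [CommRing B]
    [Algebra A B] [Algebra.FinitePresentation A B] (M : Type u) [AddCommGroup M] [Module B M]
    [Module.FinitePresentation B M] : IsConstructible (frLocus o A B M) :=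
  (frModLocus o).isConstructible A B M

variable {X Y : Scheme.{u}} (f : X ⟶ Y) (ℱ : X.Modules)

/-- **Local constructibility of the locus of fibrewise freeness.** -/
theorem isLocallyConstructible_FRAt [LocallyOfFinitePresentation f] (hF : CohB1.IsFP ℱ)
    (o : Option ℕ) : IsLocallyConstructible {x : X | FRAt f ℱ o x} := by
  haveI := hF
  intro x
  obtain ⟨_, ⟨V, hV, rfl⟩, hxV, -⟩ := Y.isBasis_affineOpens.exists_subset_of_mem_open
    (Set.mem_univ (f x)) isOpen_univ
  have hV : IsAffineOpen V := hV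
  obtain ⟨_, ⟨U, hU, rfl⟩, hxU, e⟩ := X.isBasis_affineOpens.exists_subset_of_mem_open
    (show x ∈ f ⁻¹ᵁ V from hxV) (f ⁻¹ᵁ V).isOpen
  have hU : IsAffineOpen U := hU
  have e : U ≤ f ⁻¹ᵁ V := e
  refine ⟨U, U.isOpen.mem_nhds hxU, U.isOpen, ?_⟩
  have hφ : (f.appLE V U e).hom.FinitePresentation :=
    HasRingHomProperty.appLE (P := @LocallyOfFinitePresentation) f inferInstance ⟨V, hV⟩ ⟨U, hU⟩ e
  letI := (f.appLE V U e).hom.toAlgebra
  haveI : Algebra.FinitePresentation Γ(Y, V) Γ(X, U) := hφ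
  haveI : Module.FinitePresentation Γ(X, U) Γ(ℱ, U) :=
    Groth.Agent.Helper13.LocFree.finitePresentation_sections_of_isFinitePresentation ℱ hU
  have hc := isConstructible_frLocus o Γ(Y, V) Γ(X, U) Γ(ℱ, U)
  have hpre := hc.preimage_of_isOpenEmbedding hU.isoSpec.hom.isOpenEmbedding
  refine (congrArg IsConstructible (Set.ext fun u => ?_)).mpr hpre
  exact FRAt_chart f ℱ hU hV e o u

end Cons

end Groth.Agent.Helper16.FibFree
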