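import Mathlib
import Groth.Prelude
import Groth.Agent.Lib.Helper16.Sch.FibFree2
import Groth.Agent.Lib.Helper13.LocFree2
import Groth.Agent.Lib.Helper28.FpqcDescent

/-!
# The set of points of the base over which the fibre module is locally free (helper16)
-/

set_option autoImplicit false
set_option linter.style.haveILetI false
set_option linter.unusedSectionVars false
universe u

open AlgebraicGeometry CategoryTheory Limits IsLocalRing TopologicalSpace TensorProduct Topology

namespace Groth.Agent.Helper16.FibFree

open Groth.Agent.Helper16.FibStalk Groth.Agent.Helper16.FibMod Groth.Agent.Helper16.FibModAlg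
open Groth.Agent.Helper16.FreeRk
open Groth.Agent.Helper13.QCohLoc Groth.Agent.Helper13.LocFree

section LocFree

variable {Z : Scheme.{u}} (M : Z.Modules) [M.IsQuasicoherent]

/-- the rank of the stalk of a module which is free over an affine open. -/
theorem finrank_stalk_of_basis {U : Z.Opens} (hU : IsAffineOpen U) {n : ℕ}
    (b : Module.Basis (Fin n) Γ(Z, U) Γ(M, U)) (x : U) :
    Module.finrank (Z.presheaf.stalk (x : Z)) (M.presheaf.stalk (x : Z)) = n := by
  letI := modStalk M x
  haveI := isScalarTower_stalk M x
  haveI := isLocalizedModule_germ M hU x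
  haveI : IsLocalization (hU.primeIdealOf x).asIdeal.primeCompl (Z.presheaf.stalk (x : Z)) :=
    hU.isLocalization_stalk x
  haveI : Module.Free Γ(Z, U) Γ(M, U) := Module.Free.of_basis b
  haveI : Nontrivial Γ(Z, U) :=
    RingHom.domain_nontrivial (algebraMap Γ(Z, U) (Z.presheaf.stalk (x : Z)))
  rw [Module.finrank_of_isLocalizedModule_of_free (Z.presheaf.stalk (x : Z))
    (hU.primeIdealOf x).asIdeal.primeCompl (germLin M x), Module.finrank_eq_card_basis b,
    Fintype.card_fin]

/-- finite local freeness in terms of the stalks. -/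
theorem isFinLocFree_iff_FR [SheafOfModules.IsFinitePresentation (R := Z.ringCatSheaf) M] :
    FlatMod.IsFinLocFree M ↔ ∀ z : Z, FR none (Z.presheaf.stalk z) (M.presheaf.stalk z) := by
  rw [isFinLocFree_iff_isFinitePresentation_and_isFlat]
  simp only [FR_none_iff]
  exact and_iff_right inferInstance

/-- local freeness of rank `n` in terms of the stalks. -/
theorem isFinLocFreeOfRank_iff_FR [SheafOfModules.IsFinitePresentation (R := Z.ringCatSheaf) M]
    (n : ℕ) :
    FlatMod.IsFinLocFreeOfRank n M ↔
      ∀ z : Z, FR (some n) (Z.presheaf.stalk z) (M.presheaf.stalk z) := by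
  rw [isFinLocFreeOfRank_iff_of_isQuasicoherent]
  simp only [FR_some_iff]
  constructor
  · intro h z
    obtain ⟨U, hU, hzU, ⟨b⟩⟩ := h z
    haveI : Module.Free Γ(Z, U) Γ(M, U) := Module.Free.of_basis b
    haveI := free_stalk_of_free_sections M hU ⟨z, hzU⟩
    exact ⟨Module.Flat.of_free, finrank_stalk_of_basis M hU b ⟨z, hzU⟩⟩
  · intro h z
    obtain ⟨hfl, hrk⟩ := h z
    obtain ⟨_, ⟨U, hU, rfl⟩, hzU, -⟩ :=
      Z.isBasis_affineOpens.exists_subset_of_mem_open (Set.mem_univ z) isOpen_univ
    haveI := finitePresentation_sections_of_isFinitePresentation M hU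
    haveI : Module.Finite (Z.presheaf.stalk z) (M.presheaf.stalk z) :=
      finite_stalk_of_isFiniteType M z
    haveI : Module.Flat (Z.presheaf.stalk z) (M.presheaf.stalk z) := hfl
    haveI : Module.Free (Z.presheaf.stalk z) (M.presheaf.stalk z) :=
      Module.free_of_flat_of_isLocalRing
    obtain ⟨r, hzr, n', ⟨b⟩⟩ := exists_basicOpen_basis M hU ⟨z, hzU⟩
    have h1 := finrank_stalk_of_basis M (hU.basicOpen r) b ⟨z, hzr⟩
    have hn : n' = n := h1.symm.trans hrk
    subst hn
    exact ⟨Z.basicOpen r, hU.basicOpen r, hzr, ⟨b⟩⟩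

end LocFree

section Main

variable {X S : Scheme.{u}} (f : X ⟶ S) (ℱ : X.Modules)

/-- the set of points of the base over which the fibre module is everywhere free (of rank `n`). -/
theorem isLocallyConstructible_forall_FR [LocallyOfFinitePresentation f] [QuasiCompact f]
    [ℱ.IsQuasicoherent] (hF : CohB1.IsFP ℱ) (o : Option ℕ) :
    IsLocallyConstructible {s : S | ∀ w : ↥(f.fiber s),
      FR o ((f.fiber s).presheaf.stalk w)
        (((Scheme.Modules.pullback (f.fiberι s)).obj ℱ).presheaf.stalk w)} := by
  have h1 : IsLocallyConstructible {x : X | FRAt f ℱ o x}ᶜ :=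
    Groth.Agent.Helper16.ConsFD.isLocallyConstructible_compl
      (isLocallyConstructible_FRAt f ℱ hF o)
  have h2 := Groth.Agent.Helper16.ConsFD.isLocallyConstructible_compl
    (f.isLocallyConstructible_image h1)
  convert h2 using 1
  ext s
  simp only [Set.mem_ofPred_eq, Set.mem_compl_iff, Set.mem_image, not_exists, not_and]
  constructor
  · intro H x hx
    by_contra hne
    apply hx
    obtain ⟨w, rfl⟩ : x ∈ Set.range (f.fiberι s) := by
      rw [f.range_fiberι]
      exact hne
    exact (FR_fibre_iff f ℱ o s w).mp (H w)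
  · intro H w
    rw [FR_fibre_iff]
    by_contra hne
    exact H _ hne (apply_fiberι f s w)

/-- **S4819.** -/
theorem isLocallyConstructible_isFinLocFree [LocallyOfFinitePresentation f] [QuasiCompact f]
    [ℱ.IsQuasicoherent] (hF : CohB1.IsFP ℱ) :
    IsLocallyConstructible
      {s : S | FlatMod.IsFinLocFree ((Scheme.Modules.pullback (f.fiberι s)).obj ℱ)} := by
  haveI : SheafOfModules.IsFinitePresentation (R := X.ringCatSheaf) ℱ := hF
  have h := isLocallyConstructible_forall_FR f ℱ hF none
  convert h using 1
  ext s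
  haveI := Groth.Agent.Helper28.FpqcDescent.isFinitePresentation_pullback (f.fiberι s) ℱ
  exact isFinLocFree_iff_FR _

/-- **S4820.** -/
theorem isLocallyConstructible_isFinLocFreeOfRank [LocallyOfFinitePresentation f] [QuasiCompact f]
    [ℱ.IsQuasicoherent] (hF : CohB1.IsFP ℱ) (n : ℕ) :
    IsLocallyConstructible
      {s : S | FlatMod.IsFinLocFreeOfRank n ((Scheme.Modules.pullback (f.fiberι s)).obj ℱ)} := by
  haveI : SheafOfModules.IsFinitePresentation (R := X.ringCatSheaf) ℱ := hF
  have h := isLocallyConstructible_forall_FR f ℱ hF (some n)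
  convert h using 1
  ext s
  haveI := Groth.Agent.Helper28.FpqcDescent.isFinitePresentation_pullback (f.fiberι s) ℱ
  exact isFinLocFreeOfRank_iff_FR _ n

end Main

end Groth.Agent.Helper16.FibFree
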