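import Groth.Agent.Lib.Helper16.Sch.UnramLocus
import Groth.Prelude.Def_ega3

set_option autoImplicit false
set_option linter.style.haveILetI false
universe u
open CategoryTheory CategoryTheory.Limits AlgebraicGeometry Opposite TopologicalSpace

noncomputable section

namespace Groth.Agent.Helper16.FibMapPB

variable {X Y S : Scheme.{u}}

/-- The induced map of fibres is the base change of `f` along `Y_s ⟶ Y`. -/
theorem isPullback_fiberMapOver (f : X ⟶ Y) (h : X ⟶ S) (g : Y ⟶ S) (w : f ≫ g = h) (s : S) :
    IsPullback (h.fiberι s) (CohIII.fiberMapOver f h g w s) f (g.fiberι s) := by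
  have hright : IsPullback (g.fiberι s) (g.fiberToSpecResidueField s) g (S.fromSpecResidueField s) :=
    IsPullback.of_hasPullback _ _
  have houter : IsPullback (h.fiberι s)
      (CohIII.fiberMapOver f h g w s ≫ g.fiberToSpecResidueField s) (f ≫ g)
      (S.fromSpecResidueField s) := by
    have h1 : CohIII.fiberMapOver f h g w s ≫ g.fiberToSpecResidueField s =
        h.fiberToSpecResidueField s := by
      unfold CohIII.fiberMapOver Scheme.Hom.fiberToSpecResidueField Scheme.Hom.fiber
      simp only [pullback.map, Category.comp_id]
      exact pullback.lift_snd _ _ _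
    rw [h1, w]
    exact IsPullback.of_hasPullback _ _
  refine IsPullback.of_bot houter ?_ hright
  unfold CohIII.fiberMapOver Scheme.Hom.fiberι Scheme.Hom.fiber
  simp only [pullback.map, Category.comp_id]
  exact (pullback.lift_fst _ _ _).symm

end Groth.Agent.Helper16.FibMapPB
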