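import Mathlib
import Groth.Agent.Lib.Helper16.Sch.FibMod6

/-!
# The codepth locus of a module on the base of a closed morphism (helper16)
-/

set_option autoImplicit false
set_option linter.style.haveILetI false
set_option linter.unusedSectionVars false
universe u

open AlgebraicGeometry CategoryTheory Limits IsLocalRing TensorProduct

namespace Groth.Agent.Helper16.FibMod

open Groth.Agent.Helper16.FibStalk Groth.Agent.Helper16.FibModAlg

variable {X Y : Scheme.{u}} (f : X ⟶ Y) (ℱ : X.Modules)

/-- for a closed morphism locally of finite presentation and an `f`-flat finitely presented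
module, the set of points of the base over which the restriction of the module to the fibre has
codepth `≤ k` everywhere is open. -/
theorem isOpen_forall_cdim_le [LocallyOfFinitePresentation f] (hcl : IsClosedMap f)
    (hF : CohB1.IsFP ℱ) (hflat : FlatMod.IsFlatOver f ℱ) (k : ℕ) :
    IsOpen {y : Y | ∀ x : ↥(f.fiber y),
      Module.supportDim ((f.fiber y).presheaf.stalk x)
        (((Scheme.Modules.pullback (f.fiberι y)).obj ℱ).presheaf.stalk x) ≤
      ((LocCoh.depth ((f.fiber y).presheaf.stalk x)
        (((Scheme.Modules.pullback (f.fiberι y)).obj ℱ).presheaf.stalk x) : ℕ∞) : WithBot ℕ∞) +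
          (k : WithBot ℕ∞)} := by
  haveI : SheafOfModules.IsFinitePresentation (R := X.ringCatSheaf) ℱ := hF
  have hfin := fun x => finite_stalk_of_isFP ℱ hF x
  have ho := isOpen_cdim_le f ℱ hF hflat k
  have hc := hcl _ ho.isClosed_compl
  rw [← isClosed_compl_iff]
  convert hc using 1
  ext y
  simp only [Set.mem_compl_iff, Set.mem_ofPred_eq, Set.mem_image]
  constructor
  · intro h
    push Not at h
    obtain ⟨w, hw⟩ := h
    refine ⟨f.fiberι y w, ?_, apply_fiberι f y w⟩
    intro h2
    haveI := hfin (f.fiberι y w)
    obtain ⟨h3, h4⟩ := bridge1 f ℱ y w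
    rw [h3, h4] at hw
    exact absurd h2 (not_le.mpr hw)
  · rintro ⟨x, hx, rfl⟩ h
    apply hx
    have h2 := h (f.asFiber x)
    obtain ⟨h3, h4⟩ := bridge_at f ℱ hfin x
    rw [← h3, ← h4]
    exact h2

end Groth.Agent.Helper16.FibMod
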