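import Mathlib
import Groth.Agent.Lib.Helper16.Sch.FibSk2

/-!
# The `(S_k)` locus on the base of a proper flat morphism (helper16)
-/

set_option autoImplicit false
set_option linter.style.haveILetI false
set_option linter.unusedSectionVars false
universe u

open AlgebraicGeometry CategoryTheory Limits IsLocalRing TensorProduct Topology TopologicalSpace

namespace Groth.Agent.Helper16.FibSk

open Groth.Agent.Helper16.FibStalk Groth.Agent.Helper16.FibCons

/-- for a closed, flat morphism locally of finite presentation, the set of points of the base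
over which all fibre local rings satisfy `(S_k)` is open. -/
theorem isOpen_forall_hasSk {X Y : Scheme.{u}} (f : X ⟶ Y) [Flat f]
    [LocallyOfFinitePresentation f] (hcl : IsClosedMap f) (k : ℕ) :
    IsOpen {y : Y | ∀ x : ↥(f.fiber y), LocCoh.HasSk k ((f.fiber y).presheaf.stalk x)
      ((f.fiber y).presheaf.stalk x)} := by
  have ho := isOpen_hasSk_fs f k
  have hc := hcl _ ho.isClosed_compl
  rw [← isClosed_compl_iff]
  convert hc using 1
  ext y
  simp only [Set.mem_compl_iff, Set.mem_ofPred_eq, Set.mem_image]
  constructor
  · intro h
    push Not at h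
    obtain ⟨w, hw⟩ := h
    refine ⟨f.fiberι y w, ?_, apply_fiberι f y w⟩
    intro h2
    apply hw
    have e := stalkFiberEquivFS f y w _ rfl
    haveI := isNoetherianRing_fs f (f.fiberι y w)
    haveI : IsNoetherianRing ((f.fiber y).presheaf.stalk w) :=
      isNoetherianRing_of_ringEquiv _ e.symm
    exact Groth.Agent.Helper7.FieldCM.hasSk_of_ringEquiv e.symm k h2
  · rintro ⟨x, hx, rfl⟩ h
    apply hx
    have h2 := h (f.asFiber x)
    exact h2

end Groth.Agent.Helper16.FibSk
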