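import Mathlib
import Groth.Prelude
import Groth.Agent.Lib.Helper16.Sch.FTOpen1
import Groth.Agent.Lib.Helper16.Sch.FTDim8
import Groth.Agent.Lib.Helper16.AlgSp.LqfField
import Groth.Agent.S0402

/-!
# The locus of zero-dimensional fibres of a proper flat morphism (helper16)
-/

set_option autoImplicit false
set_option linter.style.haveILetI false
set_option linter.deprecated false
universe u
open CategoryTheory AlgebraicGeometry TopologicalSpace Topology

namespace Groth.Agent.Helper16.FibZero

variable {X Y : Scheme.{u}}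

theorem eq_zero_iff (D : WithBot ℕ∞) : D = 0 ↔ ⊥ < D ∧ ¬ (0 < D) := by
  constructor
  · rintro rfl
    exact ⟨by simp, lt_irrefl _⟩
  · rintro ⟨h1, h2⟩
    induction D using WithBot.recBotCoe with
    | bot => exact absurd h1 (lt_irrefl _)
    | coe w =>
      have h3 : ((w : ℕ∞) : WithBot ℕ∞) ≤ ((0 : ℕ∞) : WithBot ℕ∞) := not_lt.mp h2
      rw [WithBot.coe_le_coe] at h3
      have : w = 0 := le_antisymm h3 zero_le
      rw [this]
      rfl

/-- upper semicontinuity of the fibre dimension on the base for closed maps. -/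
theorem isOpen_dim_fiber_le (f : X ⟶ Y) [LocallyOfFiniteType f] [QuasiCompact f]
    (hcl : IsClosedMap f.base) (n : ℕ) :
    IsOpen {y : Y | topologicalKrullDim (f.fiber y) ≤ n} := by
  have h1 := Groth.Agent.S0402.result f n
  have h2 := (hcl _ h1.isClosed_compl).isOpen_compl
  convert h2 using 1
  ext y
  simp only [Set.mem_setOf_eq, Set.mem_compl_iff, Set.mem_image, not_exists, not_and]
  rw [Groth.Agent.Helper16.ConsFD.dim_fiber_le_iff]
  constructor
  · intro h x hx hfx
    exact hx (h x hfx)
  · intro h x hfx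
    by_contra hcon
    exact h x hcon hfx

theorem bot_lt_dim_fiber_iff (f : X ⟶ Y) (y : Y) :
    ⊥ < topologicalKrullDim (f.fiber y) ↔ y ∈ Set.range f.base := by
  rw [bot_lt_iff_ne_bot, Ne, topologicalKrullDim, Order.krullDim_eq_bot_iff, not_isEmpty_iff]
  constructor
  · rintro ⟨Z⟩
    obtain ⟨z, -⟩ := Z.isIrreducible.nonempty
    have : f.fiberι y z ∈ f.base ⁻¹' {y} := by
      rw [← f.range_fiberι y]
      exact ⟨z, rfl⟩
    exact ⟨_, this⟩
  · rintro ⟨x, hx⟩
    have : x ∈ Set.range (f.fiberι y) := by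
      rw [f.range_fiberι y]
      exact hx
    obtain ⟨z, -⟩ := this
    exact ⟨⟨closure {z}, isIrreducible_singleton.closure, isClosed_closure⟩⟩

theorem isClopen_dim_fiber_eq_zero (f : X ⟶ Y) [IsProper f] [Flat f]
    [LocallyOfFinitePresentation f] :
    IsClopen {y : Y | topologicalKrullDim (f.base ⁻¹' {y}) = 0} := by
  have e : {y : Y | topologicalKrullDim (f.base ⁻¹' {y}) = 0} =
      Set.range f.base ∩ {y : Y | (0 : WithBot ℕ∞) < topologicalKrullDim (f.fiber y)}ᶜ := by
    ext y
    simp only [Set.mem_setOf_eq, Set.mem_inter_iff, Set.mem_compl_iff]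
    rw [← Groth.Agent.Helper16.FTDim.dim_fiber_eq, eq_zero_iff, bot_lt_dim_fiber_iff]
  rw [e]
  have hcl : IsClosedMap f.base := f.isClosedMap
  have hop : IsOpenMap f.base := f.isOpenMap
  have h1 : IsClopen (Set.range f.base) := ⟨hcl.isClosed_range, hop.isOpen_range⟩
  have h2 : IsOpen {y : Y | (0 : WithBot ℕ∞) < topologicalKrullDim (f.fiber y)} :=
    Groth.Agent.Helper16.FTOpen.main0404 f 0
  have h3 : IsClosed {y : Y | (0 : WithBot ℕ∞) < topologicalKrullDim (f.fiber y)} := by
    have := (isOpen_dim_fiber_le f hcl 0).isClosed_compl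
    convert this using 1
    ext y
    simp only [Set.mem_setOf_eq, Set.mem_compl_iff, not_le]
    rfl
  exact h1.inter (IsClopen.compl ⟨h3, h2⟩)

theorem isDiscrete_preimage_of_dim_eq_zero (f : X ⟶ Y) [LocallyOfFiniteType f] (y : Y)
    (h : topologicalKrullDim (f.base ⁻¹' {y}) = 0) : _root_.IsDiscrete (f.base ⁻¹' {y}) := by
  rw [← Groth.Agent.Helper16.FTDim.dim_fiber_eq] at h
  haveI : LocallyOfFiniteType (f.fiberToSpecResidueField y) :=
    MorphismProperty.pullback_snd _ _ inferInstance
  haveI : DiscreteTopology (f.fiber y) :=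
    Groth.Agent.Helper16.AS.discreteTopology_of_lft_field_of_dim_le_zero (Y.residueField y)
      (f.fiberToSpecResidueField y) h.le
  rw [isDiscrete_iff_discreteTopology]
  exact (f.fiberHomeo y).symm.isEmbedding.discreteTopology

theorem isFinite_morphismRestrict (f : X ⟶ Y) [IsProper f] (U : Y.Opens)
    (hU : (U : Set Y) ⊆ {y : Y | topologicalKrullDim (f.base ⁻¹' {y}) = 0}) :
    IsFinite (f ∣_ U) := by
  haveI : LocallyQuasiFinite (f ∣_ U) := by
    rw [locallyQuasiFinite_iff_isDiscrete_preimage_singleton]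
    intro y
    have h1 := isDiscrete_preimage_of_dim_eq_zero f y.1 (hU y.2)
    have h2 := h1.preimage ((f ⁻¹ᵁ U).ι.continuous.continuousOn)
      (f ⁻¹ᵁ U).ι.isOpenEmbedding.injective
    convert h2 using 1
    ext x
    simp only [Set.mem_preimage, Set.mem_singleton_iff]
    have hc : ((f ∣_ U) x).1 = f ((f ⁻¹ᵁ U).ι x) := morphismRestrict_base_coe f U x
    rw [← hc]
    exact Subtype.ext_iff
  exact IsFinite.of_isProper_of_locallyQuasiFinite _

end Groth.Agent.Helper16.FibZero
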