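import Mathlib
import Groth.Agent.Lib.Helper16.Sch.Rigid
import Groth.Agent.Lib.Helper15.AlgSpDescent

set_option autoImplicit false
set_option linter.style.haveILetI false
open CategoryTheory CategoryTheory.Limits AlgebraicGeometry Opposite TopologicalSpace
universe u

namespace Groth.Agent.Helper16.FinHoms

variable {X S : Scheme.{u}}

theorem finite_residueField (f : X ⟶ S) [FormallyUnramified f] [LocallyOfFiniteType f] (x : X) :
    letI : Algebra (S.residueField (f.base x)) (X.residueField x) :=
      (f.residueFieldMap x).hom.toAlgebra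
    Module.Finite (S.residueField (f.base x)) (X.residueField x) := by
  algebraize [(f.stalkMap x).hom]
  have : IsLocalHom (algebraMap (S.presheaf.stalk (f x)) (X.presheaf.stalk x)) :=
    inferInstanceAs <| IsLocalHom (f.stalkMap x).hom
  suffices h : Module.Finite
      (IsLocalRing.ResidueField <| S.presheaf.stalk (f x))
      (IsLocalRing.ResidueField <| X.presheaf.stalk x) by
    have halg : (f.residueFieldMap x).hom.toAlgebra =
        (inferInstance : Algebra (IsLocalRing.ResidueField <| S.presheaf.stalk (f x))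
          (IsLocalRing.ResidueField <| X.presheaf.stalk x)) := by
      refine Algebra.algebra_ext _ _ fun x ↦ ?_
      obtain ⟨x, rfl⟩ := IsLocalRing.residue_surjective x
      rfl
    exact halg ▸ h
  have : Algebra.EssFiniteType (S.presheaf.stalk (f x)) (X.presheaf.stalk x) := by
    rw [← RingHom.essFiniteType_algebraMap, RingHom.algebraMap_toAlgebra]
    exact LocallyOfFiniteType.stalkMap f x
  have : Algebra.FormallyUnramified (S.presheaf.stalk (f x)) (X.presheaf.stalk x) := by
    rw [← RingHom.formallyUnramified_algebraMap, RingHom.algebraMap_toAlgebra]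
    exact FormallyUnramified.stalkMap f x
  infer_instance

theorem finite_field_points_at (π : X ⟶ S) [FormallyUnramified π] [LocallyOfFiniteType π]
    {K : Type u} [Field K] (ψ : Spec (.of K) ⟶ S) (x : X) :
    {ι : X.residueField x ⟶ .of K | Spec.map ι ≫ X.fromSpecResidueField x ≫ π = ψ}.Finite := by
  by_cases hne : ∃ ι₀ : X.residueField x ⟶ .of K, Spec.map ι₀ ≫ X.fromSpecResidueField x ≫ π = ψ
  swap
  · convert Set.finite_empty
    ext ι
    simp only [Set.mem_ofPred_eq, Set.mem_empty_iff_false, iff_false]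
    exact fun h => hne ⟨ι, h⟩
  obtain ⟨ι₀, hι₀⟩ := hne
  letI : Algebra (S.residueField (π.base x)) (X.residueField x) :=
    (π.residueFieldMap x).hom.toAlgebra
  letI : Algebra (S.residueField (π.base x)) K := (π.residueFieldMap x ≫ ι₀).hom.toAlgebra
  haveI : Module.Finite (S.residueField (π.base x)) (X.residueField x) := finite_residueField π x
  have key : ∀ ι : X.residueField x ⟶ .of K, Spec.map ι ≫ X.fromSpecResidueField x ≫ π = ψ →
      π.residueFieldMap x ≫ ι = π.residueFieldMap x ≫ ι₀ := by
    intro ι hι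
    apply Spec.map_injective
    rw [← cancel_mono (S.fromSpecResidueField (π x))]
    rw [Spec.map_comp, Spec.map_comp, Category.assoc, Category.assoc,
      Scheme.Hom.SpecMap_residueFieldMap_fromSpecResidueField, hι, hι₀]
  rw [← Set.finite_coe_iff]
  let g : {ι : X.residueField x ⟶ .of K | Spec.map ι ≫ X.fromSpecResidueField x ≫ π = ψ} →
      (X.residueField x →ₐ[S.residueField (π.base x)] K) := fun ι =>
    { ι.1.hom with
      commutes' := fun a => by
        have := congr($(key ι.1 ι.2).hom a)
        exact this }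
  refine Finite.of_injective g ?_
  intro ι ι' h
  apply Subtype.ext
  ext a
  exact congr($h a)

theorem finite_field_points (π : X ⟶ S) [FormallyUnramified π] [LocallyOfFiniteType π]
    [QuasiCompact π] {K : Type u} [Field K] (ψ : Spec (.of K) ⟶ S) :
    {φ : Spec (.of K) ⟶ X | φ ≫ π = ψ}.Finite := by
  haveI : LocallyQuasiFinite π :=
    Groth.Agent.Helper15.locallyQuasiFinite_of_formallyUnramified π
  let s₀ : S := ψ (IsLocalRing.closedPoint K)
  have hF : (π ⁻¹' {s₀}).Finite := π.finite_preimage_singleton s₀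
  have hsub : {φ : Spec (.of K) ⟶ X | φ ≫ π = ψ} ⊆
      ⋃ x ∈ π ⁻¹' {s₀}, (fun ι : X.residueField x ⟶ .of K =>
        Spec.map ι ≫ X.fromSpecResidueField x) ''
        {ι : X.residueField x ⟶ .of K | Spec.map ι ≫ X.fromSpecResidueField x ≫ π = ψ} := by
    intro φ hφ
    simp only [Set.mem_ofPred_eq] at hφ
    simp only [Set.mem_iUnion]
    refine ⟨φ (IsLocalRing.closedPoint K), ?_, ?_⟩
    · show π (φ (IsLocalRing.closedPoint K)) = s₀
      rw [← Scheme.Hom.comp_apply, hφ]
    · have h1 := Scheme.descResidueField_stalkClosedPointTo_fromSpecResidueField K X φ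
      refine ⟨X.descResidueField (Scheme.stalkClosedPointTo φ), ?_, h1⟩
      simp only [Set.mem_ofPred_eq]
      rw [← Category.assoc, h1, hφ]
  refine Set.Finite.subset ?_ hsub
  exact hF.biUnion fun x _ => (finite_field_points_at π ψ x).image _

end Groth.Agent.Helper16.FinHoms

namespace Groth.Agent.Helper16.FinHoms

open Groth.Agent.Helper16.Rigid

/-- The coincidence locus of two maps into a separated unramified scheme is clopen. -/
theorem exists_isClopen_eqLocus {X S Y : Scheme.{u}} (π : X ⟶ S)
    [FormallyUnramified π] [LocallyOfFiniteType π] [IsSeparated π]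
    (h : Y ⟶ S) (f g : Y ⟶ X) (hf : f ≫ π = h) (hg : g ≫ π = h) :
    ∃ E : Set Y, IsClopen E ∧
      (∀ y, Y.fromSpecResidueField y ≫ f = Y.fromSpecResidueField y ≫ g → y ∈ E) ∧
      (E = Set.univ → f = g) := by
  let Y' : Over S := Over.mk h
  let X' : Over S := Over.mk π
  let f' : Y' ⟶ X' := Over.homMk f hf
  let g' : Y' ⟶ X' := Over.homMk g hg
  have hsep : IsSeparated X'.hom := ‹_›
  have hunr : FormallyUnramified X'.hom := ‹_›
  have hlft : LocallyOfFiniteType X'.hom := ‹_›
  have hcl : IsClosedImmersion (equalizer.ι f' g').left := inferInstance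
  have hop : IsOpenImmersion (equalizer.ι f' g').left := isOpenImmersion_equalizer_ι_left f' g'
  refine ⟨Set.range (equalizer.ι f' g').left,
    ⟨(Scheme.Hom.isClosedEmbedding _).isClosed_range, (Scheme.Hom.isOpenEmbedding _).isOpen_range⟩,
    ?_, ?_⟩
  · intro y hy
    let K : Over S := Over.mk (Y.fromSpecResidueField y ≫ h)
    let ι' : K ⟶ Y' := Over.homMk (Y.fromSpecResidueField y) rfl
    have hι : ι' ≫ f' = ι' ≫ g' := by ext1; exact hy
    refine ⟨(equalizer.lift ι' hι).left (IsLocalRing.closedPoint (Y.residueField y)), ?_⟩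
    rw [← Scheme.Hom.comp_apply, ← Over.comp_left, equalizer.lift_ι]
    exact Scheme.fromSpecResidueField_apply _ _
  · intro huniv
    have hsurj : Surjective (equalizer.ι f' g').left := ⟨Set.range_eq_univ.mp huniv⟩
    have : IsIso (equalizer.ι f' g').left :=
      (isIso_iff_isOpenImmersion_and_surjective _).mpr ⟨hop, hsurj⟩
    rw [← cancel_epi (equalizer.ι f' g').left]
    exact congr($(equalizer.condition f' g').left)

theorem finite_homs {X S Y : Scheme.{u}} [IsNoetherian Y]
    (π : X ⟶ S) [FormallyUnramified π] [LocallyOfFiniteType π] [QuasiCompact π] [IsSeparated π]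
    (h : Y ⟶ S) : Set.Finite {f : Y ⟶ X | f ≫ π = h} := by
  classical
  have hfinI : (irreducibleComponents Y).Finite := finite_irreducibleComponents_of_isNoetherian
  have hgen : ∀ Z : irreducibleComponents Y, ∃ η : Y, IsGenericPoint η (Z : Set Y) := fun Z =>
    QuasiSober.sober Z.2.1 (isClosed_of_mem_irreducibleComponents _ Z.2)
  choose η hη using hgen
  haveI : Finite (irreducibleComponents Y) := hfinI.to_subtype
  have hfin : ∀ Z : irreducibleComponents Y,
      Finite {φ : Spec (.of (Y.residueField (η Z))) ⟶ X |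
        φ ≫ π = Y.fromSpecResidueField (η Z) ≫ h} :=
    fun Z => (finite_field_points π _).to_subtype
  rw [← Set.finite_coe_iff]
  let Θ : {f : Y ⟶ X | f ≫ π = h} → ∀ Z : irreducibleComponents Y,
      {φ : Spec (.of (Y.residueField (η Z))) ⟶ X | φ ≫ π = Y.fromSpecResidueField (η Z) ≫ h} :=
    fun f Z => ⟨Y.fromSpecResidueField (η Z) ≫ f.1, by
      have := f.2
      simp only [Set.mem_ofPred_eq] at this ⊢
      rw [Category.assoc, this]⟩
  refine Finite.of_injective Θ ?_
  intro f g hfg
  apply Subtype.ext
  obtain ⟨E, hE, hmem, hEq⟩ := exists_isClopen_eqLocus π h f.1 g.1 f.2 g.2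
  apply hEq
  have hηE : ∀ Z : irreducibleComponents Y, η Z ∈ E := fun Z =>
    hmem _ (congr($(congr_fun hfg Z).1))
  rw [← Set.univ_subset_iff, ← sUnion_irreducibleComponents]
  rintro y ⟨Z, hZ, hyZ⟩
  have : (Z : Set Y) = closure {η ⟨Z, hZ⟩} := (hη ⟨Z, hZ⟩).def.symm
  rw [this] at hyZ
  exact (hE.1.closure_subset_iff.mpr (Set.singleton_subset_iff.mpr (hηE ⟨Z, hZ⟩))) hyZ

end Groth.Agent.Helper16.FinHoms
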