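import Mathlib
import Groth.Agent.Lib.Helper16.Sch.SplitMain
set_option autoImplicit false
set_option linter.style.haveILetI false
set_option linter.dupNamespace false
open TensorProduct CategoryTheory CategoryTheory.Limits AlgebraicGeometry
universe u

namespace Groth.Agent.Helper16.SplitSep

/-- a clopen subscheme of an open subscheme: the inclusion is a closed immersion -/
theorem isClosedImmersion_homOfLE {Y : Scheme.{u}} {V' V : Y.Opens} (h : V' ≤ V)
    (hcl : IsClosed (V' : Set Y)) : IsClosedImmersion (Y.homOfLE h) := by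
  apply IsClosedImmersion.of_isPreimmersion
  have : Set.range (Y.homOfLE h) = V.ι ⁻¹' (V' : Set Y) := by
    ext v
    constructor
    · rintro ⟨a, rfl⟩
      show ((Y.homOfLE h a).1 : Y) ∈ V'
      rw [Scheme.homOfLE_apply]
      exact a.2
    · intro hv
      refine ⟨⟨v.1, hv⟩, ?_⟩
      rw [Scheme.homOfLE_apply']
      rfl
  rw [this]
  exact hcl.preimage V.ι.continuous

theorem disjointify {Y U : Scheme.{u}} (q : Y ⟶ U) [IsSeparated q] (u : U)
    {K : Type} [Finite K] (V : K → Y.Opens)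
    (h1 : ∀ k, IsClosedImmersion ((V k).ι ≫ q) ∧ ∃ w : ↑Y, w ∈ V k ∧ q w = u)
    (h2 : ∀ (k k' : K) (w : ↑Y), w ∈ V k → w ∈ V k' → q w = u → k = k') :
    ∃ (W : Y.Opens) (V' : K → Y.Opens),
      W ⊔ (⨆ k, V' k) = ⊤ ∧ (∀ k, Disjoint W (V' k)) ∧ (∀ k k', k ≠ k' → Disjoint (V' k) (V' k')) ∧
      (∀ k, IsClosedImmersion ((V' k).ι ≫ q) ∧ ∃ w : ↑Y, w ∈ V' k ∧ q w = u) ∧
      (W : Set Y) = (⋃ k, (V k : Set Y))ᶜ := by
  classical
  obtain ⟨n, ⟨e⟩⟩ := Finite.exists_equiv_fin K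
  have hcl : ∀ k, IsClosed (V k : Set Y) := by
    intro k
    haveI := (h1 k).1
    haveI : IsClosedImmersion (V k).ι := IsClosedImmersion.of_comp (V k).ι q
    have := (V k).ι.isClosedEmbedding.isClosed_range
    rwa [Scheme.Opens.range_ι] at this
  have hclU : ∀ (p : K → Prop), IsClosed (⋃ (j : K) (_ : p j), (V j : Set Y)) := by
    intro p
    exact isClosed_iUnion_of_finite fun j => isClosed_iUnion_of_finite fun _ => hcl j
  let C : K → Y.Opens := fun k => ⟨(⋃ (j : K) (_ : e j < e k), (V j : Set Y))ᶜ, (hclU _).isOpen_compl⟩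
  let V' : K → Y.Opens := fun k => V k ⊓ C k
  let W : Y.Opens := ⟨(⋃ k, (V k : Set Y))ᶜ, (isClosed_iUnion_of_finite hcl).isOpen_compl⟩
  have hV'le : ∀ k, V' k ≤ V k := fun k => inf_le_left
  have hV'cl : ∀ k, IsClosed (V' k : Set Y) := by
    intro k
    show IsClosed ((V k : Set Y) ∩ (⋃ (j : K) (_ : e j < e k), (V j : Set Y))ᶜ)
    refine (hcl k).inter ?_
    rw [isClosed_compl_iff]
    exact isOpen_iUnion fun j => isOpen_iUnion fun _ => (V j).2
  refine ⟨W, V', ?_, ?_, ?_, ?_, rfl⟩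
  · rw [eq_top_iff]
    intro w _
    by_cases hw : ∃ k, w ∈ V k
    · -- minimal index
      have hne : {m : Fin n | w ∈ V (e.symm m)}.Nonempty := by
        obtain ⟨k, hk⟩ := hw
        exact ⟨e k, by simpa using hk⟩
      obtain ⟨m, hm, hmin⟩ := (Set.toFinite {m : Fin n | w ∈ V (e.symm m)}).exists_minimal hne
      have hmem : w ∈ V' (e.symm m) := by
        refine ⟨hm, ?_⟩
        show w ∉ ⋃ (j : K) (_ : e j < e (e.symm m)), (V j : Set Y)
        simp only [Set.mem_iUnion, not_exists]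
        intro j hj hwj
        rw [e.apply_symm_apply] at hj
        have : w ∈ V (e.symm (e j)) := by rw [e.symm_apply_apply]; exact hwj
        exact absurd (hmin this hj.le) (not_le.mpr hj)
      exact (le_sup_right : (⨆ k, V' k) ≤ W ⊔ ⨆ k, V' k)
        ((le_iSup V' (e.symm m)) hmem)
    · refine (le_sup_left : W ≤ W ⊔ ⨆ k, V' k) ?_
      show w ∉ ⋃ k, (V k : Set Y)
      simpa using hw
  · intro k
    rw [disjoint_iff, eq_bot_iff]
    rintro w ⟨hwW, hwV⟩
    exact (hwW (Set.mem_iUnion.mpr ⟨k, hwV.1⟩)).elim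
  · intro k k' hkk'
    rw [disjoint_iff, eq_bot_iff]
    rintro w ⟨hwk, hwk'⟩
    have hne : e k ≠ e k' := fun h => hkk' (e.injective h)
    rcases lt_or_gt_of_ne hne with hlt | hgt
    · exact (hwk'.2 (Set.mem_iUnion₂.mpr ⟨k, hlt, hwk.1⟩)).elim
    · exact (hwk.2 (Set.mem_iUnion₂.mpr ⟨k', hgt, hwk'.1⟩)).elim
  · intro k
    constructor
    · haveI := (h1 k).1
      haveI := isClosedImmersion_homOfLE (hV'le k) (hV'cl k)
      rw [← Y.homOfLE_ι (hV'le k), Category.assoc]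
      infer_instance
    · obtain ⟨w, hw, hwu⟩ := (h1 k).2
      refine ⟨w, ⟨hw, ?_⟩, hwu⟩
      show w ∉ ⋃ (j : K) (_ : e j < e k), (V j : Set Y)
      simp only [Set.mem_iUnion, not_exists]
      intro j hj hwj
      have := h2 j k w hwj hw hwu
      rw [this] at hj
      exact lt_irrefl _ hj

theorem main_unr_sep {X S : Scheme.{u}} (f : X ⟶ S) [IsSeparated f] (s : S)
    {ι : Type} [Finite ι] (x : ι → ↑X) (hinj : Function.Injective x) (hs : ∀ i, f (x i) = s)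
    (hx : ∀ i, ∃ W : X.Opens, x i ∈ W ∧ LocallyOfFiniteType (W.ι ≫ f) ∧
      FormallyUnramified (W.ι ≫ f)) :
    ∃ (U : Scheme.{u}) (g : U ⟶ S) (u : U), Etale g ∧ g u = s ∧
      ∃ (K : Type) (_ : Finite K) (W : (pullback f g).Opens) (V : K → (pullback f g).Opens),
        W ⊔ (⨆ k, V k) = ⊤ ∧ (∀ k, Disjoint W (V k)) ∧ (∀ k k', k ≠ k' → Disjoint (V k) (V k')) ∧
        (∀ k, IsClosedImmersion ((V k).ι ≫ pullback.snd f g) ∧
          ∃ w : ↑(pullback f g), w ∈ V k ∧ pullback.snd f g w = u) ∧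
        (∀ (w : ↑(pullback f g)) (i : ι), w ∈ W → pullback.snd f g w = u →
          pullback.fst f g w ≠ x i) := by
  obtain ⟨U, g, u, hg, hgu, K, hK, lab, V, h1, h2, h3⟩ :=
    Groth.Agent.Helper16.SplitMain.main_unr f s x hinj hs hx
  obtain ⟨W, V', hcov, hWV, hVV, hV', hW⟩ := disjointify (pullback.snd f g) u V h1 h2
  refine ⟨U, g, u, hg, hgu, K, hK, W, V', hcov, hWV, hVV, hV', ?_⟩
  intro w i hwW hwu hwx
  obtain ⟨k, -, hk⟩ := h3 w i hwu hwx
  have : w ∈ (W : Set _) := hwW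
  rw [hW] at this
  exact this (Set.mem_iUnion.mpr ⟨k, hk⟩)

/-- restriction of a section-piece to an open subscheme of the base is again a section-piece -/
theorem isIso_restrict {X S U : Scheme.{u}} (f : X ⟶ S) (g : U ⟶ S) (U' : U.Opens)
    (V : (pullback f g).Opens) [IsIso (V.ι ≫ pullback.snd f g)] :
    IsIso (((pullback.lift (pullback.fst f (U'.ι ≫ g)) (pullback.snd f (U'.ι ≫ g) ≫ U'.ι)
      (by rw [pullback.condition, Category.assoc]) : pullback f (U'.ι ≫ g) ⟶ pullback f g) ⁻¹ᵁ V).ι ≫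
        pullback.snd f (U'.ι ≫ g)) := by
  set g' := U'.ι ≫ g with hg'
  set jY : pullback f g' ⟶ pullback f g := pullback.lift (pullback.fst f g')
    (pullback.snd f g' ≫ U'.ι) (by rw [pullback.condition, Category.assoc]) with hjY
  have hj1 : jY ≫ pullback.fst f g = pullback.fst f g' := pullback.lift_fst _ _ _
  have hj2 : jY ≫ pullback.snd f g = pullback.snd f g' ≫ U'.ι := pullback.lift_snd _ _ _
  -- the section
  obtain ⟨σ, hσ1, hσ2, hσV⟩ : ∃ σ : U ⟶ pullback f g, σ ≫ pullback.snd f g = 𝟙 U ∧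
      V.ι ≫ pullback.snd f g ≫ σ = V.ι ∧ ∀ a, σ a ∈ V := by
    refine ⟨inv (V.ι ≫ pullback.snd f g) ≫ V.ι, ?_, ?_, ?_⟩
    · rw [Category.assoc, IsIso.inv_hom_id]
    · rw [← Category.assoc, ← Category.assoc, IsIso.hom_inv_id, Category.id_comp]
    · intro a
      exact (inv (V.ι ≫ pullback.snd f g) a).2
  have hcond : (U'.ι ≫ σ ≫ pullback.fst f g) ≫ f = 𝟙 _ ≫ g' := by
    simp only [Category.assoc, pullback.condition, reassoc_of% hσ1, Category.id_comp, hg']
  obtain ⟨σ', hσ'1, hσ'2⟩ : ∃ σ' : (U' : Scheme.{u}) ⟶ pullback f g',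
      σ' ≫ pullback.snd f g' = 𝟙 _ ∧ σ' ≫ pullback.fst f g' = U'.ι ≫ σ ≫ pullback.fst f g :=
    ⟨pullback.lift (U'.ι ≫ σ ≫ pullback.fst f g) (𝟙 _) hcond, pullback.lift_snd _ _ _,
      pullback.lift_fst _ _ _⟩
  have hσ'j : σ' ≫ jY = U'.ι ≫ σ := by
    apply pullback.hom_ext
    · simp only [Category.assoc, hj1, hσ'2]
    · simp only [Category.assoc, hj2, reassoc_of% hσ'1, hσ1, Category.comp_id]
  have hrange : Set.range σ' ⊆ Set.range (jY ⁻¹ᵁ V).ι := by
    rintro _ ⟨a, rfl⟩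
    rw [Scheme.Opens.range_ι]
    show jY (σ' a) ∈ V
    have : jY (σ' a) = (σ' ≫ jY) a := rfl
    rw [this, hσ'j]
    exact hσV _
  obtain ⟨τ, hτ⟩ : ∃ τ : (U' : Scheme.{u}) ⟶ (jY ⁻¹ᵁ V), τ ≫ (jY ⁻¹ᵁ V).ι = σ' :=
    ⟨IsOpenImmersion.lift (jY ⁻¹ᵁ V).ι σ' hrange, IsOpenImmersion.lift_fac _ _ _⟩
  have h3 : (jY ⁻¹ᵁ V).ι ≫ jY = (jY ∣_ V) ≫ V.ι := (morphismRestrict_ι jY V).symm
  refine ⟨τ, ?_, ?_⟩
  · rw [← cancel_mono (jY ⁻¹ᵁ V).ι]
    apply pullback.hom_ext
    · simp only [Category.assoc, hτ, hσ'2, Category.id_comp]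
      rw [← hj1, ← reassoc_of% hj2, reassoc_of% h3, reassoc_of% h3, reassoc_of% hσ2]
    · simp only [Category.assoc, hτ, hσ'1, Category.comp_id, Category.id_comp]
      rfl
  · rw [← Category.assoc, hτ, hσ'1]

theorem main_et_sep {X S : Scheme.{u}} (f : X ⟶ S) [IsSeparated f] (s : S)
    {ι : Type} [Finite ι] (x : ι → ↑X) (hinj : Function.Injective x) (hs : ∀ i, f (x i) = s)
    (hx : ∀ i, ∃ W : X.Opens, x i ∈ W ∧ Etale (W.ι ≫ f)) :
    ∃ (U : Scheme.{u}) (g : U ⟶ S) (u : U), Etale g ∧ g u = s ∧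
      ∃ (K : Type) (_ : Finite K) (W : (pullback f g).Opens) (V : K → (pullback f g).Opens),
        W ⊔ (⨆ k, V k) = ⊤ ∧ (∀ k, Disjoint W (V k)) ∧ (∀ k k', k ≠ k' → Disjoint (V k) (V k')) ∧
        (∀ k, IsIso ((V k).ι ≫ pullback.snd f g)) ∧
        (∀ (w : ↑(pullback f g)) (i : ι), w ∈ W → pullback.snd f g w = u →
          pullback.fst f g w ≠ x i) := by
  classical
  obtain ⟨U, g, u, hg, hgu, K, hK, lab, V, h1, h2, h3⟩ :=
    Groth.Agent.Helper16.SplitMain.main_et f s x hinj hs hx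
  haveI : ∀ k, IsIso ((V k).ι ≫ pullback.snd f g) := fun k => (h1 k).1
  have hcl : ∀ k, IsClosed (V k : Set ↑(pullback f g)) := by
    intro k
    haveI : IsClosedImmersion (V k).ι := IsClosedImmersion.of_comp (V k).ι (pullback.snd f g)
    have := (V k).ι.isClosedEmbedding.isClosed_range
    rwa [Scheme.Opens.range_ι] at this
  let C : K → K → Set U := fun k j =>
    ((V k).ι ≫ pullback.snd f g) '' ((V k).ι ⁻¹' (V j : Set ↑(pullback f g)))
  have hCcl : ∀ k j, IsClosed (C k j) := by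
    intro k j
    exact ((V k).ι ≫ pullback.snd f g).isClosedEmbedding.isClosedMap _
      ((hcl j).preimage (V k).ι.continuous)
  have hCu : ∀ k j, k ≠ j → u ∉ C k j := by
    rintro k j hkj ⟨v, hv, hvu⟩
    exact hkj (h2 k j v.1 v.2 hv hvu)
  have hCmem : ∀ k j (w : ↑(pullback f g)), w ∈ V k → w ∈ V j → pullback.snd f g w ∈ C k j := by
    intro k j w hwk hwj
    exact ⟨⟨w, hwk⟩, hwj, rfl⟩
  let U' : U.Opens := ⟨(⋃ (k : K) (j : K) (_ : k ≠ j), C k j)ᶜ, by
    rw [isOpen_compl_iff]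
    exact isClosed_iUnion_of_finite fun k => isClosed_iUnion_of_finite fun j =>
      isClosed_iUnion_of_finite fun _ => hCcl k j⟩
  have huU' : u ∈ U' := by
    show u ∉ ⋃ (k : K) (j : K) (_ : k ≠ j), C k j
    simp only [Set.mem_iUnion, not_exists]
    intro k j hkj
    exact hCu k j hkj
  have hU'C : ∀ (a : U') k j, k ≠ j → (a : U) ∉ C k j := by
    intro a k j hkj ha
    exact a.2 (Set.mem_iUnion.mpr ⟨k, Set.mem_iUnion.mpr ⟨j, Set.mem_iUnion.mpr ⟨hkj, ha⟩⟩⟩)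
  set g' := U'.ι ≫ g with hg'
  set jY : pullback f g' ⟶ pullback f g := pullback.lift (pullback.fst f g')
    (pullback.snd f g' ≫ U'.ι) (by rw [pullback.condition, Category.assoc]) with hjY
  have hj1 : jY ≫ pullback.fst f g = pullback.fst f g' := pullback.lift_fst _ _ _
  have hj2 : jY ≫ pullback.snd f g = pullback.snd f g' ≫ U'.ι := pullback.lift_snd _ _ _
  have hj1' : ∀ w, pullback.fst f g (jY w) = pullback.fst f g' w := fun w => by
    rw [← hj1]; rfl
  have hj2' : ∀ w, pullback.snd f g (jY w) = U'.ι (pullback.snd f g' w) := fun w => by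
    have : pullback.snd f g (jY w) = (jY ≫ pullback.snd f g) w := rfl
    rw [this, hj2]; rfl
  let V' : K → (pullback f g').Opens := fun k => jY ⁻¹ᵁ V k
  have hV'cl : ∀ k, IsClosed (V' k : Set ↑(pullback f g')) := fun k =>
    (hcl k).preimage jY.continuous
  let W' : (pullback f g').Opens := ⟨(⋃ k, (V' k : Set ↑(pullback f g')))ᶜ,
    (isClosed_iUnion_of_finite hV'cl).isOpen_compl⟩
  refine ⟨U', g', ⟨u, huU'⟩, inferInstance, ?_, K, hK, W', V', ?_, ?_, ?_, ?_, ?_⟩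
  · rw [hg', Scheme.Hom.comp_apply]
    exact hgu
  · rw [eq_top_iff]
    intro w _
    by_cases hw : ∃ k, w ∈ V' k
    · obtain ⟨k, hk⟩ := hw
      exact (le_sup_right : (⨆ k, V' k) ≤ W' ⊔ ⨆ k, V' k) ((le_iSup V' k) hk)
    · refine (le_sup_left : W' ≤ W' ⊔ ⨆ k, V' k) ?_
      show w ∉ ⋃ k, (V' k : Set ↑(pullback f g'))
      simpa using hw
  · intro k
    rw [disjoint_iff, eq_bot_iff]
    rintro w ⟨hwW, hwV⟩
    exact (hwW (Set.mem_iUnion.mpr ⟨k, hwV⟩)).elim
  · intro k k' hkk'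
    rw [disjoint_iff, eq_bot_iff]
    rintro w ⟨hwk, hwk'⟩
    have := hCmem k k' (jY w) hwk hwk'
    rw [hj2'] at this
    exact (hU'C (pullback.snd f g' w) k k' hkk' this).elim
  · intro k
    exact isIso_restrict f g U' (V k)
  · intro w i hwW hwu hwx
    have h4 : pullback.snd f g (jY w) = u := by
      rw [hj2', hwu]; rfl
    have h5 : pullback.fst f g (jY w) = x i := by
      rw [hj1', hwx]
    obtain ⟨k, -, hk⟩ := h3 (jY w) i h4 h5
    exact hwW (Set.mem_iUnion.mpr ⟨k, hk⟩)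

end Groth.Agent.Helper16.SplitSep
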