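import Mathlib
import Groth.Agent.Lib.Helper16.Sch.SplitSep

set_option autoImplicit false
universe u
open CategoryTheory AlgebraicGeometry Limits

namespace Groth.Agent.Helper16.FinUnion

theorem isFinite_bot {Y U : Scheme.{u}} (q : Y ⟶ U) : IsFinite ((⊥ : Y.Opens).ι ≫ q) := by
  have : IsEmpty ↥(⊥ : Y.Opens).toScheme := by
    constructor
    rintro ⟨x, hx⟩
    exact hx
  infer_instance

theorem isFinite_sup {Y U : Scheme.{u}} (q : Y ⟶ U) (V₁ V₂ : Y.Opens) (hd : Disjoint V₁ V₂)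
    [IsFinite (V₁.ι ≫ q)] [IsFinite (V₂.ι ≫ q)] : IsFinite ((V₁ ⊔ V₂).ι ≫ q) := by
  have hc : IsCompl (Y.homOfLE (le_sup_left : V₁ ≤ V₁ ⊔ V₂)).opensRange
      (Y.homOfLE (le_sup_right : V₂ ≤ V₁ ⊔ V₂)).opensRange := by
    constructor
    · rw [disjoint_iff]
      ext w
      simp only [TopologicalSpace.Opens.coe_inf, Scheme.Hom.coe_opensRange, Set.mem_inter_iff,
        Set.mem_range, TopologicalSpace.Opens.coe_bot, Set.mem_empty_iff_false, iff_false, not_and]
      rintro ⟨a, rfl⟩ ⟨b, hb⟩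
      have h1 := congrArg Subtype.val hb
      rw [Scheme.homOfLE_apply, Scheme.homOfLE_apply] at h1
      have : a.1 ∈ V₁ ⊓ V₂ := ⟨a.2, h1 ▸ b.2⟩
      rw [disjoint_iff.mp hd] at this
      exact this
    · rw [codisjoint_iff]
      ext w
      simp only [TopologicalSpace.Opens.coe_sup, Scheme.Hom.coe_opensRange, Set.mem_union,
        Set.mem_range, TopologicalSpace.Opens.coe_top, Set.mem_univ, iff_true]
      rcases w.2 with hw | hw
      · left
        exact ⟨⟨w.1, hw⟩, Subtype.ext (by rw [Scheme.homOfLE_apply])⟩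
      · right
        exact ⟨⟨w.1, hw⟩, Subtype.ext (by rw [Scheme.homOfLE_apply])⟩
  obtain ⟨H⟩ := nonempty_isColimit_binaryCofanMk_of_isCompl _ _ hc
  let e : V₁.toScheme ⨿ V₂.toScheme ≅ (V₁ ⊔ V₂).toScheme :=
    (colimit.isColimit (pair V₁.toScheme V₂.toScheme)).coconePointUniqueUpToIso H
  have he : e.hom ≫ (V₁ ⊔ V₂).ι ≫ q = coprod.desc (V₁.ι ≫ q) (V₂.ι ≫ q) := by
    apply coprod.hom_ext
    · have h1 : (coprod.inl : V₁.toScheme ⟶ V₁.toScheme ⨿ V₂.toScheme) ≫ e.hom =
          Y.homOfLE le_sup_left :=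
        (colimit.isColimit (pair V₁.toScheme V₂.toScheme)).comp_coconePointUniqueUpToIso_hom H
          ⟨WalkingPair.left⟩
      rw [reassoc_of% h1, coprod.inl_desc, Scheme.homOfLE_ι_assoc]
    · have h1 : (coprod.inr : V₂.toScheme ⟶ V₁.toScheme ⨿ V₂.toScheme) ≫ e.hom =
          Y.homOfLE le_sup_right :=
        (colimit.isColimit (pair V₁.toScheme V₂.toScheme)).comp_coconePointUniqueUpToIso_hom H
          ⟨WalkingPair.right⟩
      rw [reassoc_of% h1, coprod.inr_desc, Scheme.homOfLE_ι_assoc]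
  rw [← MorphismProperty.cancel_left_of_respectsIso @IsFinite e.hom, he]
  infer_instance

theorem isFinite_finset_sup {Y U : Scheme.{u}} (q : Y ⟶ U) {K : Type*} (V : K → Y.Opens)
    (hd : ∀ k k', k ≠ k' → Disjoint (V k) (V k'))
    (hf : ∀ k, IsFinite ((V k).ι ≫ q)) (s : Finset K) :
    IsFinite ((s.sup V).ι ≫ q) := by
  classical
  induction s using Finset.induction_on with
  | empty => exact isFinite_bot q
  | insert k s hk ih =>
    rw [Finset.sup_insert]
    haveI := hf k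
    haveI := ih
    apply isFinite_sup
    rw [Finset.disjoint_sup_right]
    intro k' hk'
    exact hd k k' (fun h => hk (h ▸ hk'))

end Groth.Agent.Helper16.FinUnion
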