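import Mathlib
import Groth.Prelude.Def_Omega4
import Groth.Agent.Lib.Helper18.Rec3
import Groth.Agent.Lib.Helper14.FibreSmooth
import Groth.Agent.Lib.Helper13.LocFree

set_option autoImplicit false
set_option linter.style.haveILetI false
set_option linter.unusedSectionVars false
universe u

open CategoryTheory AlgebraicGeometry

namespace Groth.Agent.Helper16.OmegaRecFree

variable {X Y : Scheme.{u}}

/-- a universal receptacle for differentials of a smooth morphism is locally free of rank the local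
fibre dimension. -/
theorem exists_free_nhd (f : X ⟶ Y) [Smooth f]
    (Ω' : X.Modules) (d : OmegaSh.Der f Ω') (hd : OmegaSh.IsUniversal d) (x : ↥X) :
    ∃ (U : X.Opens) (n : ℕ), IsAffineOpen U ∧ x ∈ U ∧
      Nonempty (Ω'.restrict U.ι ≅ FlatMod.freeMod (↑U) n) ∧
      FlatMor.fibreDimAt f x = (n : WithBot ℕ∞) := by
  haveI := Groth.Agent.Helper18.Rec.isQuasicoherent_of_isUniversal d hd
  obtain ⟨V, hV, U, hU, hxU, e, hstd⟩ := Smooth.exists_isStandardSmooth f x
  letI iBA := Groth.Agent.Helper18.OmegaSec.algUV f e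
  have hstd' : Algebra.IsStandardSmooth Γ(Y, V) Γ(X, U) := hstd
  obtain ⟨ι, σ, hσ, hι, ⟨P⟩⟩ := hstd'.out
  set n := P.dimension with hn
  haveI hrel : Algebra.IsStandardSmoothOfRelativeDimension n Γ(Y, V) Γ(X, U) :=
    ⟨ι, σ, hσ, hι, P, rfl⟩
  have hrel' : (f.appLE V U e).hom.IsStandardSmoothOfRelativeDimension n := hrel
  haveI : Algebra.IsStandardSmooth Γ(Y, V) Γ(X, U) := hstd'
  haveI : Nonempty U := ⟨⟨x, hxU⟩⟩
  haveI : Nontrivial Γ(X, U) := inferInstance
  have hrank := Algebra.IsStandardSmoothOfRelativeDimension.rank_kaehlerDifferential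
    (R := Γ(Y, V)) (S := Γ(X, U)) n
  haveI : Module.Free Γ(X, U) Ω[Γ(X, U)⁄Γ(Y, V)] := inferInstance
  haveI : Module.Finite Γ(X, U) Ω[Γ(X, U)⁄Γ(Y, V)] := by
    haveI : Algebra.FiniteType Γ(Y, V) Γ(X, U) := inferInstance
    infer_instance
  have hfr : Module.finrank Γ(X, U) Ω[Γ(X, U)⁄Γ(Y, V)] = n := by
    unfold Module.finrank
    rw [hrank, Cardinal.toNat_natCast]
  let b' : Module.Basis (Fin n) Γ(X, U) Ω[Γ(X, U)⁄Γ(Y, V)] := Module.finBasisOfFinrankEq _ _ hfr
  let b : Module.Basis (Fin n) Γ(X, U) Γ(Ω', U) :=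
    b'.map (Groth.Agent.Helper18.Rec.recSec d e hd hU hV).symm
  refine ⟨U, n, hU, hxU, Groth.Agent.Helper13.LocFree.restrict_iso_freeMod_of_basis Ω' hU b, ?_⟩
  exact Groth.Agent.Helper14.FibreSmooth.fibreDimAt_of_isStandardSmoothOfRelativeDimension
    f hV hU e n hrel' x hxU

end Groth.Agent.Helper16.OmegaRecFree
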