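import Mathlib
import Groth.Prelude.Def_Omega4
import Groth.Agent.Lib.Helper16.Alg.SmAtPt2
import Groth.Agent.Lib.Helper16.Sch.OmegaRecFree
import Groth.Agent.Lib.Helper16.Sch.SmoothFibreSch
import Groth.Agent.Lib.Helper14.FibreChart

set_option autoImplicit false
set_option linter.style.haveILetI false
set_option linter.unusedSectionVars false
universe u

open CategoryTheory AlgebraicGeometry

namespace Groth.Agent.Helper16.OmegaSmAt

variable {X Y : Scheme.{u}}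

/-- a standard smooth chart at a point of the smooth locus. -/
theorem exists_chart_isStandardSmooth (f : X ⟶ Y) [LocallyOfFinitePresentation f] (x : X)
    (hx : x ∈ f.smoothLocus) :
    ∃ (V : Y.Opens) (_ : IsAffineOpen V) (U : X.Opens) (_ : IsAffineOpen U) (_ : x ∈ U)
      (e : U ≤ f ⁻¹ᵁ V), (f.appLE V U e).hom.IsStandardSmooth := by
  let W := f.smoothLocus
  haveI : Smooth (W.ι ≫ f) := by
    rw [← Scheme.Hom.smoothLocus_eq_top_iff, ← Scheme.Hom.preimage_smoothLocus_eq]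
    exact Scheme.Opens.ι_preimage_self W
  obtain ⟨V, hV, U', hU', hxU', e', hstd⟩ := Smooth.exists_isStandardSmooth (W.ι ≫ f) ⟨x, hx⟩
  have e : W.ι ''ᵁ U' ≤ f ⁻¹ᵁ V := by
    rintro _ ⟨y, hy, rfl⟩
    exact e' hy
  refine ⟨V, hV, W.ι ''ᵁ U', hU'.image_of_isOpenImmersion W.ι, ⟨⟨x, hx⟩, hxU', rfl⟩, e, ?_⟩
  have e₂ : U' ≤ W.ι ⁻¹ᵁ (W.ι ''ᵁ U') := by
    rw [Scheme.Hom.preimage_image_eq]
  have hcomp : f.appLE V (W.ι ''ᵁ U') e ≫ W.ι.appLE (W.ι ''ᵁ U') U' e₂ =
      (W.ι ≫ f).appLE V U' e' := Scheme.Hom.appLE_comp_appLE _ _ _ _ _ _ _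
  have hiso : IsIso (W.ι.appLE (W.ι ''ᵁ U') U' e₂) := by
    have h := Scheme.Hom.appIso_inv_appLE W.ι e₂
    have h2 : W.ι.appLE (W.ι ''ᵁ U') U' e₂ = (W.ι.appIso U').hom := by
      have h3 : ∀ (i : U' ⟶ U'), W.toScheme.presheaf.map i.op = 𝟙 _ := by
        intro i
        have : i = 𝟙 U' := Subsingleton.elim _ _
        rw [this, op_id]
        exact W.toScheme.presheaf.map_id _
      rw [h3] at h
      rw [← Category.comp_id (W.ι.appIso U').hom, ← h, Iso.hom_inv_id_assoc]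
    rw [h2]; infer_instance
  rw [← hcomp] at hstd
  exact (RingHom.isStandardSmooth_respectsIso.cancel_right_isIso _ _).1 hstd

/-- on a standard smooth chart a universal receptacle of differentials is free of rank the
fibre dimension. -/
theorem free_of_chart (f : X ⟶ Y) (Ω' : X.Modules) (d : OmegaSh.Der f Ω')
    (hd : OmegaSh.IsUniversal d) (x : X) {V : Y.Opens} (hV : IsAffineOpen V) {U : X.Opens}
    (hU : IsAffineOpen U) (hxU : x ∈ U) (e : U ≤ f ⁻¹ᵁ V)
    (hstd : (f.appLE V U e).hom.IsStandardSmooth) :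
    ∃ n : ℕ, Nonempty (Ω'.restrict U.ι ≅ FlatMod.freeMod (↑U) n) ∧
      FlatMor.fibreDimAt f x = (n : WithBot ℕ∞) := by
  haveI := Groth.Agent.Helper18.Rec.isQuasicoherent_of_isUniversal d hd
  letI iBA := Groth.Agent.Helper18.OmegaSec.algUV f e
  have hstd' : Algebra.IsStandardSmooth Γ(Y, V) Γ(X, U) := hstd
  obtain ⟨ι, σ, hσ, hι, ⟨P⟩⟩ := hstd'.out
  set n := P.dimension with hn
  haveI hrel : Algebra.IsStandardSmoothOfRelativeDimension n Γ(Y, V) Γ(X, U) :=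
    ⟨ι, σ, hσ, hι, P, rfl⟩
  have hrel' : (f.appLE V U e).hom.IsStandardSmoothOfRelativeDimension n := hrel
  haveI : Algebra.IsStandardSmooth Γ(Y, V) Γ(X, U) := hstd'
  haveI : Nonempty U := ⟨⟨x, hxU⟩⟩
  haveI : Nontrivial Γ(X, U) := inferInstance
  have hrank := Algebra.IsStandardSmoothOfRelativeDimension.rank_kaehlerDifferential
    (R := Γ(Y, V)) (S := Γ(X, U)) n
  haveI : Module.Free Γ(X, U) Ω[Γ(X, U)⁄Γ(Y, V)] := inferInstance
  haveI : Module.Finite Γ(X, U) Ω[Γ(X, U)⁄Γ(Y, V)] := by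
    haveI : Algebra.FiniteType Γ(Y, V) Γ(X, U) := inferInstance
    infer_instance
  have hfr : Module.finrank Γ(X, U) Ω[Γ(X, U)⁄Γ(Y, V)] = n := by
    unfold Module.finrank
    rw [hrank, Cardinal.toNat_natCast]
  let b' : Module.Basis (Fin n) Γ(X, U) Ω[Γ(X, U)⁄Γ(Y, V)] := Module.finBasisOfFinrankEq _ _ hfr
  let b : Module.Basis (Fin n) Γ(X, U) Γ(Ω', U) :=
    b'.map (Groth.Agent.Helper18.Rec.recSec d e hd hU hV).symm
  refine ⟨n, Groth.Agent.Helper13.LocFree.restrict_iso_freeMod_of_basis Ω' hU b, ?_⟩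
  exact Groth.Agent.Helper14.FibreSmooth.fibreDimAt_of_isStandardSmoothOfRelativeDimension
    f hV hU e n hrel' x hxU

/-- flatness of the stalk map in terms of an affine chart. -/
theorem flat_stalkMap_iff_chart (f : X ⟶ Y) {V : Y.Opens} (hV : IsAffineOpen V) {U : X.Opens}
    (hU : IsAffineOpen U) (e : U ≤ f ⁻¹ᵁ V) (x : X) (hxU : x ∈ U) :
    letI := (f.appLE V U e).hom.toAlgebra
    (f.stalkMap x).hom.Flat ↔
      Module.Flat Γ(Y, V) (Localization.AtPrime (hU.primeIdealOf ⟨x, hxU⟩).asIdeal) := by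
  letI := (f.appLE V U e).hom.toAlgebra
  let p := (hV.primeIdealOf ⟨f x, e hxU⟩).asIdeal
  let q := (hU.primeIdealOf ⟨x, hxU⟩).asIdeal
  have hpq : p = q.comap (algebraMap Γ(Y, V) Γ(X, U)) :=
    congr($(IsAffineOpen.comap_primeIdealOf_appLE V hV U hU e hxU).1).symm
  rw [RingHom.Flat.respectsIso.arrow_mk_iso_iff (IsAffineOpen.arrowStalkMapIso f V hV U hU e hxU)]
  letI : Algebra (Localization.AtPrime p) (Localization.AtPrime q) :=
    (Localization.localRingHom p q (algebraMap Γ(Y, V) Γ(X, U)) hpq).toAlgebra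
  haveI : IsScalarTower Γ(Y, V) (Localization.AtPrime p) (Localization.AtPrime q) :=
    IsScalarTower.of_algebraMap_eq (fun r => by
      rw [RingHom.algebraMap_toAlgebra, Localization.localRingHom_to_map,
        ← IsScalarTower.algebraMap_apply])
  exact Module.flat_iff_of_isLocalization (Localization.AtPrime p) p.primeCompl
    (Localization.AtPrime q)

/-- flat at `x` and the receptacle free of rank the fibre dimension near `x` implies smooth
at `x`. -/
theorem mem_smoothLocus_of_flat_of_free (f : X ⟶ Y) [LocallyOfFinitePresentation f]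
    (Ω' : X.Modules) (d : OmegaSh.Der f Ω') (hd : OmegaSh.IsUniversal d) (x : X)
    (hflat : (f.stalkMap x).hom.Flat) (U₀ : X.Opens) (n : ℕ) (hxU₀ : x ∈ U₀)
    (iso : Ω'.restrict U₀.ι ≅ FlatMod.freeMod (↑U₀) n)
    (hdim : (n : WithBot ℕ∞) ≤ FlatMor.fibreDimAt f x) : x ∈ f.smoothLocus := by
  obtain ⟨_, ⟨V, hV, rfl⟩, hxV, -⟩ :=
    Y.isBasis_affineOpens.exists_subset_of_mem_open (Set.mem_univ (f x)) isOpen_univ
  obtain ⟨_, ⟨U, hU, rfl⟩, hxU, hUle⟩ :=
    X.isBasis_affineOpens.exists_subset_of_mem_open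
      (show x ∈ ((U₀ ⊓ f ⁻¹ᵁ V : X.Opens) : Set X) from ⟨hxU₀, hxV⟩) (U₀ ⊓ f ⁻¹ᵁ V).2
  have hV' : IsAffineOpen V := hV
  have hU' : IsAffineOpen U := hU
  have hUU₀ : U ≤ U₀ := fun y hy => (hUle hy).1
  have e : U ≤ f ⁻¹ᵁ V := fun y hy => (hUle hy).2
  letI iBA := Groth.Agent.Helper18.OmegaSec.algUV f e
  have halg : algebraMap Γ(Y, V) Γ(X, U) = (f.appLE V U e).hom := rfl
  haveI : Algebra.FinitePresentation Γ(Y, V) Γ(X, U) := f.finitePresentation_appLE hV' hU' e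
  obtain ⟨b₀⟩ := Groth.Agent.Helper13.LocFree.nonempty_basis_of_restrict_iso Ω' iso hUU₀
  let b : Module.Basis (Fin n) Γ(X, U) Ω[Γ(X, U)⁄Γ(Y, V)] :=
    b₀.map (Groth.Agent.Helper18.Rec.recSec d e hd hU' hV')
  let p := (hV'.primeIdealOf ⟨f x, e hxU⟩).asIdeal
  let q := (hU'.primeIdealOf ⟨x, hxU⟩).asIdeal
  haveI : q.LiesOver p :=
    ⟨congr($(IsAffineOpen.comap_primeIdealOf_appLE V hV' U hU' e hxU).1).symm⟩
  haveI : Module.Flat Γ(Y, V) (Localization.AtPrime q) :=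
    (flat_stalkMap_iff_chart f hV' hU' e x hxU).1 hflat
  let Q := Groth.Agent.Helper14.FibreChart.fibPrime f hU' hV' e halg x hxU
  have hQ : Q.asIdeal.comap (Algebra.TensorProduct.includeRight :
      Γ(X, U) →ₐ[Γ(Y, V)] p.Fiber Γ(X, U)).toRingHom = q :=
    congrArg PrimeSpectrum.asIdeal
      (Groth.Agent.Helper14.FibreChart.comap_fibPrime f hU' hV' e halg x hxU)
  have hdim' : (n : WithBot ℕ∞) ≤ FlatMor.localDim (PrimeSpectrum (p.Fiber Γ(X, U))) Q := by
    rw [← Groth.Agent.Helper14.FibreChart.fibreDimAt_eq f hU' hV' e halg x hxU]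
    exact hdim
  have key : Algebra.IsSmoothAt Γ(Y, V) q :=
    Groth.Agent.Helper16.SmAtPt.isSmoothAt_of_flat_of_basis Γ(Y, V) Γ(X, U) p q Q hQ n b hdim'
  rw [Scheme.Hom.mem_smoothLocus, formallySmooth_stalkMap_iff V hV' U hU' e hxU]
  exact key

end Groth.Agent.Helper16.OmegaSmAt
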