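import Mathlib
import Groth.Prelude.Def_Fitting
import Groth.Agent.S5022
import Groth.Agent.Lib.Helper16.Alg.SmAtPt5
import Groth.Agent.Lib.Helper16.Sch.OmegaSmAt
import Groth.Agent.Lib.Helper16.Sch.HomFibA2
import Groth.Agent.Lib.Helper13.FittSheaf
import Groth.Agent.Lib.Helper14.FibreMax
import Groth.Agent.Lib.Helper18.OmegaUniv2
import Groth.Agent.Lib.Helper18.OmegaFitt

set_option autoImplicit false
set_option linter.style.haveILetI false
set_option linter.unusedSectionVars false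
universe u

open CategoryTheory AlgebraicGeometry

namespace Groth.Agent.Helper16.FittSmooth

open Groth.Agent.Helper14 Groth.Agent.Lib.Helper10.Fitting Groth.Agent.Helper13.FittSheaf

variable {X S : Scheme.{u}}

/-- the local fibre dimension when all components of all fibres have dimension `d`. -/
theorem fibreDimAt_eq_of_equidim (f : X ⟶ S) [LocallyOfFiniteType f] (d : ℕ)
    (hdim : ∀ s : ↥S, ∀ T ∈ irreducibleComponents ↥(f.fiber s), topologicalKrullDim ↥T = d)
    (x : X) : FlatMor.fibreDimAt f x = (d : WithBot ℕ∞) := by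
  obtain ⟨z, n, -, -, hmax, htr, hdimx⟩ := EquidimAt.exists_maximal_trdeg_eq_fibreDimAt f x
  obtain ⟨Z, hZ, hZn⟩ := FibreMax.exists_irreducibleComponent_of_maximal f (f z) z rfl hmax n htr
  rw [hdimx, ← hZn, hdim (f z) Z hZ]

/-- the support of a Fitting ideal sheaf in an affine chart. -/
theorem notMem_support_iff_chart (F : X.Modules) [F.IsQuasicoherent]
    [SheafOfModules.IsFiniteType (R := X.ringCatSheaf) F] {U : X.Opens} (hU : IsAffineOpen U)
    (x : X) (hxU : x ∈ U) (r : ℕ) :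
    x ∉ (Fitt.sheafIdeal F r).support ↔
      ¬ Fitt.ideal Γ(X, U) Γ(F, U) r ≤ (hU.primeIdealOf ⟨x, hxU⟩).asIdeal := by
  rw [Scheme.IdealSheafData.mem_support_iff_of_mem (U := ⟨U, hU⟩) hxU, sheafIdeal_ideal,
    Scheme.mem_zeroLocus_iff, not_iff_not]
  constructor
  · intro h c hc
    by_contra hnot
    exact h c hc ((Groth.Agent.Helper18.OmegaSec.mem_basicOpen_iff_notMem_primeIdealOf hU x hxU c).2 hnot)
  · intro h c hc hx
    exact (Groth.Agent.Helper18.OmegaSec.mem_basicOpen_iff_notMem_primeIdealOf hU x hxU c).1 hx (h hc)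

/-- **Jacobian locus**: for a flat morphism with equidimensional fibres, the `d`-th Fitting ideal of
the differentials cuts out the non-smooth locus. -/
theorem main (f : X ⟶ S) [Flat f] [LocallyOfFinitePresentation f] [QuasiSeparated f] (d : ℕ)
    (hdim : ∀ s : ↥S, ∀ T ∈ irreducibleComponents ↥(f.fiber s), topologicalKrullDim ↥T = d)
    (x : X) :
    x ∈ (Fitt.sheafIdeal (Omega.sheaf f) d).support ↔
      ¬ ∃ U : X.Opens, x ∈ U ∧ Smooth (U.ι ≫ f) := by
  rw [Groth.Agent.Helper16.HomFibCrit.exists_smooth_nhd_iff_mem_smoothLocus, ← not_iff_not,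
    not_not]
  have hfd := fibreDimAt_eq_of_equidim f d hdim x
  constructor
  · intro hx
    obtain ⟨_, ⟨V, hV, rfl⟩, hxV, -⟩ :=
      S.isBasis_affineOpens.exists_subset_of_mem_open (Set.mem_univ (f x)) isOpen_univ
    obtain ⟨_, ⟨U, hU, rfl⟩, hxU, hUle⟩ :=
      X.isBasis_affineOpens.exists_subset_of_mem_open
        (show x ∈ ((f ⁻¹ᵁ V : X.Opens) : Set X) from hxV) (f ⁻¹ᵁ V).2
    have hV' : IsAffineOpen V := hV
    have hU' : IsAffineOpen U := hU
    have e : U ≤ f ⁻¹ᵁ V := hUle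
    letI iBA := Groth.Agent.Helper18.OmegaSec.algUV f e
    have halg : algebraMap Γ(S, V) Γ(X, U) = (f.appLE V U e).hom := rfl
    haveI : Algebra.FinitePresentation Γ(S, V) Γ(X, U) := f.finitePresentation_appLE hV' hU' e
    rw [notMem_support_iff_chart _ hU' x hxU,
      fitt_congr (Groth.Agent.Helper18.OmegaSec.omegaSections f hU' hV' e) d] at hx
    let p := (hV'.primeIdealOf ⟨f x, e hxU⟩).asIdeal
    let q := (hU'.primeIdealOf ⟨x, hxU⟩).asIdeal
    haveI : q.LiesOver p :=
      ⟨congr($(IsAffineOpen.comap_primeIdealOf_appLE V hV' U hU' e hxU).1).symm⟩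
    haveI : Module.Flat Γ(S, V) (Localization.AtPrime q) :=
      (Groth.Agent.Helper16.OmegaSmAt.flat_stalkMap_iff_chart f hV' hU' e x hxU).1
        (Flat.stalkMap f x)
    let Q := Groth.Agent.Helper14.FibreChart.fibPrime f hU' hV' e halg x hxU
    have hQ : Q.asIdeal.comap (Algebra.TensorProduct.includeRight :
        Γ(X, U) →ₐ[Γ(S, V)] p.Fiber Γ(X, U)).toRingHom = q :=
      congrArg PrimeSpectrum.asIdeal
        (Groth.Agent.Helper14.FibreChart.comap_fibPrime f hU' hV' e halg x hxU)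
    have hdim' : (d : WithBot ℕ∞) ≤ FlatMor.localDim (PrimeSpectrum (p.Fiber Γ(X, U))) Q := by
      rw [← Groth.Agent.Helper14.FibreChart.fibreDimAt_eq f hU' hV' e halg x hxU, hfd]
    have key : Algebra.IsSmoothAt Γ(S, V) q :=
      Groth.Agent.Helper16.SmAtPt.isSmoothAt_of_flat_of_fitt Γ(S, V) Γ(X, U) p q Q hQ d hx hdim'
    rw [Scheme.Hom.mem_smoothLocus, formallySmooth_stalkMap_iff V hV' U hU' e hxU]
    exact key
  · intro hx
    obtain ⟨-, U₀, n, hxU₀, ⟨iso⟩, hn⟩ := (Groth.Agent.S5022.result f (Omega.sheaf f)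
      (OmegaSh.dOmega f) (Groth.Agent.Helper18.OmegaUniv.isUniversal_dOmega f) x).mp hx
    rw [hfd] at hn
    have hdn : d = n := by exact_mod_cast hn
    subst hdn
    obtain ⟨_, ⟨U, hU, rfl⟩, hxU, hUle⟩ :=
      X.isBasis_affineOpens.exists_subset_of_mem_open
        (show x ∈ ((U₀ : X.Opens) : Set X) from hxU₀) U₀.2
    have hU' : IsAffineOpen U := hU
    obtain ⟨b₀⟩ := Groth.Agent.Helper13.LocFree.nonempty_basis_of_restrict_iso
      (Omega.sheaf f) iso hUle
    rw [notMem_support_iff_chart _ hU' x hxU, fitt_eq_top_of_span b₀ b₀.span_eq d le_rfl]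
    intro h
    exact (hU'.primeIdealOf ⟨x, hxU⟩).isPrime.ne_top (top_le_iff.mp h)

end Groth.Agent.Helper16.FittSmooth
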