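import Mathlib
import Groth.Agent.Lib.Helper16.Alg.LciFittA
import Groth.Agent.Lib.Helper16.Sch.FittSmooth
import Groth.Agent.Lib.Helper2.KRCompSch
import Groth.Agent.Lib.Helper28.RegImmStalk

/-!
# Jacobian locus of a local complete intersection morphism (helper16)
-/

set_option autoImplicit false
set_option linter.style.haveILetI false
set_option linter.unusedSectionVars false
universe u
open CategoryTheory CategoryTheory.Limits AlgebraicGeometry Opposite TopologicalSpace TensorProduct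
open KaehlerDifferential

namespace Groth.Agent.Helper16.LciFitt

open Groth.Agent.Lib.Helper10.Fitting

theorem isSmoothAt_iff_fitt' {A B C : Type u} [CommRing A] [CommRing B] [CommRing C] [Algebra A B]
    [Algebra B C] [Algebra A C] [IsScalarTower A B C] [Algebra.FormallySmooth A B]
    [Module.Free B Ω[B⁄A]] [Module.Finite B Ω[B⁄A]]
    (hsurj : Function.Surjective (algebraMap B C)) (m c : ℕ)
    (hrank : Module.finrank B Ω[B⁄A] = m + c) (rs : List B) (hlen : rs.length = c)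
    (hKR : LCI.IsKoszulRegularSeq B rs) (hker : RingHom.ker (algebraMap B C) = Ideal.ofList rs)
    [Module.Finite C Ω[C⁄A]] (q : Ideal C) [q.IsPrime] :
    Algebra.IsSmoothAt A q ↔ ¬ Fitt.ideal C Ω[C⁄A] m ≤ q := by
  subst hlen
  let P : Algebra.Extension.{u} A C := ⟨B, _, Function.surjInv_eq hsurj⟩
  haveI h1 : Algebra.FormallySmooth A P.Ring := ‹_›
  haveI h2 : Module.Free P.Ring Ω[P.Ring⁄A] := ‹Module.Free B Ω[B⁄A]›
  haveI h3 : Module.Finite P.Ring Ω[P.Ring⁄A] := ‹Module.Finite B Ω[B⁄A]›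
  refine isSmoothAt_iff_fitt P m rs.length hrank rs.get ?_ ?_ q
  · show Ideal.span (Set.range rs.get) = RingHom.ker (algebraMap B C)
    rw [hker, Set.range_list_get]
  · show LCI.IsKoszulRegularSeq B (List.ofFn rs.get)
    rwa [List.ofFn_get]

variable {X S : Scheme.{u}}

set_option maxHeartbeats 800000 in
set_option synthInstance.maxHeartbeats 200000 in
/-- every affine neighbourhood of `x` contains a basic open standard smooth chart -/
theorem exists_chart_n (n : ℕ) (f : X ⟶ S) [SmoothOfRelativeDimension n f] (x : X) (U₀ : X.Opens)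
    (hU₀ : IsAffineOpen U₀) (hx₀ : x ∈ U₀) :
    ∃ (W : S.Opens) (_ : IsAffineOpen W) (a : Γ(X, U₀)) (_ : x ∈ X.basicOpen a)
      (e : X.basicOpen a ≤ f ⁻¹ᵁ W),
      (f.appLE W (X.basicOpen a) e).hom.IsStandardSmoothOfRelativeDimension n := by
  obtain ⟨W, hW, V, hV, hxV, e, hstd⟩ :=
    SmoothOfRelativeDimension.exists_isStandardSmoothOfRelativeDimension (n := n) (f := f) x
  obtain ⟨a, b, hab, hxa⟩ := exists_basicOpen_le_affine_inter hU₀ hV x ⟨hx₀, hxV⟩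
  have key : ∀ (U' : X.Opens) (_ : U' = X.basicOpen b) (e' : U' ≤ f ⁻¹ᵁ W),
      (f.appLE W U' e').hom.IsStandardSmoothOfRelativeDimension n := by
    intro U' hU' e'
    subst hU'
    letI algAV : Algebra Γ(S, W) Γ(X, V) := (f.appLE W V e).hom.toAlgebra
    haveI : Algebra.IsStandardSmoothOfRelativeDimension n Γ(S, W) Γ(X, V) := hstd
    haveI : IsLocalization.Away b Γ(X, X.basicOpen b) := hV.isLocalization_basicOpen b
    letI algAb : Algebra Γ(S, W) Γ(X, X.basicOpen b) :=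
      ((algebraMap Γ(X, V) Γ(X, X.basicOpen b)).comp (algebraMap Γ(S, W) Γ(X, V))).toAlgebra
    haveI : IsScalarTower Γ(S, W) Γ(X, V) Γ(X, X.basicOpen b) :=
      IsScalarTower.of_algebraMap_eq fun _ => rfl
    haveI : Algebra.IsStandardSmoothOfRelativeDimension 0 Γ(X, V) Γ(X, X.basicOpen b) :=
      .localization_away b
    have h1 := Algebra.IsStandardSmoothOfRelativeDimension.trans (n := n) (m := 0)
      Γ(S, W) Γ(X, V) Γ(X, X.basicOpen b)
    have happ : (f.appLE W (X.basicOpen b) e').hom =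
        (algebraMap Γ(X, V) Γ(X, X.basicOpen b)).comp (algebraMap Γ(S, W) Γ(X, V)) := by
      rw [← Scheme.Hom.appLE_map f e (homOfLE (X.basicOpen_le b)).op]
      rfl
    rw [happ]
    have h2 : Algebra.IsStandardSmoothOfRelativeDimension n Γ(S, W) Γ(X, X.basicOpen b) := by
      simpa using h1
    exact (RingHom.isStandardSmoothOfRelativeDimension_algebraMap (n := n)).mpr h2
  have e' : X.basicOpen a ≤ f ⁻¹ᵁ W := hab ▸ ((X.basicOpen_le b).trans e)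
  exact ⟨W, hW, a, hxa, e', key _ hab e'⟩

set_option maxHeartbeats 1600000 in
set_option synthInstance.maxHeartbeats 400000 in
/-- S16256 -/
theorem main {Y X : Scheme.{u}} (f : Y ⟶ X) [LocallyOfFinitePresentation f] [QuasiSeparated f]
    (m : ℕ) (y : ↥Y)
    (hlci : ∃ (U : Y.Opens) (P : Scheme.{u}) (i : (U : Scheme.{u}) ⟶ P) (π : P ⟶ X) (c : ℕ),
      y ∈ U ∧ RegImm.IsRegularImmersionOfCodim RegImm.Kind.koszul c i ∧
        SmoothOfRelativeDimension (m + c) π ∧ i ≫ π = U.ι ≫ f) :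
    (∃ V : Y.Opens, y ∈ V ∧ Smooth (V.ι ≫ f)) ↔
      y ∉ (Fitt.sheafIdeal (Omega.sheaf f) m).support := by
  obtain ⟨U, P, i, π, c, hyU, ⟨himm, hreg⟩, hsm, hcomp⟩ := hlci
  haveI := hsm
  let z : U.toScheme := ⟨y, hyU⟩
  obtain ⟨⟨W₀, hW₀⟩, hzW₀, hcl₀, rs₀, hlen₀, hKR₀, hker₀⟩ := hreg z
  have hW₀' : IsAffineOpen W₀ := hW₀
  obtain ⟨V₁, hV₁, a, hza, e₁, hstd⟩ := exists_chart_n (m + c) π (i z) W₀ hW₀' hzW₀
  have hW' : IsAffineOpen (P.basicOpen a) := hW₀'.basicOpen a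
  obtain ⟨hcl', rs', hlen', hKR', hker'⟩ := Groth.Agent.Helper2.KRCompSch.restrict_data_len i W₀
    hW₀' hcl₀ rs₀ hKR₀ hker₀ (P.basicOpen a) hW' (P.basicOpen_le a)
  haveI := hcl'
  have hU'' : IsAffineOpen (i ⁻¹ᵁ P.basicOpen a) :=
    Groth.Agent.Helper28.RegImmStalk.isAffineOpen_preimage i _ hW'
  have hsurj := Groth.Agent.Helper28.RegImmStalk.app_surjective i (P.basicOpen a) hW'
  have hU' : IsAffineOpen (U.ι ''ᵁ (i ⁻¹ᵁ P.basicOpen a)) := hU''.image_of_isOpenImmersion U.ι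
  have hyU' : y ∈ U.ι ''ᵁ (i ⁻¹ᵁ P.basicOpen a) := ⟨z, hza, rfl⟩
  have e₂ : U.ι ''ᵁ (i ⁻¹ᵁ P.basicOpen a) ≤ f ⁻¹ᵁ V₁ := by
    rintro _ ⟨u, hu, rfl⟩
    show f (U.ι u) ∈ V₁
    have : f (U.ι u) = π (i u) := by
      rw [← Scheme.Hom.comp_apply, ← Scheme.Hom.comp_apply, hcomp]
    rw [this]
    exact e₁ hu
  -- algebra structures
  letI algAB : Algebra Γ(X, V₁) Γ(P, P.basicOpen a) := (π.appLE V₁ (P.basicOpen a) e₁).hom.toAlgebra
  letI algAC : Algebra Γ(X, V₁) Γ(Y, U.ι ''ᵁ (i ⁻¹ᵁ P.basicOpen a)) :=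
    Groth.Agent.Helper18.OmegaSec.algUV f e₂
  letI algBC : Algebra Γ(P, P.basicOpen a) Γ(Y, U.ι ''ᵁ (i ⁻¹ᵁ P.basicOpen a)) :=
    (i.app (P.basicOpen a)).hom.toAlgebra
  have htower : π.appLE V₁ (P.basicOpen a) e₁ ≫ i.app (P.basicOpen a) =
      f.appLE V₁ (U.ι ''ᵁ (i ⁻¹ᵁ P.basicOpen a)) e₂ := by
    have key : ∀ (g : U.toScheme ⟶ X) (hg : g = U.ι ≫ f)
        (e : i ⁻¹ᵁ P.basicOpen a ≤ g ⁻¹ᵁ V₁),
        g.appLE V₁ (i ⁻¹ᵁ P.basicOpen a) e =
          f.appLE V₁ (U.ι ''ᵁ (i ⁻¹ᵁ P.basicOpen a)) e₂ := by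
      intro g hg e
      subst hg
      have h3 : U.ι.appLE (U.ι ''ᵁ (i ⁻¹ᵁ P.basicOpen a)) (i ⁻¹ᵁ P.basicOpen a)
          (fun u hu => ⟨u, hu, rfl⟩) = 𝟙 _ := by
        rw [Scheme.Opens.ι_appLE]
        exact Y.presheaf.map_id _
      rw [← Scheme.Hom.appLE_comp_appLE U.ι f V₁ (U.ι ''ᵁ (i ⁻¹ᵁ P.basicOpen a))
        (i ⁻¹ᵁ P.basicOpen a) e₂ (fun u hu => ⟨u, hu, rfl⟩), h3]
      exact Category.comp_id _
    rw [i.app_eq_appLE, Scheme.Hom.appLE_comp_appLE]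
    exact key _ hcomp _
  haveI : IsScalarTower Γ(X, V₁) Γ(P, P.basicOpen a) Γ(Y, U.ι ''ᵁ (i ⁻¹ᵁ P.basicOpen a)) := by
    refine IsScalarTower.of_algebraMap_eq' ?_
    show (f.appLE V₁ (U.ι ''ᵁ (i ⁻¹ᵁ P.basicOpen a)) e₂).hom =
      (i.app (P.basicOpen a)).hom.comp (π.appLE V₁ (P.basicOpen a) e₁).hom
    rw [← htower]
    rfl
  haveI : Algebra.IsStandardSmoothOfRelativeDimension (m + c) Γ(X, V₁) Γ(P, P.basicOpen a) := hstd
  haveI : Algebra.IsStandardSmooth Γ(X, V₁) Γ(P, P.basicOpen a) :=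
    Algebra.IsStandardSmoothOfRelativeDimension.isStandardSmooth (m + c)
  haveI : Algebra.FinitePresentation Γ(X, V₁) Γ(Y, U.ι ''ᵁ (i ⁻¹ᵁ P.basicOpen a)) :=
    f.finitePresentation_appLE hV₁ hU' e₂
  haveI : Nontrivial Γ(Y, U.ι ''ᵁ (i ⁻¹ᵁ P.basicOpen a)) :=
    nontrivial_of_ne (0 : Γ(Y, U.ι ''ᵁ (i ⁻¹ᵁ P.basicOpen a))) 1 (fun h =>
      (hU'.primeIdealOf ⟨y, hyU'⟩).isPrime.ne_top
        ((Ideal.eq_top_iff_one _).mpr (h ▸ Ideal.zero_mem _)))
  haveI : Nontrivial Γ(P, P.basicOpen a) :=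
    (algebraMap Γ(P, P.basicOpen a) Γ(Y, U.ι ''ᵁ (i ⁻¹ᵁ P.basicOpen a))).domain_nontrivial
  have hrank : Module.finrank Γ(P, P.basicOpen a) Ω[Γ(P, P.basicOpen a)⁄Γ(X, V₁)] = m + c :=
    Module.finrank_eq_of_rank_eq
      (Algebra.IsStandardSmoothOfRelativeDimension.rank_kaehlerDifferential (m + c))
  have key := isSmoothAt_iff_fitt' (A := Γ(X, V₁)) (B := Γ(P, P.basicOpen a))
    (C := Γ(Y, U.ι ''ᵁ (i ⁻¹ᵁ P.basicOpen a))) hsurj m c hrank rs' (hlen'.trans hlen₀) hKR' hker'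
    (hU'.primeIdealOf ⟨y, hyU'⟩).asIdeal
  rw [Groth.Agent.Helper16.HomFibCrit.exists_smooth_nhd_iff_mem_smoothLocus,
    Scheme.Hom.mem_smoothLocus, formallySmooth_stalkMap_iff V₁ hV₁ _ hU' e₂ hyU',
    Groth.Agent.Helper16.FittSmooth.notMem_support_iff_chart _ hU' y hyU' m,
    fitt_congr (Groth.Agent.Helper18.OmegaSec.omegaSections f hU' hV₁ e₂) m]
  exact key

end Groth.Agent.Helper16.LciFitt
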