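import Mathlib
import Groth.Agent.Lib.Helper16.Alg.FittImmB
import Groth.Agent.Lib.Helper16.Sch.LciFittB

/-!
# The Jacobian locus `J^p(X/Y)` and local closed immersions into smooth schemes (helper16)
-/

set_option autoImplicit false
set_option linter.style.haveILetI false
set_option linter.unusedSectionVars false
universe u
open CategoryTheory CategoryTheory.Limits AlgebraicGeometry Opposite TopologicalSpace TensorProduct
open KaehlerDifferential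

namespace Groth.Agent.Helper16.FittImm

open Groth.Agent.Lib.Helper10.Fitting

set_option maxHeartbeats 1600000 in
set_option synthInstance.maxHeartbeats 400000 in
theorem main_mp {X Y : Scheme.{u}} (f : X ⟶ Y) [LocallyOfFinitePresentation f] [QuasiSeparated f]
    (p : ℕ) (x : ↥X) (hx : x ∉ (Fitt.sheafIdeal (Omega.sheaf f) p).support) :
    ∃ (U : X.Opens) (U' : Scheme.{u}) (i : (U : Scheme.{u}) ⟶ U') (g : U' ⟶ Y),
      x ∈ U ∧ IsClosedImmersion i ∧ SmoothOfRelativeDimension p g ∧ i ≫ g = U.ι ≫ f := by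
  obtain ⟨_, ⟨V, hV, rfl⟩, hfxV, -⟩ := Y.isBasis_affineOpens.exists_subset_of_mem_open
    (Set.mem_univ (f x)) isOpen_univ
  have hV' : IsAffineOpen V := hV
  obtain ⟨_, ⟨U₀, hU₀, rfl⟩, hxU₀, hU₀V⟩ := X.isBasis_affineOpens.exists_subset_of_mem_open
    (show x ∈ ((f ⁻¹ᵁ V : X.Opens) : Set X) from hfxV) (f ⁻¹ᵁ V).isOpen
  have hU₀' : IsAffineOpen U₀ := hU₀
  have e : U₀ ≤ f ⁻¹ᵁ V := hU₀V
  letI algAC : Algebra Γ(Y, V) Γ(X, U₀) := Groth.Agent.Helper18.OmegaSec.algUV f e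
  haveI : Algebra.FinitePresentation Γ(Y, V) Γ(X, U₀) := f.finitePresentation_appLE hV' hU₀' e
  rw [Groth.Agent.Helper16.FittSmooth.notMem_support_iff_chart _ hU₀' x hxU₀ p,
    fitt_congr (Groth.Agent.Helper18.OmegaSec.omegaSections f hU₀' hV' e) p] at hx
  obtain ⟨g, hgq, hC'⟩ := exists_stdSmooth_surj p (hU₀'.primeIdealOf ⟨x, hxU₀⟩).asIdeal hx
  have hxg : x ∈ X.basicOpen g :=
    (Groth.Agent.Helper18.OmegaSec.mem_basicOpen_iff_notMem_primeIdealOf hU₀' x hxU₀ g).2 hgq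
  have hU : IsAffineOpen (X.basicOpen g) := hU₀'.basicOpen g
  have eU : X.basicOpen g ≤ f ⁻¹ᵁ V := (X.basicOpen_le g).trans e
  haveI : IsLocalization.Away g Γ(X, X.basicOpen g) := hU₀'.isLocalization_basicOpen g
  letI algAg : Algebra Γ(Y, V) Γ(X, X.basicOpen g) :=
    ((algebraMap Γ(X, U₀) Γ(X, X.basicOpen g)).comp (algebraMap Γ(Y, V) Γ(X, U₀))).toAlgebra
  haveI : IsScalarTower Γ(Y, V) Γ(X, U₀) Γ(X, X.basicOpen g) :=
    IsScalarTower.of_algebraMap_eq fun _ => rfl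
  obtain ⟨B, _, _, φ, hstd, hφ⟩ := hC' Γ(X, X.basicOpen g)
  have happ : (f.appLE V (X.basicOpen g) eU).hom =
      (algebraMap Γ(X, U₀) Γ(X, X.basicOpen g)).comp (algebraMap Γ(Y, V) Γ(X, U₀)) := by
    rw [← Scheme.Hom.appLE_map f e (homOfLE (X.basicOpen_le g)).op]
    rfl
  refine ⟨X.basicOpen g, Spec (CommRingCat.of B),
    hU.isoSpec.hom ≫ Spec.map (CommRingCat.ofHom φ.toRingHom),
    Spec.map (CommRingCat.ofHom (algebraMap Γ(Y, V) B)) ≫ hV'.fromSpec, hxg, ?_, ?_, ?_⟩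
  · haveI : IsClosedImmersion (Spec.map (CommRingCat.ofHom φ.toRingHom)) :=
      IsClosedImmersion.spec_of_surjective _ hφ
    infer_instance
  · haveI h1 : SmoothOfRelativeDimension p
        (Spec.map (CommRingCat.ofHom (algebraMap Γ(Y, V) B))) := by
      rw [HasRingHomProperty.Spec_iff (P := @SmoothOfRelativeDimension p)]
      exact RingHom.locally_of RingHom.isStandardSmoothOfRelativeDimension_respectsIso _
        ((RingHom.isStandardSmoothOfRelativeDimension_algebraMap (n := p)).mpr hstd)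
    exact (inferInstance : SmoothOfRelativeDimension (p + 0)
      (Spec.map (CommRingCat.ofHom (algebraMap Γ(Y, V) B)) ≫ hV'.fromSpec))
  · have h2 : CommRingCat.ofHom (algebraMap Γ(Y, V) B) ≫ CommRingCat.ofHom φ.toRingHom =
        f.appLE V (X.basicOpen g) eU := by
      ext a
      show φ (algebraMap Γ(Y, V) B a) = (f.appLE V (X.basicOpen g) eU).hom a
      rw [φ.commutes, happ]
      rfl
    rw [Category.assoc, ← Category.assoc (Spec.map _) (Spec.map _), ← Spec.map_comp, h2,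
      IsAffineOpen.SpecMap_appLE_fromSpec f hV' hU eU, ← Category.assoc, hU.isoSpec_hom_fromSpec]

set_option maxHeartbeats 1600000 in
set_option synthInstance.maxHeartbeats 400000 in
theorem main_mpr {X Y : Scheme.{u}} (f : X ⟶ Y) [LocallyOfFinitePresentation f] [QuasiSeparated f]
    (p : ℕ) (x : ↥X) (U : X.Opens) (U' : Scheme.{u}) (i : (U : Scheme.{u}) ⟶ U') (g : U' ⟶ Y)
    (hxU : x ∈ U) [IsClosedImmersion i] [SmoothOfRelativeDimension p g] (hcomp : i ≫ g = U.ι ≫ f) :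
    x ∉ (Fitt.sheafIdeal (Omega.sheaf f) p).support := by
  let z : U.toScheme := ⟨x, hxU⟩
  obtain ⟨_, ⟨W₀, hW₀, rfl⟩, hzW₀, -⟩ := U'.isBasis_affineOpens.exists_subset_of_mem_open
    (Set.mem_univ (i z)) isOpen_univ
  have hW₀' : IsAffineOpen W₀ := hW₀
  obtain ⟨V₁, hV₁, a, hza, e₁, hstd⟩ :=
    Groth.Agent.Helper16.LciFitt.exists_chart_n p g (i z) W₀ hW₀' hzW₀
  have hW' : IsAffineOpen (U'.basicOpen a) := hW₀'.basicOpen a
  haveI : IsClosedImmersion (i ∣_ U'.basicOpen a) := inferInstance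
  have hU'' : IsAffineOpen (i ⁻¹ᵁ U'.basicOpen a) :=
    Groth.Agent.Helper28.RegImmStalk.isAffineOpen_preimage i _ hW'
  have hsurj := Groth.Agent.Helper28.RegImmStalk.app_surjective i (U'.basicOpen a) hW'
  have hUa : IsAffineOpen (U.ι ''ᵁ (i ⁻¹ᵁ U'.basicOpen a)) := hU''.image_of_isOpenImmersion U.ι
  have hxUa : x ∈ U.ι ''ᵁ (i ⁻¹ᵁ U'.basicOpen a) := ⟨z, hza, rfl⟩
  have e₂ : U.ι ''ᵁ (i ⁻¹ᵁ U'.basicOpen a) ≤ f ⁻¹ᵁ V₁ := by
    rintro _ ⟨u, hu, rfl⟩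
    show f (U.ι u) ∈ V₁
    have : f (U.ι u) = g (i u) := by
      rw [← Scheme.Hom.comp_apply, ← Scheme.Hom.comp_apply, hcomp]
    rw [this]
    exact e₁ hu
  letI algAB : Algebra Γ(Y, V₁) Γ(U', U'.basicOpen a) :=
    (g.appLE V₁ (U'.basicOpen a) e₁).hom.toAlgebra
  letI algAC : Algebra Γ(Y, V₁) Γ(X, U.ι ''ᵁ (i ⁻¹ᵁ U'.basicOpen a)) :=
    Groth.Agent.Helper18.OmegaSec.algUV f e₂
  letI algBC : Algebra Γ(U', U'.basicOpen a) Γ(X, U.ι ''ᵁ (i ⁻¹ᵁ U'.basicOpen a)) :=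
    (i.app (U'.basicOpen a)).hom.toAlgebra
  have htower : g.appLE V₁ (U'.basicOpen a) e₁ ≫ i.app (U'.basicOpen a) =
      f.appLE V₁ (U.ι ''ᵁ (i ⁻¹ᵁ U'.basicOpen a)) e₂ := by
    have key : ∀ (h : U.toScheme ⟶ Y) (hh : h = U.ι ≫ f)
        (e : i ⁻¹ᵁ U'.basicOpen a ≤ h ⁻¹ᵁ V₁),
        h.appLE V₁ (i ⁻¹ᵁ U'.basicOpen a) e =
          f.appLE V₁ (U.ι ''ᵁ (i ⁻¹ᵁ U'.basicOpen a)) e₂ := by
      intro h hh e
      subst hh
      have h3 : U.ι.appLE (U.ι ''ᵁ (i ⁻¹ᵁ U'.basicOpen a)) (i ⁻¹ᵁ U'.basicOpen a)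
          (fun u hu => ⟨u, hu, rfl⟩) = 𝟙 _ := by
        rw [Scheme.Opens.ι_appLE]
        exact X.presheaf.map_id _
      rw [← Scheme.Hom.appLE_comp_appLE U.ι f V₁ (U.ι ''ᵁ (i ⁻¹ᵁ U'.basicOpen a))
        (i ⁻¹ᵁ U'.basicOpen a) e₂ (fun u hu => ⟨u, hu, rfl⟩), h3]
      exact Category.comp_id _
    rw [i.app_eq_appLE, Scheme.Hom.appLE_comp_appLE]
    exact key _ hcomp _
  haveI : IsScalarTower Γ(Y, V₁) Γ(U', U'.basicOpen a) Γ(X, U.ι ''ᵁ (i ⁻¹ᵁ U'.basicOpen a)) := by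
    refine IsScalarTower.of_algebraMap_eq' ?_
    show (f.appLE V₁ (U.ι ''ᵁ (i ⁻¹ᵁ U'.basicOpen a)) e₂).hom =
      (i.app (U'.basicOpen a)).hom.comp (g.appLE V₁ (U'.basicOpen a) e₁).hom
    rw [← htower]
    rfl
  haveI : Algebra.IsStandardSmoothOfRelativeDimension p Γ(Y, V₁) Γ(U', U'.basicOpen a) := hstd
  have key := fitt_eq_top_of_surjective (A := Γ(Y, V₁)) (B := Γ(U', U'.basicOpen a))
    (C := Γ(X, U.ι ''ᵁ (i ⁻¹ᵁ U'.basicOpen a))) p hsurj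
  rw [Groth.Agent.Helper16.FittSmooth.notMem_support_iff_chart _ hUa x hxUa p,
    fitt_congr (Groth.Agent.Helper18.OmegaSec.omegaSections f hUa hV₁ e₂) p, key]
  exact fun h => (hUa.primeIdealOf ⟨x, hxUa⟩).isPrime.ne_top (top_le_iff.mp h)

/-- S16253 -/
theorem main {X Y : Scheme.{u}} (f : X ⟶ Y) [LocallyOfFinitePresentation f] [QuasiSeparated f]
    (p : ℕ) (x : ↥X) :
    x ∉ (Fitt.sheafIdeal (Omega.sheaf f) p).support ↔
      ∃ (U : X.Opens) (U' : Scheme.{u}) (i : (U : Scheme.{u}) ⟶ U') (g : U' ⟶ Y),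
        x ∈ U ∧ IsClosedImmersion i ∧ SmoothOfRelativeDimension p g ∧ i ≫ g = U.ι ≫ f := by
  constructor
  · exact main_mp f p x
  · rintro ⟨U, U', i, g, hxU, hcl, hsm, hcomp⟩
    exact main_mpr f p x U U' i g hxU hcomp

end Groth.Agent.Helper16.FittImm
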