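import Mathlib
import Groth.Prelude.Def_Cyc

/-!
# The cycle of the flat closure over a DVR (S13744)
-/

set_option autoImplicit false
set_option linter.style.haveILetI false

open AlgebraicGeometry CategoryTheory Limits IsLocalRing

universe u

namespace Groth.Agent.Helper16.FlatCl

lemma length_eq_of_ringEquiv {A B : Type u} [CommRing A] [CommRing B] (e : A ≃+* B) :
    Module.length A A = Module.length B B := by
  letI : Algebra A B := e.toRingHom.toAlgebra
  have h1 : Module.length A B = Module.length B B :=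
    Module.length_eq_of_surjective (S := A) (R := B) (M := B) e.surjective
  have h2 : Module.length A A = Module.length A B :=
    (LinearEquiv.ofBijective (Algebra.linearMap A B) e.bijective).length_eq
  rw [h2, h1]

lemma finsum_aux {Φ ZK XK XR : Type*} (e : ZK → Φ) (i : Φ → XR) (ιK : ZK → XK) (mX : XK → XR)
    (hi : Function.Injective i) (hιK : Function.Injective ιK) (hmX : Function.Injective mX)
    (hcomm : ∀ z, i (e z) = mX (ιK z)) (LΦ : Φ → ℤ) (LK : ZK → ℤ)
    (h1 : ∀ z, LΦ (e z) = LK z) (h2 : ∀ z, z ∉ Set.range e → LΦ z = 0) (t : XR) :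
    ∑ᶠ z ∈ {z | i z = t}, LΦ z =
      ∑ᶠ t' ∈ {t' | mX t' = t}, ∑ᶠ z' ∈ {z' | ιK z' = t'}, LK z' := by
  by_cases h : ∃ z', i (e z') = t
  · obtain ⟨z', rfl⟩ := h
    have s1 : {z | i z = i (e z')} = {e z'} := by
      ext z
      exact ⟨fun h => hi h, fun h => by rw [h]; rfl⟩
    have s2 : {t' | mX t' = i (e z')} = {ιK z'} := by
      ext t'
      constructor
      · intro h
        have h' : mX t' = mX (ιK z') := h.trans (hcomm z')
        exact hmX h'
      · intro h
        rw [h]
        exact (hcomm z').symm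
    have s3 : {z'' | ιK z'' = ιK z'} = {z'} := by
      ext z''
      exact ⟨fun h => hιK h, fun h => by rw [h]; rfl⟩
    rw [s1, s2, finsum_mem_singleton, finsum_mem_singleton, s3, finsum_mem_singleton, h1]
  · have l : ∑ᶠ z ∈ {z | i z = t}, LΦ z = 0 := by
      apply finsum_mem_eq_zero_of_forall_eq_zero
      intro z hz
      apply h2
      rintro ⟨z', rfl⟩
      exact h ⟨z', hz⟩
    have r : ∑ᶠ t' ∈ {t' | mX t' = t}, ∑ᶠ z' ∈ {z' | ιK z' = t'}, LK z' = 0 := by
      apply finsum_mem_eq_zero_of_forall_eq_zero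
      intro t' ht'
      apply finsum_mem_eq_zero_of_forall_eq_zero
      intro z' hz'
      exfalso
      apply h
      refine ⟨z', ?_⟩
      have hz'' : ιK z' = t' := hz'
      have ht'' : mX t' = t := ht'
      rw [hcomm, hz'', ht'']
    rw [l, r]

lemma isLocalization_away_of_dvr (R : Type u) [CommRing R] [IsDomain R]
    [IsDiscreteValuationRing R] (ϖ : R) (hϖ : Irreducible ϖ) :
    IsLocalization.Away ϖ (FractionRing R) := by
  let L := Localization.Away ϖ
  haveI : IsLocalization (nonZeroDivisors R) L := by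
    refine IsLocalization.of_le_of_exists_dvd (Submonoid.powers ϖ) (nonZeroDivisors R) ?_ ?_
    · rintro _ ⟨n, rfl⟩
      exact mem_nonZeroDivisors_of_ne_zero (pow_ne_zero n hϖ.ne_zero)
    · intro r hr
      obtain ⟨n, u, rfl⟩ := IsDiscreteValuationRing.eq_unit_mul_pow_irreducible
        (nonZeroDivisors.ne_zero hr) hϖ
      refine ⟨ϖ ^ n, ⟨n, rfl⟩, ?_⟩
      exact ⟨(↑u⁻¹ : R), by
        rw [mul_comm (↑u : R), mul_assoc, Units.mul_inv, mul_one]⟩
  exact IsLocalization.isLocalization_of_algEquiv (Submonoid.powers ϖ)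
    (IsLocalization.algEquiv (nonZeroDivisors R) L (FractionRing R))

/-- the base change square for `pullback.map` along `j`. -/
lemma isPullback_map {X S A B : Scheme.{u}} (g : X ⟶ S) (x : B ⟶ S) (j : A ⟶ B)
    (w1 : g ≫ 𝟙 S = 𝟙 X ≫ g) (w2 : (j ≫ x) ≫ 𝟙 S = j ≫ x) :
    IsPullback (pullback.map g (j ≫ x) g x (𝟙 X) j (𝟙 S) w1 w2)
      (pullback.snd g (j ≫ x)) (pullback.snd g x) j := by
  have e1 : pullback.map g (j ≫ x) g x (𝟙 X) j (𝟙 S) w1 w2 ≫ pullback.fst g x =
      pullback.fst g (j ≫ x) :=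
    (pullback.lift_fst _ _ _).trans (Category.comp_id _)
  have e3 : pullback.map g (j ≫ x) g x (𝟙 X) j (𝟙 S) w1 w2 ≫ pullback.snd g x =
      pullback.snd g (j ≫ x) ≫ j :=
    pullback.lift_snd _ _ _
  have s : IsPullback (pullback.map g (j ≫ x) g x (𝟙 X) j (𝟙 S) w1 w2 ≫ pullback.fst g x)
      (pullback.snd g (j ≫ x)) g (j ≫ x) := by
    rw [e1]
    exact IsPullback.of_hasPullback g (j ≫ x)
  exact IsPullback.of_right s e3 (IsPullback.of_hasPullback g x)

/-- the base change square for `pullback.map` along `ι`. -/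
lemma isPullback_map' {X S Z B : Scheme.{u}} (p : X ⟶ S) (ι : Z ⟶ X) (x : B ⟶ S)
    (w1 : (ι ≫ p) ≫ 𝟙 S = ι ≫ p) (w2 : x ≫ 𝟙 S = 𝟙 B ≫ x) :
    IsPullback (pullback.map (ι ≫ p) x p x ι (𝟙 B) (𝟙 S) w1 w2)
      (pullback.fst (ι ≫ p) x) (pullback.fst p x) ι := by
  have e1 : pullback.map (ι ≫ p) x p x ι (𝟙 B) (𝟙 S) w1 w2 ≫ pullback.snd p x =
      pullback.snd (ι ≫ p) x :=
    (pullback.lift_snd _ _ _).trans (Category.comp_id _)
  have e3 : pullback.map (ι ≫ p) x p x ι (𝟙 B) (𝟙 S) w1 w2 ≫ pullback.fst p x =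
      pullback.fst (ι ≫ p) x ≫ ι :=
    pullback.lift_fst _ _ _
  have s : IsPullback (pullback.map (ι ≫ p) x p x ι (𝟙 B) (𝟙 S) w1 w2 ≫ pullback.snd p x)
      (pullback.fst (ι ≫ p) x) x (ι ≫ p) := by
    rw [e1]
    exact (IsPullback.of_hasPullback (ι ≫ p) x).flip
  exact IsPullback.of_right s e3 (IsPullback.of_hasPullback p x).flip

lemma subschemeFun_zero {X Z : Scheme.{u}} (i : Z ⟶ X) (x : X) :
    Cyc.subschemeFun (fun _ => (0 : ℤ)) 0 i x =
      ∑ᶠ z ∈ {z : Z | i z = x},
        ((Module.length (Z.presheaf.stalk z) (Z.presheaf.stalk z)).toNat : ℤ) := by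
  unfold Cyc.subschemeFun
  exact if_pos rfl

lemma range_specMap_away {R K : Type u} [CommRing R] [CommRing K] [Algebra R K] (ϖ : R)
    [IsLocalization.Away ϖ K] :
    Set.range (Spec.map (CommRingCat.ofHom (algebraMap R K))) =
      ((Spec (CommRingCat.of R)).basicOpen
        ((Scheme.ΓSpecIso (CommRingCat.of R)).inv ϖ) : Set (Spec (CommRingCat.of R))) := by
  rw [basicOpen_eq_of_affine]
  exact PrimeSpectrum.localization_away_comap_range K ϖ

/-- a point outside a dense basic open has a local ring of infinite length. -/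
lemma length_eq_top {φ : Scheme.{u}} (s : Γ(φ, ⊤)) (hd : Dense (φ.basicOpen s : Set φ)) (z : φ)
    (hz : z ∉ φ.basicOpen s) :
    Module.length (φ.presheaf.stalk z) (φ.presheaf.stalk z) = ⊤ := by
  by_contra hfin
  have hfl : IsFiniteLength (φ.presheaf.stalk z) (φ.presheaf.stalk z) :=
    Module.length_ne_top_iff.mp hfin
  obtain ⟨_, hart⟩ := isFiniteLength_iff_isNoetherian_isArtinian.mp hfl
  haveI : IsArtinianRing (φ.presheaf.stalk z) := hart
  have hnil : IsNilpotent (IsLocalRing.maximalIdeal (φ.presheaf.stalk z)) := by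
    have := IsArtinianRing.isNilpotent_jacobson_bot (R := φ.presheaf.stalk z)
    rwa [IsLocalRing.jacobson_eq_maximalIdeal ⊥ bot_ne_top] at this
  obtain ⟨N, hN⟩ := hnil
  have hmem : φ.presheaf.germ ⊤ z trivial s ∈ IsLocalRing.maximalIdeal (φ.presheaf.stalk z) := by
    rw [IsLocalRing.mem_maximalIdeal, mem_nonunits_iff]
    intro hu
    exact hz ((φ.mem_basicOpen_top s z).mpr hu)
  have hpow : φ.presheaf.germ ⊤ z trivial (s ^ (N + 1)) = 0 := by
    rw [map_pow]
    have h1 : φ.presheaf.germ ⊤ z trivial s ^ N ∈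
        (IsLocalRing.maximalIdeal (φ.presheaf.stalk z)) ^ N := Ideal.pow_mem_pow hmem N
    rw [hN] at h1
    have h2 : φ.presheaf.germ ⊤ z trivial s ^ N = 0 := h1
    rw [pow_succ, h2, zero_mul]
  obtain ⟨W, i, hzW, hW⟩ :=
    φ.toRingedSpace.exists_res_eq_zero_of_germ_eq_zero ⊤ (s ^ (N + 1)) ⟨z, trivial⟩ hpow
  have hbo : W ⊓ φ.basicOpen s = ⊥ := by
    rw [← φ.basicOpen_pow s (Nat.succ_pos N), ← φ.basicOpen_res (s ^ (N + 1)) i.op]
    rw [show φ.presheaf.map i.op (s ^ (N + 1)) = 0 from hW, Scheme.basicOpen_zero]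
  obtain ⟨y, hyW, hys⟩ := hd.inter_open_nonempty W W.isOpen ⟨z, hzW⟩
  have hy : y ∈ W ⊓ φ.basicOpen s := ⟨hyW, hys⟩
  rw [hbo] at hy
  exact hy

theorem main_aux {ZR ZK XR XK : Scheme.{u}} (M : ZK ⟶ ZR) [IsOpenImmersion M] [QuasiCompact M]
    (mX : XK ⟶ XR) (ιR : ZR ⟶ XR) (ιK : ZK ⟶ XK)
    (hmX : Function.Injective mX) (hιR : Function.Injective ιR) (hιK : Function.Injective ιK)
    (hcomm : M ≫ ιR = ιK ≫ mX) (s : Γ(ZR, ⊤))
    (hs : Set.range M = (ZR.basicOpen s : Set ZR)) (t : XR) :
    Cyc.subschemeFun (fun _ => (0 : ℤ)) 0 (M.ker.subschemeι ≫ ιR) t =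
      ∑ᶠ t' ∈ {t' : XK | mX t' = t}, Cyc.subschemeFun (fun _ => (0 : ℤ)) 0 ιK t' := by
  rw [subschemeFun_zero]
  simp_rw [subschemeFun_zero]
  have himg : ∀ a, M.imageι (M.toImage a) = M a := fun a => by
    rw [← Scheme.Hom.comp_apply, M.toImage_imageι]
  have hbo : ∀ z : M.image, z ∈ M.image.basicOpen (M.imageι.appTop s) ↔
      z ∈ Set.range M.toImage := by
    intro z
    rw [← Scheme.preimage_basicOpen_top]
    constructor
    · intro hz
      have hz' : M.imageι z ∈ (ZR.basicOpen s : Set ZR) := hz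
      rw [← hs] at hz'
      obtain ⟨a, ha⟩ := hz'
      refine ⟨a, M.imageι.isClosedEmbedding.injective ?_⟩
      rw [himg, ha]
    · rintro ⟨a, rfl⟩
      show M.imageι (M.toImage a) ∈ (ZR.basicOpen s : Set ZR)
      rw [himg, ← hs]
      exact ⟨a, rfl⟩
  have hd : Dense (M.image.basicOpen (M.imageι.appTop s) : Set M.image) := by
    have h : (M.image.basicOpen (M.imageι.appTop s) : Set M.image) = Set.range M.toImage :=
      Set.ext hbo
    rw [h]
    exact M.toImage.denseRange
  have hi : Function.Injective (M.ker.subschemeι ≫ ιR) := by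
    intro a b hab
    simp only [Scheme.Hom.comp_apply] at hab
    exact M.ker.subschemeι.isClosedEmbedding.injective (hιR hab)
  have hcommpt : ∀ z, (M.ker.subschemeι ≫ ιR) (M.toImage z) = mX (ιK z) := by
    intro z
    rw [Scheme.Hom.comp_apply]
    have h1 : M.ker.subschemeι (M.toImage z) = M z := himg z
    rw [h1, ← Scheme.Hom.comp_apply, hcomm, Scheme.Hom.comp_apply]
  have h1 : ∀ z : ZK,
      ((Module.length (M.image.presheaf.stalk (M.toImage z))
        (M.image.presheaf.stalk (M.toImage z))).toNat : ℤ) =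
      ((Module.length (ZK.presheaf.stalk z) (ZK.presheaf.stalk z)).toNat : ℤ) := by
    intro z
    exact congrArg (fun l : ℕ∞ => (l.toNat : ℤ))
      (length_eq_of_ringEquiv (asIso (M.toImage.stalkMap z)).commRingCatIsoToRingEquiv)
  have h2 : ∀ z : M.image, z ∉ Set.range M.toImage →
      ((Module.length (M.image.presheaf.stalk z) (M.image.presheaf.stalk z)).toNat : ℤ) = 0 := by
    intro z hz
    rw [length_eq_top (M.imageι.appTop s) hd z (fun h => hz ((hbo z).mp h))]
    simp
  exact finsum_aux (Φ := M.image) (ZK := ZK) (XK := XK) (XR := XR) M.toImage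
    (M.ker.subschemeι ≫ ιR) ιK mX hi hιK hmX hcommpt
    (fun z => ((Module.length (M.image.presheaf.stalk z)
      (M.image.presheaf.stalk z)).toNat : ℤ))
    (fun z => ((Module.length (ZK.presheaf.stalk z) (ZK.presheaf.stalk z)).toNat : ℤ))
    h1 h2 t

theorem main {X S Z : Scheme.{u}} (p : X ⟶ S) (ι : Z ⟶ X) [IsClosedImmersion ι]
    (R : Type u) [CommRing R] [IsDomain R] [IsDiscreteValuationRing R]
    (x : Spec (CommRingCat.of R) ⟶ S) (t : ↥(pullback p x)) :
    Cyc.subschemeFun (fun _ => (0 : ℤ)) 0 ((pullback.map (ι ≫ p) (Spec.map (CommRingCat.ofHom (algebraMap R (FractionRing R))) ≫ x) (ι ≫ p) x (𝟙 Z) (Spec.map (CommRingCat.ofHom (algebraMap R (FractionRing R)))) (𝟙 S) ((Category.comp_id _).trans (Category.id_comp _).symm) (Category.comp_id _)).ker.subschemeι ≫ pullback.map (ι ≫ p) x p x ι (𝟙 _) (𝟙 S) (Category.comp_id _) ((Category.comp_id _).trans (Category.id_comp _).symm)) t = ∑ᶠ t' ∈ {t' : ↥(pullback p (Spec.map (CommRingCat.ofHom (algebraMap R (FractionRing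 R))) ≫ x)) | (pullback.map p (Spec.map (CommRingCat.ofHom (algebraMap R (FractionRing R))) ≫ x) p x (𝟙 X) (Spec.map (CommRingCat.ofHom (algebraMap R (FractionRing R)))) (𝟙 S) ((Category.comp_id _).trans (Category.id_comp _).symm) (Category.comp_id _)) t' = t}, Cyc.subschemeFun (fun _ => (0 : ℤ)) 0 (pullback.map (ι ≫ p) (Spec.map (CommRingCat.ofHom (algebraMap R (FractionRing R))) ≫ x) p (Spec.map (CommRingCat.ofHom (algebraMap R (FractionRing R))) ≫ x) ι (𝟙 _) (𝟙 S) (Category.comp_id _) ((Category.comp_id _).trans (Category.id_comp _).symm)) t' := by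
  obtain ⟨ϖ, hϖ⟩ := IsDiscreteValuationRing.exists_irreducible R
  haveI : IsLocalization.Away ϖ (FractionRing R) := isLocalization_away_of_dvr R ϖ hϖ
  haveI hj : IsOpenImmersion (Spec.map (CommRingCat.ofHom (algebraMap R (FractionRing R)))) :=
    IsOpenImmersion.of_isLocalization ϖ
  have hjq : QuasiCompact (Spec.map (CommRingCat.ofHom (algebraMap R (FractionRing R)))) :=
    inferInstance
  haveI hM : IsOpenImmersion (pullback.map (ι ≫ p)
      (Spec.map (CommRingCat.ofHom (algebraMap R (FractionRing R))) ≫ x) (ι ≫ p) x (𝟙 Z)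
      (Spec.map (CommRingCat.ofHom (algebraMap R (FractionRing R)))) (𝟙 S)
      ((Category.comp_id _).trans (Category.id_comp _).symm) (Category.comp_id _)) :=
    MorphismProperty.of_isPullback (P := @IsOpenImmersion)
      (isPullback_map (ι ≫ p) x _ _ _).flip hj
  haveI hMq : QuasiCompact (pullback.map (ι ≫ p)
      (Spec.map (CommRingCat.ofHom (algebraMap R (FractionRing R))) ≫ x) (ι ≫ p) x (𝟙 Z)
      (Spec.map (CommRingCat.ofHom (algebraMap R (FractionRing R)))) (𝟙 S)
      ((Category.comp_id _).trans (Category.id_comp _).symm) (Category.comp_id _)) :=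
    MorphismProperty.of_isPullback (P := @QuasiCompact)
      (isPullback_map (ι ≫ p) x _ _ _).flip hjq
  have hmX : IsOpenImmersion (pullback.map p
      (Spec.map (CommRingCat.ofHom (algebraMap R (FractionRing R))) ≫ x) p x (𝟙 X)
      (Spec.map (CommRingCat.ofHom (algebraMap R (FractionRing R)))) (𝟙 S)
      ((Category.comp_id _).trans (Category.id_comp _).symm) (Category.comp_id _)) :=
    MorphismProperty.of_isPullback (P := @IsOpenImmersion)
      (isPullback_map p x _ _ _).flip hj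
  have hιR : IsClosedImmersion (pullback.map (ι ≫ p) x p x ι (𝟙 _) (𝟙 S) (Category.comp_id _)
      ((Category.comp_id _).trans (Category.id_comp _).symm)) :=
    MorphismProperty.of_isPullback (P := @IsClosedImmersion)
      (isPullback_map' p ι x _ _).flip inferInstance
  have hιK : IsClosedImmersion (pullback.map (ι ≫ p)
      (Spec.map (CommRingCat.ofHom (algebraMap R (FractionRing R))) ≫ x) p
      (Spec.map (CommRingCat.ofHom (algebraMap R (FractionRing R))) ≫ x) ι (𝟙 _) (𝟙 S)
      (Category.comp_id _) ((Category.comp_id _).trans (Category.id_comp _).symm)) :=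
    MorphismProperty.of_isPullback (P := @IsClosedImmersion)
      (isPullback_map' p ι _ _ _).flip inferInstance
  refine main_aux _ _ _ _ ?_ ?_ ?_ ?_
    ((pullback.snd (ι ≫ p) x).appTop ((Scheme.ΓSpecIso (CommRingCat.of R)).inv ϖ)) ?_ t
  · exact (Scheme.Hom.isOpenEmbedding _).injective
  · exact (Scheme.Hom.isClosedEmbedding _).injective
  · exact (Scheme.Hom.isClosedEmbedding _).injective
  · apply pullback.hom_ext <;>
      simp only [Category.assoc, pullback.map, pullback.lift_fst, pullback.lift_fst_assoc,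
        pullback.lift_snd, pullback.lift_snd_assoc, Category.comp_id]
  · rw [← Scheme.preimage_basicOpen_top, Scheme.Pullback.range_map, range_specMap_away ϖ]
    ext z
    simp

end Groth.Agent.Helper16.FlatCl
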