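import Mathlib
import Groth.Prelude
import Groth.Agent.Lib.Helper16.Sch.GoDown
import Groth.Agent.Lib.Helper16.Sch.ArVH
import Groth.Agent.Lib.Helper16.Sch.CurveEt4
import Groth.Agent.Lib.Helper21.FL9
import Groth.Agent.Lib.Helper15.AlgSpFinLocFree

set_option autoImplicit false
universe u
open CategoryTheory CategoryTheory.Limits AlgebraicGeometry TopologicalSpace IsLocalRing

namespace Groth.Agent.Helper16.FlatCof

theorem isPrincipalIdealRing_of_dim_le_one (A : Type u) [CommRing A] [IsNoetherianRing A]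
    [IsLocalRing A] [IsDomain A] [IsIntegrallyClosed A] (h : ringKrullDim A ≤ 1) :
    IsPrincipalIdealRing A := by
  haveI hk : Ring.KrullDimLE 1 A := Ring.krullDimLE_iff.2 (by exact_mod_cast h)
  have h4 : IsIntegrallyClosed A ∧ ∀ P : Ideal A, P ≠ ⊥ → P.IsPrime → P = maximalIdeal A :=
    ⟨inferInstance, fun P hP hP' => IsLocalRing.eq_maximalIdeal (hP'.isMaximal_of_ne_bot hP)⟩
  exact ((tfae_of_isNoetherianRing_of_isLocalRing_of_isDomain A).out 3 0).1 h4

theorem two_le_of_not_le_one {d : WithBot ℕ∞} (h : ¬ d ≤ 1) : 2 ≤ d := by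
  rw [not_le] at h
  induction d using WithBot.recBotCoe with
  | bot => exact absurd h (by simp)
  | coe n =>
    have h' : (1 : ℕ∞) < n := by exact_mod_cast h
    have h2 : (2 : ℕ∞) ≤ n := by
      have := Order.add_one_le_of_lt h'
      rwa [one_add_one_eq_two] at this
    exact WithBot.coe_le_coe.2 h2

section chains
variable {X : Scheme.{u}}

theorem exists_chain_of_two_le (x : X)
    (h : (2 : WithBot ℕ∞) ≤ ringKrullDim (X.presheaf.stalk x)) :
    ∃ x0 x1 : X, x0 ⤳ x1 ∧ x1 ⤳ x ∧ x0 ≠ x1 ∧ x1 ≠ x := by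
  have h' : ((2 : ℕ) : WithBot ℕ∞) ≤ Order.krullDim (PrimeSpectrum (X.presheaf.stalk x)) := by
    exact_mod_cast h
  obtain ⟨l, hl⟩ := Order.le_krullDim_iff.mp h'
  have hemb := (X.fromSpecStalk x).isEmbedding
  have hrange : ∀ p, (X.fromSpecStalk x) p ⤳ x := fun p => by
    have : (X.fromSpecStalk x) p ∈ Set.range (X.fromSpecStalk x) := ⟨p, rfl⟩
    rw [Scheme.range_fromSpecStalk] at this; exact this
  have hsp : ∀ p q : PrimeSpectrum (X.presheaf.stalk x), p ≤ q →
      (X.fromSpecStalk x) p ⤳ (X.fromSpecStalk x) q := fun p q hpq =>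
    ((PrimeSpectrum.le_iff_specializes p q).mp hpq).map (X.fromSpecStalk x).continuous
  have h01 : l ⟨0, by omega⟩ < l ⟨1, by omega⟩ := l.strictMono (by simp [Fin.lt_def])
  have h12 : l ⟨1, by omega⟩ < l ⟨2, by omega⟩ := l.strictMono (by simp [Fin.lt_def])
  refine ⟨(X.fromSpecStalk x) (l ⟨0, by omega⟩), (X.fromSpecStalk x) (l ⟨1, by omega⟩),
    hsp _ _ h01.le, hrange _, fun h => h01.ne (hemb.injective h), ?_⟩
  intro h1x
  have h21 : (X.fromSpecStalk x) (l ⟨2, by omega⟩) ⤳ (X.fromSpecStalk x) (l ⟨1, by omega⟩) := by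
    rw [h1x]; exact hrange _
  have := (h21.antisymm (hsp _ _ h12.le)).eq
  exact h12.ne (hemb.injective this).symm

theorem two_le_of_chain (x x0 x1 : X) (h01 : x0 ⤳ x1) (h1 : x1 ⤳ x) (hne01 : x0 ≠ x1)
    (hne1 : x1 ≠ x) : (2 : WithBot ℕ∞) ≤ ringKrullDim (X.presheaf.stalk x) := by
  have hemb := (X.fromSpecStalk x).isEmbedding
  have hmem : ∀ y : X, y ⤳ x → ∃ p : PrimeSpectrum (X.presheaf.stalk x),
      (X.fromSpecStalk x) p = y := fun y hy => by
    have : y ∈ Set.range (X.fromSpecStalk x) := by rw [Scheme.range_fromSpecStalk]; exact hy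
    exact this
  obtain ⟨p0, hp0⟩ := hmem x0 (h01.trans h1)
  obtain ⟨p1, hp1⟩ := hmem x1 h1
  obtain ⟨p2, hp2⟩ := hmem x specializes_rfl
  have hle : ∀ p q : PrimeSpectrum (X.presheaf.stalk x),
      (X.fromSpecStalk x) p ⤳ (X.fromSpecStalk x) q → p ≤ q := fun p q h =>
    (PrimeSpectrum.le_iff_specializes p q).mpr (hemb.isInducing.specializes_iff.mp h)
  have h01a : p0 ≤ p1 := hle p0 p1 (by rw [hp0, hp1]; exact h01)
  have h12a : p1 ≤ p2 := hle p1 p2 (by rw [hp1, hp2]; exact h1)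
  have h01b : p0 ≠ p1 := fun h => hne01 (hp0.symm.trans ((congrArg _ h).trans hp1))
  have h12b : p1 ≠ p2 := fun h => hne1 (hp1.symm.trans ((congrArg _ h).trans hp2))
  have h01' : p0 < p1 := lt_of_le_of_ne h01a h01b
  have h12' : p1 < p2 := lt_of_le_of_ne h12a h12b
  have k1 := Order.height_add_one_le h01'
  have k2 := Order.height_add_one_le h12'
  have k3 : (Order.height p2 : WithBot ℕ∞) ≤ ringKrullDim (X.presheaf.stalk x) :=
    Order.height_le_krullDim p2
  have k4 : (2 : ℕ∞) ≤ Order.height p2 := by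
    calc (2 : ℕ∞) = 0 + 1 + 1 := by norm_num
      _ ≤ Order.height p0 + 1 + 1 := by gcongr; simp
      _ ≤ Order.height p1 + 1 := by gcongr
      _ ≤ Order.height p2 := k2
  have k5 : ((2 : ℕ∞) : WithBot ℕ∞) ≤ Order.height p2 := WithBot.coe_le_coe.mpr k4
  exact le_trans k5 k3

theorem isClosed_singleton_of_dim (hd : topologicalKrullDim X = 2) (y : X)
    (hy : (2 : WithBot ℕ∞) ≤ ringKrullDim (X.presheaf.stalk y)) : IsClosed ({y} : Set X) := by
  obtain ⟨y0, y1, h01, h1, hne01, hne1⟩ := exists_chain_of_two_le y hy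
  by_contra hnc
  have : ∃ y' : X, y ⤳ y' ∧ y' ≠ y := by
    by_contra hcon
    push_neg at hcon
    apply hnc
    have : closure ({y} : Set X) = {y} := by
      ext w
      rw [Set.mem_singleton_iff, ← specializes_iff_mem_closure]
      exact ⟨fun h => hcon w h, fun h => h ▸ specializes_rfl⟩
    rw [← this]; exact isClosed_closure
  obtain ⟨y', hy', hne'⟩ := this
  exact ArVH.not_chain3 hd (closure {y'}) (closure {y}) (closure {y1}) (closure {y0})
    isIrreducible_singleton.closure isClosed_closure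
    isIrreducible_singleton.closure isClosed_closure
    isIrreducible_singleton.closure isClosed_closure
    isIrreducible_singleton.closure isClosed_closure
    (ArVH.closure_ssubset hy' hne') (ArVH.closure_ssubset h1 hne1.symm)
    (ArVH.closure_ssubset h01 hne01.symm)

end chains

theorem finite_of_forall_isClosed_singleton {T : Type*} [TopologicalSpace T] [NoetherianSpace T]
    [QuasiSober T] (C : Set T) (hC : IsClosed C) (h : ∀ c ∈ C, IsClosed ({c} : Set T)) :
    C.Finite := by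
  obtain ⟨S, hSf, hSc, hSi, rfl⟩ := NoetherianSpace.exists_finite_set_isClosed_irreducible hC
  apply Set.Finite.sUnion hSf
  intro t ht
  obtain ⟨η, hη⟩ := QuasiSober.sober (hSi t ht) (hSc t ht)
  have hηt : η ∈ t := hη.mem
  have : t = {η} := by rw [← hη.def, (h η ⟨t, ht, hηt⟩).closure_eq]
  rw [this]; exact Set.finite_singleton η

theorem stalkMap_injective {X Y : Scheme.{u}} [IsIntegral X] [IsIntegral Y] (f : X ⟶ Y)
    [IsDominant f] [QuasiCompact f] (x : X) : Function.Injective (f.stalkMap x).hom := by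
  haveI : IsSchemeTheoreticallyDominant f := .of_isDominant f
  rw [injective_iff_map_eq_zero]
  intro a ha
  obtain ⟨V, hyV, s, rfl⟩ := Y.presheaf.exists_germ_eq a
  have h1 : (f.stalkMap x).hom ((Y.presheaf.germ V (f x) hyV).hom s) =
      (X.presheaf.germ (f ⁻¹ᵁ V) x hyV).hom ((f.app V).hom s) :=
    Scheme.Hom.germ_stalkMap_apply f V x hyV s
  rw [h1] at ha
  have h2 : (f.app V).hom s = 0 :=
    germ_injective_of_isIntegral X x hyV (ha.trans (map_zero _).symm)
  have h3 : s = 0 := f.app_injective V (h2.trans (map_zero _).symm)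
  rw [h3, map_zero]

theorem flat_stalkMap_of_dim_le_one {X Y : Scheme.{u}} [IsIntegral X] [IsIntegral Y]
    [IsLocallyNoetherian Y] (f : X ⟶ Y) [IsDominant f] [QuasiCompact f] (x : X)
    (hic : IsIntegrallyClosed (Y.presheaf.stalk (f x)))
    (hd : ringKrullDim (Y.presheaf.stalk (f x)) ≤ 1) : (f.stalkMap x).hom.Flat := by
  haveI := isPrincipalIdealRing_of_dim_le_one (Y.presheaf.stalk (f x)) hd
  algebraize [(f.stalkMap x).hom]
  change Module.Flat (Y.presheaf.stalk (f x)) (X.presheaf.stalk x)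
  rw [Module.Flat.flat_iff_torsion_eq_bot_of_isBezout, Submodule.eq_bot_iff]
  intro b hb
  rw [Submodule.mem_torsion_iff] at hb
  obtain ⟨a, hab⟩ := hb
  have hab' : (f.stalkMap x).hom a.1 * b = 0 := by
    have := hab
    rwa [Submonoid.smul_def, Algebra.smul_def] at this
  have ha0 : (a : Y.presheaf.stalk (f x)) ≠ 0 := nonZeroDivisors.coe_ne_zero a
  have hne : (f.stalkMap x).hom a.1 ≠ 0 := fun h =>
    ha0 (stalkMap_injective f x (h.trans (map_zero _).symm))
  exact (mul_eq_zero.mp hab').resolve_left hne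

theorem main {X Y : Scheme.{u}} [IsIntegral X] [IsIntegral Y] [IsNoetherian Y]
    (hnY : Pi1.IsNormalScheme Y)
    (hdX : topologicalKrullDim X = 2) (hdY : topologicalKrullDim Y = 2)
    (f : X ⟶ Y) [IsFinite f] [Surjective f] :
    ∃ V : Y.Opens, ((V : Set Y)ᶜ).Finite ∧
      (∀ y : Y, y ∉ V → ringKrullDim (Y.presheaf.stalk y) = 2) ∧
      (((f ⁻¹ᵁ V : X.Opens) : Set X)ᶜ).Finite ∧
      (∀ x : X, x ∉ f ⁻¹ᵁ V → ringKrullDim (X.presheaf.stalk x) = 2) ∧
      Flat (f ∣_ V) := by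
  haveI : LocallyOfFinitePresentation f :=
    Groth.Agent.Helper15.lfp_of_lft_of_isLocallyNoetherian f
  set F : Set X := {x | (f.stalkMap x).hom.Flat} with hF
  have hFo : IsOpen F := Groth.Agent.Helper21.FL.isOpen_flatLocus_scheme f
  have hCc : IsClosed (f '' Fᶜ) := f.isClosedMap _ hFo.isClosed_compl
  let V : Y.Opens := ⟨(f '' Fᶜ)ᶜ, hCc.isOpen_compl⟩
  have hVc : ((V : Set Y)ᶜ) = f '' Fᶜ := compl_compl _
  have hK : ∀ x : X, ringKrullDim (Y.presheaf.stalk (f x)) ≤ 1 → x ∈ F := fun x hx =>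
    flat_stalkMap_of_dim_le_one f x (hnY (f x)).2 hx
  have hD : ∀ y : Y, y ∉ V → ringKrullDim (Y.presheaf.stalk y) = 2 := by
    intro y hy
    have hy' : y ∈ f '' Fᶜ := by rw [← hVc]; exact hy
    obtain ⟨x, hxF, rfl⟩ := hy'
    refine le_antisymm ?_ (two_le_of_not_le_one (fun h => hxF (hK x h)))
    rw [← hdY]; exact CurveEt.ringKrullDim_stalk_le (f x)
  have hcl : ∀ y ∈ f '' Fᶜ, IsClosed ({y} : Set Y) := fun y hy =>
    isClosed_singleton_of_dim hdY y (hD y (by rw [← hVc] at hy; exact hy)).ge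
  have hfin : (f '' Fᶜ).Finite := finite_of_forall_isClosed_singleton _ hCc hcl
  refine ⟨V, hVc ▸ hfin, hD, ?_, ?_, ?_⟩
  · have : ((f ⁻¹ᵁ V : X.Opens) : Set X)ᶜ = f ⁻¹' (f '' Fᶜ) := by
      ext x
      change ¬ (f x ∈ (f '' Fᶜ)ᶜ) ↔ _
      rw [Set.mem_compl_iff, not_not]; rfl
    rw [this]; exact f.finite_preimage hfin
  · intro x hx
    have hy : f x ∉ V := hx
    have h2 := hD (f x) hy
    obtain ⟨y0, y1, h01, h1, hne01, hne1⟩ := exists_chain_of_two_le (f x) h2.ge
    have hgm := GoDown.generalizingMap_of_finite_of_normal (fun z => (hnY z).2) f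
    obtain ⟨x1, hx1, hfx1⟩ := hgm h1
    obtain ⟨x0, hx0, hfx0⟩ := hgm (hfx1 ▸ h01 : y0 ⤳ f x1)
    refine le_antisymm ?_ (two_le_of_chain x x0 x1 hx0 hx1 ?_ ?_)
    · rw [← hdX]; exact CurveEt.ringKrullDim_stalk_le x
    · intro h; apply hne01; rw [← hfx0, ← hfx1, h]
    · intro h; apply hne1; rw [← hfx1, h]
  · rw [Flat.iff_flat_stalkMap]
    intro x
    rw [RingHom.Flat.respectsIso.arrow_mk_iso_iff (morphismRestrictStalkMap f V x)]
    by_contra hx
    exact x.2 ⟨x.1, hx, rfl⟩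

theorem main' (R : Type u) [CommRing R] [IsDomain R] [IsDiscreteValuationRing R]
    (X Y : Scheme.{u}) (pY : Y ⟶ Spec (CommRingCat.of R))
    [LocallyOfFiniteType pY] [QuasiCompact pY]
    [IsIntegral X] [IsIntegral Y] (hnY : Pi1.IsNormalScheme Y)
    (hdX : topologicalKrullDim X = 2) (hdY : topologicalKrullDim Y = 2)
    (f : X ⟶ Y) [IsFinite f] [Surjective f] :
    ∃ V : Y.Opens, ((V : Set Y)ᶜ).Finite ∧
      (∀ y : Y, y ∉ V → ringKrullDim (Y.presheaf.stalk y) = 2) ∧
      (((f ⁻¹ᵁ V : X.Opens) : Set X)ᶜ).Finite ∧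
      (∀ x : X, x ∉ f ⁻¹ᵁ V → ringKrullDim (X.presheaf.stalk x) = 2) ∧
      Flat (f ∣_ V) := by
  haveI : IsLocallyNoetherian Y := LocallyOfFiniteType.isLocallyNoetherian pY
  haveI : CompactSpace Y := QuasiCompact.compactSpace_of_compactSpace pY
  haveI : IsNoetherian Y := {}
  exact main hnY hdX hdY f

end Groth.Agent.Helper16.FlatCof
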