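import Mathlib
import Groth.Agent.Lib.Helper16.Sch.FibStalk

set_option autoImplicit false
universe u

open IsLocalRing AlgebraicGeometry CategoryTheory Opposite

noncomputable section

namespace Groth.Agent.Helper16.FlatDVR

/-- Noetherian local ring `B`, `t ∈ m_B` with `B/(t)` reduced and `t` outside all minimal primes:
then `t` is a nonzerodivisor. -/
theorem mem_nonZeroDivisors_of_isReduced_quotient {B : Type u} [CommRing B] [IsLocalRing B]
    [IsNoetherianRing B] (t : B) (ht : t ∈ maximalIdeal B)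
    (hred : IsReduced (B ⧸ Ideal.span {t}))
    (hmin : ∀ q ∈ minimalPrimes B, t ∉ q) : t ∈ nonZeroDivisors B := by
  -- elements killed by a power of `t` lie in `(t)`
  have hrad : (Ideal.span {t}).IsRadical :=
    (Ideal.isRadical_iff_quotient_reduced _).mpr hred
  have hN : ∀ (k : ℕ) (b : B), t ^ k * b = 0 → b ∈ Ideal.span {t} := by
    intro k b hb
    rw [← hrad.radical, ← Ideal.sInf_minimalPrimes, Ideal.mem_sInf]
    intro p hp
    haveI := hp.1.1
    obtain ⟨q, hq, hqp⟩ := Ideal.exists_minimalPrimes_le (I := ⊥) (J := p) bot_le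
    haveI := hq.1.1
    have h0 : t ^ k * b ∈ q := hb ▸ q.zero_mem
    rcases (Ideal.IsPrime.mem_or_mem ‹q.IsPrime› h0) with h | h
    · exact absurd (Ideal.IsPrime.mem_of_pow_mem ‹q.IsPrime› k h) (hmin q hq)
    · exact hqp h
  have key : ∀ (n : ℕ) (b : B), t * b = 0 → ∃ c, t ^ (n + 1) * c = 0 ∧ b = t ^ n * c := by
    intro n
    induction n with
    | zero => intro b hb; exact ⟨b, by simpa using hb, by simp⟩
    | succ n ih =>
      intro b hb
      obtain ⟨c, hc, rfl⟩ := ih b hb
      obtain ⟨c', rfl⟩ := Ideal.mem_span_singleton'.mp (hN _ c hc)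
      refine ⟨c', ?_, ?_⟩
      · rw [← hc]; ring
      · ring
  have hne : Ideal.span {t} ≠ (⊤ : Ideal B) := by
    intro h
    have : Ideal.span {t} ≤ maximalIdeal B := (Ideal.span_singleton_le_iff_mem _).mpr ht
    exact (maximalIdeal.isMaximal B).ne_top (top_le_iff.mp (h ▸ this))
  have hK := Ideal.iInf_pow_eq_bot_of_isLocalRing (Ideal.span {t}) hne
  rw [mem_nonZeroDivisors_iff_right]
  intro b hb
  rw [mul_comm] at hb
  have : b ∈ ⨅ i : ℕ, Ideal.span {t} ^ i := by
    rw [Ideal.mem_iInf]
    intro n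
    obtain ⟨c, -, rfl⟩ := key n b hb
    rw [Ideal.span_singleton_pow]
    exact Ideal.mem_span_singleton'.mpr ⟨c, mul_comm _ _⟩
  rw [hK] at this
  exact this

variable {R : Type u} [CommRing R] {X : Scheme.{u}} (f : X ⟶ Spec (CommRingCat.of R))

/-- the image of `r : R` in `Γ(X, ⊤)` -/
def gsec (r : R) : Γ(X, ⊤) := f.appTop.hom ((Scheme.ΓSpecIso (CommRingCat.of R)).inv.hom r)

/-- the stalk of `Spec R` at `f x`, as a localization of `R` -/
abbrev baseStalk (x : X) : CommRingCat := (Spec (CommRingCat.of R)).presheaf.stalk (f x)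

instance (x : X) : Algebra R (baseStalk f x) := inferInstanceAs
  (Algebra R ((Spec.structureSheaf R).presheaf.stalk (f x)))

instance (x : X) : IsLocalization.AtPrime (baseStalk f x) (f x).asIdeal := inferInstanceAs
  (IsLocalization.AtPrime ((Spec.structureSheaf R).presheaf.stalk (f x)) (f x).asIdeal)

/-- the image of `r : R` in the stalk `𝒪_{X,x}` -/
def stalkImg (x : X) (r : R) : X.presheaf.stalk x :=
  (f.stalkMap x).hom (algebraMap R (baseStalk f x) r)

lemma germ_gsec (x : X) (r : R) :
    X.presheaf.germ ⊤ x trivial (gsec f r) = stalkImg f x r := by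
  have := Scheme.Hom.germ_stalkMap_apply f ⊤ x trivial ((Scheme.ΓSpecIso (CommRingCat.of R)).inv.hom r)
  exact this.symm

lemma isUnit_stalkImg_iff (x : X) (r : R) : IsUnit (stalkImg f x r) ↔ r ∉ (f x).asIdeal := by
  rw [stalkImg, isUnit_map_iff (f.stalkMap x).hom,
    IsLocalization.AtPrime.isUnit_to_map_iff (baseStalk f x) (f x).asIdeal r]
  rfl

/-- If the generic fibre is dense, a nonzero `r` does not lie in any minimal prime of any stalk. -/
theorem stalkImg_notMem_minimalPrimes [IsDomain R]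
    (hdense : Dense (f.base ⁻¹' {genericPoint (Spec (CommRingCat.of R))}))
    (r : R) (hr : r ≠ 0) (x : X) (q : Ideal (X.presheaf.stalk x))
    (hq : q ∈ minimalPrimes (X.presheaf.stalk x)) : stalkImg f x r ∉ q := by
  intro hmem
  have h1 : stalkImg f x r ∈ ⋃ p ∈ (⊥ : Ideal (X.presheaf.stalk x)).minimalPrimes,
      (p : Set (X.presheaf.stalk x)) := Set.mem_biUnion hq hmem
  rw [Ideal.iUnion_minimalPrimes] at h1
  obtain ⟨y, hy, n, hn⟩ := h1
  rw [Ideal.mem_bot] at hn
  obtain ⟨V, hxV, hV, yy, rfl⟩ := TopCat.Presheaf.exists_mem_germ_eq_of_isBasis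
    X.isBasis_affineOpens X.presheaf x y
  -- the section `(r|_V * yy)^n` has zero germ at `x`
  let τ : Γ(X, V) := X.presheaf.map (homOfLE le_top).op (gsec f r)
  have hτ : X.presheaf.germ V x hxV τ = stalkImg f x r := by
    rw [← germ_gsec]
    exact TopCat.Presheaf.germ_res_apply X.presheaf (homOfLE le_top) x hxV _
  have hz : X.presheaf.germ V x hxV ((τ * yy) ^ n) = X.presheaf.germ V x hxV 0 := by
    rw [map_pow, map_mul, hτ, hn, map_zero]
  obtain ⟨W, hxW, hW, hWV, hWV2, hres⟩ := TopCat.Presheaf.germ_eq_of_isBasis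
    X.isBasis_affineOpens X.presheaf x hxV hxV hz
  rw [map_zero] at hres
  let z : Γ(X, W) := X.presheaf.map (homOfLE hWV).op yy
  let τ' : Γ(X, W) := X.presheaf.map (homOfLE hWV).op τ
  have hres' : (τ' * z) ^ n = 0 := by
    rw [← hres, map_pow, map_mul]
  -- `z` is not nilpotent
  have hznil : ¬ IsNilpotent z := by
    intro hnil
    apply hy
    have : X.presheaf.germ W x hxW z = X.presheaf.germ V x hxV yy :=
      TopCat.Presheaf.germ_res_apply X.presheaf (homOfLE hWV) x hxW _
    rw [← this]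
    obtain ⟨m, hm⟩ := hnil
    exact ⟨m, by rw [Ideal.mem_bot, ← map_pow, hm, map_zero]⟩
  have hne : X.basicOpen z ≠ ⊥ := fun h =>
    hznil ((Scheme.isNilpotent_iff_basicOpen_eq_bot_of_isCompact
      (IsAffineOpen.isCompact hW) z).mpr h)
  obtain ⟨u, hu⟩ : (X.basicOpen z : Set X).Nonempty := by
    rw [Set.nonempty_iff_ne_empty]
    intro h
    exact hne (TopologicalSpace.Opens.ext h)
  -- density gives a point of the generic fibre in `D(z)`
  obtain ⟨u, hu, hfu⟩ := hdense.inter_open_nonempty _ (X.basicOpen z).isOpen ⟨u, hu⟩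
  have huW : u ∈ W := X.basicOpen_le z hu
  have hunit : IsUnit (X.presheaf.germ W u huW z) := (X.mem_basicOpen z u huW).mp hu
  have h0 : X.presheaf.germ W u huW ((τ' * z) ^ n) = 0 := by rw [hres', map_zero]
  rw [map_pow, map_mul, mul_pow] at h0
  have hτ' : X.presheaf.germ W u huW τ' = stalkImg f u r := by
    rw [← germ_gsec]
    have h1 : X.presheaf.germ W u huW τ' = X.presheaf.germ V u (hWV huW) τ :=
      TopCat.Presheaf.germ_res_apply X.presheaf (homOfLE hWV) u huW _
    rw [h1]
    exact TopCat.Presheaf.germ_res_apply X.presheaf (homOfLE le_top) u (hWV huW) _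
  have hτunit : IsUnit (stalkImg f u r) := by
    rw [isUnit_stalkImg_iff]
    have : f u = genericPoint (Spec (CommRingCat.of R)) := hfu
    rw [this, genericPoint_eq_bot_of_affine]
    exact fun h => hr ((Ideal.mem_bot).mp h)
  rw [hτ'] at h0
  have : IsUnit ((0 : X.presheaf.stalk u)) := by
    rw [← h0]
    exact (hτunit.pow n).mul (hunit.pow n)
  exact not_isUnit_zero this


open Groth.Agent.Helper16.FibStalk

lemma fibIdeal_eq_span [IsDomain R] [IsDiscreteValuationRing R] {ϖ : R} (hϖ : Irreducible ϖ)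
    (x : X) (hfx : f x = IsLocalRing.closedPoint R) :
    fibIdeal f x = Ideal.span {stalkImg f x ϖ} := by
  have hmax : maximalIdeal (baseStalk f x) = Ideal.span {algebraMap R (baseStalk f x) ϖ} := by
    rw [← IsLocalization.AtPrime.map_eq_maximalIdeal (f x).asIdeal (baseStalk f x), hfx]
    change Ideal.map (algebraMap R (baseStalk f x)) (maximalIdeal R) = _
    rw [hϖ.maximalIdeal_eq, Ideal.map_span, Set.image_singleton]
  change Ideal.map (f.stalkMap x).hom (maximalIdeal (baseStalk f x)) = _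
  rw [hmax, Ideal.map_span, Set.image_singleton]
  rfl

/-- the ring hom `R → 𝒪_{X,x}` -/
def stalkHom (x : X) : R →+* X.presheaf.stalk x :=
  (f.stalkMap x).hom.comp (algebraMap R (baseStalk f x))

lemma stalkHom_apply (x : X) (r : R) : stalkHom f x r = stalkImg f x r := rfl

theorem stalkImg_mem_nonZeroDivisors [IsDomain R] [IsDiscreteValuationRing R]
    [IsLocallyNoetherian X]
    (hred : IsReduced (f.fiber (IsLocalRing.closedPoint R)))
    (hdense : Dense (f.base ⁻¹' {genericPoint (Spec (CommRingCat.of R))}))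
    {ϖ : R} (hϖ : Irreducible ϖ) (x : X) :
    stalkImg f x ϖ ∈ nonZeroDivisors (X.presheaf.stalk x) := by
  by_cases hmem : ϖ ∈ (f x).asIdeal
  · -- special fibre
    have hfx : f x = IsLocalRing.closedPoint R := by
      apply PrimeSpectrum.ext
      have hle : maximalIdeal R ≤ (f x).asIdeal := by
        rw [hϖ.maximalIdeal_eq]
        exact (Ideal.span_singleton_le_iff_mem _).mpr hmem
      exact ((maximalIdeal.isMaximal R).eq_of_le (f x).isPrime.ne_top hle).symm
    have hx : x ∈ Set.range (f.fiberι (IsLocalRing.closedPoint R)) := by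
      rw [f.range_fiberι]; exact hfx
    obtain ⟨x', rfl⟩ := hx
    have hfib := fibIdeal_eq_span f hϖ _ hfx
    have ht : stalkImg f (f.fiberι _ x') ϖ ∈ maximalIdeal (X.presheaf.stalk (f.fiberι _ x')) := by
      apply fibIdeal_le f (f.fiberι _ x')
      rw [hfib]
      exact Ideal.mem_span_singleton_self _
    have hq : _root_.IsReduced (X.presheaf.stalk (f.fiberι _ x') ⧸
        Ideal.span {stalkImg f (f.fiberι _ x') ϖ}) := by
      let e : (X.presheaf.stalk (f.fiberι _ x') ⧸ Ideal.span {stalkImg f (f.fiberι _ x') ϖ}) ≃+*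
          (f.fiber (IsLocalRing.closedPoint R)).presheaf.stalk x' :=
        (Ideal.quotEquivOfEq hfib.symm).trans (quotEquivStalkFiber f _ x')
      exact isReduced_of_injective e.toRingHom e.injective
    exact mem_nonZeroDivisors_of_isReduced_quotient _ ht hq
      (fun q hq => stalkImg_notMem_minimalPrimes f hdense ϖ hϖ.ne_zero _ q hq)
  · exact ((isUnit_stalkImg_iff f x ϖ).mpr hmem).mem_nonZeroDivisors

theorem flat_of_reduced_specialFibre_of_dense [IsDomain R] [IsDiscreteValuationRing R]
    [IsLocallyNoetherian X]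
    (hred : IsReduced (f.fiber (IsLocalRing.closedPoint R)))
    (hdense : Dense (f.base ⁻¹' {genericPoint (Spec (CommRingCat.of R))})) : Flat f := by
  rw [Flat.iff_flat_stalkMap]
  intro x
  obtain ⟨ϖ, hϖ⟩ := IsDiscreteValuationRing.exists_irreducible R
  letI aAB : Algebra (baseStalk f x) (X.presheaf.stalk x) := (f.stalkMap x).hom.toAlgebra
  letI aRB : Algebra R (X.presheaf.stalk x) := (stalkHom f x).toAlgebra
  haveI : IsScalarTower R (baseStalk f x) (X.presheaf.stalk x) :=
    IsScalarTower.of_algebraMap_eq' rfl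
  change Module.Flat (baseStalk f x) (X.presheaf.stalk x)
  rw [Module.flat_iff_of_isLocalization (baseStalk f x) (f x).asIdeal.primeCompl
    (X.presheaf.stalk x), Module.Flat.flat_iff_torsion_eq_bot_of_isBezout, Submodule.eq_bot_iff]
  intro b hb
  obtain ⟨a, ha⟩ := (Submodule.mem_torsion_iff b).mp hb
  have ha0 : (a : R) ≠ 0 := nonZeroDivisors.ne_zero a.2
  obtain ⟨n, u, hu⟩ := IsDiscreteValuationRing.associated_pow_irreducible ha0 hϖ
  -- `a = ϖ^n * u⁻¹`-ish : `a * u = ϖ ^ n`
  have h1 : stalkHom f x (a : R) * stalkHom f x u = (stalkImg f x ϖ) ^ n := by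
    rw [← map_mul, hu, map_pow]; rfl
  have h2 : (stalkImg f x ϖ) ^ n * b = 0 := by
    rw [← h1, mul_comm (stalkHom f x (a : R)), mul_assoc]
    have : stalkHom f x (a : R) * b = 0 := by
      rw [← ha]; exact (Algebra.smul_def _ _).symm
    rw [this, mul_zero]
  have h3 := pow_mem (stalkImg_mem_nonZeroDivisors f hred hdense hϖ x) n
  exact (mul_left_mem_nonZeroDivisors_eq_zero_iff h3).mp h2

end Groth.Agent.Helper16.FlatDVR
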