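import Mathlib
import Groth.Agent.Lib.Helper16.Sch.GrpFib1
import Groth.Agent.Lib.Helper12.GorBC2

set_option autoImplicit false
set_option linter.style.haveILetI false
universe u
open CategoryTheory CategoryTheory.Limits AlgebraicGeometry Opposite TopologicalSpace Topology

noncomputable section

namespace Groth.Agent.Helper16.FlatPtFib

open Groth.Agent.Helper14 Groth.Agent.Helper16 Groth.Agent.Helper16.SmoothLocusBC

variable {X S : Scheme.{u}}

/-- pointwise version: for a morphism locally of finite type to the spectrum of a valuation ring,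
flat at `x`, and a generization `s₁` of the image of `x`, there is a generization `x₁` of `x`
over `s₁` at which the fibre dimension is at least that at `x`. -/
theorem exists_fibreDimAt_le_of_specializes_valuationRing {A : Type u} [CommRing A] [IsDomain A]
    [ValuationRing A] (g : X ⟶ Spec (CommRingCat.of A)) [LocallyOfFiniteType g]
    (x : X) (hflat : (g.stalkMap x).hom.Flat) (s₁ : Spec (CommRingCat.of A)) (hs : s₁ ⤳ g x) :
    ∃ x₁ : X, g x₁ = s₁ ∧ x₁ ⤳ x ∧ FlatMor.fibreDimAt g x ≤ FlatMor.fibreDimAt g x₁ := by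
  obtain ⟨ζ, N, hζx, hgζ, -, hN, hdim⟩ := EquidimAt.exists_maximal_trdeg_eq_fibreDimAt g x
  rw [← hgζ] at hs
  let ι := X.fromSpecStalk x
  haveI : Flat (ι ≫ g) := flat_fromSpecStalk_comp g x hflat
  have hζr : ζ ∈ Set.range ι := by
    rw [Scheme.range_fromSpecStalk]
    exact hζx
  obtain ⟨ζ', hζ'⟩ := hζr
  have hs' : s₁ ⤳ (ι ≫ g) ζ' := by
    rw [Scheme.Hom.comp_apply, hζ']
    exact hs
  obtain ⟨ξ', hξζ', hξ'⟩ := (Flat.generalizingMap (f := ι ≫ g)) hs'
  set ξ := ι ξ' with hξdef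
  have hξζ : ξ ⤳ ζ := by
    rw [← hζ']
    exact hξζ'.map ι.continuous
  have hξ : g ξ = s₁ := by
    rw [← hξ']
    rfl
  have h1 := ValRingFibre.trdeg_le_of_specializes_Spec g ξ ζ hξζ
  obtain ⟨n, hn⟩ := ResFieldBridge.exists_nat_trdeg_residueField g ξ
  rw [hN, hn] at h1
  have hNn : N ≤ n := by exact_mod_cast h1
  have h2 := EquidimAt.trdeg_le_fibreDimAt g ξ ξ specializes_rfl n hn
  refine ⟨ξ, hξ, hξζ.trans hζx, ?_⟩
  rw [hdim]
  refine le_trans ?_ h2
  exact_mod_cast hNn

theorem exists_fibreDimAt_le_of_specializes (f : X ⟶ S) [LocallyOfFiniteType f]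
    (x : X) (hflat : (f.stalkMap x).hom.Flat) (s₁ : S) (hs : s₁ ⤳ f x) :
    ∃ x₁ : X, f x₁ = s₁ ∧ x₁ ⤳ x ∧ FlatMor.fibreDimAt f x ≤ FlatMor.fibreDimAt f x₁ := by
  obtain ⟨A, hA1, hA2, a, ha0, ha1⟩ := Groth.Agent.Helper11.HTopV.exists_valuationRing_of_specializes hs
  have hsq : IsPullback (pullback.fst f a) (pullback.snd f a) f a := IsPullback.of_hasPullback f a
  obtain ⟨x', hx'1, hx'2⟩ := exists_preimage_of_isPullback hsq x (IsLocalRing.closedPoint A) ha0.symm
  have hs' : Groth.Agent.Helper11.HTopV.botPt A ⤳ (pullback.snd f a) x' := by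
    rw [hx'2]
    exact IsLocalRing.specializes_closedPoint (R := A) _
  have hflat' : ((pullback.snd f a).stalkMap x').hom.Flat :=
    Groth.Agent.Helper12.FlatPt.flat_stalkMap_baseChange hsq x' (by rw [hx'1]; exact hflat)
  obtain ⟨ξ, hξ1, hξx', hξ2⟩ := exists_fibreDimAt_le_of_specializes_valuationRing (A := A)
    (pullback.snd f a) x' hflat' _ hs'
  refine ⟨pullback.fst f a ξ, ?_, ?_, ?_⟩
  · rw [← Scheme.Hom.comp_apply, pullback.condition, Scheme.Hom.comp_apply, hξ1, ha1]
  · rw [← hx'1]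
    exact hξx'.map (pullback.fst f a).continuous
  · rw [← FibreDimBC.fibreDimAt_eq hsq ξ, ← hx'1, ← FibreDimBC.fibreDimAt_eq hsq x']
    exact hξ2

end Groth.Agent.Helper16.FlatPtFib
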