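import Mathlib

set_option autoImplicit false
universe u
open CategoryTheory AlgebraicGeometry

namespace Groth.Agent.Helper16.GalPts

lemma lift_ringHom {κ L M : Type*} [Field κ] [Field L] [Field M] [IsAlgClosed M]
    (a : κ →+* L) (b : κ →+* M) (halg : a.IsIntegral) : ∃ g : L →+* M, g.comp a = b := by
  letI : Algebra κ L := a.toAlgebra
  letI : Algebra κ M := b.toAlgebra
  have : Algebra.IsIntegral κ L := ⟨halg⟩
  have : Algebra.IsAlgebraic κ L := inferInstance
  let g : L →ₐ[κ] M := IsAlgClosed.lift
  refine ⟨g.toRingHom, ?_⟩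
  ext r
  exact g.commutes r

/-- Two embeddings over `k` of a field `κ` into an algebraic closure of `k` differ by an automorphism. -/
lemma exists_aut {k κ K : Type*} [Field k] [Field κ] [Field K] [Algebra k K] [IsAlgClosure k K]
    (ψ : k →+* κ) (α β : κ →+* K) (hα : α.comp ψ = algebraMap k K)
    (hβ : β.comp ψ = algebraMap k K) :
    ∃ σ : K ≃ₐ[k] K, (σ : K →+* K).comp α = β := by
  have : IsAlgClosed K := IsAlgClosure.isAlgClosed k
  have : Algebra.IsAlgebraic k K := IsAlgClosure.isAlgebraic
  have hint : α.IsIntegral := by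
    have h1 : (algebraMap k K).IsIntegral := fun x => Algebra.IsIntegral.isIntegral x
    rw [← hα] at h1
    exact RingHom.IsIntegral.tower_top ψ α h1
  obtain ⟨g, hg⟩ := lift_ringHom α β hint
  let gk : K →ₐ[k] K :=
    { toRingHom := g
      commutes' := fun r => by
        show g (algebraMap k K r) = algebraMap k K r
        have e1 : algebraMap k K r = α (ψ r) := by rw [← RingHom.comp_apply, hα]
        have e2 : algebraMap k K r = β (ψ r) := by rw [← RingHom.comp_apply, hβ]
        rw [e1, ← RingHom.comp_apply g, hg, ← e1, e2] }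
  have hbij : Function.Bijective gk := Algebra.IsAlgebraic.algHom_bijective gk
  refine ⟨AlgEquiv.ofBijective gk hbij, ?_⟩
  ext r
  exact congrArg (fun h : κ →+* K => h r) hg

/-- The kernel of a `k`-hom into an algebraic extension of `k` is maximal. -/
lemma ker_isMaximal {k A K : Type*} [Field k] [CommRing A] [Field K] [Algebra k K]
    [Algebra.IsAlgebraic k K] (ψ : k →+* A) (φ : A →+* K)
    (h : φ.comp ψ = algebraMap k K) : (RingHom.ker φ).IsMaximal := by
  letI : Algebra k A := ψ.toAlgebra
  let φ' : A →ₐ[k] K :=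
    { toRingHom := φ
      commutes' := fun r => by
        show φ (ψ r) = _
        rw [← RingHom.comp_apply, h] }
  have hF : IsField φ'.range := Subalgebra.isField_of_algebraic φ'.range
  letI := hF.toField
  have hs : Function.Surjective φ'.rangeRestrict := φ'.rangeRestrict_surjective
  have := RingHom.ker_isMaximal_of_surjective (φ'.rangeRestrict : A →+* φ'.range) hs
  have hk : RingHom.ker φ = RingHom.ker (φ'.rangeRestrict : A →+* φ'.range) := by
    ext a
    rw [RingHom.mem_ker, RingHom.mem_ker]
    constructor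
    · intro ha
      apply Subtype.ext
      exact ha
    · intro ha
      exact congrArg Subtype.val ha
  rw [hk]
  exact this

end Groth.Agent.Helper16.GalPts

namespace Groth.Agent.Helper16.GalPts

/-- A `K`-point factors through the residue field of its image. -/
lemma exists_factor {K : Type u} [Field K] {X : Scheme.{u}} (p : Spec (CommRingCat.of K) ⟶ X)
    (x : X) (hx : p (IsLocalRing.closedPoint K) = x) :
    ∃ α : X.residueField x ⟶ CommRingCat.of K, p = Spec.map α ≫ X.fromSpecResidueField x := by
  subst hx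
  exact ⟨_, (Scheme.descResidueField_stalkClosedPointTo_fromSpecResidueField K X p).symm⟩

variable (k K : Type u) [Field k] [Field K] [Algebra k K] [IsAlgClosure k K] {X : Scheme.{u}}
  (f : X ⟶ Spec (CommRingCat.of k)) [LocallyOfFiniteType f]

include k in
lemma isClosed_of_point (p : Spec (CommRingCat.of K) ⟶ X)
    (hp : p ≫ f = Spec.map (CommRingCat.ofHom (algebraMap k K))) :
    IsClosed ({p (IsLocalRing.closedPoint K)} : Set X) := by
  have : Algebra.IsAlgebraic k K := IsAlgClosure.isAlgebraic
  have : JacobsonSpace X := LocallyOfFiniteType.jacobsonSpace f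
  apply isClosed_singleton_of_isLocallyClosed_singleton
  set x := p (IsLocalRing.closedPoint K) with hxdef
  obtain ⟨U, hU, hxU⟩ : ∃ U : X.Opens, IsAffineOpen U ∧ x ∈ U := by
    obtain ⟨W, hxW⟩ := TopologicalSpace.Opens.mem_iSup.mp
      (show x ∈ ⨆ i, ((X.affineCover.f i).opensRange) by
        rw [Scheme.OpenCover.iSup_opensRange]; trivial)
    exact ⟨_, isAffineOpen_opensRange _, hxW⟩
  have hrange : Set.range p ⊆ Set.range hU.fromSpec := by
    rintro _ ⟨y, rfl⟩
    rw [hU.range_fromSpec]
    have : y = IsLocalRing.closedPoint K := Subsingleton.elim _ _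
    rw [this]; exact hxU
  let p' := IsOpenImmersion.lift hU.fromSpec p hrange
  have hp' : p' ≫ hU.fromSpec = p := IsOpenImmersion.lift_fac _ _ _
  obtain ⟨φ, hφ⟩ := Spec.map_surjective p'
  obtain ⟨ψ, hψ⟩ := Spec.map_surjective (hU.fromSpec ≫ f)
  have hcomp : ψ ≫ φ = CommRingCat.ofHom (algebraMap k K) := by
    apply Spec.map_injective
    rw [Spec.map_comp, hφ, hψ, ← Category.assoc, hp', hp]
  have hcomp' : φ.hom.comp ψ.hom = algebraMap k K := by
    rw [← CommRingCat.hom_comp, hcomp]; rfl
  have hmax := ker_isMaximal ψ.hom φ.hom hcomp'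
  -- the point of `Spec Γ(X, U)`
  set y := p' (IsLocalRing.closedPoint K) with hy
  have hyx : hU.fromSpec y = x := by
    rw [hy, ← Scheme.Hom.comp_apply, hp']
  have hyker : y.asIdeal = RingHom.ker φ.hom := by
    rw [hy, ← hφ]
    show Ideal.comap φ.hom (IsLocalRing.maximalIdeal K) = _
    rw [RingHom.ker_eq_comap_bot, IsLocalRing.maximalIdeal_eq_bot]
  have hyc : IsClosed ({y} : Set (Spec Γ(X, U))) := by
    refine (PrimeSpectrum.isClosed_singleton_iff_isMaximal y).mpr ?_
    rw [hyker]
    exact hmax
  have := hyc.isLocallyClosed.image hU.fromSpec.isOpenEmbedding.isInducing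
    hU.fromSpec.isOpenEmbedding.isOpen_range.isLocallyClosed
  rwa [Set.image_singleton, hyx] at this

include k in
lemma exists_point_of_isClosed (x : X) (hx : IsClosed ({x} : Set X)) :
    ∃ p : Spec (CommRingCat.of K) ⟶ X, p ≫ f = Spec.map (CommRingCat.ofHom (algebraMap k K)) ∧
      p (IsLocalRing.closedPoint K) = x := by
  have : IsAlgClosed K := IsAlgClosure.isAlgClosed k
  have : JacobsonSpace X := LocallyOfFiniteType.jacobsonSpace f
  have hci := isClosed_singleton_iff_isClosedImmersion.mp hx
  have hfin : IsFinite (X.fromSpecResidueField x ≫ f) := by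
    rw [isFinite_iff_locallyOfFiniteType_of_jacobsonSpace]
    infer_instance
  obtain ⟨ψ, hψ⟩ := Spec.map_surjective (X.fromSpecResidueField x ≫ f)
  rw [← hψ, IsFinite.SpecMap_iff] at hfin
  obtain ⟨α, hα⟩ := lift_ringHom ψ.hom (algebraMap k K) hfin.to_isIntegral
  refine ⟨Spec.map (CommRingCat.ofHom α) ≫ X.fromSpecResidueField x, ?_, ?_⟩
  · rw [Category.assoc, ← hψ, ← Spec.map_comp]
    congr 1
    ext r
    exact congrArg (fun h : k →+* K => h r) hα
  · rw [Scheme.Hom.comp_apply, Scheme.fromSpecResidueField_apply]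

include k in
lemma eq_comp_aut_of_apply_eq (p q : Spec (CommRingCat.of K) ⟶ X)
    (hp : p ≫ f = Spec.map (CommRingCat.ofHom (algebraMap k K)))
    (hq : q ≫ f = Spec.map (CommRingCat.ofHom (algebraMap k K)))
    (h : p (IsLocalRing.closedPoint K) = q (IsLocalRing.closedPoint K)) :
    ∃ σ : K ≃ₐ[k] K, q = Spec.map (CommRingCat.ofHom σ.toRingHom) ≫ p := by
  obtain ⟨α, hα⟩ := exists_factor p _ rfl
  obtain ⟨β, hβ⟩ := exists_factor q _ h.symm
  obtain ⟨ψ, hψ⟩ := Spec.map_surjective
    (X.fromSpecResidueField (p (IsLocalRing.closedPoint K)) ≫ f)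
  have h1 : ψ ≫ α = CommRingCat.ofHom (algebraMap k K) := by
    apply Spec.map_injective
    rw [Spec.map_comp, hψ, ← Category.assoc, ← hα, hp]
  have h2 : ψ ≫ β = CommRingCat.ofHom (algebraMap k K) := by
    apply Spec.map_injective
    rw [Spec.map_comp, hψ, ← Category.assoc, ← hβ, hq]
  have h1' : α.hom.comp ψ.hom = algebraMap k K := by
    rw [← CommRingCat.hom_comp, h1]; rfl
  have h2' : β.hom.comp ψ.hom = algebraMap k K := by
    rw [← CommRingCat.hom_comp, h2]; rfl
  obtain ⟨σ, hσ⟩ := exists_aut ψ.hom α.hom β.hom h1' h2'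
  refine ⟨σ, ?_⟩
  have : β = α ≫ CommRingCat.ofHom σ.toRingHom := by
    ext r
    exact (congrArg (fun h : _ →+* K => h r) hσ).symm
  rw [hβ, this, Spec.map_comp, Category.assoc, ← hα]

end Groth.Agent.Helper16.GalPts
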