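import Mathlib

set_option autoImplicit false
set_option linter.style.haveILetI false
universe u

namespace Groth.Agent.Helper16.GenCC

/-- A space covered by finitely many pairwise disjoint nonempty closed sets indexed by `I` has at
least `|I|` connected components. -/
theorem card_le_card_connectedComponents {α : Type*} [TopologicalSpace α] {I : Type*} [Finite I]
    (T : I → Set α) (hc : ∀ i, IsClosed (T i)) (hcov : ∀ x, ∃ i, x ∈ T i)
    (hdisj : ∀ i j x, x ∈ T i → x ∈ T j → i = j) (hne : ∀ i, (T i).Nonempty) :
    ENat.card I ≤ ENat.card (ConnectedComponents α) := by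
  classical
  letI : TopologicalSpace I := ⊥
  haveI : DiscreteTopology I := ⟨rfl⟩
  choose φ hφ using hcov
  have hφ' : ∀ x i, x ∈ T i → φ x = i := fun x i hx => hdisj _ _ x (hφ x) hx
  have hpre : ∀ i, φ ⁻¹' {i} = T i := by
    intro i
    ext x
    constructor
    · intro hx
      have : φ x = i := hx
      rw [← this]; exact hφ x
    · intro hx
      exact hφ' x i hx
  have hcont : Continuous φ := by
    rw [continuous_discrete_rng]
    intro i
    have : φ ⁻¹' {i} = (⋃ j : {j : I // j ≠ i}, T j.1)ᶜ := by
      ext x
      simp only [Set.mem_preimage, Set.mem_singleton_iff, Set.mem_compl_iff, Set.mem_iUnion,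
        not_exists]
      constructor
      · intro hx j hxj
        exact j.2 ((hφ' x j.1 hxj).symm.trans hx)
      · intro hx
        by_contra hne
        exact hx ⟨φ x, hne⟩ (hφ x)
    rw [this]
    exact (isClosed_iUnion_of_finite fun j : {j : I // j ≠ i} => hc j.1).isOpen_compl
  have hsurj : Function.Surjective hcont.connectedComponentsLift := by
    intro i
    obtain ⟨x, hx⟩ := hne i
    exact ⟨(x : ConnectedComponents α), hφ' x i hx⟩
  exact ENat.card_le_card_of_injective (Function.injective_surjInv hsurj)

/-- In an irreducible space, a finite family of nonempty opens contains a common nonempty open. -/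
theorem exists_open_le_of_finite {Y : Type*} [TopologicalSpace Y] [IrreducibleSpace Y]
    {J : Type*} [Finite J] (V : J → TopologicalSpace.Opens Y) (hV : ∀ j, (V j : Set Y).Nonempty) :
    ∃ W : TopologicalSpace.Opens Y, (W : Set Y).Nonempty ∧ ∀ j, W ≤ V j := by
  refine ⟨⟨⋂ j, (V j : Set Y), isOpen_iInter_of_finite fun j => (V j).isOpen⟩, ?_, ?_⟩
  · have h := isIrreducible_iff_sInter.mp (IrreducibleSpace.isIrreducible_univ Y)
    have hfin : (Set.range fun j => (V j : Set Y)).Finite := Set.finite_range _
    have := h hfin.toFinset (by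
      intro u hu
      rw [Set.Finite.mem_toFinset] at hu
      obtain ⟨j, rfl⟩ := hu
      exact (V j).isOpen) (by
      intro u hu
      rw [Set.Finite.mem_toFinset] at hu
      obtain ⟨j, rfl⟩ := hu
      rw [Set.univ_inter]; exact hV j)
    rw [Set.univ_inter] at this
    obtain ⟨y, hy⟩ := this
    refine ⟨y, ?_⟩
    simp only [TopologicalSpace.Opens.coe_mk, Set.mem_iInter]
    intro j
    exact hy _ (by rw [Set.Finite.coe_toFinset]; exact ⟨j, rfl⟩)
  · intro j y hy
    simp only [TopologicalSpace.Opens.mem_mk, Set.mem_iInter] at hy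
    exact hy j

end Groth.Agent.Helper16.GenCC
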