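import Mathlib
import Groth.Agent.Lib.Helper16.Sch.GenCC1
import Groth.Agent.Lib.Helper16.Sch.GenSurj4

set_option autoImplicit false
set_option linter.style.haveILetI false
universe u
open CategoryTheory CategoryTheory.Limits AlgebraicGeometry Opposite TopologicalSpace

noncomputable section

namespace Groth.Agent.Helper16.GenCC

open Groth.Agent.Helper16.GenPt Groth.Agent.Helper16.GenSurj

theorem main {X Y : Scheme.{u}} (f : X ⟶ Y) [IrreducibleSpace Y] [LocallyOfFiniteType f]
    [QuasiCompact f] (n : ℕ)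
    (h : ENat.card (_root_.ConnectedComponents (f.fiber (genericPoint Y))) = n) :
    ∃ V : Y.Opens, (V : Set Y).Nonempty ∧
      ∀ y ∈ V, (n : ℕ∞) ≤ ENat.card (_root_.ConnectedComponents (f.fiber y)) := by
  set η := genericPoint Y with hη
  let I := _root_.ConnectedComponents (f.fiber η)
  haveI hfin : Finite I := by
    by_contra hinf
    rw [not_finite_iff_infinite] at hinf
    have : ENat.card I = ⊤ := ENat.card_eq_top_of_infinite
    rw [h] at this
    exact ENat.natCast_ne_top n this
  have hι : Topology.IsEmbedding (f.fiberι η) := (f.fiberι η).isEmbedding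
  have hrange : ∀ y, Set.range (f.fiberι y) = f ⁻¹' {y} := fun y => f.range_fiberι y
  let C : I → Set (f.fiber η) := fun c => _root_.ConnectedComponents.mk ⁻¹' {c}
  have hCc : ∀ c, IsClosed (C c) := by
    intro c
    obtain ⟨z, rfl⟩ := _root_.ConnectedComponents.surjective_coe c
    show IsClosed (_root_.ConnectedComponents.mk ⁻¹' {_root_.ConnectedComponents.mk z})
    rw [connectedComponents_preimage_singleton]
    exact isClosed_connectedComponent
  let T : I → Set X := fun c => closure (f.fiberι η '' C c)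
  have hTc : ∀ c, IsClosed (T c) := fun c => isClosed_closure
  have key : ∀ c z, f.fiberι η z ∈ T c → _root_.ConnectedComponents.mk z = c := by
    intro c z hz
    have h1 : z ∈ closure (C c) := by
      rw [hι.closure_eq_preimage_closure_image]; exact hz
    rw [(hCc c).closure_eq] at h1
    exact h1
  have hmem : ∀ z, f.fiberι η z ∈ T (_root_.ConnectedComponents.mk z) := fun z =>
    subset_closure ⟨z, rfl, rfl⟩
  have hfib : ∀ (y : Y) (x : X), f x = y → ∃ z, f.fiberι y z = x := by
    intro y x hx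
    have : x ∈ Set.range (f.fiberι y) := by rw [hrange]; exact hx
    exact this
  -- V₁
  obtain ⟨V₁, hV₁, H₁⟩ := exists_open_forall_exists_specializes f
  have H₁' : ∀ x, f x ∈ V₁ → ∃ c, x ∈ T c := by
    intro x hx
    obtain ⟨x', hx', hfx'⟩ := H₁ x hx
    obtain ⟨z, rfl⟩ := hfib η x' hfx'
    exact ⟨_, hx'.mem_closed (hTc _) (hmem z)⟩
  -- V₂
  have H₂ : ∀ p : {p : I × I // p.1 ≠ p.2}, ∃ V : Y.Opens, (V : Set Y).Nonempty ∧
      ∀ x ∈ T p.1.1 ∩ T p.1.2, f x ∉ V := by
    intro p
    apply exists_open_forall_mem_closed_not_mem f _ ((hTc _).inter (hTc _))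
    intro x hx hfx
    obtain ⟨z, rfl⟩ := hfib η x hfx
    exact p.2 ((key _ z hx.1).symm.trans (key _ z hx.2))
  choose V₂ hV₂ H₂ using H₂
  -- V₃
  have H₃ : ∀ c : I, ∃ V : Y.Opens, (V : Set Y).Nonempty ∧
      ∀ y ∈ V, ∃ x ∈ T c, x ∈ (⊤ : X.Opens) ∧ f x = y := by
    intro c
    apply exists_open_forall_exists_mem_locallyClosed f (T c) (hTc c) ⊤
    obtain ⟨z, rfl⟩ := _root_.ConnectedComponents.surjective_coe c
    refine ⟨f.fiberι η z, hmem z, trivial, ?_⟩
    have : f.fiberι η z ∈ f ⁻¹' {η} := by rw [← hrange]; exact ⟨z, rfl⟩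
    exact this
  choose V₃ hV₃ H₃ using H₃
  -- combine
  let J := Option (({p : I × I // p.1 ≠ p.2}) ⊕ I)
  let VV : J → Y.Opens := fun j => match j with
    | none => V₁
    | some (Sum.inl p) => V₂ p
    | some (Sum.inr c) => V₃ c
  have hVV : ∀ j, (VV j : Set Y).Nonempty := by
    intro j
    match j with
    | none => exact hV₁
    | some (Sum.inl p) => exact hV₂ p
    | some (Sum.inr c) => exact hV₃ c
  obtain ⟨W, hW, hWle⟩ := exists_open_le_of_finite VV hVV
  refine ⟨W, hW, fun y hy => ?_⟩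
  rw [← h]
  apply card_le_card_connectedComponents (fun c : I => f.fiberι y ⁻¹' T c)
  · intro c
    exact (hTc c).preimage (f.fiberι y).continuous
  · intro z
    have hz : f (f.fiberι y z) = y := by
      have : f.fiberι y z ∈ f ⁻¹' {y} := by rw [← hrange]; exact ⟨z, rfl⟩
      exact this
    apply H₁'
    rw [hz]
    exact hWle none hy
  · intro c c' z hzc hzc'
    by_contra hne
    have hz : f (f.fiberι y z) = y := by
      have : f.fiberι y z ∈ f ⁻¹' {y} := by rw [← hrange]; exact ⟨z, rfl⟩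
      exact this
    apply H₂ ⟨(c, c'), hne⟩ (f.fiberι y z) ⟨hzc, hzc'⟩
    rw [hz]
    exact hWle (some (Sum.inl ⟨(c, c'), hne⟩)) hy
  · intro c
    obtain ⟨x, hxT, -, hfx⟩ := H₃ c y (hWle (some (Sum.inr c)) hy)
    obtain ⟨z, rfl⟩ := hfib y x hfx
    exact ⟨z, hxT⟩

end Groth.Agent.Helper16.GenCC
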