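import Mathlib
import Groth.Prelude.Def_MoreMor
import Groth.Prelude.Def_Flat
import Groth.Agent.Lib.Helper16.Sch.CMDim
import Groth.Agent.Lib.Helper16.Sch.QFCodim

set_option autoImplicit false
set_option linter.style.haveILetI false
set_option linter.unusedSectionVars false
universe u

open CategoryTheory AlgebraicGeometry Limits

namespace Groth.Agent.Helper16.GenFibDim

open Groth.Agent.Helper16.QFCodim

/-- a generic point of an irreducible component has no proper generization. -/
theorem noGen_of_isGenericPoint {T : Type*} [TopologicalSpace T] [T0Space T] (ξ : T)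
    (h : ∃ Z ∈ irreducibleComponents T, IsGenericPoint ξ Z) : NoGen ξ := by
  obtain ⟨Z, hZ, hξ⟩ := h
  intro x' hx'
  have hcl : closure ({ξ} : Set T) = Z := hξ
  have h1 : Z ≤ closure ({x'} : Set T) := by
    rw [← hcl]; exact specializes_iff_closure_subset.1 hx'
  have h2 : closure ({x'} : Set T) ≤ Z := hZ.2 isIrreducible_singleton.closure h1
  rw [← hcl] at h2
  have h3 : ξ ⤳ x' := specializes_iff_closure_subset.2 h2
  exact (h3.antisymm hx').eq.symm

/-- the local ring of a locally Noetherian scheme at a point without proper generizations is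
Artinian. -/
theorem isArtinianRing_stalk_of_noGen (F : Scheme.{u}) [IsLocallyNoetherian F] (ξ : F)
    (h : NoGen ξ) : IsArtinianRing (F.presheaf.stalk ξ) := by
  have h0 : ringKrullDim (F.presheaf.stalk ξ) = 0 := (noGen_iff_ringKrullDim_stalk ξ).2 h
  haveI : Ring.KrullDimLE 0 (F.presheaf.stalk ξ) :=
    ringKrullDimZero_iff_ringKrullDim_eq_zero.mpr h0
  exact isArtinianRing_iff_krullDimLE_zero.mpr inferInstance

/-- a morphism locally of finite type which is flat at a generic point of a fibre component is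
Cohen–Macaulay there. -/
theorem isCMAt_of_generic {X S : Scheme.{u}} (f : X ⟶ S) [LocallyOfFiniteType f] (s : S)
    (ξ : f.fiber s) (hgen : ∃ Z ∈ irreducibleComponents ↥(f.fiber s), IsGenericPoint ξ Z)
    (hfl : (f.stalkMap (f.fiberι s ξ)).hom.Flat) : MoreMor.IsCMAt f (f.fiberι s ξ) := by
  refine ⟨hfl, ?_⟩
  haveI : IsLocallyNoetherian (f.fiber s) :=
    Groth.Agent.Helper14.SectionComp.isLocallyNoetherian_fiber f s
  haveI hA : IsArtinianRing ((f.fiber s).presheaf.stalk ξ) :=
    isArtinianRing_stalk_of_noGen _ ξ (noGen_of_isGenericPoint ξ hgen)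
  have hcm := Groth.Agent.Helper16.CMSch.isCM_of_isArtinianRing ((f.fiber s).presheaf.stalk ξ)
  have e1 := Groth.Agent.Helper16.FibStalk.quotEquivStalkFiberOfEq f s ξ (f.fiberι s ξ) rfl
  have e2 := Groth.Agent.Helper16.FibStalk.fibStalkEquiv f (f.fiberι s ξ)
  exact Groth.Agent.Helper16.FibCM.isCM_of_ringEquiv (e1.symm.trans e2) 

/-- **Key local statement.** For `f` flat and locally of finite presentation, the local fibre
dimension is constant on a neighbourhood of each generic point of a fibre component. -/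
theorem exists_open_fibreDimAt_eq {X S : Scheme.{u}} (f : X ⟶ S) [Flat f]
    [LocallyOfFinitePresentation f] (s : S) (ξ : f.fiber s)
    (hgen : ∃ Z ∈ irreducibleComponents ↥(f.fiber s), IsGenericPoint ξ Z) :
    ∃ (U : X.Opens) (n : ℕ), f.fiberι s ξ ∈ U ∧ ∀ y ∈ U, FlatMor.fibreDimAt f y = (n : WithBot ℕ∞) := by
  have hcm := isCMAt_of_generic f s ξ hgen (Flat.stalkMap f _)
  obtain ⟨n, U, hxU, g, hcomm, hqf, hflat⟩ :=
    Groth.Agent.Helper16.CMSch.exists_qf_flat_to_affineSpace f _ hcm
  refine ⟨U, n, hxU, fun y hy => ?_⟩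
  exact Groth.Agent.Helper16.CMSch.fibreDimAt_eq_of_qf_flat f n U g hcomm y hy
    (Flat.stalkMap g ⟨y, hy⟩)

end Groth.Agent.Helper16.GenFibDim
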