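import Mathlib
import Groth.Agent.Lib.Helper2.GenericFreeMain

set_option autoImplicit false
set_option linter.style.haveILetI false
universe u

namespace Groth.Agent.Helper16.GenGR

open Groth.Agent.Helper2.GenericFree TensorProduct
open scoped nonZeroDivisors

attribute [local instance] Algebra.TensorProduct.rightAlgebra
attribute [local instance] FractionRing.liftAlgebra

/-- an element of `B` dying in `K ⊗ B` for a field `K` containing the domain `A` is torsion -/
theorem exists_smul_eq_zero_of_tmul_eq_zero {A K B : Type u} [CommRing A] [IsDomain A] [Field K]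
    [Algebra A K] [FaithfulSMul A K] [CommRing B] [Algebra A B] (c : B)
    (h : (1 : K) ⊗ₜ[A] c = 0) : ∃ a : A, a ≠ 0 ∧ algebraMap A B a * c = 0 := by
  obtain ⟨r, hr⟩ := LinearMap.exists_leftInverse_of_injective
    (Algebra.linearMap (FractionRing A) K)
    (LinearMap.ker_eq_bot.mpr (algebraMap (FractionRing A) K).injective)
  let rA : K →ₗ[A] FractionRing A := r.restrictScalars A
  have h1 : (LinearMap.rTensor B rA) ((1 : K) ⊗ₜ[A] c) = (1 : FractionRing A) ⊗ₜ[A] c := by
    rw [LinearMap.rTensor_tmul]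
    congr 1
    have := LinearMap.congr_fun hr (1 : FractionRing A)
    have h0 : r 1 = 1 := by simpa using this
    exact h0
  rw [h, map_zero] at h1
  haveI : IsLocalization (Algebra.algebraMapSubmonoid B A⁰) (FractionRing A ⊗[A] B) :=
    inferInstance
  have h2 : algebraMap B (FractionRing A ⊗[A] B) c = 0 := h1.symm
  rw [IsLocalization.map_eq_zero_iff (Algebra.algebraMapSubmonoid B A⁰)] at h2
  obtain ⟨⟨_, a, ha, rfl⟩, hm⟩ := h2
  exact ⟨a, nonZeroDivisors.ne_zero ha, hm⟩

end Groth.Agent.Helper16.GenGR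

namespace Groth.Agent.Helper16.GenGR

open Groth.Agent.Helper2.GenericFree TensorProduct
open scoped nonZeroDivisors

/-- Generic non-reducedness over a domain, for a nilpotent of the form `1 ⊗ b` in `K ⊗ B` with `K`
any field containing `A`. -/
theorem not_isReduced_tensor_of_nilpotent {A K B : Type u} [CommRing A] [IsDomain A] [Field K]
    [Algebra A K] [FaithfulSMul A K] [CommRing B] [Algebra A B] [Algebra.FiniteType A B] (b : B)
    (hnil : IsNilpotent ((1 : K) ⊗ₜ[A] b)) (hne : (1 : K) ⊗ₜ[A] b ≠ 0) :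
    ∃ a : A, a ≠ 0 ∧ ∀ (L : Type u) [Field L] [Algebra A L], algebraMap A L a ≠ 0 →
      ¬ IsReduced (L ⊗[A] B) := by
  obtain ⟨n, hn⟩ := hnil
  rw [Algebra.TensorProduct.tmul_pow, one_pow] at hn
  obtain ⟨a₁, ha₁0, hm⟩ := exists_smul_eq_zero_of_tmul_eq_zero (K := K) (b ^ n) hn
  have htors : ∀ a : A, a ≠ 0 → algebraMap A B a * b ≠ 0 := by
    intro a ha h0
    apply hne
    have hinj : algebraMap A K a ≠ 0 := by
      intro h
      exact ha ((map_eq_zero_iff _ (FaithfulSMul.algebraMap_injective A K)).mp h)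
    have h1 : ((algebraMap A K a)⁻¹ : K) ⊗ₜ[A] (a • b) = 0 := by
      rw [Algebra.smul_def, h0, tmul_zero]
    rw [TensorProduct.tmul_smul, TensorProduct.smul_tmul', Algebra.smul_def,
      mul_inv_cancel₀ hinj] at h1
    exact h1
  obtain ⟨f, hf0, hf⟩ := exists_gfree (R := A) B B
  haveI := hf.free_localizedModule
  let e := Module.Free.chooseBasis (Localization.Away f) (LocalizedModule.Away f B)
  have hb'0 : LocalizedModule.mkLinearMap (Submonoid.powers f) B b ≠ 0 := by
    intro h0
    rw [LocalizedModule.mkLinearMap_apply, ← LocalizedModule.zero_mk 1, LocalizedModule.mk_eq] at h0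
    obtain ⟨⟨_, k, rfl⟩, hk⟩ := h0
    simp only [one_smul, smul_zero, Submonoid.smul_def] at hk
    exact htors (f ^ k) (pow_ne_zero k hf0) (by rw [← Algebra.smul_def]; exact hk)
  obtain ⟨i, hi⟩ : ∃ i, e.repr (LocalizedModule.mkLinearMap (Submonoid.powers f) B b) i ≠ 0 := by
    by_contra hcon
    push Not at hcon
    apply hb'0
    apply e.repr.injective
    ext i
    rw [hcon i, map_zero, Finsupp.zero_apply]
  obtain ⟨⟨c, ⟨_, m, rfl⟩⟩, hc⟩ := IsLocalization.surj (Submonoid.powers f)
    (e.repr (LocalizedModule.mkLinearMap (Submonoid.powers f) B b) i)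
  have hc0 : c ≠ 0 := by
    rintro rfl
    rw [map_zero] at hc
    exact hi ((IsLocalization.map_units (Localization.Away f)
      (⟨f ^ m, m, rfl⟩ : Submonoid.powers f)).mul_left_eq_zero.mp hc)
  refine ⟨a₁ * f * c, mul_ne_zero (mul_ne_zero ha₁0 hf0) hc0, ?_⟩
  intro L _ _ haL hred
  rw [map_mul, map_mul] at haL
  have ha₁L : algebraMap A L a₁ ≠ 0 := fun h => haL (by rw [h, zero_mul, zero_mul])
  have hfL : algebraMap A L f ≠ 0 := fun h => haL (by rw [h, mul_zero, zero_mul])
  have hcL : algebraMap A L c ≠ 0 := fun h => haL (by rw [h, mul_zero])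
  have hnilL : ((1 : L) ⊗ₜ[A] b) ^ n = 0 := by
    rw [Algebra.TensorProduct.tmul_pow, one_pow]
    have h1 : ((algebraMap A L a₁)⁻¹ : L) ⊗ₜ[A] (a₁ • b ^ n) = 0 := by
      rw [Algebra.smul_def, hm, tmul_zero]
    rw [TensorProduct.tmul_smul, TensorProduct.smul_tmul', Algebra.smul_def,
      mul_inv_cancel₀ ha₁L] at h1
    exact h1
  have h10 : ((1 : L) ⊗ₜ[A] b) = 0 := hred.eq_zero _ ⟨n, hnilL⟩
  let ψ : Localization.Away f →ₐ[A] L :=
    IsLocalization.liftAlgHom (M := Submonoid.powers f) (f := Algebra.ofId A L)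
      (by rintro ⟨_, k, rfl⟩; simpa using (pow_ne_zero k hfL).isUnit)
  let lam : B →ₗ[A] L := ψ.toLinearMap ∘ₗ ((e.coord i).restrictScalars A) ∘ₗ
    (LocalizedModule.mkLinearMap (Submonoid.powers f) B)
  have hlam : lam b ≠ 0 := by
    intro h0
    have h2 : ψ (e.repr (LocalizedModule.mkLinearMap (Submonoid.powers f) B b) i) = 0 := h0
    have h3 := congrArg ψ hc
    rw [map_mul, h2, zero_mul] at h3
    have h4 : ψ (algebraMap A (Localization.Away f) c) = algebraMap A L c := ψ.commutes c
    rw [h4] at h3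
    exact hcL h3.symm
  let Lam : L ⊗[A] B →ₗ[A] L := LinearMap.mul' A L ∘ₗ LinearMap.lTensor L lam
  have hLam : Lam ((1 : L) ⊗ₜ[A] b) = lam b := by
    simp [Lam]
  rw [h10, map_zero] at hLam
  exact hlam hLam.symm

end Groth.Agent.Helper16.GenGR
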