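import Mathlib
import Groth.Agent.Lib.Helper16.Sch.GenGR1
import Groth.Agent.Lib.Helper16.Sch.GenSurj2

set_option autoImplicit false
set_option linter.style.haveILetI false
universe u

namespace Groth.Agent.Helper16.GenGR

open TensorProduct Groth.Agent.Helper16.GenSurj
open scoped nonZeroDivisors

theorem exists_forall_prime_not_isReduced {R K B : Type u} [CommRing R] [Field K] [Algebra R K]
    [CommRing B] [Algebra R B] [Algebra.FiniteType R B]
    (hn : (nilradical R).IsPrime) (h1 : ∀ r : R, algebraMap R K r = 0 → IsNilpotent r)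
    (h : ¬ IsReduced (K ⊗[R] B)) :
    ∃ a : R, ¬ IsNilpotent a ∧ ∀ p : Ideal R, p.IsPrime → a ∉ p →
      ∃ (L : Type u) (_ : Field L) (φ : R →+* L), RingHom.ker φ = p ∧
        (letI := φ.toAlgebra; ¬ IsReduced (L ⊗[R] B)) := by
  classical
  obtain ⟨ξ, hξnil, hξ0⟩ : ∃ ξ : K ⊗[R] B, IsNilpotent ξ ∧ ξ ≠ 0 := by
    by_contra hcon
    push Not at hcon
    exact h ⟨fun x hx => hcon x hx⟩
  obtain ⟨S, hS⟩ := TensorProduct.exists_finset ξ
  let A' : Subalgebra R K := Algebra.adjoin R ((S.image Prod.fst : Finset K) : Set K)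
  have hmem : ∀ i ∈ S, i.1 ∈ A' := fun i hi =>
    Algebra.subset_adjoin (Finset.mem_coe.mpr (Finset.mem_image_of_mem Prod.fst hi))
  haveI : Algebra.FiniteType R A' :=
    (Subalgebra.fg_iff_finiteType A').mp (Subalgebra.fg_adjoin_finset _)
  let ξ' : A' ⊗[R] B := ∑ i ∈ S.attach, (⟨i.1.1, hmem i.1 i.2⟩ : A') ⊗ₜ[R] i.1.2
  let e := Algebra.TensorProduct.cancelBaseChange R A' K K B
  have heξ : e ((1 : K) ⊗ₜ[A'] ξ') = ξ := by
    rw [hS]
    simp only [ξ', tmul_sum, map_sum, e, Algebra.TensorProduct.cancelBaseChange_tmul]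
    rw [← Finset.sum_attach S (fun i => i.1 ⊗ₜ[R] i.2)]
    refine Finset.sum_congr rfl (fun i _ => ?_)
    congr 1
    show (⟨i.1.1, hmem i.1 i.2⟩ : A') • (1 : K) = i.1.1
    rw [Subalgebra.smul_def, smul_eq_mul, mul_one]
  have hnil' : IsNilpotent ((1 : K) ⊗ₜ[A'] ξ') := by
    obtain ⟨n, hn⟩ := hξnil
    refine ⟨n, e.injective ?_⟩
    rw [map_pow, heξ, hn, map_zero]
  have hne' : (1 : K) ⊗ₜ[A'] ξ' ≠ 0 := by
    intro h0
    apply hξ0
    rw [← heξ, h0, map_zero]
  obtain ⟨a', ha'0, Ha'⟩ := not_isReduced_tensor_of_nilpotent (A := A') (K := K) ξ' hnil' hne'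
  -- the localization
  let C := Localization.Away a'
  haveI : IsDomain C := IsLocalization.isDomain_localization
    (powers_le_nonZeroDivisors_of_noZeroDivisors ha'0)
  haveI : Algebra.FiniteType R C :=
    inferInstanceAs (Algebra.FiniteType R (Localization (Submonoid.powers a')))
  have hinjC : Function.Injective (algebraMap A' C) :=
    IsLocalization.injective C (powers_le_nonZeroDivisors_of_noZeroDivisors ha'0)
  have hq : ∃ q : Ideal C, q.IsPrime ∧ q.comap (algebraMap R C) = nilradical R := by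
    refine ⟨⊥, Ideal.isPrime_bot, ?_⟩
    ext r
    rw [Ideal.mem_comap, Ideal.mem_bot, mem_nilradical, IsScalarTower.algebraMap_apply R A' C,
      map_eq_zero_iff _ hinjC]
    constructor
    · intro h0
      apply h1
      have := congrArg (algebraMap A' K) h0
      rwa [← IsScalarTower.algebraMap_apply, map_zero] at this
    · intro hr
      have h2 : IsNilpotent (algebraMap R A' r) := hr.map _
      exact h2.eq_zero
  obtain ⟨a, ha, Ha⟩ := exists_forall_exists_comap_eq_of_nilradical R C hn hq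
  refine ⟨a, fun hnil => ha (mem_nilradical.mpr hnil), fun p hp hap => ?_⟩
  obtain ⟨q, hq, hqp⟩ := Ha p hp hap
  obtain ⟨L, _, g, hg⟩ : ∃ (L : Type u) (_ : Field L) (g : C →+* L), RingHom.ker g = q := by
    refine ⟨FractionRing (C ⧸ q), inferInstance,
      (algebraMap (C ⧸ q) (FractionRing (C ⧸ q))).comp (Ideal.Quotient.mk q), ?_⟩
    ext x
    rw [RingHom.mem_ker, RingHom.comp_apply,
      map_eq_zero_iff _ (IsFractionRing.injective (C ⧸ q) (FractionRing (C ⧸ q))),
      Ideal.Quotient.eq_zero_iff_mem]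
  let φ : R →+* L := g.comp (algebraMap R C)
  refine ⟨L, inferInstance, φ, ?_, ?_⟩
  · ext r
    rw [RingHom.mem_ker]
    show g (algebraMap R C r) = 0 ↔ _
    rw [← RingHom.mem_ker, hg, ← hqp, Ideal.mem_comap]
  · letI : Algebra R L := φ.toAlgebra
    letI : Algebra A' L := (g.comp (algebraMap A' C)).toAlgebra
    haveI : IsScalarTower R A' L := IsScalarTower.of_algebraMap_eq' (by
      show φ = (g.comp (algebraMap A' C)).comp (algebraMap R A')
      rw [RingHom.comp_assoc, ← IsScalarTower.algebraMap_eq])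
    have ha'L : algebraMap A' L a' ≠ 0 := by
      have hunit : IsUnit (algebraMap A' C a') :=
        IsLocalization.map_units C (⟨a', Submonoid.mem_powers a'⟩ : Submonoid.powers a')
      exact (hunit.map g).ne_zero
    have h3 := Ha' L ha'L
    intro hred
    apply h3
    exact isReduced_of_injective
      (Algebra.TensorProduct.cancelBaseChange R A' L L B)
      (Algebra.TensorProduct.cancelBaseChange R A' L L B).injective

end Groth.Agent.Helper16.GenGR
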