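import Mathlib

set_option autoImplicit false
set_option linter.style.haveILetI false
universe u
open CategoryTheory CategoryTheory.Limits AlgebraicGeometry Opposite TopologicalSpace TensorProduct

noncomputable section

namespace Groth.Agent.Helper16.GenGR

variable {X Y Z : Scheme.{u}} {K : Type u} [Field K]

lemma piece_eq (fst : Z ⟶ X) (snd : Z ⟶ Spec (.of K)) (U₀ : X.Opens) :
    fst ⁻¹ᵁ U₀ = fst ⁻¹ᵁ U₀ ⊓ snd ⁻¹ᵁ ⊤ := by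
  rw [Scheme.Hom.preimage_top, inf_top_eq]

theorem isAffineOpen_piece (f : X ⟶ Y) (c : Spec (.of K) ⟶ Y) (fst : Z ⟶ X)
    (snd : Z ⟶ Spec (.of K)) (H : IsPullback fst snd f c)
    (W : Y.Opens) (hW : IsAffineOpen W) (hc : ⊤ ≤ c ⁻¹ᵁ W) (U₀ : X.Opens) (hU₀ : IsAffineOpen U₀)
    (e : U₀ ≤ f ⁻¹ᵁ W) : IsAffineOpen (fst ⁻¹ᵁ U₀) := by
  have : IsAffine _ := hW
  have : IsAffine _ := hU₀
  have : IsAffine ((⊤ : (Spec (.of K)).Opens) : Scheme) := (isAffineOpen_top _)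
  exact .of_isIso (Scheme.Hom.isPullback_resLE H hc e (piece_eq fst snd U₀)).isoPullback.hom

/-- the ring of sections of a base change to a field over a chart is the tensor product -/
theorem exists_piece_equiv (f : X ⟶ Y) (c : Spec (.of K) ⟶ Y) (fst : Z ⟶ X)
    (snd : Z ⟶ Spec (.of K)) (H : IsPullback fst snd f c)
    (W : Y.Opens) (hW : IsAffineOpen W) (hc : ⊤ ≤ c ⁻¹ᵁ W) (U₀ : X.Opens) (hU₀ : IsAffineOpen U₀)
    (e : U₀ ≤ f ⁻¹ᵁ W) :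
    letI := (f.appLE W U₀ e).hom.toAlgebra
    letI : Algebra Γ(Y, W) K :=
      ((c.appLE W ⊤ hc) ≫ (Scheme.ΓSpecIso (.of K)).hom).hom.toAlgebra
    Nonempty ((K ⊗[Γ(Y, W)] Γ(X, U₀)) ≃+* Γ(Z, fst ⁻¹ᵁ U₀)) := by
  have hUY := piece_eq fst snd U₀
  have hpo := (isIso_pushoutSection_iff H hc e hUY).mp
    (isIso_pushoutSection_of_isAffineOpen H hc e hUY hW (isAffineOpen_top _) hU₀)
  letI aRB := (f.appLE W U₀ e).hom.toAlgebra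
  letI aRK : Algebra Γ(Y, W) K :=
    ((c.appLE W ⊤ hc) ≫ (Scheme.ΓSpecIso (.of K)).hom).hom.toAlgebra
  letI aRL := (c.appLE W ⊤ hc).hom.toAlgebra
  letI aBP := (fst.appLE U₀ (fst ⁻¹ᵁ U₀) le_rfl).hom.toAlgebra
  letI aLP := (snd.appLE ⊤ (fst ⁻¹ᵁ U₀) (fun _ _ => trivial)).hom.toAlgebra
  letI aRP : Algebra Γ(Y, W) Γ(Z, fst ⁻¹ᵁ U₀) :=
    ((algebraMap Γ(X, U₀) Γ(Z, fst ⁻¹ᵁ U₀)).comp (algebraMap Γ(Y, W) Γ(X, U₀))).toAlgebra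
  haveI : IsScalarTower Γ(Y, W) Γ(X, U₀) Γ(Z, fst ⁻¹ᵁ U₀) :=
    IsScalarTower.of_algebraMap_eq' rfl
  haveI : IsScalarTower Γ(Y, W) Γ(Spec (.of K), ⊤) Γ(Z, fst ⁻¹ᵁ U₀) :=
    IsScalarTower.of_algebraMap_eq' (by
      have := congrArg CommRingCat.Hom.hom hpo.w
      exact this)
  haveI : Algebra.IsPushout Γ(Y, W) Γ(Spec (.of K), ⊤) Γ(X, U₀) Γ(Z, fst ⁻¹ᵁ U₀) :=
    CommRingCat.isPushout_iff_isPushout.mp hpo.flip
  let E := Algebra.IsPushout.equiv Γ(Y, W) Γ(Spec (.of K), ⊤) Γ(X, U₀) Γ(Z, fst ⁻¹ᵁ U₀)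
  let e₁ : K ≃ₐ[Γ(Y, W)] Γ(Spec (.of K), ⊤) :=
    AlgEquiv.ofRingEquiv (f := (Scheme.ΓSpecIso (.of K)).symm.commRingCatIsoToRingEquiv) (by
      intro r
      show (Scheme.ΓSpecIso (.of K)).inv.hom ((Scheme.ΓSpecIso (.of K)).hom.hom
        ((c.appLE W ⊤ hc).hom r)) = (c.appLE W ⊤ hc).hom r
      rw [← CommRingCat.comp_apply, Iso.hom_inv_id]
      rfl)
  exact ⟨(Algebra.TensorProduct.congr e₁ AlgEquiv.refl).toRingEquiv.trans E.toRingEquiv⟩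

end Groth.Agent.Helper16.GenGR
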