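import Mathlib
import Groth.Agent.Lib.Helper16.Sch.GenGR3

set_option autoImplicit false
set_option linter.style.haveILetI false
universe u
open CategoryTheory CategoryTheory.Limits AlgebraicGeometry Opposite TopologicalSpace TensorProduct

noncomputable section

namespace Groth.Agent.Helper16.GenGR

variable {X Y Z : Scheme.{u}} {K : Type u} [Field K]

/-- a base change to a field is reduced if its affine pieces are -/
theorem isReduced_of_pieces (f : X ⟶ Y) (c : Spec (.of K) ⟶ Y) (fst : Z ⟶ X)
    (snd : Z ⟶ Spec (.of K)) (H : IsPullback fst snd f c)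
    (W : Y.Opens) (hW : IsAffineOpen W) (hc : ⊤ ≤ c ⁻¹ᵁ W)
    (Hp : ∀ U₀ : X.Opens, IsAffineOpen U₀ → U₀ ≤ f ⁻¹ᵁ W → _root_.IsReduced Γ(Z, fst ⁻¹ᵁ U₀)) :
    IsReduced Z := by
  haveI : ∀ z : Z, _root_.IsReduced (Z.presheaf.stalk z) := by
    intro z
    have hmem : fst z ∈ f ⁻¹ᵁ W := by
      show f (fst z) ∈ W
      rw [← Scheme.Hom.comp_apply, H.w, Scheme.Hom.comp_apply]
      exact hc (Set.mem_univ (snd z))
    obtain ⟨_, ⟨U, hU, rfl⟩, hxU, hUW⟩ :=
      X.isBasis_affineOpens.exists_subset_of_mem_open hmem (f ⁻¹ᵁ W).isOpen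
    have hV := isAffineOpen_piece f c fst snd H W hW hc U hU hUW
    have hz : z ∈ fst ⁻¹ᵁ U := hxU
    letI := Z.presheaf.algebra_section_stalk ⟨z, hz⟩
    haveI := hV.isLocalization_stalk ⟨z, hz⟩
    exact isReduced_localizationPreserves
      (hV.primeIdealOf ⟨z, hz⟩).asIdeal.primeCompl _ (Hp U hU hUW)
  exact isReduced_of_isReduced_stalk _

/-- a morphism from the spectrum of a field factors through the residue field of the image point -/
theorem exists_eq_specMap_comp (c : Spec (.of K) ⟶ Y) :
    ∃ φ : Y.residueField (c (IsLocalRing.closedPoint K)) ⟶ .of K,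
      c = Spec.map φ ≫ Y.fromSpecResidueField _ :=
  ⟨(Scheme.SpecToEquivOfField K Y c).2, ((Scheme.SpecToEquivOfField K Y).left_inv c).symm⟩

/-- geometric properties of a fibre can be tested on base changes of the whole morphism -/
theorem of_geometrically_fiber {P : ObjectProperty Scheme.{u}} {f : X ⟶ Y} (y : Y)
    (hf : geometrically P (f.fiberToSpecResidueField y))
    (φ : Y.residueField y ⟶ .of K) (fst : Z ⟶ X) (snd : Z ⟶ Spec (.of K))
    (h : IsPullback fst snd f (Spec.map φ ≫ Y.fromSpecResidueField y)) : P Z := by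
  let p : Z ⟶ f.fiber y :=
    pullback.lift fst (snd ≫ Spec.map φ) (by simp [h.w])
  apply hf (Spec.map φ) p snd
  refine .flip (.of_bot (.flip ?_) ?_ (IsPullback.of_hasPullback f (Y.fromSpecResidueField y)).flip)
  · convert! h
    exact pullback.lift_fst _ _ _
  · show snd ≫ Spec.map φ = p ≫ pullback.snd f (Y.fromSpecResidueField y)
    exact (pullback.lift_snd _ _ _).symm

theorem isReduced_of_geometricallyReduced_fiber (f : X ⟶ Y) (c : Spec (.of K) ⟶ Y) (y : Y)
    (hy : c (IsLocalRing.closedPoint K) = y)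
    [hg : GeometricallyReduced (f.fiberToSpecResidueField y)] (fst : Z ⟶ X)
    (snd : Z ⟶ Spec (.of K)) (H : IsPullback fst snd f c) : IsReduced Z := by
  subst hy
  obtain ⟨φ, hφ⟩ := exists_eq_specMap_comp c
  rw [hφ] at H
  exact of_geometrically_fiber (P := @IsReduced) _ hg.geometrically_isReduced φ fst snd H

end Groth.Agent.Helper16.GenGR
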