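import Mathlib
import Groth.Agent.Lib.Helper16.Sch.GenGR4
import Groth.Agent.Lib.Helper16.Sch.GenGR2
import Groth.Agent.Lib.Helper16.Sch.GenPt4

set_option autoImplicit false
set_option linter.style.haveILetI false
universe u
open CategoryTheory CategoryTheory.Limits AlgebraicGeometry Opposite TopologicalSpace TensorProduct

noncomputable section

namespace Groth.Agent.Helper16.GenGR

open Groth.Agent.Helper16.GenPt

variable {X Y : Scheme.{u}}

/-- the algebra structure on `L` induced by `Spec L ⟶ Spec Γ(Y, W) ⟶ Y` -/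
theorem appLE_specMap_fromSpec {L : Type u} [Field L] (W : Y.Opens) (hW : IsAffineOpen W)
    (φ : Γ(Y, W) →+* L) (hc : ⊤ ≤ (Spec.map (CommRingCat.ofHom φ) ≫ hW.fromSpec) ⁻¹ᵁ W) :
    (((Spec.map (CommRingCat.ofHom φ) ≫ hW.fromSpec).appLE W ⊤ hc) ≫
      (Scheme.ΓSpecIso (.of L)).hom).hom = φ := by
  have h1 : ((Spec.map (CommRingCat.ofHom φ) ≫ hW.fromSpec).appLE W ⊤ hc) ≫
      (Scheme.ΓSpecIso (.of L)).hom = CommRingCat.ofHom φ := by
    rw [Scheme.Hom.comp_appLE, hW.fromSpec_app_self, Category.assoc, Category.assoc,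
      Scheme.Hom.map_appLE_assoc]
    have h2 : ∀ e, (Spec.map (CommRingCat.ofHom φ)).appLE ⊤ ⊤ e =
        (Spec.map (CommRingCat.ofHom φ)).appTop := by
      intro e
      simp [Scheme.Hom.appLE]
    rw [h2, ← Scheme.ΓSpecIso_inv_naturality_assoc, Iso.inv_hom_id, Category.comp_id]
  rw [h1]
  rfl

/-- a function vanishing at the image point of `Spec K ⟶ Y` -/
theorem not_mem_basicOpen_of_appLE_eq_zero {K : Type u} [Field K] (c : Spec (.of K) ⟶ Y)
    (W : Y.Opens) (hc : ⊤ ≤ c ⁻¹ᵁ W) (r : Γ(Y, W)) (hr : (c.appLE W ⊤ hc).hom r = 0) :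
    c (IsLocalRing.closedPoint K) ∉ Y.basicOpen r := by
  intro hmem
  have h1 : IsLocalRing.closedPoint K ∈ (Spec (.of K)).basicOpen ((c.appLE W ⊤ hc).hom r) := by
    erw [Scheme.basicOpen_appLE]
    exact ⟨trivial, hmem⟩
  rw [hr, Scheme.basicOpen_zero] at h1
  exact h1

theorem main (f : X ⟶ Y) [IrreducibleSpace Y] [LocallyOfFiniteType f] [QuasiCompact f]
    (h : ¬ GeometricallyReduced (f.fiberToSpecResidueField (genericPoint Y))) :
    ∃ V : Y.Opens, (V : Set Y).Nonempty ∧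
      ∀ y ∈ V, ¬ GeometricallyReduced (f.fiberToSpecResidueField y) := by
  obtain ⟨_, ⟨W, hW, rfl⟩, hηW, -⟩ := Y.isBasis_affineOpens.exists_subset_of_mem_open
    (Set.mem_univ (genericPoint Y)) isOpen_univ
  have hW : IsAffineOpen W := hW
  have hn := isPrime_nilradical_of_isAffineOpen W hW ⟨_, hηW⟩
  have hη := fromSpec_nilradical_eq_genericPoint W hW hn
  rw [geometricallyReduced_iff] at h
  unfold geometrically at h
  push Not at h
  obtain ⟨K, _, c', Z, fst', snd, Hsq, hZ⟩ := h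
  have H : IsPullback (fst' ≫ f.fiberι (genericPoint Y)) snd f
      (c' ≫ Y.fromSpecResidueField (genericPoint Y)) :=
    Hsq.paste_horiz (IsPullback.of_hasPullback f (Y.fromSpecResidueField (genericPoint Y)))
  have hcpt : ∀ z, (c' ≫ Y.fromSpecResidueField (genericPoint Y)) z = genericPoint Y := by
    intro z
    rw [Scheme.Hom.comp_apply, Scheme.fromSpecResidueField_apply]
  have hc : ⊤ ≤ (c' ≫ Y.fromSpecResidueField (genericPoint Y)) ⁻¹ᵁ W := by
    intro z _
    show (c' ≫ Y.fromSpecResidueField (genericPoint Y)) z ∈ W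
    rw [hcpt]; exact hηW
  obtain ⟨U₀, hU₀, hU₀W, hbad⟩ : ∃ U₀ : X.Opens, IsAffineOpen U₀ ∧ ∃ _ : U₀ ≤ f ⁻¹ᵁ W,
      ¬ _root_.IsReduced Γ(Z, (fst' ≫ f.fiberι (genericPoint Y)) ⁻¹ᵁ U₀) := by
    by_contra hcon
    push Not at hcon
    exact hZ (isReduced_of_pieces f _ _ snd H W hW hc (fun U₀ hU₀ hU₀W => hcon U₀ hU₀ hU₀W))
  letI : Algebra Γ(Y, W) Γ(X, U₀) := (f.appLE W U₀ hU₀W).hom.toAlgebra
  haveI : Algebra.FiniteType Γ(Y, W) Γ(X, U₀) := f.finiteType_appLE hW hU₀ hU₀W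
  letI : Algebra Γ(Y, W) K :=
    (((c' ≫ Y.fromSpecResidueField (genericPoint Y)).appLE W ⊤ hc) ≫
      (Scheme.ΓSpecIso (.of K)).hom).hom.toAlgebra
  obtain ⟨E⟩ := exists_piece_equiv f _ _ snd H W hW hc U₀ hU₀ hU₀W
  have hbad' : ¬ _root_.IsReduced (K ⊗[Γ(Y, W)] Γ(X, U₀)) := fun hred =>
    hbad (isReduced_of_injective E.symm.toRingHom E.symm.injective)
  have h1 : ∀ r : Γ(Y, W), algebraMap Γ(Y, W) K r = 0 → IsNilpotent r := by
    intro r hr
    have hr' : ((c' ≫ Y.fromSpecResidueField (genericPoint Y)).appLE W ⊤ hc).hom r = 0 := by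
      have hinj : Function.Injective (Scheme.ΓSpecIso (.of K)).hom.hom :=
        (Scheme.ΓSpecIso (.of K)).commRingCatIsoToRingEquiv.injective
      apply hinj
      rw [map_zero]
      exact hr
    have h2 := not_mem_basicOpen_of_appLE_eq_zero _ W hc r hr'
    rw [hcpt] at h2
    have h3 : Y.basicOpen r = ⊥ := by
      rw [eq_bot_iff]
      intro z hz
      exact h2 (((genericPoint_spec Y).specializes (Set.mem_univ z)).mem_open
        (Y.basicOpen r).isOpen hz)
    have h4 := hW.fromSpec_preimage_basicOpen r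
    rw [h3] at h4
    exact (PrimeSpectrum.basicOpen_eq_bot_iff r).mp h4.symm
  obtain ⟨a, ha, Ha⟩ := exists_forall_prime_not_isReduced hn h1 hbad'
  refine ⟨Y.basicOpen a, ⟨genericPoint Y, ?_⟩, fun y hy hGR => ?_⟩
  · rw [← hη]
    show _ ∈ hW.fromSpec ⁻¹ᵁ Y.basicOpen a
    rw [hW.fromSpec_preimage_basicOpen]
    exact fun hmem => ha (mem_nilradical.mp hmem)
  · have hyW : y ∈ W := Y.basicOpen_le a hy
    have hy' : hW.fromSpec (hW.primeIdealOf ⟨y, hyW⟩) = y := hW.fromSpec_primeIdealOf ⟨y, hyW⟩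
    have hnot : a ∉ (hW.primeIdealOf ⟨y, hyW⟩).asIdeal := by
      have h2 : hW.primeIdealOf ⟨y, hyW⟩ ∈ hW.fromSpec ⁻¹ᵁ Y.basicOpen a := by
        show hW.fromSpec _ ∈ Y.basicOpen a
        rw [hy']; exact hy
      rw [hW.fromSpec_preimage_basicOpen] at h2
      exact h2
    obtain ⟨L, _, φ, hker, hbadL⟩ := Ha _ (hW.primeIdealOf ⟨y, hyW⟩).isPrime hnot
    have hpt : (Spec.map (CommRingCat.ofHom φ) ≫ hW.fromSpec) (IsLocalRing.closedPoint L) = y := by
      rw [Scheme.Hom.comp_apply, ← hy']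
      congr 1
      apply PrimeSpectrum.ext
      rw [← hker]
      show Ideal.comap φ (IsLocalRing.maximalIdeal L) = RingHom.ker φ
      rw [IsLocalRing.maximalIdeal_eq_bot, RingHom.ker_eq_comap_bot]
    have hcy : ⊤ ≤ (Spec.map (CommRingCat.ofHom φ) ≫ hW.fromSpec) ⁻¹ᵁ W := by
      intro z _
      show (Spec.map (CommRingCat.ofHom φ) ≫ hW.fromSpec) z ∈ W
      rw [Scheme.Hom.comp_apply, ← SetLike.mem_coe, ← hW.range_fromSpec]
      exact ⟨_, rfl⟩
    have halg := appLE_specMap_fromSpec W hW φ hcy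
    have HZ := IsPullback.of_hasPullback f (Spec.map (CommRingCat.ofHom φ) ≫ hW.fromSpec)
    haveI : IsReduced (pullback f (Spec.map (CommRingCat.ofHom φ) ≫ hW.fromSpec)) :=
      isReduced_of_geometricallyReduced_fiber f _ y hpt _ _ HZ
    have hpiece := exists_piece_equiv f _ _ _ HZ W hW hcy U₀ hU₀ hU₀W
    rw [halg] at hpiece
    obtain ⟨Ey⟩ := hpiece
    apply hbadL
    exact isReduced_of_injective Ey.toRingHom Ey.injective

end Groth.Agent.Helper16.GenGR
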