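import Mathlib
import Groth.Agent.Lib.Helper16.Sch.GenGS3

set_option autoImplicit false
set_option linter.style.haveILetI false
universe u
open CategoryTheory CategoryTheory.Limits AlgebraicGeometry Opposite TopologicalSpace

noncomputable section

namespace Groth.Agent.Helper16.GenGS

variable {X Y : Scheme.{u}}

/-- geometric reducedness of the generic fibre spreads, for flat morphisms of finite presentation -/
theorem flat_case (g : X ⟶ Y) [IrreducibleSpace Y] [Flat g] [LocallyOfFinitePresentation g]
    [QuasiCompact g]
    (h : GeometricallyReduced (g.fiberToSpecResidueField (genericPoint Y))) :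
    ∃ V : Y.Opens, (V : Set Y).Nonempty ∧
      ∀ y ∈ V, GeometricallyReduced (g.fiberToSpecResidueField y) := by
  let U := g.smoothLocus
  have hUη := fiberι_preimage_smoothLocus g (genericPoint Y)
  have hdense := dense_smoothLocus_of_geometricallyReduced (Y.residueField (genericPoint Y))
    (g.fiberToSpecResidueField (genericPoint Y))
  haveI : IsReduced (g.fiber (genericPoint Y)) :=
    self_of_isIntegral_of_geometrically (P := @IsReduced) h.geometrically_isReduced
  have hdom : IsSchemeTheoreticallyDominant (g.fiberι (genericPoint Y) ⁻¹ᵁ U).ι := by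
    haveI : IsDominant (g.fiberι (genericPoint Y) ⁻¹ᵁ U).ι := by
      rw [isDominant_iff, DenseRange, Scheme.Opens.range_ι, hUη]
      exact hdense
    exact IsSchemeTheoreticallyDominant.of_isDominant _
  obtain ⟨V, hV, HV⟩ := GenSD.main g U hdom
  refine ⟨V, hV, fun y hy => ?_⟩
  have h1 := HV y hy
  rw [fiberι_preimage_smoothLocus g y] at h1
  exact geometricallyReduced_of_smoothLocus (Y.residueField y) (g.fiberToSpecResidueField y)

end Groth.Agent.Helper16.GenGS
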