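import Mathlib
import Groth.Agent.Lib.Helper16.Sch.GenGR4

set_option autoImplicit false
set_option linter.style.haveILetI false
universe u
open CategoryTheory CategoryTheory.Limits AlgebraicGeometry Opposite TopologicalSpace TensorProduct

noncomputable section

namespace Groth.Agent.Helper16.GenGS

open Groth.Agent.Helper16.GenGR

variable {X Y X' Y' : Scheme.{u}}

/-- pointwise geometric reducedness: all base changes to fields over the point are reduced -/
def GRpt (f : X ⟶ Y) (y : Y) : Prop :=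
  ∀ ⦃K : Type u⦄ [Field K] (c : Spec (.of K) ⟶ Y), c (IsLocalRing.closedPoint K) = y →
    ∀ ⦃Z : Scheme.{u}⦄ (fst : Z ⟶ X) (snd : Z ⟶ Spec (.of K)), IsPullback fst snd f c → IsReduced Z

theorem gRpt_of_geometricallyReduced_fiber (f : X ⟶ Y) (y : Y)
    (h : GeometricallyReduced (f.fiberToSpecResidueField y)) : GRpt f y :=
  fun _ _ c hc _ fst snd H => isReduced_of_geometricallyReduced_fiber f c y hc fst snd H

theorem geometricallyReduced_fiber_of_gRpt (f : X ⟶ Y) (y : Y) (h : GRpt f y) :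
    GeometricallyReduced (f.fiberToSpecResidueField y) := by
  refine ⟨fun K _ c' Z fst snd H => ?_⟩
  have sq := IsPullback.of_hasPullback f (Y.fromSpecResidueField y)
  refine h (c' ≫ Y.fromSpecResidueField y) ?_ (fst ≫ f.fiberι y) snd (H.paste_horiz sq)
  rw [Scheme.Hom.comp_apply, Scheme.fromSpecResidueField_apply]

theorem gRpt_of_isPullback {f : X ⟶ Y} {f' : X' ⟶ Y'} {p : X' ⟶ X} {i : Y' ⟶ Y}
    (sq : IsPullback p f' f i) (y' : Y') (h : GRpt f (i y')) : GRpt f' y' := by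
  intro K _ c'' hc Z fst snd H
  refine h (c'' ≫ i) ?_ (fst ≫ p) snd (H.paste_horiz sq)
  rw [Scheme.Hom.comp_apply, hc]

theorem gRpt_of_isPullback_of_lift {f : X ⟶ Y} {f' : X' ⟶ Y'} {p : X' ⟶ X} {i : Y' ⟶ Y}
    (sq : IsPullback p f' f i) (y' : Y') (h : GRpt f' y')
    (hlift : ∀ (K : Type u) [Field K] (c : Spec (.of K) ⟶ Y), c (IsLocalRing.closedPoint K) = i y' →
      ∃ c'' : Spec (.of K) ⟶ Y', c'' ≫ i = c ∧ c'' (IsLocalRing.closedPoint K) = y') :
    GRpt f (i y') := by
  intro K _ c hc Z fst snd H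
  obtain ⟨c'', rfl, hc''⟩ := hlift K c hc
  let q : Z ⟶ X' := sq.lift fst (snd ≫ c'') (by rw [H.w, Category.assoc])
  have hq1 : q ≫ p = fst := sq.lift_fst _ _ _
  have hq2 : q ≫ f' = snd ≫ c'' := sq.lift_snd _ _ _
  have : IsPullback q snd f' c'' := IsPullback.of_right (by rw [hq1]; exact H) hq2 sq
  exact h c'' hc'' q snd this

theorem geometricallyReduced_restrict_of_gRpt (f : X ⟶ Y) (V : Y.Opens)
    (h : ∀ y ∈ V, GRpt f y) : GeometricallyReduced (f ∣_ V) := by
  refine ⟨fun K _ c Z fst snd H => ?_⟩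
  have sq := (isPullback_morphismRestrict f V).flip
  exact h ((c ≫ V.ι) (IsLocalRing.closedPoint K)) (by
    rw [Scheme.Hom.comp_apply]
    exact (c (IsLocalRing.closedPoint K)).2) (c ≫ V.ι) rfl (fst ≫ (f ⁻¹ᵁ V).ι) snd
    (H.paste_horiz sq)

end Groth.Agent.Helper16.GenGS
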