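import Mathlib

set_option autoImplicit false
set_option linter.style.haveILetI false
universe u
open CategoryTheory CategoryTheory.Limits AlgebraicGeometry Opposite TopologicalSpace TensorProduct

noncomputable section

namespace Groth.Agent.Helper16.GenGS

section ring

variable (R : Type u) [CommRing R] (a : R)

/-- the map `R → (R/nil)_a` -/
def redAway : R →+* Localization.Away (Ideal.Quotient.mk (nilradical R) a) :=
  (algebraMap (R ⧸ nilradical R) (Localization.Away (Ideal.Quotient.mk (nilradical R) a))).comp
    (Ideal.Quotient.mk (nilradical R))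

theorem isUnit_redAway : IsUnit (redAway R a a) :=
  IsLocalization.Away.algebraMap_isUnit (Ideal.Quotient.mk (nilradical R) a)

theorem ker_redAway (hn : (nilradical R).IsPrime) (ha : a ∉ nilradical R) :
    RingHom.ker (redAway R a) = nilradical R := by
  haveI := hn
  haveI : IsDomain (R ⧸ nilradical R) := Ideal.Quotient.isDomain _
  have hne : Ideal.Quotient.mk (nilradical R) a ≠ 0 := fun h =>
    ha (Ideal.Quotient.eq_zero_iff_mem.mp h)
  have hinj : Function.Injective
      (algebraMap (R ⧸ nilradical R) (Localization.Away (Ideal.Quotient.mk (nilradical R) a))) :=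
    IsLocalization.injective _ (powers_le_nonZeroDivisors_of_noZeroDivisors hne)
  ext x
  rw [RingHom.mem_ker]
  show algebraMap _ _ (Ideal.Quotient.mk (nilradical R) x) = 0 ↔ _
  rw [← Ideal.Quotient.eq_zero_iff_mem, ← map_zero (algebraMap (R ⧸ nilradical R)
    (Localization.Away (Ideal.Quotient.mk (nilradical R) a))), hinj.eq_iff]

theorem isDomain_redAway (hn : (nilradical R).IsPrime) (ha : a ∉ nilradical R) :
    IsDomain (Localization.Away (Ideal.Quotient.mk (nilradical R) a)) := by
  haveI := hn
  haveI : IsDomain (R ⧸ nilradical R) := Ideal.Quotient.isDomain _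
  have hne : Ideal.Quotient.mk (nilradical R) a ≠ 0 := fun h =>
    ha (Ideal.Quotient.eq_zero_iff_mem.mp h)
  exact IsLocalization.isDomain_localization (powers_le_nonZeroDivisors_of_noZeroDivisors hne)

theorem comap_redAway_injective : Function.Injective (PrimeSpectrum.comap (redAway R a)) := by
  have h1 : Function.Injective (PrimeSpectrum.comap (Ideal.Quotient.mk (nilradical R))) :=
    PrimeSpectrum.comap_injective_of_surjective _ Ideal.Quotient.mk_surjective
  have h2 : Function.Injective (PrimeSpectrum.comap (algebraMap (R ⧸ nilradical R)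
      (Localization.Away (Ideal.Quotient.mk (nilradical R) a)))) :=
    PrimeSpectrum.localization_comap_injective _
      (Submonoid.powers (Ideal.Quotient.mk (nilradical R) a))
  intro x y hxy
  apply h2
  apply h1
  exact hxy

theorem exists_lift_redAway (K : Type u) [Field K] (φ : R →+* K)
    (q : PrimeSpectrum (Localization.Away (Ideal.Quotient.mk (nilradical R) a)))
    (hq : RingHom.ker φ = q.asIdeal.comap (redAway R a)) :
    ∃ φ'' : Localization.Away (Ideal.Quotient.mk (nilradical R) a) →+* K,
      φ''.comp (redAway R a) = φ := by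
  have hnil : ∀ x ∈ nilradical R, φ x = 0 := fun x hx =>
    (IsNilpotent.map (mem_nilradical.mp hx) φ).eq_zero
  let φA : (R ⧸ nilradical R) →+* K := Ideal.Quotient.lift (nilradical R) φ hnil
  have hu : IsUnit (φA (Ideal.Quotient.mk (nilradical R) a)) := by
    rw [isUnit_iff_ne_zero]
    intro h0
    have h1 : a ∈ RingHom.ker φ := h0
    rw [hq, Ideal.mem_comap] at h1
    exact q.isPrime.ne_top (Ideal.eq_top_of_isUnit_mem _ h1 (isUnit_redAway R a))
  refine ⟨IsLocalization.Away.lift (Ideal.Quotient.mk (nilradical R) a) (g := φA) hu, ?_⟩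
  ext x
  show IsLocalization.Away.lift (Ideal.Quotient.mk (nilradical R) a) hu
    (algebraMap _ _ (Ideal.Quotient.mk (nilradical R) x)) = φ x
  rw [IsLocalization.Away.lift_eq]
  rfl

end ring

end Groth.Agent.Helper16.GenGS
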