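import Mathlib
import Groth.Agent.Lib.Helper16.Sch.GenGS4
import Groth.Agent.Lib.Helper16.Sch.GenGS5
import Groth.Agent.Lib.Helper16.Sch.GenGS7
import Groth.Agent.Lib.Helper16.Sch.GenGS8
import Groth.Agent.Lib.Helper16.Sch.GenGS9
import Groth.Agent.Lib.Helper16.Sch.GenGS10
import Groth.Agent.Lib.Helper16.Sch.GenSurj3
import Groth.Agent.Lib.Helper16.Sch.GenPt4

set_option autoImplicit false
set_option linter.style.haveILetI false
universe u
open CategoryTheory CategoryTheory.Limits AlgebraicGeometry Opposite TopologicalSpace TensorProduct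

noncomputable section

namespace Groth.Agent.Helper16.GenGS

open Groth.Agent.Helper16.GenPt Groth.Agent.Helper16.GenSurj

variable {X Y : Scheme.{u}}

/-- reduction data: an immersion `i : Spec A ⟶ Y` from the spectrum of a domain hitting the generic
point, over which `f` becomes flat and of finite presentation, and through which field-valued
points lift. -/
theorem exists_flat_reduction (f : X ⟶ Y) [IrreducibleSpace Y] [LocallyOfFiniteType f]
    [QuasiCompact f] :
    ∃ (A : Type u) (_ : CommRing A) (_ : IsDomain A) (i : Spec (.of A) ⟶ Y),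
      LocallyOfFiniteType i ∧
      i (⊥ : PrimeSpectrum A) = genericPoint Y ∧
      Flat (pullback.snd f i) ∧ LocallyOfFinitePresentation (pullback.snd f i) ∧
      ∀ (K : Type u) [Field K] (c : Spec (.of K) ⟶ Y) (y' : Spec (.of A)),
        c (IsLocalRing.closedPoint K) = i y' →
        ∃ c'' : Spec (.of K) ⟶ Spec (.of A), c'' ≫ i = c ∧ c'' (IsLocalRing.closedPoint K) = y' := by
  obtain ⟨_, ⟨W, hW, rfl⟩, hηW, -⟩ := Y.isBasis_affineOpens.exists_subset_of_mem_open
    (Set.mem_univ (genericPoint Y)) isOpen_univ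
  have hW : IsAffineOpen W := hW
  have hn := isPrime_nilradical_of_isAffineOpen W hW ⟨_, hηW⟩
  have hη := fromSpec_nilradical_eq_genericPoint W hW hn
  have hcomp : IsCompact ((f ⁻¹ᵁ W : X.Opens) : Set X) :=
    QuasiCompact.isCompact_preimage (f := f) _ W.isOpen hW.isCompact
  obtain ⟨s, hs, hsU⟩ := isCompact_iff_finite_and_eq_biUnion_affineOpens.mp hcomp
  haveI : Fintype s := hs.fintype
  classical
  have hle : ∀ U₀ : s, (U₀.1 : X.Opens) ≤ f ⁻¹ᵁ W := fun U₀ => by
    rw [hsU]; exact le_iSup₂ (f := fun (i : X.affineOpens) (_ : i ∈ s) => (i : X.Opens)) U₀.1 U₀.2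
  have H : ∀ U₀ : s, ∃ a : Γ(Y, W), a ∉ nilradical Γ(Y, W) ∧
      ∀ (S : Type u) [CommRing S] [Algebra Γ(Y, W) S] [_root_.IsReduced S],
      IsUnit (algebraMap Γ(Y, W) S a) →
        letI := (f.appLE W U₀.1.1 (hle U₀)).hom.toAlgebra
        Module.Flat S (S ⊗[Γ(Y, W)] Γ(X, U₀.1.1)) ∧
          Algebra.FinitePresentation S (S ⊗[Γ(Y, W)] Γ(X, U₀.1.1)) := fun U₀ => by
    letI := (f.appLE W U₀.1.1 (hle U₀)).hom.toAlgebra
    haveI : Algebra.FiniteType Γ(Y, W) Γ(X, U₀.1.1) := f.finiteType_appLE hW U₀.1.2 (hle U₀)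
    exact exists_flat_fp Γ(Y, W) Γ(X, U₀.1.1) hn
  choose a ha hax using H
  have ha₀ : (∏ U₀ : s, a U₀) ∉ nilradical Γ(Y, W) := by
    intro hmem
    obtain ⟨U₀, -, hU₀⟩ := (Ideal.IsPrime.prod_mem_iff (hp := hn)).mp hmem
    exact ha U₀ hU₀
  haveI hdom := isDomain_redAway Γ(Y, W) (∏ U₀ : s, a U₀) hn ha₀
  refine ⟨Localization.Away (Ideal.Quotient.mk (nilradical Γ(Y, W)) (∏ U₀ : s, a U₀)),
    inferInstance, hdom,
    Spec.map (CommRingCat.ofHom (redAway Γ(Y, W) (∏ U₀ : s, a U₀))) ≫ hW.fromSpec, ?_, ?_, ?_⟩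
  · haveI : LocallyOfFiniteType (Spec.map (CommRingCat.ofHom
        (redAway Γ(Y, W) (∏ U₀ : s, a U₀)))) := by
      rw [HasRingHomProperty.Spec_iff (P := @LocallyOfFiniteType)]
      refine RingHom.FiniteType.comp ?_ (RingHom.FiniteType.of_surjective _
        Ideal.Quotient.mk_surjective)
      rw [RingHom.finiteType_algebraMap]
      haveI := IsLocalization.Away.finitePresentation (S := Localization.Away
        (Ideal.Quotient.mk (nilradical Γ(Y, W)) (∏ U₀ : s, a U₀)))
        (Ideal.Quotient.mk (nilradical Γ(Y, W)) (∏ U₀ : s, a U₀))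
      infer_instance
    infer_instance
  · rw [Scheme.Hom.comp_apply, ← hη]
    congr 1
    apply PrimeSpectrum.ext
    show Ideal.comap (redAway Γ(Y, W) (∏ U₀ : s, a U₀)) ⊥ = nilradical Γ(Y, W)
    rw [← RingHom.ker_eq_comap_bot, ker_redAway _ _ hn ha₀]
  · have hci := le_preimage_specMap_fromSpec W hW (redAway Γ(Y, W) (∏ U₀ : s, a U₀))
    have halg := appLE_specMap_fromSpec' W hW (redAway Γ(Y, W) (∏ U₀ : s, a U₀)) hci
    have sq := IsPullback.of_hasPullback f
      (Spec.map (CommRingCat.ofHom (redAway Γ(Y, W) (∏ U₀ : s, a U₀))) ≫ hW.fromSpec)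
    have hcov : f ⁻¹ᵁ W ≤ ⨆ U₀ : s, (U₀.1 : X.Opens) := by
      rw [hsU]
      intro x hx
      simp only [Opens.mem_iSup] at hx ⊢
      obtain ⟨U₀, hU₀s, hxU₀⟩ := hx
      exact ⟨⟨U₀, hU₀s⟩, hxU₀⟩
    have hfl := flat_lfp_of_pieces f _ _ _ sq W hW hci (fun U₀ : s => (U₀.1 : X.Opens))
      (fun U₀ => U₀.1.2) hle hcov (fun U₀ => by
        letI := ((Spec.map (CommRingCat.ofHom (redAway Γ(Y, W) (∏ U₀ : s, a U₀))) ≫
          hW.fromSpec).appLE W ⊤ hci).hom.toAlgebra
        have hinj : Function.Injective (Scheme.ΓSpecIso (.of (Localization.Away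
            (Ideal.Quotient.mk (nilradical Γ(Y, W)) (∏ U₀ : s, a U₀))))).hom.hom :=
          (Scheme.ΓSpecIso _).commRingCatIsoToRingEquiv.injective
        haveI : _root_.IsReduced Γ(Spec (.of (Localization.Away
            (Ideal.Quotient.mk (nilradical Γ(Y, W)) (∏ U₀ : s, a U₀)))), ⊤) :=
          isReduced_of_injective _ hinj
        refine hax U₀ _ ?_
        have hu : IsUnit (redAway Γ(Y, W) (∏ U₀ : s, a U₀) (a U₀)) := by
          have h1 := isUnit_redAway Γ(Y, W) (∏ U₀ : s, a U₀)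
          exact isUnit_of_dvd_unit (map_dvd (redAway Γ(Y, W) (∏ U₀ : s, a U₀))
            (Finset.dvd_prod_of_mem a (Finset.mem_univ U₀))) h1
        rw [← halg] at hu
        exact (isUnit_map_iff (Scheme.ΓSpecIso _).commRingCatIsoToRingEquiv _).mp hu)
    refine ⟨hfl.1, hfl.2, fun K _ c y' hc => ?_⟩
    exact exists_lift W hW (redAway Γ(Y, W) (∏ U₀ : s, a U₀))
      (fun K _ φ q hq => exists_lift_redAway _ _ K φ q hq)
      (comap_redAway_injective _ _) K c y' hc

end Groth.Agent.Helper16.GenGS
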