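import Mathlib
import Groth.Agent.Lib.Helper16.Sch.GenGS11

set_option autoImplicit false
set_option linter.style.haveILetI false
universe u
open CategoryTheory CategoryTheory.Limits AlgebraicGeometry Opposite TopologicalSpace TensorProduct

noncomputable section

namespace Groth.Agent.Helper16.GenGS

open Groth.Agent.Helper16.GenPt Groth.Agent.Helper16.GenSurj

variable {X Y : Scheme.{u}}

/-- geometric reducedness of the generic fibre spreads out -/
theorem main (f : X ⟶ Y) [IrreducibleSpace Y] [LocallyOfFiniteType f] [QuasiCompact f]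
    (h : GeometricallyReduced (f.fiberToSpecResidueField (genericPoint Y))) :
    ∃ V : Y.Opens, (V : Set Y).Nonempty ∧ GeometricallyReduced (f ∣_ V) := by
  obtain ⟨A, _, _, i, hi, hiη, hflat, hlfp, hlift⟩ := exists_flat_reduction f
  have sq := IsPullback.of_hasPullback f i
  have hgen := genericPoint_eq_bot_of_affine (.of A)
  have hGR' : GeometricallyReduced
      ((pullback.snd f i).fiberToSpecResidueField (genericPoint (Spec (.of A)))) := by
    apply geometricallyReduced_fiber_of_gRpt
    apply gRpt_of_isPullback sq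
    rw [hgen, hiη]
    exact gRpt_of_geometricallyReduced_fiber f _ h
  obtain ⟨V', hV', HV'⟩ := flat_case (pullback.snd f i) hGR'
  have hmemV' : genericPoint (Spec (.of A)) ∈ V' := by
    obtain ⟨z, hz⟩ := hV'
    exact ((genericPoint_spec _).specializes (Set.mem_univ z)).mem_open V'.isOpen hz
  have hmem : genericPoint Y ∈ Set.range (V'.ι ≫ i) := by
    refine ⟨⟨genericPoint (Spec (.of A)), hmemV'⟩, ?_⟩
    rw [Scheme.Hom.comp_apply, ← hiη, ← hgen]
    rfl
  obtain ⟨V, hVne, hVsub⟩ := exists_open_subset_range (V'.ι ≫ i) hmem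
  refine ⟨V, hVne, geometricallyReduced_restrict_of_gRpt f V (fun y hy => ?_)⟩
  obtain ⟨⟨y', hy'V⟩, rfl⟩ := hVsub hy
  have : (V'.ι ≫ i) ⟨y', hy'V⟩ = i y' := by
    rw [Scheme.Hom.comp_apply]
    rfl
  rw [this]
  exact gRpt_of_isPullback_of_lift sq y'
    (gRpt_of_geometricallyReduced_fiber _ y' (HV' y' hy'V)) (fun K _ c hc => hlift K c y' hc)

end Groth.Agent.Helper16.GenGS
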