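import Mathlib

set_option autoImplicit false
set_option linter.style.haveILetI false
universe u

namespace Groth.Agent.Helper16.GenIC

/-- A space covered by finitely many closed sets `T i`, each having a point not in the other ones,
has at least `|I|` irreducible components. -/
theorem card_le_encard_irreducibleComponents {α : Type*} [TopologicalSpace α] {I : Type*}
    [Finite I] (T : I → Set α) (hc : ∀ i, IsClosed (T i)) (hcov : ∀ x, ∃ i, x ∈ T i)
    (hne : ∀ i, ∃ x ∈ T i, ∀ j, j ≠ i → x ∉ T j) :
    ENat.card I ≤ (irreducibleComponents α).encard := by
  classical
  choose x hxT hx using hne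
  have hsub : ∀ i, irreducibleComponent (x i) ⊆ T i := by
    intro i
    have hirr : IsIrreducible (irreducibleComponent (x i)) := isIrreducible_irreducibleComponent
    haveI : Fintype I := Fintype.ofFinite I
    obtain ⟨z, hz, hsz⟩ := isIrreducible_iff_sUnion_isClosed.mp hirr (Finset.univ.image T)
      (by
        intro z hz
        rw [Finset.mem_image] at hz
        obtain ⟨j, -, rfl⟩ := hz
        exact hc j)
      (by
        intro y _
        obtain ⟨j, hj⟩ := hcov y
        exact ⟨T j, by simp, hj⟩)
    rw [Finset.mem_image] at hz
    obtain ⟨j, -, rfl⟩ := hz
    have hji : j = i := by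
      by_contra hji
      exact hx i j hji (hsz mem_irreducibleComponent)
    subst hji; exact hsz
  let g : I → ↥(irreducibleComponents α) := fun i =>
    ⟨irreducibleComponent (x i), irreducibleComponent_mem_irreducibleComponents (x i)⟩
  have hg : Function.Injective g := by
    intro i j hij
    have h1 : irreducibleComponent (x i) = irreducibleComponent (x j) := congrArg Subtype.val hij
    by_contra hne
    apply hx i j (Ne.symm hne)
    apply hsub j
    rw [← h1]
    exact mem_irreducibleComponent
  have := ENat.card_le_card_of_injective hg
  rwa [ENat.card_coe_set_eq] at this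

end Groth.Agent.Helper16.GenIC
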