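import Mathlib
import Groth.Agent.Lib.Helper16.Sch.GenIC1
import Groth.Agent.Lib.Helper16.Sch.GenCC1
import Groth.Agent.Lib.Helper16.Sch.GenSurj4

set_option autoImplicit false
set_option linter.style.haveILetI false
universe u
open CategoryTheory CategoryTheory.Limits AlgebraicGeometry Opposite TopologicalSpace

noncomputable section

namespace Groth.Agent.Helper16.GenIC

open Groth.Agent.Helper16.GenPt Groth.Agent.Helper16.GenSurj Groth.Agent.Helper16.GenCC

/-- an irreducible component is not covered by the other ones, if there are finitely many -/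
theorem exists_mem_not_mem_of_finite {α : Type*} [TopologicalSpace α]
    (hfin : (irreducibleComponents α).Finite) (Z : Set α) (hZ : Z ∈ irreducibleComponents α) :
    ∃ z ∈ Z, ∀ Z' ∈ irreducibleComponents α, Z' ≠ Z → z ∉ Z' := by
  classical
  by_contra hcon
  push Not at hcon
  obtain ⟨Z', hZ', hsub⟩ := isIrreducible_iff_sUnion_isClosed.mp hZ.1 (hfin.toFinset.erase Z)
    (by
      intro z hz
      rw [Finset.mem_erase, Set.Finite.mem_toFinset] at hz
      exact isClosed_of_mem_irreducibleComponents _ hz.2)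
    (by
      intro z hz
      obtain ⟨Z', hZ', hne, hzZ'⟩ := hcon z hz
      exact ⟨Z', by simp [hne, hZ'], hzZ'⟩)
  rw [Finset.mem_erase, Set.Finite.mem_toFinset] at hZ'
  exact hZ'.1 (le_antisymm (hZ.2 hZ'.2.1 hsub) hsub)

theorem main {X Y : Scheme.{u}} (f : X ⟶ Y) [IrreducibleSpace Y] [LocallyOfFiniteType f]
    [QuasiCompact f] (n : ℕ)
    (h : (irreducibleComponents (f.fiber (genericPoint Y))).encard = n) :
    ∃ V : Y.Opens, (V : Set Y).Nonempty ∧
      ∀ y ∈ V, (n : ℕ∞) ≤ (irreducibleComponents (f.fiber y)).encard := by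
  set η := genericPoint Y with hη
  have hfinset : (irreducibleComponents (f.fiber η)).Finite := Set.finite_of_encard_eq_coe h
  let I := ↥(irreducibleComponents (f.fiber η))
  haveI hfin : Finite I := hfinset.to_subtype
  have hι : Topology.IsEmbedding (f.fiberι η) := (f.fiberι η).isEmbedding
  have hrange : ∀ y, Set.range (f.fiberι y) = f ⁻¹' {y} := fun y => f.range_fiberι y
  have hCc : ∀ c : I, IsClosed c.1 := fun c => isClosed_of_mem_irreducibleComponents _ c.2
  let T : I → Set X := fun c => closure (f.fiberι η '' c.1)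
  have hTc : ∀ c, IsClosed (T c) := fun c => isClosed_closure
  have key : ∀ (c : I) z, f.fiberι η z ∈ T c → z ∈ c.1 := by
    intro c z hz
    have h1 : z ∈ closure c.1 := by
      rw [hι.closure_eq_preimage_closure_image]; exact hz
    rw [(hCc c).closure_eq] at h1
    exact h1
  have hmem : ∀ (c : I) z, z ∈ c.1 → f.fiberι η z ∈ T c := fun c z hz =>
    subset_closure ⟨z, hz, rfl⟩
  have hfib : ∀ (y : Y) (x : X), f x = y → ∃ z, f.fiberι y z = x := by
    intro y x hx
    have : x ∈ Set.range (f.fiberι y) := by rw [hrange]; exact hx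
    exact this
  have hfib' : ∀ (y : Y) z, f (f.fiberι y z) = y := by
    intro y z
    have : f.fiberι y z ∈ f ⁻¹' {y} := by rw [← hrange]; exact ⟨z, rfl⟩
    exact this
  -- V₁
  obtain ⟨V₁, hV₁, H₁⟩ := exists_open_forall_exists_specializes f
  have H₁' : ∀ x, f x ∈ V₁ → ∃ c, x ∈ T c := by
    intro x hx
    obtain ⟨x', hx', hfx'⟩ := H₁ x hx
    obtain ⟨z, rfl⟩ := hfib η x' hfx'
    exact ⟨⟨irreducibleComponent z, irreducibleComponent_mem_irreducibleComponents z⟩,
      hx'.mem_closed (hTc _) (hmem _ z mem_irreducibleComponent)⟩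
  -- the opens
  let U : I → X.Opens := fun c =>
    ⟨(⋃ c' : {c' : I // c' ≠ c}, T c'.1)ᶜ,
      (isClosed_iUnion_of_finite fun c' : {c' : I // c' ≠ c} => hTc c'.1).isOpen_compl⟩
  have hU : ∀ (c c' : I) x, x ∈ U c → x ∈ T c' → c' = c := by
    intro c c' x hx hx'
    by_contra hne
    apply hx
    exact Set.mem_iUnion.mpr ⟨⟨c', hne⟩, hx'⟩
  -- V₃
  have H₃ : ∀ c : I, ∃ V : Y.Opens, (V : Set Y).Nonempty ∧
      ∀ y ∈ V, ∃ x ∈ T c, x ∈ U c ∧ f x = y := by
    intro c
    apply exists_open_forall_exists_mem_locallyClosed f (T c) (hTc c) (U c)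
    obtain ⟨z, hz, hz'⟩ := exists_mem_not_mem_of_finite hfinset c.1 c.2
    refine ⟨f.fiberι η z, hmem c z hz, ?_, hfib' η z⟩
    intro hcon
    obtain ⟨c', hc'⟩ := Set.mem_iUnion.mp hcon
    exact hz' c'.1.1 c'.1.2 (fun e => c'.2 (Subtype.ext e)) (key c'.1 z hc')
  choose V₃ hV₃ H₃ using H₃
  -- combine
  let VV : Option I → Y.Opens := fun j => match j with
    | none => V₁
    | some c => V₃ c
  have hVV : ∀ j, (VV j : Set Y).Nonempty := by
    intro j
    match j with
    | none => exact hV₁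
    | some c => exact hV₃ c
  obtain ⟨W, hW, hWle⟩ := exists_open_le_of_finite VV hVV
  refine ⟨W, hW, fun y hy => ?_⟩
  rw [← h, ← ENat.card_coe_set_eq]
  apply card_le_encard_irreducibleComponents (fun c : I => f.fiberι y ⁻¹' T c)
  · intro c
    exact (hTc c).preimage (f.fiberι y).continuous
  · intro z
    apply H₁'
    rw [hfib' y z]
    exact hWle none hy
  · intro c
    obtain ⟨x, hxT, hxU, hfx⟩ := H₃ c y (hWle (some c) hy)
    obtain ⟨z, rfl⟩ := hfib y x hfx
    refine ⟨z, hxT, fun c' hne hz => hne (hU c c' _ hxU hz)⟩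

end Groth.Agent.Helper16.GenIC
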