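import Mathlib
import Groth.Agent.Lib.Helper16.Sch.GenSm2

set_option autoImplicit false
set_option linter.style.haveILetI false
universe u
open CategoryTheory CategoryTheory.Limits AlgebraicGeometry Opposite TopologicalSpace
open scoped nonZeroDivisors

noncomputable section

namespace Groth.Agent.Helper16.GenInt

/-- pure algebra: localizing an injective integral / finite map of domains at the nonzero
elements of the base gives the map of fraction fields. -/
theorem alg_main {A B K L : Type u} [CommRing A] [IsDomain A] [CommRing B] [IsDomain B]
    [Field K] [Field L] [Algebra A B] [Algebra A K] [Algebra B L] [Algebra K L] [Algebra A L]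
    [IsScalarTower A B L] [IsScalarTower A K L] [IsFractionRing A K] [IsFractionRing B L] :
    (Algebra.IsIntegral A B → Algebra.IsIntegral K L) ∧
      (Module.Finite A B → Module.Finite K L) := by
  have hinj : Function.Injective (algebraMap A B) := by
    have h1 : Function.Injective (algebraMap A L) := by
      rw [IsScalarTower.algebraMap_eq A K L]
      exact (algebraMap K L).injective.comp (IsFractionRing.injective A K)
    rw [IsScalarTower.algebraMap_eq A B L] at h1
    exact Function.Injective.of_comp h1
  haveI : FaithfulSMul A B := (faithfulSMul_iff_algebraMap_injective A B).mpr hinj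
  have key : Algebra.IsIntegral A B → Algebra.IsIntegral K L := by
    intro hint
    haveI : Algebra.IsAlgebraic A B := Algebra.IsIntegral.isAlgebraic
    haveI : IsLocalization (Algebra.algebraMapSubmonoid B A⁰) L := inferInstance
    have h1 := isIntegral_localization (R := A) (S := B) (M := A⁰) (Rₘ := K) (Sₘ := L)
    have h2 : algebraMap K L = IsLocalization.map (T := Algebra.algebraMapSubmonoid B A⁰) L
        (algebraMap A B) (Submonoid.le_comap_map A⁰) := by
      apply IsLocalization.ringHom_ext A⁰
      simp only [IsLocalization.map_comp, ← IsScalarTower.algebraMap_eq]
    rw [← h2] at h1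
    exact ⟨h1⟩
  refine ⟨key, fun hfin => ?_⟩
  haveI : Algebra.IsIntegral A B := inferInstance
  haveI : Algebra.IsAlgebraic A B := Algebra.IsIntegral.isAlgebraic
  haveI : IsLocalization (Algebra.algebraMapSubmonoid B A⁰) L := inferInstance
  exact Module.Finite.of_isLocalization A B A⁰

end Groth.Agent.Helper16.GenInt
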