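import Mathlib
import Groth.Agent.Lib.Helper16.Sch.GenInt1

set_option autoImplicit false
set_option linter.style.haveILetI false
universe u
open CategoryTheory CategoryTheory.Limits AlgebraicGeometry Opposite TopologicalSpace
open scoped nonZeroDivisors

noncomputable section

namespace Groth.Agent.Helper16.GenInt

open Groth.Agent.Helper16.GenSm

lemma isFractionRing_stalk_of_eq_genericPoint {S : Scheme.{u}} [IsIntegral S] (V : S.Opens)
    (hV : IsAffineOpen V) (y : S) (hy : y = genericPoint S) (hyV : y ∈ V) :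
    @IsFractionRing Γ(S, V) _ (S.presheaf.stalk y) _ (S.presheaf.germ V y hyV).hom.toAlgebra := by
  subst hy
  haveI : Nonempty V := ⟨⟨_, hyV⟩⟩
  exact functionField_isFractionRing_of_isAffineOpen S V hV

theorem aux {X S : Scheme.{u}} [IsIntegral X] [IsIntegral S] (f : X ⟶ S) [IsDominant f]
    [IsAffineHom f] (V : S.Opens) (hV : IsAffineOpen V) (hyV : f (genericPoint X) ∈ V) :
    ((f.app V).hom.IsIntegral → (f.stalkMap (genericPoint X)).hom.IsIntegral) ∧
      ((f.app V).hom.Finite → (f.stalkMap (genericPoint X)).hom.Finite) := by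
  have e := map_genericPoint_of_isDominant f
  have hU : IsAffineOpen (f ⁻¹ᵁ V) := hV.preimage f
  have hF : IsField (S.presheaf.stalk (f (genericPoint X))) := by
    rw [e]; exact (inferInstance : Field S.functionField).toIsField
  haveI : Nonempty V := ⟨⟨_, hyV⟩⟩
  haveI : Nonempty (f ⁻¹ᵁ V).toScheme := ⟨⟨genericPoint X, hyV⟩⟩
  letI : Field (S.presheaf.stalk (f (genericPoint X))) := hF.toField
  letI : Field (X.presheaf.stalk (genericPoint X)) := (inferInstance : Field X.functionField)
  letI : Algebra Γ(S, V) Γ(X, f ⁻¹ᵁ V) := (f.app V).hom.toAlgebra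
  letI : Algebra Γ(S, V) (S.presheaf.stalk (f (genericPoint X))) :=
    (S.presheaf.germ V (f (genericPoint X)) hyV).hom.toAlgebra
  letI : Algebra Γ(X, f ⁻¹ᵁ V) (X.presheaf.stalk (genericPoint X)) :=
    (X.presheaf.germ (f ⁻¹ᵁ V) (genericPoint X) hyV).hom.toAlgebra
  letI : Algebra (S.presheaf.stalk (f (genericPoint X))) (X.presheaf.stalk (genericPoint X)) :=
    (f.stalkMap (genericPoint X)).hom.toAlgebra
  letI : Algebra Γ(S, V) (X.presheaf.stalk (genericPoint X)) :=
    ((algebraMap Γ(X, f ⁻¹ᵁ V) (X.presheaf.stalk (genericPoint X))).comp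
      (algebraMap Γ(S, V) Γ(X, f ⁻¹ᵁ V))).toAlgebra
  haveI : IsScalarTower Γ(S, V) Γ(X, f ⁻¹ᵁ V) (X.presheaf.stalk (genericPoint X)) :=
    IsScalarTower.of_algebraMap_eq' rfl
  haveI : IsScalarTower Γ(S, V) (S.presheaf.stalk (f (genericPoint X)))
      (X.presheaf.stalk (genericPoint X)) := by
    refine IsScalarTower.of_algebraMap_eq' ?_
    ext a
    simp only [RingHom.algebraMap_toAlgebra, RingHom.comp_apply]
    exact (Scheme.Hom.germ_stalkMap_apply f V (genericPoint X) hyV a).symm
  haveI : IsFractionRing Γ(S, V) (S.presheaf.stalk (f (genericPoint X))) :=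
    isFractionRing_stalk_of_eq_genericPoint V hV _ e hyV
  haveI : IsFractionRing Γ(X, f ⁻¹ᵁ V) (X.presheaf.stalk (genericPoint X)) :=
    functionField_isFractionRing_of_isAffineOpen X (f ⁻¹ᵁ V) hU
  have H := alg_main (A := Γ(S, V)) (B := Γ(X, f ⁻¹ᵁ V))
    (K := S.presheaf.stalk (f (genericPoint X))) (L := X.presheaf.stalk (genericPoint X))
  constructor
  · intro h
    have h1 : Algebra.IsIntegral Γ(S, V) Γ(X, f ⁻¹ᵁ V) := ⟨h⟩
    exact (H.1 h1).1
  · intro h
    have h1 : Module.Finite Γ(S, V) Γ(X, f ⁻¹ᵁ V) := h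
    exact H.2 h1

theorem main {X S : Scheme.{u}} [IsIntegral X] [IsIntegral S] (f : X ⟶ S) [IsDominant f] :
    (IsIntegralHom f → (f.stalkMap (genericPoint X)).hom.IsIntegral) ∧
      (IsFinite f → (f.stalkMap (genericPoint X)).hom.Finite) := by
  obtain ⟨_, ⟨V, hV, rfl⟩, hyV, -⟩ := S.isBasis_affineOpens.exists_subset_of_mem_open
    (Set.mem_univ (f (genericPoint X))) isOpen_univ
  constructor
  · intro h
    exact (aux f V hV hyV).1 (f.isIntegral_app V hV)
  · intro h
    exact (aux f V hV hyV).2 (f.finite_app V hV)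

end Groth.Agent.Helper16.GenInt
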