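import Mathlib
import Groth.Prelude
import Groth.Agent.Lib.Helper16.Alg.AssTen4
import Groth.Agent.Lib.Helper16.Sch.FibStalk

set_option autoImplicit false
set_option linter.style.haveILetI false
universe u
open CategoryTheory CategoryTheory.Limits AlgebraicGeometry Opposite TopologicalSpace TensorProduct
open IsLocalRing

namespace Groth.Agent.Helper16.GenLenSep

open Groth.Agent.Helper16.FibStalk

/-- the stalk at a point without proper generizations has a unique prime. -/
theorem eq_maximalIdeal_of_isPrime_stalk {X : Scheme.{u}} (y : X) (hy : ∀ z : X, z ⤳ y → z = y)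
    (Q : Ideal (X.presheaf.stalk y)) (hQ : Q.IsPrime) : Q = maximalIdeal (X.presheaf.stalk y) := by
  let q : Spec (X.presheaf.stalk y) := ⟨Q, hQ⟩
  have h1 : X.fromSpecStalk y q ∈ Set.range (X.fromSpecStalk y) := ⟨q, rfl⟩
  rw [Scheme.range_fromSpecStalk] at h1
  have h2 : X.fromSpecStalk y q = y := hy _ h1
  have h3 : X.fromSpecStalk y q = X.fromSpecStalk y (IsLocalRing.closedPoint _) := by
    rw [h2, Scheme.fromSpecStalk_closedPoint]
  have h4 : q = IsLocalRing.closedPoint _ :=
    (X.fromSpecStalk y).isEmbedding.injective h3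
  exact congrArg PrimeSpectrum.asIdeal h4

theorem isArtinianRing_stalk {X : Scheme.{u}} [IsLocallyNoetherian X] (y : X)
    (hy : ∀ z : X, z ⤳ y → z = y) : IsArtinianRing (X.presheaf.stalk y) := by
  rw [isArtinianRing_iff_krullDimLE_zero, Ring.krullDimLE_zero_iff]
  intro Q hQ
  rw [eq_maximalIdeal_of_isPrime_stalk y hy Q hQ]
  exact IsLocalRing.maximalIdeal.isMaximal _

/-- **Lengths of local rings at maximal points under flat, geometrically reduced morphisms.** -/
theorem length_stalk_eq {X' X'' : Scheme.{u}} (π : X'' ⟶ X') [Flat π] [GeometricallyReduced π]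
    [IsLocallyNoetherian X'] (x'' : X'') (hx'' : ∀ z : X'', z ⤳ x'' → z = x'') :
    Module.length (X''.presheaf.stalk x'') (X''.presheaf.stalk x'') =
      Module.length (X'.presheaf.stalk (π x'')) (X'.presheaf.stalk (π x'')) := by
  -- the image is a maximal point
  have hx' : ∀ z : X', z ⤳ π x'' → z = π x'' := by
    intro z hz
    obtain ⟨z'', hz'', rfl⟩ := (Flat.generalizingMap π) hz
    rw [hx'' z'' hz'']
  haveI := isArtinianRing_stalk (π x'') hx'
  letI : Algebra (X'.presheaf.stalk (π x'')) (X''.presheaf.stalk x'') :=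
    (π.stalkMap x'').hom.toAlgebra
  haveI : Module.Flat (X'.presheaf.stalk (π x'')) (X''.presheaf.stalk x'') := Flat.stalkMap π x''
  have hfin : IsFiniteLength (X'.presheaf.stalk (π x'')) (X'.presheaf.stalk (π x'')) :=
    isFiniteLength_iff_isNoetherian_isArtinian.mpr ⟨inferInstance, inferInstance⟩
  -- the fibre ideal is the maximal ideal
  have hI : fibIdeal π x'' = maximalIdeal (X''.presheaf.stalk x'') := by
    apply le_antisymm (fibIdeal_le π x'')
    intro b hb
    haveI : IsReduced (X''.presheaf.stalk x'' ⧸ fibIdeal π x'') :=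
      isReduced_of_injective (fibStalkEquiv π x'').toRingHom (fibStalkEquiv π x'').injective
    -- b is nilpotent
    have hnil : IsNilpotent b := by
      rw [← mem_nilradical, nilradical_eq_sInf, Ideal.mem_sInf]
      intro Q hQ
      rw [eq_maximalIdeal_of_isPrime_stalk x'' hx'' Q hQ]
      exact hb
    have h0 : Ideal.Quotient.mk (fibIdeal π x'') b = 0 :=
      (hnil.map (Ideal.Quotient.mk (fibIdeal π x''))).eq_zero
    exact Ideal.Quotient.eq_zero_iff_mem.mp h0
  have key := Groth.Agent.Helper16.AssTen.length_tensor_of_flat'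
    (A := X'.presheaf.stalk (π x'')) (B := X''.presheaf.stalk x'')
    (X''.presheaf.stalk x'') hfin
  have e := TensorProduct.AlgebraTensorModule.rid (X'.presheaf.stalk (π x''))
    (X''.presheaf.stalk x'') (X''.presheaf.stalk x'')
  rw [← e.length_eq, key]
  have hsub : ((maximalIdeal (X'.presheaf.stalk (π x''))).map
      (algebraMap (X'.presheaf.stalk (π x'')) (X''.presheaf.stalk x'')) •
        (⊤ : Submodule (X''.presheaf.stalk x'') (X''.presheaf.stalk x''))) =
      maximalIdeal (X''.presheaf.stalk x'') := by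
    rw [smul_eq_mul, Ideal.mul_top]
    exact hI
  rw [hsub]
  have hsimple : Module.length (X''.presheaf.stalk x'')
      (X''.presheaf.stalk x'' ⧸ maximalIdeal (X''.presheaf.stalk x'')) = 1 := by
    rw [Module.length_eq_one_iff, isSimpleModule_iff_quot_maximal]
    exact ⟨_, IsLocalRing.maximalIdeal.isMaximal _, ⟨LinearEquiv.refl _ _⟩⟩
  rw [hsimple, one_mul]

end Groth.Agent.Helper16.GenLenSep
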