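import Mathlib
import Groth.Agent.Lib.Helper16.Sch.GenND2
import Groth.Agent.Lib.Helper16.Sch.GenSD4

set_option autoImplicit false
set_option linter.style.haveILetI false
universe u
open CategoryTheory CategoryTheory.Limits AlgebraicGeometry Opposite TopologicalSpace TensorProduct

noncomputable section

namespace Groth.Agent.Helper16.GenND

open Groth.Agent.Helper16.GenRed Groth.Agent.Helper16.GenPt Groth.Agent.Helper16.GenSD

/-- density of the preimage under an embedding -/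
theorem dense_preimage_iff {F X : Type*} [TopologicalSpace F] [TopologicalSpace X] {ι : F → X}
    (hι : Topology.IsEmbedding ι) (S : Set X) :
    Dense (ι ⁻¹' S) ↔ Set.range ι ⊆ closure (S ∩ Set.range ι) := by
  have h1 : closure (ι ⁻¹' S) = ι ⁻¹' closure (S ∩ Set.range ι) := by
    rw [hι.closure_eq_preimage_closure_image, Set.image_preimage_eq_inter_range]
  constructor
  · intro hd
    rintro _ ⟨z, rfl⟩
    have : z ∈ closure (ι ⁻¹' S) := hd z
    rw [h1] at this
    exact this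
  · intro h z
    rw [h1]
    exact h ⟨z, rfl⟩

/-- transfer of fibrewise density along a homeomorphism -/
theorem subset_closure_iff_of_homeomorph {X' X Y : Type*} [TopologicalSpace X']
    [TopologicalSpace X] (i : X' ≃ₜ X) (f : X → Y) (y : Y) (U : Set X) :
    (f ∘ i) ⁻¹' {y} ⊆ closure (i ⁻¹' U ∩ (f ∘ i) ⁻¹' {y}) ↔
      f ⁻¹' {y} ⊆ closure (U ∩ f ⁻¹' {y}) := by
  have h1 : (f ∘ i) ⁻¹' {y} = i ⁻¹' (f ⁻¹' {y}) := rfl
  rw [h1, ← Set.preimage_inter, ← i.preimage_closure]
  exact Set.preimage_subset_preimage_iff (by rw [i.range_coe]; exact Set.subset_univ _)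

variable {X Y : Scheme.{u}}

theorem range_fiberι' (f : X ⟶ Y) (y : Y) : Set.range (f.fiberι y) = f ⁻¹' {y} :=
  f.range_fiberι y

theorem main (f : X ⟶ Y) [IrreducibleSpace Y] [LocallyOfFiniteType f] [QuasiCompact f]
    (Z : Set X) (hZ : IsClosed Z)
    (h : IsNowhereDense ((f.fiberι (genericPoint Y)) ⁻¹' Z)) :
    ∃ V : Y.Opens, (V : Set Y).Nonempty ∧ ∀ y ∈ V, IsNowhereDense ((f.fiberι y) ⁻¹' Z) := by
  -- reformulate in terms of density of the complement
  have key : ∀ y, IsNowhereDense ((f.fiberι y) ⁻¹' Z) ↔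
      f ⁻¹' {y} ⊆ closure (Zᶜ ∩ f ⁻¹' {y}) := by
    intro y
    rw [(hZ.preimage (f.fiberι y).continuous).isNowhereDense_iff,
      interior_eq_empty_iff_dense_compl, ← Set.preimage_compl,
      dense_preimage_iff (f.fiberι y).isEmbedding, range_fiberι']
  obtain ⟨X', i, hi, hred, hrange⟩ := exists_closedImmersion_isReduced_range_eq
    (Set.univ : Set X) isClosed_univ
  have hsurj : Function.Surjective i := Set.range_eq_univ.mp hrange
  let e : X' ≃ₜ X := i.isEmbedding.toHomeomorphOfSurjective hsurj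
  let U : X.Opens := ⟨Zᶜ, hZ.isOpen_compl⟩
  have key' : ∀ y, Dense ((i ≫ f).fiberι y ⁻¹' (i ⁻¹ᵁ U : Set X')) ↔
      f ⁻¹' {y} ⊆ closure (Zᶜ ∩ f ⁻¹' {y}) := by
    intro y
    rw [dense_preimage_iff ((i ≫ f).fiberι y).isEmbedding, range_fiberι']
    exact subset_closure_iff_of_homeomorph e f y Zᶜ
  haveI : IsReduced ((i ≫ f).fiber (genericPoint Y)) := isReduced_genericFiber (i ≫ f)
  have hdom : IsSchemeTheoreticallyDominant
      ((i ≫ f).fiberι (genericPoint Y) ⁻¹ᵁ (i ⁻¹ᵁ U)).ι := by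
    haveI : IsDominant ((i ≫ f).fiberι (genericPoint Y) ⁻¹ᵁ (i ⁻¹ᵁ U)).ι := by
      rw [isDominant_iff, DenseRange, Scheme.Opens.range_ι]
      exact (key' _).mpr ((key _).mp h)
    exact IsSchemeTheoreticallyDominant.of_isDominant _
  obtain ⟨V, hV, HV⟩ := GenSD.main (i ≫ f) (i ⁻¹ᵁ U) hdom
  refine ⟨V, hV, fun y hy => ?_⟩
  rw [key, ← key']
  haveI := HV y hy
  have hd : DenseRange ((i ≫ f).fiberι y ⁻¹ᵁ (i ⁻¹ᵁ U)).ι := Scheme.Hom.denseRange _
  rw [DenseRange, Scheme.Opens.range_ι] at hd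
  exact hd

end Groth.Agent.Helper16.GenND
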