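import Mathlib
import Groth.Agent.Lib.Helper16.Sch.GenSm2
import Groth.Agent.Lib.Helper16.Sch.GenND2
import Groth.Agent.Lib.Helper16.Sch.GenGS3

set_option autoImplicit false
set_option linter.style.haveILetI false
universe u
open CategoryTheory CategoryTheory.Limits AlgebraicGeometry Opposite TopologicalSpace

noncomputable section

namespace Groth.Agent.Helper16.GenSm0

open Groth.Agent.Helper16.GenSm Groth.Agent.Helper16.GenND Groth.Agent.Helper16.GenGS
  Groth.Agent.Helper16.SmoothFibreSch

/-- generic smoothness on the source when the residue field of the generic point of the target is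
perfect -/
theorem genericPoint_mem_smoothLocus_of_perfectField (X Y : Scheme.{u}) [IsIntegral X]
    [IsIntegral Y] (f : X ⟶ Y) [IsDominant f] [LocallyOfFinitePresentation f]
    [PerfectField (Y.residueField (genericPoint Y))] :
    genericPoint X ∈ f.smoothLocus := by
  have e : f (genericPoint X) = genericPoint Y := map_genericPoint_of_isDominant f
  have hmem : f.asFiber (genericPoint X) ∈
      (f.fiberToSpecResidueField (f (genericPoint X))).smoothLocus := by
    haveI : IsReduced (f.fiber (f (genericPoint X))) := by
      rw [e]; exact isReduced_genericFiber f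
    haveI : PerfectField (Y.residueField (f (genericPoint X))) := by
      rw [e]; infer_instance
    have hd := Scheme.Hom.dense_smoothLocus_of_perfectField
      (K := Y.residueField (f (genericPoint X)))
      (f.fiberToSpecResidueField (f (genericPoint X)))
    haveI : Nonempty ↥(f.fiber (f (genericPoint X))) := ⟨f.asFiber (genericPoint X)⟩
    obtain ⟨z, hz⟩ := hd.nonempty
    have hsp : f.asFiber (genericPoint X) ⤳ z := by
      rw [← (f.fiberι _).isEmbedding.isInducing.specializes_iff, Scheme.Hom.fiberι_asFiber]
      exact (genericPoint_spec X).specializes (Set.mem_univ _)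
    exact hsp.mem_open (Scheme.Hom.smoothLocus _).isOpen hz
  rw [mem_smoothLocus_iff_flat_and_fiber f (genericPoint X)]
  refine ⟨flat_stalkMap_of_isField f _ ?_, hmem⟩
  rw [e]
  exact (inferInstance : Field Y.functionField).toIsField

end Groth.Agent.Helper16.GenSm0

namespace Groth.Agent.Helper16.GenSm0

open Groth.Agent.Helper16.GenGS

theorem main (k : Type u) [Field k] [CharZero k]
    {X Y : Scheme.{u}} (qX : X ⟶ Spec (CommRingCat.of k)) (qY : Y ⟶ Spec (CommRingCat.of k))
    [LocallyOfFiniteType qX] [LocallyOfFiniteType qY]
    [IsIntegral X] [IsIntegral Y] (f : X ⟶ Y) (hf : f ≫ qY = qX) (hdom : DenseRange f.base) :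
    ∃ U : X.Opens, (U : Set ↥X).Nonempty ∧ Smooth (U.ι ≫ f) := by
  haveI : IsLocallyNoetherian Y := LocallyOfFiniteType.isLocallyNoetherian qY
  haveI : LocallyOfFiniteType (f ≫ qY) := by rw [hf]; infer_instance
  haveI : LocallyOfFiniteType f := locallyOfFiniteType_of_comp f qY
  haveI : IsDominant f := ⟨hdom⟩
  let φ : k →+* Y.residueField (genericPoint Y) :=
    (Spec.preimage (Y.fromSpecResidueField (genericPoint Y) ≫ qY)).hom
  haveI : CharZero (Y.residueField (genericPoint Y)) := charZero_of_injective_ringHom φ.injective
  exact ⟨f.smoothLocus, ⟨genericPoint X, genericPoint_mem_smoothLocus_of_perfectField X Y f⟩,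
    smooth_smoothLocus_ι_comp f⟩

end Groth.Agent.Helper16.GenSm0
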