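import Mathlib
import Groth.Prelude
import Groth.Agent.Lib.Helper16.Sch.GenSm0
import Groth.Agent.Lib.Helper16.Sch.OmegaSmAt
import Groth.Agent.Lib.Helper16.Sch.FibComp1
import Groth.Agent.Lib.Helper14.FibreSmooth
import Groth.Agent.Lib.Helper15.AlgSpFinLocFree
set_option autoImplicit false
set_option linter.style.haveILetI false
universe u
open CategoryTheory CategoryTheory.Limits AlgebraicGeometry Opposite TopologicalSpace

namespace Groth.Agent.Helper16.GenSmDim

/-- transcendence degree is invariant under compatible bijections of base and top. -/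
theorem trdeg_eq_of_bijective {A B k K : Type u} [CommRing A] [Nontrivial A] [CommRing B]
    [CommRing k] [CommRing K] [IsDomain K] (φ : A →+* B) (hφ : Function.Injective φ)
    (g : k →+* K)
    (a : A →+* k) (b : B →+* K) (ha : Function.Bijective a) (hb : Function.Bijective b)
    (hcomm : g.comp a = b.comp φ) :
    @Algebra.trdeg k K _ _ g.toAlgebra = @Algebra.trdeg A B _ _ φ.toAlgebra := by
  letI : Algebra A B := φ.toAlgebra
  letI : Algebra k K := g.toAlgebra
  letI : Algebra A k := a.toAlgebra
  letI : Algebra B K := b.toAlgebra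
  letI : Algebra A K := (g.comp a).toAlgebra
  haveI : IsScalarTower A k K := IsScalarTower.of_algebraMap_eq (fun _ => rfl)
  have hc : ∀ r, g (a r) = b (φ r) := fun r => congrFun (congrArg DFunLike.coe hcomm) r
  haveI : IsScalarTower A B K := IsScalarTower.of_algebraMap_eq (fun r => hc r)
  haveI : Nontrivial k := ha.1.nontrivial
  have hginj : Function.Injective g := by
    intro x y hxy
    obtain ⟨x, rfl⟩ := ha.2 x
    obtain ⟨y, rfl⟩ := ha.2 y
    rw [hc, hc] at hxy
    rw [hφ (hb.1 hxy)]
  haveI : FaithfulSMul A k := (faithfulSMul_iff_algebraMap_injective _ _).mpr ha.1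
  haveI : FaithfulSMul k K := (faithfulSMul_iff_algebraMap_injective _ _).mpr hginj
  haveI : FaithfulSMul A B := (faithfulSMul_iff_algebraMap_injective _ _).mpr hφ
  haveI : FaithfulSMul B K := (faithfulSMul_iff_algebraMap_injective _ _).mpr hb.1
  haveI : Nontrivial B := hφ.nontrivial
  haveI : Algebra.IsAlgebraic A k :=
    haveI := Algebra.isIntegral_of_surjective (R := A) (B := k) ha.2
    Algebra.IsIntegral.isAlgebraic
  haveI : Algebra.IsAlgebraic B K :=
    haveI := Algebra.isIntegral_of_surjective (R := B) (B := K) hb.2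
    Algebra.IsIntegral.isAlgebraic
  have t1 := _root_.trdeg_add_eq A k (A := K)
  have t2 := _root_.trdeg_add_eq A B (A := K)
  have z1 : Algebra.trdeg A k = 0 := _root_.trdeg_eq_zero
  have z2 : Algebra.trdeg B K = 0 := _root_.trdeg_eq_zero
  rw [z1, zero_add] at t1
  rw [z2, add_zero] at t2
  rw [t1, t2]


theorem residue_bijective_of_isField {A : Type*} [CommRing A] [IsLocalRing A] (h : IsField A) :
    Function.Bijective (IsLocalRing.residue A) := by
  refine ⟨?_, Ideal.Quotient.mk_surjective⟩
  rw [injective_iff_map_eq_zero]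
  intro x hx
  by_contra hne
  obtain ⟨y, hy⟩ := h.mul_inv_cancel hne
  have hu : IsUnit x := IsUnit.of_mul_eq_one y hy
  exact (IsLocalRing.residue_ne_zero_iff_isUnit x).mpr hu hx

theorem injective_of_isField {A B : Type*} [CommRing A] [CommRing B] [Nontrivial B]
    (h : IsField A) (φ : A →+* B) : Function.Injective φ := by
  rw [injective_iff_map_eq_zero]
  intro x hx
  by_contra hne
  obtain ⟨y, hy⟩ := h.mul_inv_cancel hne
  have : φ x * φ y = 1 := by rw [← map_mul, hy, map_one]
  rw [hx, zero_mul] at this
  exact zero_ne_one this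

open Groth.Agent.Helper16.FTDim Groth.Agent.Helper16.FibStalk

theorem td_genericPoint (X Y : Scheme.{u}) [IsIntegral X] [IsIntegral Y] (π : X ⟶ Y)
    (hdom : π (genericPoint X) = genericPoint Y) (n : ℕ)
    (hn : @Algebra.trdeg (Y.presheaf.stalk (π (genericPoint X))) X.functionField _ _
      (π.stalkMap (genericPoint X)).hom.toAlgebra = n) :
    td π (genericPoint X) = n := by
  apply td_eq
  rw [← hn]
  have hF : IsField (Y.presheaf.stalk (π (genericPoint X))) := by
    rw [hdom]; exact (inferInstance : Field Y.functionField).toIsField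
  have hFX : IsField (X.presheaf.stalk (genericPoint X)) :=
    (inferInstance : Field X.functionField).toIsField
  refine trdeg_eq_of_bijective (π.stalkMap (genericPoint X)).hom
    (injective_of_isField hF _) (π.residueFieldMap (genericPoint X)).hom
    (Y.residue (π (genericPoint X))).hom (X.residue (genericPoint X)).hom
    (residue_bijective_of_isField hF) (residue_bijective_of_isField hFX) ?_
  have := Scheme.residue_residueFieldMap π (genericPoint X)
  rw [← CommRingCat.hom_comp, ← CommRingCat.hom_comp, this]

theorem main (X Y : Scheme.{u}) [IsIntegral X] [IsIntegral Y] [IsNoetherian Y]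
    (π : X ⟶ Y) [LocallyOfFiniteType π]
    (hdom : π (genericPoint X) = genericPoint Y) [CharZero Y.functionField]
    (n : ℕ) (hn : @Algebra.trdeg (Y.presheaf.stalk (π (genericPoint X))) X.functionField _ _
      (π.stalkMap (genericPoint X)).hom.toAlgebra = n) :
    ∃ U : X.Opens, (U : Set X).Nonempty ∧ SmoothOfRelativeDimension n (U.ι ≫ π) := by
  haveI : LocallyOfFinitePresentation π :=
    Groth.Agent.Helper15.lfp_of_lft_of_isLocallyNoetherian π
  haveI : IsDominant π := by
    refine ⟨?_⟩
    have h1 : Dense ({genericPoint Y} : Set Y) :=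
      dense_iff_closure_eq.mpr (genericPoint_spec Y)
    exact h1.mono (Set.singleton_subset_iff.mpr ⟨genericPoint X, hdom⟩)
  have hFY : IsField (Y.presheaf.stalk (genericPoint Y)) :=
    (inferInstance : Field Y.functionField).toIsField
  haveI : CharZero (Y.residueField (genericPoint Y)) :=
    charZero_of_injective_ringHom (R := Y.functionField)
      (f := (Y.residue (genericPoint Y)).hom) (residue_bijective_of_isField hFY).1
  have hξ := GenSm0.genericPoint_mem_smoothLocus_of_perfectField X Y π
  obtain ⟨V, hV, U, hU, hξU, e, hstd⟩ := OmegaSmAt.exists_chart_isStandardSmooth π _ hξ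
  letI alg : Algebra Γ(Y, V) Γ(X, U) := (π.appLE V U e).hom.toAlgebra
  have hstd' : Algebra.IsStandardSmooth Γ(Y, V) Γ(X, U) := hstd
  obtain ⟨ι, σ, hσ, hι, ⟨P⟩⟩ := hstd'.out
  have hstdm : (π.appLE V U e).hom.IsStandardSmoothOfRelativeDimension P.dimension :=
    ⟨ι, σ, hσ, hι, P, rfl⟩
  have h1 := Groth.Agent.Helper14.FibreSmooth.fibreDimAt_of_isStandardSmoothOfRelativeDimension π
    hV hU e P.dimension hstdm (genericPoint X) hξU
  have h2 := FibComp.fibreDimAt_eq_quot_add_td π (genericPoint X)
  have hFX : IsField (X.presheaf.stalk (genericPoint X)) :=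
    (inferInstance : Field X.functionField).toIsField
  have h3 : ringKrullDim (X.presheaf.stalk (genericPoint X) ⧸ fibIdeal π (genericPoint X)) = 0 := by
    apply le_antisymm
    · refine (ringKrullDim_quotient_le _).trans ?_
      rw [ringKrullDim_eq_zero_of_isField hFX]
    · exact ringKrullDim_nonneg_of_nontrivial
  have h4 : P.dimension = n := by
    rw [h1, h3, zero_add, td_genericPoint X Y π hdom n hn] at h2
    exact_mod_cast h2
  refine ⟨U, ⟨_, hξU⟩, ?_⟩
  rw [h4] at hstdm
  haveI : IsAffine V.toScheme := hV
  haveI : IsAffine U.toScheme := hU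
  have h5 : SmoothOfRelativeDimension n (π.resLE V U e) := by
    rw [HasRingHomProperty.iff_of_isAffine (P := @SmoothOfRelativeDimension n)]
    apply RingHom.locally_of (RingHom.isStandardSmoothOfRelativeDimension_respectsIso (n := n))
    exact ((RingHom.isStandardSmoothOfRelativeDimension_respectsIso (n := n)).arrow_mk_iso_iff
      (arrowResLEAppIso π V U e)).mpr hstdm
  rw [← Scheme.Hom.resLE_comp_ι π e]
  exact inferInstanceAs (SmoothOfRelativeDimension (n + 0) (π.resLE V U e ≫ V.ι))

end Groth.Agent.Helper16.GenSmDim
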