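import Mathlib
import Groth.Agent.Lib.Helper16.Sch.SuppComp1

/-!
# Openness of "equidimensional, no embedded components, and small-codimension points in an open set"
(helper16)
-/

set_option autoImplicit false
set_option linter.style.haveILetI false
set_option linter.unusedSectionVars false
universe u

open AlgebraicGeometry CategoryTheory Limits IsLocalRing TopologicalSpace

namespace Groth.Agent.Helper16.EquiSk

open Groth.Agent.Helper16.FibStalk Groth.Agent.Helper16.FibMod Groth.Agent.Helper16.FTDim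
open Groth.Agent.Helper14

variable {X Y : Scheme.{u}} (f : X ⟶ Y) (ℱ : X.Modules)

/-- the condition "all generizations of `x` in its fibre, of codimension `≤ k` in the support of the
fibre module, lie in `S`". -/
def condG (S : Set X) (k : ℕ) (x : X) : Prop :=
  ∀ z : X, z ⤳ x → f z = f x → cdim f ℱ z ≠ ⊥ → cdim f ℱ z ≤ (k : WithBot ℕ∞) → z ∈ S

variable [LocallyOfFiniteType f] (hF : CohB1.IsFP ℱ)

include hF in
/-- under `condE k x` (`k ≥ 1`) the fibre module is equidimensional at `x`: dimension plus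
transcendence degree is constant along generizations in the fibre. -/
theorem condE_chain (k : ℕ) (hk : 1 ≤ k) (x : X) (hE : condE f ℱ k x) (z : X) (hzx : z ⤳ x)
    (hfz : f z = f x) (hz : cdim f ℱ z ≠ ⊥) :
    cdim f ℱ z + (td f z : WithBot ℕ∞) = cdim f ℱ x + (td f x : WithBot ℕ∞) := by
  obtain ⟨z', hz'z, hfz', hcd0, heq⟩ :=
    exists_generic f ℱ hF z ((cdim_ne_bot_iff f ℱ hF z).mp hz)
  have h0 := cdepth_eq_zero_of_cdim_eq_zero f ℱ hF z' hcd0
  have hz'cd : cdim f ℱ z' ≠ ⊥ := by rw [hcd0]; exact WithBot.zero_ne_bot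
  have hE' := hE z' (hz'z.trans hzx) (hfz'.trans hfz) hz'cd
  rw [h0] at hE'
  obtain ⟨hform, -⟩ := cdim_formula f ℱ hF x
  have h1 := hform z' (hz'z.trans hzx) (hfz'.trans hfz) hz'cd
  rw [heq]
  refine le_antisymm h1 ?_
  rcases min_le_iff.mp hE' with h | h
  · exfalso
    have : k + td f z' ≤ 0 + td f z' := by exact_mod_cast h
    omega
  · refine h.trans (le_of_eq ?_)
    simp

include hF in
/-- **Openness**: the set of points where the fibre module satisfies `condE 1` (equidimensional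
without embedded components) and all small-codimension generizations in the fibre lie in a given
open set. -/
theorem isOpen_condE_condG [LocallyOfFinitePresentation f] (hflat : FlatMod.IsFlatOver f ℱ)
    (S : Set X) (hS : IsOpen S) (k : ℕ) :
    IsOpen {x : X | condE f ℱ 1 x ∧ condG f ℱ S k x} := by
  haveI : SheafOfModules.IsFinitePresentation (R := X.ringCatSheaf) ℱ := hF
  have hclS : IsClosed (CohB1.support ℱ) := Groth.Agent.Helper28.SuppProper.isClosed_support ℱ
  rw [isOpen_iff_forall_mem_open]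
  rintro x₀ ⟨hE₀, hG₀⟩
  by_cases hx₀ : cdim f ℱ x₀ = ⊥
  · -- outside the support
    refine ⟨(CohB1.support ℱ)ᶜ, ?_, hclS.isOpen_compl, ?_⟩
    · intro x hx
      have key : ∀ z : X, z ⤳ x → cdim f ℱ z ≠ ⊥ → False := by
        intro z hzx hz
        exact hx (hzx.mem_closed hclS ((cdim_ne_bot_iff f ℱ hF z).mp hz))
      exact ⟨fun z hzx _ hz => (key z hzx hz).elim, fun z hzx _ hz _ => (key z hzx hz).elim⟩
    · intro h
      exact (cdim_ne_bot_iff f ℱ hF x₀).mpr h hx₀
  obtain ⟨a, b, ha, -, -⟩ := exists_nat_cinvariants f ℱ hF x₀ hx₀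
  set d : ℕ := a + td f x₀ with hd
  have hd' : cdim f ℱ x₀ + (td f x₀ : WithBot ℕ∞) = (d : WithBot ℕ∞) := by
    rw [ha, hd]; push_cast; rfl
  -- the closed set of points with a non-`S` generization of small codimension
  have hclT : IsClosed {x : X | ∃ z : X, z ∈ (Sᶜ ∩ CohB1.support ℱ : Set X) ∧ z ⤳ x ∧ f z = f x ∧
      d - k ≤ td f z} :=
    Groth.Agent.Helper16.FibSk.isClosed_td_ge f
      ⟨Sᶜ ∩ CohB1.support ℱ, hS.isClosed_compl.inter hclS⟩ (d - k)
  refine ⟨{x : X | condE f ℱ 1 x} ∩ (setD f ℱ (d + 1))ᶜ ∩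
      (⋂ j ∈ Finset.range d, (setA f ℱ j)ᶜ) ∩
      {x : X | ∃ z : X, z ∈ (Sᶜ ∩ CohB1.support ℱ : Set X) ∧ z ⤳ x ∧ f z = f x ∧
        d - k ≤ td f z}ᶜ, ?_, ?_, ?_⟩
  · -- the neighbourhood is contained in the set
    rintro x ⟨⟨⟨hE, hD⟩, hA⟩, hT⟩
    refine ⟨hE, ?_⟩
    simp only [Set.mem_iInter, Finset.mem_range, Set.mem_compl_iff] at hA
    intro z hzx hfz hz hzk
    by_contra hzS
    have hzSupp : z ∈ CohB1.support ℱ := (cdim_ne_bot_iff f ℱ hF z).mp hz
    have hxSupp : x ∈ CohB1.support ℱ := hzx.mem_closed hclS hzSupp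
    have hxcd : cdim f ℱ x ≠ ⊥ := (cdim_ne_bot_iff f ℱ hF x).mpr hxSupp
    -- the dimension at `x` is `d`
    obtain ⟨a', b', ha', -, -⟩ := exists_nat_cinvariants f ℱ hF x hxcd
    obtain ⟨z₁, hz₁x, hfz₁, hz₁cd, hz₁eq⟩ := exists_generic f ℱ hF x hxSupp
    rw [ha'] at hz₁eq
    have hz₁eq' : a' + td f x = td f z₁ := by exact_mod_cast hz₁eq
    have hz₁S : z₁ ∈ CohB1.support ℱ := by
      rw [← cdim_ne_bot_iff f ℱ hF z₁, hz₁cd]; exact WithBot.zero_ne_bot
    have hle : td f z₁ ≤ d := by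
      by_contra hcon
      exact hD ⟨z₁, hz₁S, hz₁x, hfz₁, by omega⟩
    have hge : d ≤ td f z₁ := by
      by_contra hcon
      refine hA (td f z₁) (by omega) ((mem_setA_iff f ℱ hF _ x).mpr
        ⟨z₁, hz₁x, hfz₁, cdepth_eq_zero_of_cdim_eq_zero f ℱ hF z₁ hz₁cd, rfl⟩)
    -- the codimension of `z`
    have hchain := condE_chain f ℱ hF 1 le_rfl x hE z hzx hfz hz
    obtain ⟨a'', b'', ha'', -, -⟩ := exists_nat_cinvariants f ℱ hF z hz
    rw [ha'', ha'] at hchain
    have hchain' : a'' + td f z = a' + td f x := by exact_mod_cast hchain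
    rw [ha''] at hzk
    have hzk' : a'' ≤ k := by exact_mod_cast hzk
    exact hT ⟨z, ⟨hzS, hzSupp⟩, hzx, hfz, by omega⟩
  · refine IsOpen.inter (IsOpen.inter (IsOpen.inter (isOpen_condE f ℱ hF hflat 1)
      (isClosed_setD f ℱ hF _).isOpen_compl) ?_) hclT.isOpen_compl
    exact isOpen_biInter_finset fun j _ => (isClosed_setA f ℱ hF hflat j).isOpen_compl
  · refine ⟨⟨⟨hE₀, ?_⟩, ?_⟩, ?_⟩
    · rintro ⟨z, hzS, hzx, hfz, hm⟩
      obtain ⟨hform, -⟩ := cdim_formula f ℱ hF x₀
      have h1 := hform z hzx hfz ((cdim_ne_bot_iff f ℱ hF z).mpr hzS)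
      rw [hd'] at h1
      have h2 : td f z ≤ d := by exact_mod_cast h1
      omega
    · simp only [Set.mem_iInter, Finset.mem_range, Set.mem_compl_iff]
      intro j hj hmem
      obtain ⟨z, hzx, hfz, h0, htd⟩ := (mem_setA_iff f ℱ hF j x₀).mp hmem
      have hzcd : cdim f ℱ z ≠ ⊥ := by
        intro hbot
        rw [cdepth_eq_top_of_cdim_eq_bot f ℱ z hbot] at h0
        exact absurd h0 (by simp)
      have h := hE₀ z hzx hfz hzcd
      rw [h0, hd', htd] at h
      rcases min_le_iff.mp h with h'' | h''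
      · have : 1 + j ≤ 0 + j := by exact_mod_cast h''
        omega
      · have : d ≤ 0 + j := by exact_mod_cast h''
        omega
    · rintro ⟨z, ⟨hzS, hzSupp⟩, hzx, hfz, hm⟩
      have hz : cdim f ℱ z ≠ ⊥ := (cdim_ne_bot_iff f ℱ hF z).mpr hzSupp
      have hchain := condE_chain f ℱ hF 1 le_rfl x₀ hE₀ z hzx hfz hz
      obtain ⟨a'', b'', ha'', -, -⟩ := exists_nat_cinvariants f ℱ hF z hz
      rw [hd', ha''] at hchain
      have hchain' : a'' + td f z = d := by exact_mod_cast hchain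
      apply hzS
      refine hG₀ z hzx hfz hz ?_
      rw [ha'']
      have : a'' ≤ k := by omega
      exact_mod_cast this

end Groth.Agent.Helper16.EquiSk
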