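import Mathlib
import Groth.Agent.Lib.Helper16.Sch.GeomRkOpen1
import Groth.Agent.Lib.Helper16.Sch.GeomRk2
import Groth.Agent.Lib.Helper16.Sch.UnitMod1
import Groth.Agent.Lib.Helper16.Alg.EquiNoEmb
import Groth.Agent.Lib.Helper13.PbUnit
import Groth.Agent.Lib.Helper13.InvTensor
import Groth.Agent.Lib.Lead.Fib2

/-!
# Bridge: the fibre module of the structure sheaf vs the local rings of the fibres; openness of the
locus where the fibre is geometrically `(R_k)`, equidimensional and without embedded components
(helper16)
-/

set_option autoImplicit false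
set_option linter.style.haveILetI false
set_option linter.unusedSectionVars false
universe u

open AlgebraicGeometry CategoryTheory Limits IsLocalRing TopologicalSpace

namespace Groth.Agent.Helper16.EquiSk

open Groth.Agent.Helper16.FibStalk Groth.Agent.Helper16.FibMod Groth.Agent.Helper16.FTDim
open Groth.Agent.Helper14 Groth.Agent.Helper16.UnitMod Groth.Agent.Helper16.SmoothLocusBC

variable {X Y : Scheme.{u}} (f : X ⟶ Y)

/-- the stalk of the pulled back structure module on a fibre is the local ring of the fibre -/
noncomputable def unitFibreEquiv (y : Y) (w : f.fiber y) :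
    ((Scheme.Modules.pullback (f.fiberι y)).obj (Coh.structureModule X)).presheaf.stalk w
      ≃ₗ[(f.fiber y).presheaf.stalk w] (f.fiber y).presheaf.stalk w :=
  (Groth.Agent.Helper13.Inv.stalkLinearEquiv
    (Groth.Agent.Helper13.PbUnit.pullbackUnitIso (f.fiberι y)) w) ≪≫ₗ
    (Groth.Agent.Helper13.WeakAss.unitStalkEquiv w)

section LFT

variable [LocallyOfFiniteType f]

theorem cdim_unit_fibre (y : Y) (w : f.fiber y) :
    cdim f (Coh.structureModule X) (f.fiberι y w) =
      ringKrullDim ((f.fiber y).presheaf.stalk w) := by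
  obtain ⟨h1, -⟩ := fibre_invariants f (Coh.structureModule X) (isFP_structureModule X) y w
  rw [← h1, Module.supportDim_eq_of_equiv (unitFibreEquiv f y w),
    Module.supportDim_self_eq_ringKrullDim]

theorem cdepth_unit_fibre (y : Y) (w : f.fiber y) :
    cdepth f (Coh.structureModule X) (f.fiberι y w) =
      LocCoh.depth ((f.fiber y).presheaf.stalk w) ((f.fiber y).presheaf.stalk w) := by
  obtain ⟨-, h1⟩ := fibre_invariants f (Coh.structureModule X) (isFP_structureModule X) y w
  haveI := isNoetherianRing_fiber_stalk f y w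
  rw [← h1]
  exact Groth.Agent.Lead.Depth.depth_congr (unitFibreEquiv f y w)

theorem cdim_unit_ne_bot (x : X) : cdim f (Coh.structureModule X) x ≠ ⊥ := by
  rw [cdim_ne_bot_iff f _ (isFP_structureModule X), support_structureModule]
  trivial

/-- **equidimensional without embedded primes** for the local ring of a fibre, in terms of the
condition `condE 1` for the structure module. -/
theorem equidim_noEmb_iff_condE (y : Y) (w : f.fiber y) :
    (EGA4.IsEquidim ((f.fiber y).presheaf.stalk w) ∧
      ∀ p ∈ associatedPrimes ((f.fiber y).presheaf.stalk w) ((f.fiber y).presheaf.stalk w),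
        p ∈ minimalPrimes ((f.fiber y).presheaf.stalk w)) ↔
    condE f (Coh.structureModule X) 1 (f.fiberι y w) := by
  haveI := isNoetherianRing_fiber_stalk f y w
  rw [Groth.Agent.Helper16.EquiNoEmb.isEquidim_iff_isEquidimModule,
    Groth.Agent.Helper16.EquiNoEmb.noEmb_iff_hasSk_one,
    ← Groth.Agent.Helper16.EquiNoEmb.isEquidimModule_congr (unitFibreEquiv f y w),
    ← Groth.Agent.Lead.Fib.hasSk_congr 1 (unitFibreEquiv f y w)]
  exact equidim_sk_fibre_iff' f (Coh.structureModule X) (isFP_structureModule X) 1 le_rfl y w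

end LFT

variable [Flat f] [LocallyOfFinitePresentation f]

/-- **geometric `(R_k)` at a point of a fibre** in terms of the smooth locus of `f`. -/
theorem geomRk_iff_condG (k : ℕ) (y : Y) (w : f.fiber y) :
    (∀ (K : Type u) [Field K] [Algebra (IsLocalRing.ResidueField (Y.presheaf.stalk y)) K],
        Module.Finite (IsLocalRing.ResidueField (Y.presheaf.stalk y)) K →
        ∀ x' : ↥(FBase.bc (f.fiberToSpecResidueField y) K),
          (FBase.bcπ (f.fiberToSpecResidueField y) K).base x' = w →
          LocCoh.HasRk k ((FBase.bc (f.fiberToSpecResidueField y) K).presheaf.stalk x')) ↔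
    condG f (Coh.structureModule X) (f.smoothLocus : Set X) k (f.fiberι y w) := by
  have hemb := (f.fiberι y).isEmbedding
  haveI hlfp : @LocallyOfFinitePresentation (f.fiber y)
      (Spec (CommRingCat.of (IsLocalRing.ResidueField (Y.presheaf.stalk y))))
      (f.fiberToSpecResidueField y) := lfp_fiberToSpecResidueField f y
  constructor
  · intro H z hzx hfz _ hzk
    obtain ⟨v, rfl⟩ : z ∈ Set.range (f.fiberι y) := by
      rw [f.range_fiberι]
      exact hfz.trans (apply_fiberι f y w)
    have hvw : v ⤳ w := by
      rw [← hemb.isInducing.specializes_iff]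
      exact hzx
    rw [cdim_unit_fibre] at hzk
    have hv := Groth.Agent.Helper16.GeomRk.mem_smoothLocus_of_geomRk
      (k := IsLocalRing.ResidueField (Y.presheaf.stalk y)) (f.fiberToSpecResidueField y) w k H v hvw hzk
    exact (mem_smoothLocus_iff_flat_and_fiber' f (f.fiberι y v) y (apply_fiberι f y v) v rfl).mpr
      ⟨Flat.stalkMap f _, hv⟩
  · intro H K _ _ hfin x' hx'
    refine Groth.Agent.Helper16.GeomRk.geomRk_of_smooth
      (k := IsLocalRing.ResidueField (Y.presheaf.stalk y)) (f.fiberToSpecResidueField y) K w k ?_ x' hx'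
    intro v hvw hdim
    have hzx : f.fiberι y v ⤳ f.fiberι y w := hemb.isInducing.specializes_iff.mpr hvw
    have h1 := H (f.fiberι y v) hzx ((apply_fiberι f y v).trans (apply_fiberι f y w).symm)
      (cdim_unit_ne_bot f _) (by rw [cdim_unit_fibre]; exact hdim)
    exact ((mem_smoothLocus_iff_flat_and_fiber' f (f.fiberι y v) y (apply_fiberι f y v) v rfl).mp
      h1).2

/-- the open set of points where the fibre is geometrically `(R_k)`, equidimensional and without
embedded components, in terms of the conditions `condE`, `condG`. -/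
theorem isOpen_condE_condG_unit (k : ℕ) :
    IsOpen {x : X | condE f (Coh.structureModule X) 1 x ∧
      condG f (Coh.structureModule X) (f.smoothLocus : Set X) k x} :=
  isOpen_condE_condG f (Coh.structureModule X) (isFP_structureModule X)
    (isFlatOver_structureModule f) _ f.smoothLocus.2 k

/-- **EGA IV 12.1.6-type openness on the total space.** -/
theorem isOpen_geomRk_equidim_noEmb (k : ℕ) :
    IsOpen {x : X | (∀ (K : Type u) [Field K] [Algebra (IsLocalRing.ResidueField (Y.presheaf.stalk (f.base x))) K],
        Module.Finite (IsLocalRing.ResidueField (Y.presheaf.stalk (f.base x))) K →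
        ∀ x' : ↥(FBase.bc (f.fiberToSpecResidueField (f.base x)) K),
          (FBase.bcπ (f.fiberToSpecResidueField (f.base x)) K).base x' = f.asFiber x →
          LocCoh.HasRk k ((FBase.bc (f.fiberToSpecResidueField (f.base x)) K).presheaf.stalk x')) ∧
      EGA4.IsEquidim ↑((f.fiber (f.base x)).presheaf.stalk (f.asFiber x)) ∧ (∀ p ∈ associatedPrimes ↑((f.fiber (f.base x)).presheaf.stalk (f.asFiber x)) ↑((f.fiber (f.base x)).presheaf.stalk (f.asFiber x)), p ∈ minimalPrimes ↑((f.fiber (f.base x)).presheaf.stalk (f.asFiber x)))} := by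
  convert isOpen_condE_condG_unit f k using 1
  ext x
  have hι : f.fiberι (f x) (f.asFiber x) = x := f.fiberι_asFiber x
  have h1 := geomRk_iff_condG f k (f x) (f.asFiber x)
  have h2 := equidim_noEmb_iff_condE f (f x) (f.asFiber x)
  rw [hι] at h1 h2
  simp only [Set.mem_ofPred_eq]
  exact ⟨fun h => ⟨h2.mp h.2, h1.mp h.1⟩, fun h => ⟨h1.mpr h.2, h2.mpr h.1⟩⟩

/-- **EGA IV 12.2.4-type openness on the base**, for a closed morphism. -/
theorem isOpen_forall_geomRk_equidim_noEmb (hcl : IsClosedMap f) (k : ℕ) :
    IsOpen {y : Y | ∀ x : ↥(f.fiber y), (∀ (K : Type u) [Field K] [Algebra (IsLocalRing.ResidueField (Y.presheaf.stalk y)) K],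
        Module.Finite (IsLocalRing.ResidueField (Y.presheaf.stalk y)) K →
        ∀ x' : ↥(FBase.bc (f.fiberToSpecResidueField y) K),
          (FBase.bcπ (f.fiberToSpecResidueField y) K).base x' = x →
          LocCoh.HasRk k ((FBase.bc (f.fiberToSpecResidueField y) K).presheaf.stalk x')) ∧
      EGA4.IsEquidim ↑((f.fiber y).presheaf.stalk x) ∧ (∀ p ∈ associatedPrimes ↑((f.fiber y).presheaf.stalk x) ↑((f.fiber y).presheaf.stalk x), p ∈ minimalPrimes ↑((f.fiber y).presheaf.stalk x))} := by
  have ho := isOpen_condE_condG_unit f k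
  have hc := hcl _ ho.isClosed_compl
  rw [← isClosed_compl_iff]
  convert hc using 1
  ext y
  simp only [Set.mem_compl_iff, Set.mem_ofPred_eq, Set.mem_image]
  constructor
  · intro h
    rw [not_forall] at h
    obtain ⟨w, hw⟩ := h
    refine ⟨f.fiberι y w, ?_, apply_fiberι f y w⟩
    intro h2
    exact hw ⟨(geomRk_iff_condG f k y w).mpr h2.2, (equidim_noEmb_iff_condE f y w).mpr h2.1⟩
  · rintro ⟨x, hx, rfl⟩ h
    apply hx
    have hι : f.fiberι (f x) (f.asFiber x) = x := f.fiberι_asFiber x
    have h1 := geomRk_iff_condG f k (f x) (f.asFiber x)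
    have h2 := equidim_noEmb_iff_condE f (f x) (f.asFiber x)
    rw [hι] at h1 h2
    have := h (f.asFiber x)
    exact ⟨h2.mp this.2, h1.mp this.1⟩

end Groth.Agent.Helper16.EquiSk
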