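import Mathlib
import Groth.Agent.Lib.Helper16.Sch.GeomNormal1
import Groth.Agent.Lib.Helper16.Sch.GeomRkBridge1

/-!
# Openness of the locus where the fibres of a flat morphism are geometrically normal (helper16)
-/

set_option autoImplicit false
set_option linter.style.haveILetI false
set_option linter.unusedSectionVars false
universe u

open AlgebraicGeometry CategoryTheory Limits IsLocalRing TopologicalSpace

namespace Groth.Agent.Helper16.EquiSk

open Groth.Agent.Helper16.FibStalk Groth.Agent.Helper16.FibMod Groth.Agent.Helper16.FTDim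
open Groth.Agent.Helper14 Groth.Agent.Helper16.UnitMod Groth.Agent.Helper16.SmoothLocusBC

variable {X Y : Scheme.{u}} (f : X ⟶ Y)

/-- a local domain is equidimensional -/
theorem isEquidim_of_isDomain (R : Type u) [CommRing R] [IsDomain R] : EGA4.IsEquidim R := by
  intro p hp
  rw [IsDomain.minimalPrimes_eq_singleton_bot, Set.mem_singleton_iff] at hp
  subst hp
  exact ringKrullDim_eq_of_ringEquiv (RingEquiv.quotientBot R)

variable [Flat f] [LocallyOfFinitePresentation f]

/-- **geometric normality at a point of a fibre** (flat case) in terms of `condE`, `condG` and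
`(S_2)`. -/
theorem geomNormal_fibre_iff (y : Y) (w : f.fiber y) :
    (∀ (K : Type u) [Field K] [Algebra (IsLocalRing.ResidueField (Y.presheaf.stalk y)) K],
        Module.Finite (IsLocalRing.ResidueField (Y.presheaf.stalk y)) K →
        ∀ x' : ↥(FBase.bc (f.fiberToSpecResidueField y) K),
          (FBase.bcπ (f.fiberToSpecResidueField y) K).base x' = w →
          IsDomain ((FBase.bc (f.fiberToSpecResidueField y) K).presheaf.stalk x') ∧
            IsIntegrallyClosed ((FBase.bc (f.fiberToSpecResidueField y) K).presheaf.stalk x')) ↔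
    (condE f (Coh.structureModule X) 1 (f.fiberι y w) ∧
      condG f (Coh.structureModule X) (f.smoothLocus : Set X) 1 (f.fiberι y w)) ∧
      LocCoh.HasSk 2 ((f.fiber (f (f.fiberι y w))).presheaf.stalk (f.asFiber (f.fiberι y w)))
        ((f.fiber (f (f.fiberι y w))).presheaf.stalk (f.asFiber (f.fiberι y w))) := by
  have hS2 : LocCoh.HasSk 2 ((f.fiber (f (f.fiberι y w))).presheaf.stalk (f.asFiber (f.fiberι y w)))
        ((f.fiber (f (f.fiberι y w))).presheaf.stalk (f.asFiber (f.fiberι y w))) ↔
      LocCoh.HasSk 2 ((f.fiber y).presheaf.stalk w) ((f.fiber y).presheaf.stalk w) := by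
    have e : (f.fiber y).presheaf.stalk w ≃+*
        (f.fiber (f (f.fiberι y w))).presheaf.stalk (f.asFiber (f.fiberι y w)) :=
      (quotEquivStalkFiberOfEq f y w (f.fiberι y w) rfl).symm.trans (fibStalkEquiv f (f.fiberι y w))
    haveI := isNoetherianRing_fiber_stalk f y w
    haveI := isNoetherianRing_fiber_stalk f (f (f.fiberι y w)) (f.asFiber (f.fiberι y w))
    exact ⟨fun h => Groth.Agent.Helper7.FieldCM.hasSk_of_ringEquiv e.symm 2 h,
      fun h => Groth.Agent.Helper7.FieldCM.hasSk_of_ringEquiv e 2 h⟩
  rw [hS2]
  haveI hlfp : @LocallyOfFinitePresentation (f.fiber y)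
      (Spec (CommRingCat.of (IsLocalRing.ResidueField (Y.presheaf.stalk y))))
      (f.fiberToSpecResidueField y) := lfp_fiberToSpecResidueField f y
  haveI := isNoetherianRing_fiber_stalk f y w
  have hN := Groth.Agent.Helper16.GeomRk.geomNormal_iff
    (k := IsLocalRing.ResidueField (Y.presheaf.stalk y)) (f.fiberToSpecResidueField y) w
  have hG := geomRk_iff_condG f 1 y w
  constructor
  · intro H
    obtain ⟨H1, H2⟩ := hN.mp H
    have hG1 : condG f (Coh.structureModule X) (f.smoothLocus : Set X) 1 (f.fiberι y w) := by
      refine hG.mp ?_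
      intro K _ _ hfin x' hx'
      exact Groth.Agent.Helper16.GeomRk.geomRk_of_smooth
        (k := IsLocalRing.ResidueField (Y.presheaf.stalk y)) (f.fiberToSpecResidueField y) K w 1 H1
        x' hx'
    refine ⟨⟨?_, hG1⟩, H2⟩
    rw [← equidim_noEmb_iff_condE]
    -- the local ring of the fibre is a normal domain
    have hR1 : LocCoh.HasRk 1 ((f.fiber y).presheaf.stalk w) := by
      rw [Groth.Agent.Helper16.GeomRk.hasRk_stalk_iff]
      intro v hv hdim
      exact Groth.Agent.Helper16.GeomRk.isRegularLocalRing_stalk_of_mem_smoothLocus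
        (k := IsLocalRing.ResidueField (Y.presheaf.stalk y)) (f.fiberToSpecResidueField y) v
        (H1 v hv hdim)
    obtain ⟨hdom, -⟩ := Groth.Agent.Helper1.SerreNormal.normal_of_local hR1 H2
    refine ⟨isEquidim_of_isDomain _, ?_⟩
    rw [Groth.Agent.Helper16.EquiNoEmb.noEmb_iff_hasSk_one]
    exact fun p _ => (min_le_min_right _ (by exact_mod_cast one_le_two)).trans (H2 p)
  · rintro ⟨⟨-, hG1⟩, H2⟩
    refine hN.mpr ⟨?_, H2⟩
    intro v hv hdim
    exact Groth.Agent.Helper16.GeomRk.mem_smoothLocus_of_geomRk
      (k := IsLocalRing.ResidueField (Y.presheaf.stalk y)) (f.fiberToSpecResidueField y) w 1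
      (hG.mpr hG1) v hv hdim

/-- the open set of points at which the fibre is geometrically normal (flat case), abstractly. -/
theorem isOpen_normal_aux :
    IsOpen ({x : X | condE f (Coh.structureModule X) 1 x ∧
      condG f (Coh.structureModule X) (f.smoothLocus : Set X) 1 x} ∩
      {x : X | LocCoh.HasSk 2 ((f.fiber (f x)).presheaf.stalk (f.asFiber x))
        ((f.fiber (f x)).presheaf.stalk (f.asFiber x))}) :=
  (isOpen_condE_condG_unit f 1).inter (Groth.Agent.Helper16.FibSk.isOpen_hasSk_fs f 2)

/-- **Openness of the geometrically normal locus of the fibres of a flat morphism.** -/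
theorem isOpen_geomNormal_fibre :
    IsOpen {x : X |
      ∀ (K : Type u) [Field K] [Algebra (IsLocalRing.ResidueField (Y.presheaf.stalk (f.base x))) K],
        Module.Finite (IsLocalRing.ResidueField (Y.presheaf.stalk (f.base x))) K →
        ∀ x' : ↥(FBase.bc (f.fiberToSpecResidueField (f.base x)) K),
          (FBase.bcπ (f.fiberToSpecResidueField (f.base x)) K).base x' = f.asFiber x →
          IsDomain ((FBase.bc (f.fiberToSpecResidueField (f.base x)) K).presheaf.stalk x') ∧
            IsIntegrallyClosed ((FBase.bc (f.fiberToSpecResidueField (f.base x)) K).presheaf.stalk x')} := by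
  convert isOpen_normal_aux f using 1
  ext x
  have hι : f.fiberι (f x) (f.asFiber x) = x := f.fiberι_asFiber x
  have h1 := geomNormal_fibre_iff f (f x) (f.asFiber x)
  rw [hι] at h1
  exact h1

/-- **Openness on the base of the locus of geometrically normal fibres**, for a closed flat
morphism. -/
theorem isOpen_forall_geomNormal_fibre (hcl : IsClosedMap f) :
    IsOpen {y : Y | ∀ x : ↥(f.fiber y), (∀ (K : Type u) [Field K] [Algebra (IsLocalRing.ResidueField (Y.presheaf.stalk y)) K],
        Module.Finite (IsLocalRing.ResidueField (Y.presheaf.stalk y)) K →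
        ∀ x' : ↥(FBase.bc (f.fiberToSpecResidueField y) K),
          (FBase.bcπ (f.fiberToSpecResidueField y) K).base x' = x →
          IsDomain ((FBase.bc (f.fiberToSpecResidueField y) K).presheaf.stalk x') ∧
            IsIntegrallyClosed ((FBase.bc (f.fiberToSpecResidueField y) K).presheaf.stalk x'))} := by
  have ho := isOpen_normal_aux f
  have hc := hcl _ ho.isClosed_compl
  rw [← isClosed_compl_iff]
  convert hc using 1
  ext y
  simp only [Set.mem_compl_iff, Set.mem_ofPred_eq, Set.mem_image]
  constructor
  · intro h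
    rw [not_forall] at h
    obtain ⟨w, hw⟩ := h
    refine ⟨f.fiberι y w, ?_, apply_fiberι f y w⟩
    intro h2
    apply hw
    exact (geomNormal_fibre_iff f y w).mpr h2
  · rintro ⟨x, hx, rfl⟩ h
    apply hx
    have hι : f.fiberι (f x) (f.asFiber x) = x := f.fiberι_asFiber x
    have h1 := geomNormal_fibre_iff f (f x) (f.asFiber x)
    rw [hι] at h1
    exact h1.mp (h (f.asFiber x))

end Groth.Agent.Helper16.EquiSk
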