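import Mathlib
import Groth.Agent.Lib.Helper16.Sch.GeomNormal2
import Groth.Agent.Lib.Helper16.Sch.GeomOI1
import Groth.Agent.Lib.Helper7.StalkNormal

/-!
# Openness of the locus where a morphism is flat with geometrically normal fibre (helper16)
-/

set_option autoImplicit false
set_option linter.style.haveILetI false
set_option linter.unusedSectionVars false
universe u

open AlgebraicGeometry CategoryTheory Limits IsLocalRing TopologicalSpace

namespace Groth.Agent.Helper16.EquiSk

/-- a general principle: a pointwise property of morphisms which is insensitive to open immersions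
of the source and open for flat morphisms locally of finite presentation defines an open
"flat-and" locus. -/
theorem isOpen_flat_and_of_oi (Q : ∀ {X S : Scheme.{u}} (_ : X ⟶ S), X → Prop)
    (oi : ∀ {U X S : Scheme.{u}} (j : U ⟶ X) [IsOpenImmersion j] (f : X ⟶ S) (u : U),
      Q (j ≫ f) u ↔ Q f (j u))
    (hopen : ∀ {X S : Scheme.{u}} (f : X ⟶ S) [Flat f] [LocallyOfFinitePresentation f],
      IsOpen {x | Q f x})
    {X Y : Scheme.{u}} (f : X ⟶ Y) [LocallyOfFinitePresentation f] :
    IsOpen {x : X | (f.stalkMap x).hom.Flat ∧ Q f x} := by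
  let F : X.Opens := ⟨{x : X | (f.stalkMap x).hom.Flat},
    Groth.Agent.Helper21.FL.isOpen_flatLocus_scheme f⟩
  have hst : ∀ z : F.toScheme, ((F.ι ≫ f).stalkMap z).hom.Flat ↔
      (f.stalkMap (F.ι z)).hom.Flat := by
    intro z
    rw [Scheme.Hom.stalkMap_comp]
    exact RingHom.Flat.respectsIso.cancel_right_isIso _ (F.ι.stalkMap z)
  haveI hflat : Flat (F.ι ≫ f) := by
    rw [Flat.iff_flat_stalkMap]
    intro z
    rw [hst]
    exact z.2
  have ho := hopen (F.ι ≫ f)
  have ho' := F.ι.isOpenEmbedding.isOpenMap _ ho
  convert ho' using 1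
  ext x
  constructor
  · rintro ⟨h1, h2⟩
    exact ⟨⟨x, h1⟩, (oi F.ι f ⟨x, h1⟩).mpr h2, rfl⟩
  · rintro ⟨z, hz, rfl⟩
    exact ⟨z.2, (oi F.ι f z).mp hz⟩

/-- **EGA IV 12.1.6 (normal case)**: the set of points where `f` is flat and the fibre is
geometrically normal is open. -/
theorem isOpen_flat_and_geomNormal_fibre {X Y : Scheme.{u}} (f : X ⟶ Y)
    [LocallyOfFinitePresentation f] :
    IsOpen {x : X | (f.stalkMap x).hom.Flat ∧
      ∀ (K : Type u) [Field K] [Algebra (IsLocalRing.ResidueField (Y.presheaf.stalk (f.base x))) K],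
        Module.Finite (IsLocalRing.ResidueField (Y.presheaf.stalk (f.base x))) K →
        ∀ x' : ↥(FBase.bc (f.fiberToSpecResidueField (f.base x)) K),
          (FBase.bcπ (f.fiberToSpecResidueField (f.base x)) K).base x' = f.asFiber x →
          IsDomain ((FBase.bc (f.fiberToSpecResidueField (f.base x)) K).presheaf.stalk x') ∧
            IsIntegrallyClosed ((FBase.bc (f.fiberToSpecResidueField (f.base x)) K).presheaf.stalk x')} := by
  refine isOpen_flat_and_of_oi (fun {X S} f x =>
      ∀ (K : Type u) [Field K] [Algebra (IsLocalRing.ResidueField (S.presheaf.stalk (f.base x))) K],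
        Module.Finite (IsLocalRing.ResidueField (S.presheaf.stalk (f.base x))) K →
        ∀ x' : ↥(FBase.bc (f.fiberToSpecResidueField (f.base x)) K),
          (FBase.bcπ (f.fiberToSpecResidueField (f.base x)) K).base x' = f.asFiber x →
          IsDomain ((FBase.bc (f.fiberToSpecResidueField (f.base x)) K).presheaf.stalk x') ∧
            IsIntegrallyClosed ((FBase.bc (f.fiberToSpecResidueField (f.base x)) K).presheaf.stalk x'))
    ?_ ?_ f
  · intro U X S j _ f u
    exact Groth.Agent.Helper16.GeomOI.geomFin_oi j f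
      (fun R _ => IsDomain R ∧ IsIntegrallyClosed R)
      (fun R R' _ _ e h => Groth.Agent.Helper7.StalkNormal.nor_of_ringEquiv e h) u
  · intro X S f _ _
    exact isOpen_geomNormal_fibre f

end Groth.Agent.Helper16.EquiSk
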