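import Mathlib
import Groth.Agent.Lib.Helper16.Sch.GeomOI1

set_option autoImplicit false
set_option linter.style.haveILetI false
set_option linter.unusedSectionVars false
universe u

open AlgebraicGeometry CategoryTheory Limits IsLocalRing

namespace Groth.Agent.Helper16.GeomOI

variable {U X S : Scheme.{u}} (j : U ⟶ X) [IsOpenImmersion j] (f : X ⟶ S)

/-- **Geometric pointwise properties of the fibres** (tested on all extensions) are insensitive
to open immersions of the source. -/
theorem geomAll_oi (P : ∀ (R : Type u) [CommRing R], Prop)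
    (hP : ∀ (R R' : Type u) [CommRing R] [CommRing R'], (R ≃+* R') → P R → P R') (u : U) :
    (∀ (K : Type u) [Field K]
        [Algebra (IsLocalRing.ResidueField (S.presheaf.stalk ((j ≫ f).base u))) K]
        (x' : ↥(FBase.bc ((j ≫ f).fiberToSpecResidueField ((j ≫ f).base u)) K)),
          (FBase.bcπ ((j ≫ f).fiberToSpecResidueField ((j ≫ f).base u)) K).base x' =
            (j ≫ f).asFiber u →
          P ((FBase.bc ((j ≫ f).fiberToSpecResidueField ((j ≫ f).base u)) K).presheaf.stalk x')) ↔
    (∀ (K : Type u) [Field K]
        [Algebra (IsLocalRing.ResidueField (S.presheaf.stalk (f.base (j u)))) K]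
        (x' : ↥(FBase.bc (f.fiberToSpecResidueField (f.base (j u))) K)),
          (FBase.bcπ (f.fiberToSpecResidueField (f.base (j u))) K).base x' = f.asFiber (j u) →
          P ((FBase.bc (f.fiberToSpecResidueField (f.base (j u))) K).presheaf.stalk x')) := by
  have h := fun (K : Type u) [Field K]
      [Algebra (IsLocalRing.ResidueField (S.presheaf.stalk (f.base (j u)))) K] =>
    forall_stalk_iff (k := IsLocalRing.ResidueField (S.presheaf.stalk (f.base (j u))))
      (fibOI j f (f (j u))) (f.fiberToSpecResidueField (f (j u)))
      ((j ≫ f).fiberToSpecResidueField (f (j u))) (fibOI_str j f (f (j u))) K P hP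
      ((j ≫ f).asFiber u)
  constructor
  · intro H K iF iA x' hx'
    have H' := @H K iF iA
    refine (@h K iF iA).mp H' x' ?_
    rw [fibOI_asFiber]
    exact hx'
  · intro H K iF iA x' hx'
    refine (@h K iF iA).mpr ?_ x' hx'
    intro x hx
    rw [fibOI_asFiber] at hx
    exact @H K iF iA x hx

theorem isGeomReducedAt_oi (u : U) :
    FBase.IsGeomReducedAt ((j ≫ f).fiberToSpecResidueField ((j ≫ f).base u)) ((j ≫ f).asFiber u) ↔
      FBase.IsGeomReducedAt (f.fiberToSpecResidueField (f.base (j u))) (f.asFiber (j u)) :=
  geomAll_oi j f (fun R _ => IsReduced R)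
    (fun R R' _ _ e h => by
      haveI := h
      exact isReduced_of_injective e.symm e.symm.injective) u

end Groth.Agent.Helper16.GeomOI
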