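import Mathlib
import Groth.Prelude
import Groth.Agent.Lib.Helper16.Sch.AssTenS7
import Groth.Agent.Lib.Helper16.Sch.UnitMod1
import Groth.Agent.Lib.Helper13.TensorUnit
import Groth.Agent.Lib.Helper13.PbUnit
import Groth.Agent.Lib.Helper13.InvTensor
import Groth.Agent.Lib.Helper3.NoEmbProd

set_option autoImplicit false
set_option linter.style.haveILetI false
set_option linter.unusedSectionVars false
universe u
open CategoryTheory CategoryTheory.Limits AlgebraicGeometry Opposite TopologicalSpace TensorProduct
open IsLocalRing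

namespace Groth.Agent.Helper16.RedModBC

/-- a reduced local ring whose maximal ideal is an associated prime is a field. -/
theorem maximalIdeal_eq_bot_of_isReduced {R : Type u} [CommRing R] [IsLocalRing R] [IsReduced R]
    (h : IsAssociatedPrime (maximalIdeal R) R) : maximalIdeal R = ⊥ := by
  obtain ⟨hp, x, hx⟩ := h
  have hmem : ∀ a : R, a ∈ maximalIdeal R ↔ ∃ n : ℕ, a ^ n * x = 0 := by
    intro a
    rw [hx, Ideal.mem_radical_iff]
    refine exists_congr fun n => ?_
    rw [Submodule.mem_colon_singleton, Submodule.mem_bot, smul_eq_mul]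
  by_cases hu : IsUnit x
  · rw [eq_bot_iff]
    intro a ha
    obtain ⟨n, hn⟩ := (hmem a).mp ha
    rw [Submodule.mem_bot]
    have h0 : a ^ n = 0 := (hu.mul_left_eq_zero).mp hn
    exact (show IsNilpotent a from ⟨n, h0⟩).eq_zero
  · exfalso
    have hxm : x ∈ maximalIdeal R := (IsLocalRing.mem_maximalIdeal x).mpr hu
    obtain ⟨n, hn⟩ := (hmem x).mp hxm
    have hx0 : x = 0 := by
      have : IsNilpotent x := ⟨n + 1, by rw [pow_succ]; exact hn⟩
      exact this.eq_zero
    have h1 : (1 : R) ∈ maximalIdeal R := (hmem 1).mpr ⟨0, by rw [hx0, mul_zero]⟩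
    exact (Ideal.ne_top_iff_one _).mp hp.ne_top h1

/-- a local ring with zero maximal ideal has length one over itself. -/
theorem length_self_of_maximalIdeal_eq_bot {R : Type u} [CommRing R] [IsLocalRing R]
    (h : maximalIdeal R = ⊥) : Module.length R R = 1 := by
  rw [Module.length_eq_one_iff, isSimpleModule_self_iff_isUnit]
  refine ⟨inferInstance, fun x hx => ?_⟩
  by_contra hu
  have hxm : x ∈ maximalIdeal R := (IsLocalRing.mem_maximalIdeal x).mpr hu
  rw [h, Submodule.mem_bot] at hxm
  exact hx hxm

/-- a local ring of length one over itself is reduced. -/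
theorem isReduced_of_length_self {R : Type u} [CommRing R] [IsLocalRing R]
    (h : Module.length R R = 1) : IsReduced R := by
  rw [Module.length_eq_one_iff, isSimpleModule_self_iff_isUnit] at h
  constructor
  intro x hx
  by_contra hx0
  exact hx.not_isUnit (h.2 x hx0) |>.elim

/-- the maximal ideal of an artinian local ring is associated. -/
theorem isAssociatedPrime_maximalIdeal_of_isArtinianRing {R : Type u} [CommRing R] [IsLocalRing R]
    [IsArtinianRing R] : IsAssociatedPrime (maximalIdeal R) R := by
  obtain ⟨p, hp⟩ := associatedPrimes.nonempty R R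
  have hp' : IsAssociatedPrime p R := hp
  haveI := hp'.isPrime
  haveI : p.IsMaximal := IsArtinianRing.isMaximal_of_isPrime p
  rwa [← IsLocalRing.eq_maximalIdeal ‹p.IsMaximal›]

section Scheme

variable {Z : Scheme.{u}}

theorem mem_ass_structureModule_iff (z : Z) :
    z ∈ AssSch.Ass (Coh.structureModule Z) ↔
      IsAssociatedPrime (maximalIdeal (Z.presheaf.stalk z)) (Z.presheaf.stalk z) :=
  LinearEquiv.isAssociatedPrime_iff (Groth.Agent.Helper13.WeakAss.unitStalkEquiv (X := Z) z)

theorem length_structureModule (z : Z) :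
    Module.length (Z.presheaf.stalk z) ((Coh.structureModule Z).presheaf.stalk z) =
      Module.length (Z.presheaf.stalk z) (Z.presheaf.stalk z) :=
  (Groth.Agent.Helper13.WeakAss.unitStalkEquiv (X := Z) z).length_eq

/-- the structure sheaf of a reduced scheme is a reduced module. -/
theorem isReducedMod_structureModule_of_isReduced [IsReduced Z] :
    AssSch.IsReducedMod (Coh.structureModule Z) := by
  have hbot : ∀ z ∈ AssSch.Ass (Coh.structureModule Z),
      maximalIdeal (Z.presheaf.stalk z) = ⊥ := fun z hz =>
    maximalIdeal_eq_bot_of_isReduced ((mem_ass_structureModule_iff z).mp hz)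
  refine ⟨?_, ?_⟩
  · intro z hz y _ hyz
    refine Groth.Agent.Helper3.NoEmbProd.eq_of_specializes_of_unique_prime z y ?_ hyz
    intro Q hQ
    rw [hbot z hz]
    apply le_antisymm
    · rw [← hbot z hz]
      exact IsLocalRing.le_maximalIdeal hQ.ne_top
    · exact bot_le
  · intro z hz
    rw [length_structureModule]
    exact length_self_of_maximalIdeal_eq_bot (hbot z hz)

/-- conversely, if all stalks are artinian. -/
theorem isReduced_of_isReducedMod_structureModule
    (hart : ∀ z : Z, IsArtinianRing (Z.presheaf.stalk z))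
    (h : AssSch.IsReducedMod (Coh.structureModule Z)) : IsReduced Z := by
  haveI : ∀ z : Z, _root_.IsReduced (Z.presheaf.stalk z) := by
    intro z
    haveI := hart z
    have hz : z ∈ AssSch.Ass (Coh.structureModule Z) :=
      (mem_ass_structureModule_iff z).mpr isAssociatedPrime_maximalIdeal_of_isArtinianRing
    have := h.2 z hz
    rw [length_structureModule] at this
    exact isReduced_of_length_self this
  exact isReduced_of_isReduced_stalk Z

end Scheme

section Iso

variable {X : Scheme.{u}}

theorem ass_eq_of_iso {M N : X.Modules} (e : M ≅ N) : AssSch.Ass M = AssSch.Ass N := by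
  ext x
  exact LinearEquiv.isAssociatedPrime_iff (Groth.Agent.Helper13.Inv.stalkLinearEquiv e x)

theorem isReducedMod_of_iso {M N : X.Modules} (e : M ≅ N) (h : AssSch.IsReducedMod M) :
    AssSch.IsReducedMod N := by
  have hA := ass_eq_of_iso e
  refine ⟨?_, ?_⟩
  · intro x hx y hy hyx
    exact h.1 x (hA ▸ hx) y (hA ▸ hy) hyx
  · intro x hx
    rw [← (Groth.Agent.Helper13.Inv.stalkLinearEquiv e x).length_eq]
    exact h.2 x (hA ▸ hx)

theorem isReducedMod_iff_of_iso {M N : X.Modules} (e : M ≅ N) :
    AssSch.IsReducedMod M ↔ AssSch.IsReducedMod N :=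
  ⟨isReducedMod_of_iso e, isReducedMod_of_iso e.symm⟩

end Iso

end Groth.Agent.Helper16.RedModBC
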