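import Mathlib
import Groth.Prelude
import Groth.Agent.Lib.Helper16.Sch.RedModBC1
import Groth.Agent.Lib.Helper16.Sch.AssTen6

set_option autoImplicit false
set_option linter.style.haveILetI false
set_option linter.unusedSectionVars false
universe u
open CategoryTheory CategoryTheory.Limits AlgebraicGeometry Opposite TopologicalSpace TensorProduct
open IsLocalRing

namespace Groth.Agent.Helper16.RedModBC

theorem isCoh_structureModule (X : Scheme.{u}) : Coh.IsCoh (Coh.structureModule X) := by
  haveI : SheafOfModules.IsFinitePresentation (R := X.ringCatSheaf) (Coh.structureModule X) :=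
    Groth.Agent.Helper16.UnitMod.isFP_structureModule X
  exact ⟨Groth.Agent.Helper13.QCoh.isQuasicoherent_unit X, inferInstance⟩

/-- reducedness of a flat pullback in terms of the fibres. -/
theorem isReducedMod_pullback_iff {X' X : Scheme.{u}} (f : X' ⟶ X) [Flat f]
    [IsLocallyNoetherian X] (E : X.Modules) (hE : Coh.IsCoh E) :
    AssSch.IsReducedMod ((Scheme.Modules.pullback f).obj E) ↔
      ∀ y ∈ AssSch.Ass E ∩ Set.range f,
        (∀ y' ∈ AssSch.Ass E, y' ⤳ y → y' = y) ∧
          Module.length (X.presheaf.stalk y) (E.presheaf.stalk y) = 1 ∧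
          AssSch.IsReducedMod (Coh.structureModule (f.fiber y)) := by
  have h := Groth.Agent.Helper16.AssTen.isReducedMod_tensor_iff f E hE (Coh.structureModule X')
    (isCoh_structureModule X') (Groth.Agent.Helper16.UnitMod.isFlatOver_structureModule f)
  rw [Groth.Agent.Helper16.UnitMod.support_structureModule, Set.image_univ] at h
  rw [← isReducedMod_iff_of_iso (Groth.Agent.Helper13.Tensor.rid _).symm] at h
  rw [h]
  refine forall₂_congr fun y hy => ?_
  rw [isReducedMod_iff_of_iso (Groth.Agent.Helper13.PbUnit.pullbackUnitIso (f.fiberι y))]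

end Groth.Agent.Helper16.RedModBC
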