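import Mathlib
import Groth.Prelude
import Groth.Agent.Lib.Helper16.Sch.RedModBC2
import Groth.Agent.Lib.Helper16.Sch.BCRed
import Groth.Agent.Lib.Helper16.Sch.GenLenSep

set_option autoImplicit false
set_option linter.style.haveILetI false
set_option linter.unusedSectionVars false
universe u
open CategoryTheory CategoryTheory.Limits AlgebraicGeometry Opposite TopologicalSpace TensorProduct
open IsLocalRing

namespace Groth.Agent.Helper16.RedModBC

/-- the stalks of a scheme finite over a field are artinian. -/
theorem isArtinianRing_stalk_of_isFinite {Z : Scheme.{u}} {κ : CommRingCat.{u}} [IsArtinianRing κ]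
    (p : Z ⟶ Spec κ) [IsFinite p] (z : Z) :
    IsArtinianRing (Z.presheaf.stalk z) := by
  haveI : IsAffine Z := isAffine_of_isAffineHom p
  have hfin : p.appTop.hom.Finite := p.finite_appTop
  haveI h0 : IsArtinianRing Γ(Spec κ, ⊤) :=
    (Scheme.ΓSpecIso κ).commRingCatIsoToRingEquiv.symm.isArtinianRing
  letI := p.appTop.hom.toAlgebra
  haveI : Module.Finite Γ(Spec κ, ⊤) Γ(Z, ⊤) := hfin
  haveI h1 : IsArtinianRing Γ(Z, ⊤) :=
    IsArtinianRing.of_finite Γ(Spec κ, ⊤) Γ(Z, ⊤)
  haveI : IsLocallyArtinian (Spec Γ(Z, ⊤)) := Scheme.isLocallyArtinianScheme_Spec.mpr h1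
  haveI : IsLocallyArtinian Z := IsLocallyArtinian.of_isImmersion Z.isoSpec.hom
  exact Groth.Agent.Helper16.GenLenSep.isArtinianRing_stalk z (fun w hw => hw.eq)

variable {k : Type u} [Field k] {X : Scheme.{u}} (f : X ⟶ Spec (CommRingCat.of k))

instance flat_bcπ' (K : Type u) [Field K] [Algebra k K] : Flat (FBase.bcπ f K) := by
  haveI : Flat (Spec.map (CommRingCat.ofHom (algebraMap k K))) := by
    rw [Flat.SpecMap_iff]
    exact RingHom.flat_algebraMap_iff.mpr inferInstance
  exact inferInstanceAs (Flat (Limits.pullback.fst f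
    (Spec.map (CommRingCat.ofHom (algebraMap k K)))))

theorem isFinite_bcπ' (K : Type u) [Field K] [Algebra k K] [Module.Finite k K] :
    IsFinite (FBase.bcπ f K) := by
  haveI : IsFinite (Spec.map (CommRingCat.ofHom (algebraMap k K))) := by
    rw [IsFinite.SpecMap_iff]
    show (algebraMap k K).Finite
    rw [RingHom.finite_algebraMap]
    infer_instance
  exact inferInstanceAs (IsFinite (Limits.pullback.fst f
    (Spec.map (CommRingCat.ofHom (algebraMap k K)))))

theorem surjective_bcπ' (K : Type u) [Field K] [Algebra k K] :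
    Function.Surjective (FBase.bcπ f K) := by
  haveI : Surjective (Spec.map (CommRingCat.ofHom (algebraMap k K))) := by
    have h : (CommRingCat.ofHom (algebraMap k K)).hom.FaithfullyFlat := by
      show (algebraMap k K).FaithfullyFlat
      rw [RingHom.faithfullyFlat_algebraMap_iff]
      infer_instance
    exact ((flat_and_surjective_SpecMap_iff _).mpr h).2
  haveI : Surjective (FBase.bcπ f K) :=
    inferInstanceAs (Surjective (Limits.pullback.fst f
      (Spec.map (CommRingCat.ofHom (algebraMap k K)))))
  exact (FBase.bcπ f K).surjective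

/-- the fibre of `X_K → X` over `y` is the base change of `Spec κ(y)`. -/
noncomputable def fiberIso (K : Type u) [Field K] [Algebra k K] (y : X) :
    (FBase.bcπ f K).fiber y ≅ FBase.bc (X.fromSpecResidueField y ≫ f) K :=
  pullbackSymmetry _ _ ≪≫
    pullbackRightPullbackFstIso f (Spec.map (CommRingCat.ofHom (algebraMap k K)))
      (X.fromSpecResidueField y)

theorem isReduced_fiber_iff (K : Type u) [Field K] [Algebra k K] (y : X) :
    IsReduced ((FBase.bcπ f K).fiber y) ↔ IsReduced (FBase.bc (X.fromSpecResidueField y ≫ f) K) :=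
  ⟨fun _ => isReduced_of_isOpenImmersion (fiberIso f K y).inv,
    fun _ => isReduced_of_isOpenImmersion (fiberIso f K y).hom⟩

/-- the main implication. -/
theorem isReducedMod_bc [IsLocallyNoetherian X] (F : X.Modules) (hF : Coh.IsCoh F)
    (H : ∀ (k' : Type u) [Field k'] [Algebra k k'] [FiniteDimensional k k']
      [IsPurelyInseparable k k'],
        AssSch.IsReducedMod ((Scheme.Modules.pullback (FBase.bcπ f k')).obj F))
    (K : Type u) [Field K] [Algebra k K] :
    AssSch.IsReducedMod ((Scheme.Modules.pullback (FBase.bcπ f K)).obj F) := by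
  have H' : ∀ (k' : Type u) [Field k'] [Algebra k k'] [FiniteDimensional k k']
      [IsPurelyInseparable k k'], ∀ y ∈ AssSch.Ass F,
        (∀ y' ∈ AssSch.Ass F, y' ⤳ y → y' = y) ∧
          Module.length (X.presheaf.stalk y) (F.presheaf.stalk y) = 1 ∧
          AssSch.IsReducedMod (Coh.structureModule ((FBase.bcπ f k').fiber y)) := by
    intro k' _ _ _ _ y hy
    exact (isReducedMod_pullback_iff (FBase.bcπ f k') F hF).mp (H k') y
      ⟨hy, surjective_bcπ' f k' y⟩
  rw [isReducedMod_pullback_iff (FBase.bcπ f K) F hF]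
  rintro y ⟨hy, -⟩
  obtain ⟨hmax, hlen, -⟩ := H' k y hy
  refine ⟨hmax, hlen, ?_⟩
  haveI : IsReduced ((FBase.bcπ f K).fiber y) := by
    rw [isReduced_fiber_iff]
    apply Groth.Agent.Helper16.BCRed.isReduced_bc_of_forall_finite_purelyInseparable
    intro k' _ _ hfin hpi
    rw [← isReduced_fiber_iff]
    haveI := hfin
    haveI := hpi
    haveI := isFinite_bcπ' f k'
    haveI : IsFinite ((FBase.bcπ f k').fiberToSpecResidueField y) :=
      inferInstanceAs (IsFinite (Limits.pullback.snd (FBase.bcπ f k')
        (X.fromSpecResidueField y)))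
    haveI : IsArtinianRing (X.residueField y) := inferInstance
    exact isReduced_of_isReducedMod_structureModule
      (fun z => isArtinianRing_stalk_of_isFinite
        ((FBase.bcπ f k').fiberToSpecResidueField y) z) (H' k' y hy).2.2
  exact isReducedMod_structureModule_of_isReduced

end Groth.Agent.Helper16.RedModBC
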