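import Mathlib
import Groth.Prelude.Def_FDesc
import Groth.Agent.S4647
import Groth.Agent.Lib.Helper18.StalkBC4
import Groth.Agent.Lib.Helper16.Sch.BCRed
import Groth.Agent.Lib.Helper7.Geom2
import Groth.Agent.Lib.Helper16.Sch.RedModBC3
import Groth.Agent.Lib.Helper16.Top.IrrConn

/-!
# Geometric pointwise integrality = geometrically reduced + (#irreducible = #connected components)
(helper16)
-/

set_option autoImplicit false
set_option linter.style.haveILetI false
set_option linter.unusedSectionVars false
universe u
open CategoryTheory CategoryTheory.Limits AlgebraicGeometry TopologicalSpace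

namespace Groth.Agent.Helper16.GeomPtInt

open Groth.Agent.Helper16.IrrConn

/-- on a scheme with Noetherian underlying space, all local rings are domains iff the scheme is reduced
and every point lies on only one irreducible component -/
theorem forall_isDomain_stalk_iff (Z : Scheme.{u}) [NoetherianSpace Z] :
    (∀ z : Z, IsDomain (Z.presheaf.stalk z)) ↔ IsReduced Z ∧ UniqueComp Z := by
  constructor
  · intro h
    have : ∀ z : Z, _root_.IsReduced (Z.presheaf.stalk z) := fun z => by
      have := h z; infer_instance
    refine ⟨isReduced_of_isReduced_stalk Z, uniqueComp_of_forall_nhd fun t => ?_⟩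
    obtain ⟨U, htU, hU⟩ := Groth.Agent.S4647.result (𝟙 Z) h
      (fun y => ⟨⊤, trivial, NoetherianSpace.set (Set.univ : Set Z)⟩) t
    refine ⟨U, U.2, ?_, htU⟩
    have : IrreducibleSpace ↥(U : Scheme.{u}) := inferInstance
    exact isIrreducible_iff_irreducibleSpace.2 this
  · rintro ⟨hred, hu⟩ z
    obtain ⟨W, hWo, hW, hzW⟩ := exists_nhd_of_uniqueComp hu z
    let U : Z.Opens := ⟨W, hWo⟩
    have hUi : IsIrreducible (U : Set Z) := hW
    have : IrreducibleSpace ↥(U : Scheme.{u}) := isIrreducible_iff_irreducibleSpace.1 hUi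
    have : IsIntegral (U : Scheme.{u}) := isIntegral_of_irreducibleSpace_of_isReduced _
    have h1 : IsDomain ((U : Scheme.{u}).presheaf.stalk ⟨z, hzW⟩) := inferInstance
    exact (Groth.Agent.Helper18.StalkBC.isDomain_stalk_iff U.ι ⟨z, hzW⟩).mp h1

variable {k : Type u} [Field k] {X : Scheme.{u}} (f : X ⟶ Spec (CommRingCat.of k))

/-- a reduced scheme over a perfect field is geometrically reduced -/
theorem geometricallyReduced_of_perfectField [PerfectField k] [IsReduced X] :
    GeometricallyReduced f := by
  refine ⟨fun K _ y Z fst snd hsq => ?_⟩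
  letI : Algebra k K := (Spec.preimage y).hom.toAlgebra
  have hy : Spec.map (CommRingCat.ofHom (algebraMap k K)) = y := Spec.map_preimage y
  have hsq' : IsPullback fst snd f (Spec.map (CommRingCat.ofHom (algebraMap k K))) := by
    rw [hy]; exact hsq
  haveI : IsReduced (pullback f (Spec.map (CommRingCat.ofHom (algebraMap k K)))) :=
    Groth.Agent.Helper16.BCRed.isReduced_bc_of_perfectField f K
  exact isReduced_of_isOpenImmersion hsq'.isoPullback.hom

/-- geometric reducedness can be tested after base change to one perfect extension -/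
theorem geometricallyReduced_iff_isReduced_bc (Ω : Type u) [Field Ω] [Algebra k Ω] [PerfectField Ω] :
    GeometricallyReduced f ↔ IsReduced (FBase.bc f Ω) := by
  constructor
  · intro H
    exact GeometricallyReduced.geometrically_isReduced (f := f)
      (Spec.map (CommRingCat.ofHom (algebraMap k Ω))) (FBase.bcπ f Ω) (FBase.bcStr f Ω)
      (IsPullback.of_hasPullback _ _)
  · intro H
    have hsurj : Surjective (Spec.map (CommRingCat.ofHom (algebraMap k Ω))) :=
      ⟨fun x => ⟨Nonempty.some inferInstance, Subsingleton.elim _ _⟩⟩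
    have h : GeometricallyReduced (FBase.bcStr f Ω) := geometricallyReduced_of_perfectField _
    constructor
    refine Groth.Agent.Helper7.geometrically_of_pullback_snd_surjective_flat
      (fun Z => AlgebraicGeometry.IsReduced Z) ?_ f
      (Spec.map (CommRingCat.ofHom (algebraMap k Ω))) ?_
    · intro A B φ hφ hfl hA
      exact Groth.Agent.Helper7.isReduced_of_flat_surjective φ
    · exact h.geometrically_isReduced

theorem noetherianSpace_bc (K : Type u) [Field K] [Algebra k K] [LocallyOfFiniteType f]
    [QuasiCompact f] : NoetherianSpace ↥(FBase.bc f K) := by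
  haveI : LocallyOfFiniteType (FBase.bcStr f K) :=
    MorphismProperty.pullback_snd (P := @LocallyOfFiniteType) _ _ inferInstance
  haveI : QuasiCompact (FBase.bcStr f K) :=
    MorphismProperty.pullback_snd (P := @QuasiCompact) _ _ inferInstance
  haveI : IsLocallyNoetherian (FBase.bc f K) :=
    LocallyOfFiniteType.isLocallyNoetherian (FBase.bcStr f K)
  haveI : CompactSpace ↥(FBase.bc f K) :=
    QuasiCompact.compactSpace_of_compactSpace (FBase.bcStr f K)
  haveI : IsNoetherian (FBase.bc f K) := {}
  infer_instance

theorem forall_isGeomPtIntegralAt_iff (Ω : Type u) [Field Ω] [Algebra k Ω] [IsAlgClosed Ω] :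
    (∀ x : X, FBase.IsGeomPtIntegralAt f x) ↔
      ∀ z : ↥(FBase.bc f Ω), IsDomain ((FBase.bc f Ω).presheaf.stalk z) := by
  constructor
  · intro h z
    exact h _ Ω z rfl
  · intro h x
    obtain ⟨z, hz⟩ := Groth.Agent.Helper16.RedModBC.surjective_bcπ' f Ω x
    rw [Groth.Agent.Helper18.StalkBC.isGeomPtIntegralAt_iff_bc f Ω x z hz,
      Groth.Agent.Helper18.StalkBC.isGeomPtIntegralAt_iff_isDomain]
    exact h z

theorem main4649 {Ω : Type u} [Field Ω] [Algebra k Ω] [IsAlgClosed Ω]
    [LocallyOfFiniteType f] [QuasiCompact f] :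
    (∀ x : X, FBase.IsGeomPtIntegralAt f x) ↔
      (GeometricallyReduced f ∧
        Nat.card ↥(irreducibleComponents ↥(FBase.bc f Ω)) =
          Nat.card (_root_.ConnectedComponents ↥(FBase.bc f Ω))) := by
  haveI := noetherianSpace_bc f Ω
  rw [forall_isGeomPtIntegralAt_iff f Ω, forall_isDomain_stalk_iff,
    geometricallyReduced_iff_isReduced_bc f Ω]
  constructor
  · rintro ⟨h1, h2⟩; exact ⟨h1, card_eq_of_uniqueComp h2⟩
  · rintro ⟨h1, h2⟩; exact ⟨h1, uniqueComp_of_card_eq h2⟩

end Groth.Agent.Helper16.GeomPtInt
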