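import Mathlib
import Groth.Agent.Lib.Helper16.Sch.GeomNormal1
import Groth.Agent.S0602

/-!
# Geometric reducedness at a point of a scheme locally of finite type over a field (helper16)
-/

set_option autoImplicit false
set_option linter.style.haveILetI false
set_option linter.unusedSectionVars false
universe u

open AlgebraicGeometry CategoryTheory Limits IsLocalRing
open scoped TensorProduct

namespace Groth.Agent.Helper16.GeomRk

variable {k : Type u} [Field k] {W : Scheme.{u}} (g : W ⟶ Spec (CommRingCat.of k))

/-- **Geometric reducedness at a point** in terms of the smooth locus and `(S_1)`. -/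
theorem geomReduced_iff [LocallyOfFinitePresentation g] (w : W) :
    FBase.IsGeomReducedAt g w ↔
    (∀ v : W, v ⤳ w → ringKrullDim (W.presheaf.stalk v) ≤ ((0 : ℕ) : WithBot ℕ∞) →
      v ∈ g.smoothLocus) ∧ LocCoh.HasSk 1 (W.presheaf.stalk w) (W.presheaf.stalk w) := by
  haveI := isLocallyNoetherian_of_lft g
  constructor
  · intro H
    refine ⟨?_, ?_⟩
    · refine mem_smoothLocus_of_geomRk g w 0 ?_
      intro K _ _ hfin w' hw'
      haveI : IsLocallyNoetherian (FBase.bc g K) := isLocallyNoetherian_of_lft (FBase.bcStr g K)
      haveI := H K w' hw'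
      exact ((Groth.Agent.S0602.result _).mp inferInstance).1
    · obtain ⟨w', hw'⟩ := (FBase.bcπ g k).surjective w
      haveI : IsLocallyNoetherian (FBase.bc g k) := isLocallyNoetherian_of_lft (FBase.bcStr g k)
      haveI := H k w' hw'
      have h2 := ((Groth.Agent.S0602.result ((FBase.bc g k).presheaf.stalk w')).mp inferInstance).2
      have h3 := (hasSk_stalk_bc_iff g k 1 w').mp h2
      have : (FBase.bcπ g k) w' = w := hw'
      rw [this] at h3
      exact h3
  · rintro ⟨H1, H2⟩ K _ _ w' hw'
    haveI : IsLocallyNoetherian (FBase.bc g K) := isLocallyNoetherian_of_lft (FBase.bcStr g K)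
    have hR0 := geomRk_of_smooth g K w 0 H1 w' hw'
    have hS1 : LocCoh.HasSk 1 ((FBase.bc g K).presheaf.stalk w')
        ((FBase.bc g K).presheaf.stalk w') := by
      rw [hasSk_stalk_bc_iff g K 1 w']
      have : (FBase.bcπ g K) w' = w := hw'
      rw [this]
      exact H2
    exact (Groth.Agent.S0602.result _).mpr ⟨hR0, hS1⟩

end Groth.Agent.Helper16.GeomRk
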