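import Mathlib
import Groth.Agent.Lib.Helper16.Sch.GeomRkOpen1
import Groth.Agent.Lib.Helper16.Sch.SuppComp4

/-!
# Openness of "no embedded components and maximal points of the fibre in an open set" (helper16)
-/

set_option autoImplicit false
set_option linter.style.haveILetI false
set_option linter.unusedSectionVars false
universe u

open AlgebraicGeometry CategoryTheory Limits IsLocalRing TopologicalSpace

namespace Groth.Agent.Helper16.EquiSk

open Groth.Agent.Helper16.FibStalk Groth.Agent.Helper16.FibMod Groth.Agent.Helper16.FTDim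
open Groth.Agent.Helper14

variable {X Y : Scheme.{u}} (f : X ⟶ Y) (ℱ : X.Modules)

variable [LocallyOfFiniteType f] (hF : CohB1.IsFP ℱ)

include hF in
/-- lying on no embedded component of the fibre module, pointwise. -/
theorem not_mem_iUnion_setE_iff (x : X) :
    x ∉ ⋃ j, setE f ℱ j ↔
      ∀ z : X, z ⤳ x → f z = f x → cdepth f ℱ z = 0 → cdim f ℱ z = 0 := by
  simp only [Set.mem_iUnion, not_exists]
  constructor
  · intro H z hzx hfz h0
    by_contra hne
    exact H (td f z) ((mem_setE_iff f ℱ hF _ x).mpr ⟨z, hzx, hfz, h0, rfl, hne⟩)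
  · intro H j hj
    obtain ⟨z, hzx, hfz, h0, -, hne⟩ := (mem_setE_iff f ℱ hF j x).mp hj
    exact hne (H z hzx hfz h0)

/-- the set `A_j^Z`. -/
def setAZ (Z : Set X) (j : ℕ) : Set X :=
  {x | ∃ z : X, z ∈ (Z ∩ lowRd f ℱ (j + 1) : Set X) ∧ z ⤳ x ∧ f z = f x ∧ j ≤ td f z}

include hF in
theorem setAZ_subset_setD (Z : Set X) (j : ℕ) : setAZ f ℱ Z j ⊆ setD f ℱ j := by
  rintro x ⟨z, ⟨-, hzC⟩, hzx, hfz, hj⟩
  obtain ⟨h0, -⟩ := (mem_lowRd_iff f ℱ hF j z hj).mp hzC
  exact ⟨z, mem_support_of_cdepth_eq_zero f ℱ hF z h0, hzx, hfz, hj⟩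

include hF in
/-- **Openness**: the set of points lying on no embedded component of the fibre module and all of
whose maximal generizations in the support of the fibre module lie in a given open set. -/
theorem isOpen_noEmb_condG_zero [LocallyOfFinitePresentation f] (hflat : FlatMod.IsFlatOver f ℱ)
    (S : Set X) (hS : IsOpen S) :
    IsOpen {x : X | x ∉ ⋃ j, setE f ℱ j ∧ condG f ℱ S 0 x} := by
  have hclA : ∀ j, IsClosed (setAZ f ℱ Sᶜ j) := by
    intro j
    have hcl : IsClosed (Sᶜ ∩ lowRd f ℱ (j + 1)) :=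
      hS.isClosed_compl.inter (isOpen_rdepth_ge f ℱ hF hflat (j + 1)).isClosed_compl
    exact Groth.Agent.Helper16.FibSk.isClosed_td_ge f ⟨_, hcl⟩ j
  have hclU : IsClosed (⋃ j, setAZ f ℱ Sᶜ j) := by
    have := isClosed_iUnion_of_subset_setD f ℱ hF (setAZ f ℱ Sᶜ) hclA
      (setAZ_subset_setD f ℱ hF Sᶜ) Set.univ
    simpa using this
  have hopen := (isClosed_iUnion_setE f ℱ hF hflat).isOpen_compl.inter hclU.isOpen_compl
  convert hopen using 1
  ext x
  simp only [Set.mem_ofPred_eq, Set.mem_inter_iff, Set.mem_compl_iff]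
  constructor
  · rintro ⟨hE, hG⟩
    refine ⟨hE, ?_⟩
    simp only [Set.mem_iUnion, not_exists]
    rintro j ⟨z, ⟨hzS, hzC⟩, hzx, hfz, hj⟩
    obtain ⟨h0, -⟩ := (mem_lowRd_iff f ℱ hF j z hj).mp hzC
    have hcd0 := (not_mem_iUnion_setE_iff f ℱ hF x).mp hE z hzx hfz h0
    apply hzS
    refine hG z hzx hfz (by rw [hcd0]; exact WithBot.zero_ne_bot) ?_
    rw [hcd0]
    exact le_of_eq (by simp)
  · rintro ⟨hE, hA⟩
    refine ⟨hE, ?_⟩
    intro z hzx hfz hz hzk
    by_contra hzS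
    obtain ⟨a, b, ha, -, -⟩ := exists_nat_cinvariants f ℱ hF z hz
    have ha0 : a = 0 := by
      rw [ha] at hzk
      have : a ≤ 0 := by exact_mod_cast hzk
      omega
    have hcd0 : cdim f ℱ z = 0 := by rw [ha, ha0]; rfl
    have h0 := cdepth_eq_zero_of_cdim_eq_zero f ℱ hF z hcd0
    apply hA
    simp only [Set.mem_iUnion]
    exact ⟨td f z, z, ⟨hzS, (mem_lowRd_iff f ℱ hF _ z le_rfl).mpr ⟨h0, rfl⟩⟩, hzx, hfz, le_rfl⟩

end Groth.Agent.Helper16.EquiSk
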