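import Mathlib
import Groth.Agent.Lib.Helper16.Sch.GeomRed1
import Groth.Agent.Lib.Helper16.Sch.GeomRkOpen2
import Groth.Agent.Lib.Helper16.Sch.GeomRkBridge1
import Groth.Agent.Lib.Helper16.Sch.GeomOI1

/-!
# Openness of the locus where the fibres of a flat morphism are geometrically reduced (helper16)
-/

set_option autoImplicit false
set_option linter.style.haveILetI false
set_option linter.unusedSectionVars false
universe u

open AlgebraicGeometry CategoryTheory Limits IsLocalRing TopologicalSpace

namespace Groth.Agent.Helper16.EquiSk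

open Groth.Agent.Helper16.FibStalk Groth.Agent.Helper16.FibMod Groth.Agent.Helper16.FTDim
open Groth.Agent.Helper14 Groth.Agent.Helper16.UnitMod Groth.Agent.Helper16.SmoothLocusBC

/-- the numerical condition `(S_1)` for a Noetherian local ring. -/
theorem skNum_one_iff (T : Type u) [CommRing T] [IsLocalRing T] [IsNoetherianRing T] :
    Groth.Agent.Helper16.FibSk.SkNum 1 T ↔ (LocCoh.depth T T = 0 → ringKrullDim T = 0) := by
  unfold Groth.Agent.Helper16.FibSk.SkNum
  obtain ⟨c, hc⟩ := Groth.Agent.Helper16.FibCons.exists_nat_dim T
  rw [hc]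
  constructor
  · intro h h0
    rw [h0] at h
    rcases min_le_iff.mp h with h' | h'
    · exact absurd h' (by norm_num)
    · have : c ≤ 0 := by exact_mod_cast h'
      have : c = 0 := by omega
      rw [this]; rfl
  · intro h
    by_cases h0 : LocCoh.depth T T = 0
    · have := h h0
      have hc0 : c = 0 := by exact_mod_cast this
      rw [hc0, h0]
      exact min_le_right _ _
    · have h1 : (1 : ℕ∞) ≤ LocCoh.depth T T := Order.one_le_iff_pos.mpr (pos_iff_ne_zero.mpr h0)
      refine (min_le_left _ _).trans ?_
      exact_mod_cast h1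

variable {X Y : Scheme.{u}} (f : X ⟶ Y)

/-- `(S_1)` for the local ring of a fibre, in terms of the embedded components of the fibres. -/
theorem hasSk_one_fibre_iff [LocallyOfFiniteType f] (y : Y) (w : f.fiber y) :
    LocCoh.HasSk 1 ((f.fiber y).presheaf.stalk w) ((f.fiber y).presheaf.stalk w) ↔
      f.fiberι y w ∉ ⋃ j, setE f (Coh.structureModule X) j := by
  have hemb := (f.fiberι y).isEmbedding
  haveI := isNoetherianRing_fiber_stalk f y w
  rw [Groth.Agent.Helper16.FibSk.hasSk_stalk_iff,
    not_mem_iUnion_setE_iff f _ (isFP_structureModule X)]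
  constructor
  · intro H z hzx hfz h0
    obtain ⟨v, rfl⟩ : z ∈ Set.range (f.fiberι y) := by
      rw [f.range_fiberι]
      exact hfz.trans (apply_fiberι f y w)
    have hvw : v ⤳ w := by
      rw [← hemb.isInducing.specializes_iff]
      exact hzx
    haveI := isNoetherianRing_fiber_stalk f y v
    rw [cdepth_unit_fibre] at h0
    rw [cdim_unit_fibre]
    exact (skNum_one_iff _).mp (H v hvw) h0
  · intro H v hvw
    haveI := isNoetherianRing_fiber_stalk f y v
    rw [skNum_one_iff]
    intro h0
    have hzx : f.fiberι y v ⤳ f.fiberι y w := hemb.isInducing.specializes_iff.mpr hvw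
    have := H (f.fiberι y v) hzx ((apply_fiberι f y v).trans (apply_fiberι f y w).symm)
      (by rw [cdepth_unit_fibre]; exact h0)
    rw [cdim_unit_fibre] at this
    exact this

variable [Flat f] [LocallyOfFinitePresentation f]

/-- the smoothness condition on small-codimension generizations, in terms of `condG`. -/
theorem smoothCond_iff_condG (k : ℕ) (y : Y) (w : f.fiber y) :
    (∀ v : f.fiber y, v ⤳ w →
      ringKrullDim ((f.fiber y).presheaf.stalk v) ≤ ((k : ℕ) : WithBot ℕ∞) →
      v ∈ (f.fiberToSpecResidueField y).smoothLocus) ↔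
    condG f (Coh.structureModule X) (f.smoothLocus : Set X) k (f.fiberι y w) := by
  haveI hlfp : @LocallyOfFinitePresentation (f.fiber y)
      (Spec (CommRingCat.of (IsLocalRing.ResidueField (Y.presheaf.stalk y))))
      (f.fiberToSpecResidueField y) := lfp_fiberToSpecResidueField f y
  rw [← geomRk_iff_condG f k y w]
  constructor
  · intro H K _ _ hfin x' hx'
    exact Groth.Agent.Helper16.GeomRk.geomRk_of_smooth
      (k := IsLocalRing.ResidueField (Y.presheaf.stalk y)) (f.fiberToSpecResidueField y) K w k H
      x' hx'
  · intro H v hv hdim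
    exact Groth.Agent.Helper16.GeomRk.mem_smoothLocus_of_geomRk
      (k := IsLocalRing.ResidueField (Y.presheaf.stalk y)) (f.fiberToSpecResidueField y) w k H
      v hv hdim

/-- **geometric reducedness at a point of a fibre** (flat case). -/
theorem geomReduced_fibre_iff (y : Y) (w : f.fiber y) :
    FBase.IsGeomReducedAt (f.fiberToSpecResidueField y) w ↔
      f.fiberι y w ∉ ⋃ j, setE f (Coh.structureModule X) j ∧
        condG f (Coh.structureModule X) (f.smoothLocus : Set X) 0 (f.fiberι y w) := by
  haveI hlfp : @LocallyOfFinitePresentation (f.fiber y)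
      (Spec (CommRingCat.of (IsLocalRing.ResidueField (Y.presheaf.stalk y))))
      (f.fiberToSpecResidueField y) := lfp_fiberToSpecResidueField f y
  refine (Groth.Agent.Helper16.GeomRk.geomReduced_iff
    (k := IsLocalRing.ResidueField (Y.presheaf.stalk y)) (f.fiberToSpecResidueField y) w).trans ?_
  refine Iff.trans ?_ and_comm
  exact and_congr (smoothCond_iff_condG f 0 y w) (hasSk_one_fibre_iff f y w)

/-- **S2549**: openness of the geometrically reduced locus of the fibres of a flat morphism. -/
theorem isOpen_geomReduced_fibre :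
    IsOpen {x : X | FBase.IsGeomReducedAt (f.fiberToSpecResidueField (f.base x)) (f.asFiber x)} := by
  have ho := isOpen_noEmb_condG_zero f (Coh.structureModule X) (isFP_structureModule X)
    (isFlatOver_structureModule f) (f.smoothLocus : Set X) f.smoothLocus.2
  convert ho using 1
  ext x
  have hι : f.fiberι (f x) (f.asFiber x) = x := f.fiberι_asFiber x
  have h1 := geomReduced_fibre_iff f (f x) (f.asFiber x)
  rw [hι] at h1
  exact h1

end Groth.Agent.Helper16.EquiSk
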