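import Mathlib
import Groth.Agent.Lib.Helper16.Sch.GeomRed2
import Groth.Agent.Lib.Helper16.Sch.GeomOI2
import Groth.Agent.Lib.Helper16.Sch.GeomNormal3

set_option autoImplicit false
set_option linter.style.haveILetI false
set_option linter.unusedSectionVars false
universe u

open AlgebraicGeometry CategoryTheory Limits IsLocalRing TopologicalSpace

namespace Groth.Agent.Helper16.EquiSk

/-- **S4963**: the set of points where `f` is flat and the fibre is geometrically reduced is
open. -/
theorem isOpen_flat_and_geomReduced_fibre {X Y : Scheme.{u}} (f : X ⟶ Y)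
    [LocallyOfFinitePresentation f] :
    IsOpen {x : X | (f.stalkMap x).hom.Flat ∧
      FBase.IsGeomReducedAt (f.fiberToSpecResidueField (f.base x)) (f.asFiber x)} := by
  refine isOpen_flat_and_of_oi (fun {X S} f x =>
      FBase.IsGeomReducedAt (f.fiberToSpecResidueField (f.base x)) (f.asFiber x)) ?_ ?_ f
  · intro U X S j _ f u
    exact Groth.Agent.Helper16.GeomOI.isGeomReducedAt_oi j f u
  · intro X S f _ _
    exact isOpen_geomReduced_fibre f

end Groth.Agent.Helper16.EquiSk
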