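import Mathlib
import Groth.Agent.Lib.Helper16.Sch.GnCons1
import Groth.Agent.Lib.Helper16.Sch.SmCondFib1
import Groth.Agent.Lib.Helper16.Sch.FibConsN1
import Groth.Agent.Lib.Helper16.Sch.GeomRkBridge1
import Groth.Agent.Lib.Helper16.Sch.AssFib1

/-!
# Constructibility of the locus where the small-codimension generizations in the fibre are smooth
(helper16)
-/

set_option autoImplicit false
set_option linter.style.haveILetI false
set_option linter.unusedSectionVars false
universe u

open AlgebraicGeometry CategoryTheory Limits IsLocalRing TopologicalSpace Topology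

namespace Groth.Agent.Helper16.SmCd

open Groth.Agent.Helper16.FibCl Groth.Agent.Helper16.FTDim Groth.Agent.Helper4.Constr
open Groth.Agent.Helper16.FibCons Groth.Agent.Helper16.EquiSk Groth.Agent.Helper16.UnitMod
open Groth.Agent.Helper16.FibMod Groth.Agent.Helper16.FibStalk

variable {X S : Scheme.{u}} (f : X ⟶ S)

/-- the fibrewise smoothness condition in terms of points of the source. -/
theorem fibSmCond_iff_forall [LocallyOfFiniteType f] (r : ℕ) (x : X) :
    FibSmCond r f x ↔ ∀ z : X, z ⤳ x → f z = f x →
      cdim f (Coh.structureModule X) z ≤ ((r : ℕ) : WithBot ℕ∞) → FibSm f z := by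
  have hemb := (f.fiberι (f x)).isEmbedding
  have hι : f.fiberι (f x) (f.asFiber x) = x := f.fiberι_asFiber x
  constructor
  · intro H z hzx hfz hdim
    obtain ⟨v, rfl⟩ : z ∈ Set.range (f.fiberι (f x)) := by
      rw [f.range_fiberι]
      exact hfz
    have hvw : v ⤳ f.asFiber x := by
      rw [← hemb.isInducing.specializes_iff, hι]
      exact hzx
    rw [cdim_unit_fibre] at hdim
    rw [fibSm_iff_of_eq f _ (f x) (apply_fiberι f (f x) v) v rfl]
    exact H v hvw hdim
  · intro H v hvw hdim
    have hzx : f.fiberι (f x) v ⤳ x := by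
      have := hemb.isInducing.specializes_iff.mpr hvw
      rw [hι] at this
      exact this
    have h1 := H (f.fiberι (f x) v) hzx (apply_fiberι f (f x) v)
      (by rw [cdim_unit_fibre]; exact hdim)
    rw [fibSm_iff_of_eq f _ (f x) (apply_fiberι f (f x) v) v rfl] at h1
    exact h1

/-- the codimension in the fibre, in terms of the sets `setD`. -/
theorem cdim_le_iff_notMem_setD [LocallyOfFiniteType f] (z : X) (r : ℕ) :
    cdim f (Coh.structureModule X) z ≤ ((r : ℕ) : WithBot ℕ∞) ↔
      z ∉ setD f (Coh.structureModule X) (td f z + r + 1) := by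
  have hF := isFP_structureModule X
  obtain ⟨a, b, ha, -, -⟩ := exists_nat_cinvariants f _ hF z (cdim_unit_ne_bot f z)
  obtain ⟨h1, h2⟩ := cdim_formula f _ hF z
  rw [ha]
  constructor
  · rintro hle ⟨z', -, hz'z, hfz', hm⟩
    have h3 := h1 z' hz'z hfz' (cdim_unit_ne_bot f z')
    rw [ha] at h3
    have h3' : td f z' ≤ a + td f z := by exact_mod_cast h3
    have h4 : a ≤ r := by exact_mod_cast hle
    omega
  · intro hnot
    by_contra hlt
    have h4 : ¬ a ≤ r := fun h => hlt (by exact_mod_cast h)
    obtain ⟨z', hz'z, hfz', -, heq⟩ := h2 (cdim_unit_ne_bot f z)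
    rw [ha] at heq
    have h5 : a + td f z = td f z' := by exact_mod_cast heq
    exact hnot ⟨z', by rw [support_structureModule]; trivial, hz'z, hfz', by omega⟩

theorem Gn_subset_setD (n : ℕ) (A : Set X) : Gn f n A ⊆ setD f (Coh.structureModule X) n := by
  rintro x ⟨z, -, hzx, hfz, hn⟩
  exact ⟨z, by rw [support_structureModule]; trivial, hzx, hfz, hn⟩

/-- the complement of the locus of `FibSmCond`. -/
theorem not_fibSmCond_iff [LocallyOfFiniteType f] (r : ℕ) (x : X) :
    ¬ FibSmCond r f x ↔ ∃ n : ℕ, x ∈ Gn f n ({z : X | ¬ FibSm f z} ∩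
      (setD f (Coh.structureModule X) (n + r + 1))ᶜ) := by
  rw [fibSmCond_iff_forall]
  constructor
  · intro H
    push Not at H
    obtain ⟨z, hzx, hfz, hdim, hns⟩ := H
    refine ⟨td f z, z, ⟨hns, ?_⟩, hzx, hfz, le_rfl⟩
    exact (cdim_le_iff_notMem_setD f z r).mp hdim
  · rintro ⟨n, z, ⟨hns, hnD⟩, hzx, hfz, hn⟩ H
    apply hns
    apply H z hzx hfz
    rw [cdim_le_iff_notMem_setD f z r]
    intro hD
    exact hnD (setD_anti f _ (by omega) hD)

theorem exists_setD_eq_empty [CompactSpace X] [LocallyOfFiniteType f] :
    ∃ N : ℕ, setD f (Coh.structureModule X) N = ∅ := by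
  have hF := isFP_structureModule X
  obtain ⟨N, hN⟩ := isCompact_univ.elim_directed_cover
    (fun N : ℕ => (setD f (Coh.structureModule X) N)ᶜ)
    (fun N => (isClosed_setD f _ hF N).isOpen_compl)
    (by
      intro x _
      obtain ⟨N, hN⟩ := exists_notMem_setD f _ hF x
      exact Set.mem_iUnion.mpr ⟨N + 1, hN⟩)
    (by
      apply Monotone.directed_le
      intro N N' h
      exact Set.compl_subset_compl.mpr (setD_anti f _ h))
  refine ⟨N, ?_⟩
  have h1 : (setD f (Coh.structureModule X) N)ᶜ = Set.univ := Set.eq_univ_of_univ_subset hN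
  exact Set.compl_univ_iff.mp h1

/-- **constructibility in the Noetherian case.** -/
theorem isConstructible_fibSmCond [NoetherianSpace X] [LocallyOfFinitePresentation f] (r : ℕ) :
    IsConstructible {x : X | FibSmCond r f x} := by
  have hF := isFP_structureModule X
  obtain ⟨N, hN⟩ := exists_setD_eq_empty f
  have hNS : IsConstructible {z : X | ¬ FibSm f z} :=
    (isLocallyConstructible_fibSm f).isConstructible.compl
  have key : {x : X | FibSmCond r f x}ᶜ = ⋃ n ∈ Set.Iio N, Gn f n ({z : X | ¬ FibSm f z} ∩
      (setD f (Coh.structureModule X) (n + r + 1))ᶜ) := by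
    ext x
    simp only [Set.mem_compl_iff, Set.mem_ofPred_eq, Set.mem_iUnion, Set.mem_Iio, exists_prop]
    rw [not_fibSmCond_iff]
    constructor
    · rintro ⟨n, hn⟩
      refine ⟨n, ?_, hn⟩
      by_contra hnN
      have h1 := Gn_subset_setD f n _ hn
      have h2 := setD_anti f (Coh.structureModule X) (not_lt.mp hnN) h1
      rw [hN] at h2
      exact h2
    · rintro ⟨n, -, hn⟩
      exact ⟨n, hn⟩
  have hc : IsConstructible ({x : X | FibSmCond r f x}ᶜ) := by
    rw [key]
    refine IsConstructible.biUnion (Set.finite_Iio N) (fun n _ => ?_)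
    exact isConstructible_Gn f n
      (hNS.inter (isConstructible_of_isClosed (isClosed_setD f _ hF _)).compl)
  have := hc.compl
  rwa [compl_compl] at this

theorem fibSmCondProp_consNoeth (r : ℕ) : (fibSmCondProp.{u} r).ConsNoeth := by
  intro R B _ _ _ _ _
  haveI : NoetherianSpace (Spec (CommRingCat.of B)) := by
    haveI : IsNoetherianRing B := Algebra.FiniteType.isNoetherianRing R B
    exact inferInstanceAs (NoetherianSpace (PrimeSpectrum B))
  haveI : LocallyOfFinitePresentation (Spec.map (CommRingCat.ofHom (algebraMap R B))) := by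
    rw [HasRingHomProperty.Spec_iff (P := @LocallyOfFinitePresentation)]
    exact RingHom.finitePresentation_algebraMap.mpr
      (Algebra.FinitePresentation.of_finiteType.mp inferInstance)
  exact isConstructible_fibSmCond (Spec.map (CommRingCat.ofHom (algebraMap R B))) r

/-- **Local constructibility** of the locus where the generizations of codimension `≤ r` in the
fibre are smooth points, for a morphism locally of finite presentation. -/
theorem isLocallyConstructible_fibSmCond {X S : Scheme.{u}} (f : X ⟶ S)
    [LocallyOfFinitePresentation f] (r : ℕ) :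
    IsLocallyConstructible {x : X | FibSmCond r f x} :=
  FibProp0.isLocallyConstructible_of_consNoeth (fibSmCondProp_consNoeth r) f

end Groth.Agent.Helper16.SmCd
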