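import Mathlib
import Groth.Agent.Lib.Helper16.Sch.SmCondCons1
import Groth.Agent.Lib.Helper16.Sch.FibSk2

/-!
# Local constructibility of the loci where the fibres are geometrically `(R_k)` / geometrically
normal (helper16)
-/

set_option autoImplicit false
set_option linter.style.haveILetI false
set_option linter.unusedSectionVars false
universe u

open AlgebraicGeometry CategoryTheory Limits IsLocalRing TopologicalSpace Topology

namespace Groth.Agent.Helper16.SmCd

open Groth.Agent.Helper16.FibCons Groth.Agent.Helper16.SmoothLocusBC

variable {X S : Scheme.{u}} (f : X ⟶ S) [LocallyOfFinitePresentation f]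

/-- the geometric `(R_k)` condition at a point of a fibre, for all field extensions. -/
theorem geomRk_fibre_iff (k : ℕ) (x : X) :
    (∀ (K : Type u) [Field K] [Algebra (IsLocalRing.ResidueField (S.presheaf.stalk (f.base x))) K]
        (x' : ↥(FBase.bc (f.fiberToSpecResidueField (f.base x)) K)),
        (FBase.bcπ (f.fiberToSpecResidueField (f.base x)) K).base x' = f.asFiber x →
          LocCoh.HasRk k ((FBase.bc (f.fiberToSpecResidueField (f.base x)) K).presheaf.stalk x')) ↔
      FibSmCond k f x := by
  haveI hlfp : @LocallyOfFinitePresentation (f.fiber (f x))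
      (Spec (CommRingCat.of (IsLocalRing.ResidueField (S.presheaf.stalk (f x)))))
      (f.fiberToSpecResidueField (f x)) := lfp_fiberToSpecResidueField f (f x)
  exact geomRk_all_iff (k := IsLocalRing.ResidueField (S.presheaf.stalk (f x)))
    (f.fiberToSpecResidueField (f x)) (f.asFiber x) k

/-- **S3454**: the locus where the fibres are geometrically `(R_k)` is locally constructible. -/
theorem isLocallyConstructible_geomRk_fibre (k : ℕ) :
    IsLocallyConstructible {x : X |
      ∀ (K : Type u) [Field K] [Algebra (IsLocalRing.ResidueField (S.presheaf.stalk (f.base x))) K]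
        (x' : ↥(FBase.bc (f.fiberToSpecResidueField (f.base x)) K)),
        (FBase.bcπ (f.fiberToSpecResidueField (f.base x)) K).base x' = f.asFiber x →
          LocCoh.HasRk k ((FBase.bc (f.fiberToSpecResidueField (f.base x)) K).presheaf.stalk x')} := by
  have h := isLocallyConstructible_fibSmCond f k
  convert h using 1
  ext x
  exact geomRk_fibre_iff f k x

/-- geometric normality at a point of a fibre, for all field extensions. -/
theorem geomNormal_fibre_all_iff (x : X) :
    (∀ (K : Type u) [Field K] [Algebra (IsLocalRing.ResidueField (S.presheaf.stalk (f.base x))) K]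
        (x' : ↥(FBase.bc (f.fiberToSpecResidueField (f.base x)) K)),
        (FBase.bcπ (f.fiberToSpecResidueField (f.base x)) K).base x' = f.asFiber x →
          (IsDomain ((FBase.bc (f.fiberToSpecResidueField (f.base x)) K).presheaf.stalk x') ∧
            IsIntegrallyClosed
              ((FBase.bc (f.fiberToSpecResidueField (f.base x)) K).presheaf.stalk x'))) ↔
      FibSmCond 1 f x ∧ (Groth.Agent.Helper16.FibSk.skFib 2).P f x := by
  haveI hlfp : @LocallyOfFinitePresentation (f.fiber (f x))
      (Spec (CommRingCat.of (IsLocalRing.ResidueField (S.presheaf.stalk (f x)))))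
      (f.fiberToSpecResidueField (f x)) := lfp_fiberToSpecResidueField f (f x)
  exact geomNormal_all_iff (k := IsLocalRing.ResidueField (S.presheaf.stalk (f x)))
    (f.fiberToSpecResidueField (f x)) (f.asFiber x)

/-- **S3455**: the locus where the fibres are geometrically normal is locally constructible. -/
theorem isLocallyConstructible_geomNormal_fibre :
    IsLocallyConstructible {x : X |
      ∀ (K : Type u) [Field K] [Algebra (IsLocalRing.ResidueField (S.presheaf.stalk (f.base x))) K]
        (x' : ↥(FBase.bc (f.fiberToSpecResidueField (f.base x)) K)),
        (FBase.bcπ (f.fiberToSpecResidueField (f.base x)) K).base x' = f.asFiber x →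
          (IsDomain ((FBase.bc (f.fiberToSpecResidueField (f.base x)) K).presheaf.stalk x') ∧
            IsIntegrallyClosed
              ((FBase.bc (f.fiberToSpecResidueField (f.base x)) K).presheaf.stalk x'))} := by
  have h1 := isLocallyConstructible_fibSmCond f 1
  have h2 := FibProp0.isLocallyConstructible (Groth.Agent.Helper16.FibSk.skFib_openNoeth 2) f
  have h := h1.inter h2
  convert h using 1
  ext x
  exact geomNormal_fibre_all_iff f x

end Groth.Agent.Helper16.SmCd
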