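import Mathlib
import Groth.Agent.Lib.Helper16.Sch.GeomRkCons1
import Groth.Agent.Lib.Helper16.Sch.FibCl8

/-!
# Local constructibility of the set of points of the base whose fibre is geometrically `(R_k)`
(helper16)
-/

set_option autoImplicit false
set_option linter.style.haveILetI false
set_option linter.unusedSectionVars false
universe u

open AlgebraicGeometry CategoryTheory Limits IsLocalRing TopologicalSpace Topology

namespace Groth.Agent.Helper16.SmCd

open Groth.Agent.Helper16.FibCons Groth.Agent.Helper16.SmoothLocusBC Groth.Agent.Helper16.FibStalk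

variable {X S : Scheme.{u}} (f : X ⟶ S) [LocallyOfFinitePresentation f]

/-- the geometric `(R_k)` condition for a whole fibre. -/
theorem geomRk_whole_fibre_iff (k : ℕ) (s : S) :
    (∀ (K : Type u) [Field K] [Algebra (IsLocalRing.ResidueField (S.presheaf.stalk s)) K]
        (x' : ↥(FBase.bc (f.fiberToSpecResidueField s) K)),
        LocCoh.HasRk k ((FBase.bc (f.fiberToSpecResidueField s) K).presheaf.stalk x')) ↔
      ∀ x : X, f x = s → x ∈ (Set.univ : Set X) → x ∈ {x : X | FibSmCond k f x} := by
  haveI hlfp : @LocallyOfFinitePresentation (f.fiber s)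
      (Spec (CommRingCat.of (IsLocalRing.ResidueField (S.presheaf.stalk s))))
      (f.fiberToSpecResidueField s) := lfp_fiberToSpecResidueField f s
  have h1 : ∀ w : f.fiber s, FibSmCond k f (f.fiberι s w) ↔
      (∀ (K : Type u) [Field K] [Algebra (IsLocalRing.ResidueField (S.presheaf.stalk s)) K]
        (x' : ↥(FBase.bc (f.fiberToSpecResidueField s) K)),
        (FBase.bcπ (f.fiberToSpecResidueField s) K).base x' = w →
        LocCoh.HasRk k ((FBase.bc (f.fiberToSpecResidueField s) K).presheaf.stalk x')) := by
    intro w
    rw [fibSmCond_iff_of_eq k f (f.fiberι s w) s (apply_fiberι f s w) w rfl]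
    exact (geomRk_all_iff (k := IsLocalRing.ResidueField (S.presheaf.stalk s))
      (f.fiberToSpecResidueField s) w k).symm
  constructor
  · intro H x hx _
    obtain ⟨w, rfl⟩ : x ∈ Set.range (f.fiberι s) := by
      rw [f.range_fiberι]
      exact hx
    exact (h1 w).mpr (fun K _ _ x' _ => H K x')
  · intro H K _ _ x'
    have h2 := H (f.fiberι s ((FBase.bcπ (f.fiberToSpecResidueField s) K).base x'))
      (apply_fiberι f s _) trivial
    exact (h1 _).mp h2 K x' rfl

/-- **S4828** -/
theorem isLocallyConstructible_geomRk_whole_fibre [QuasiCompact f] (k : ℕ) :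
    IsLocallyConstructible {s : S |
      ∀ (K : Type u) [Field K] [Algebra (IsLocalRing.ResidueField (S.presheaf.stalk s)) K]
        (x' : ↥(FBase.bc (f.fiberToSpecResidueField s) K)),
        LocCoh.HasRk k ((FBase.bc (f.fiberToSpecResidueField s) K).presheaf.stalk x')} := by
  have h := Groth.Agent.Helper16.FibCl.isLocallyConstructible_forall_fiber f Set.univ
    {x : X | FibSmCond k f x} IsLocallyConstructible.univ (isLocallyConstructible_fibSmCond f k)
  convert h using 1
  ext s
  exact geomRk_whole_fibre_iff f k s

end Groth.Agent.Helper16.SmCd
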