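import Mathlib
import Groth.Agent.Lib.Helper16.Sch.GeomRkCons2
import Groth.Agent.Lib.Helper16.Sch.GeomRed1

/-!
# Local constructibility of the loci of geometrically reduced / geometrically normal fibres
(helper16)
-/

set_option autoImplicit false
set_option linter.style.haveILetI false
set_option linter.unusedSectionVars false
universe u

open AlgebraicGeometry CategoryTheory Limits IsLocalRing TopologicalSpace Topology

namespace Groth.Agent.Helper16.SmCd

open Groth.Agent.Helper16.FibCons Groth.Agent.Helper16.SmoothLocusBC Groth.Agent.Helper16.FibStalk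

section Bridge

variable {k : Type u} [Field k] {W : Scheme.{u}} (g : W ⟶ Spec (CommRingCat.of k))

/-- Mathlib's geometric reducedness of a scheme over a field in terms of the pointwise notion. -/
theorem geometricallyReduced_iff_forall :
    GeometricallyReduced g ↔ ∀ w : W, FBase.IsGeomReducedAt g w := by
  constructor
  · intro H w K _ _ w' _
    haveI : IsReduced (FBase.bc g K) :=
      GeometricallyReduced.geometrically_isReduced (f := g)
        (Spec.map (CommRingCat.ofHom (algebraMap k K))) (FBase.bcπ g K) (FBase.bcStr g K)
        (IsPullback.of_hasPullback _ _)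
    infer_instance
  · intro H
    refine ⟨fun K _ y Z fst snd hsq => ?_⟩
    letI : Algebra k K := (Spec.preimage y).hom.toAlgebra
    have hy : Spec.map (CommRingCat.ofHom (algebraMap k K)) = y := Spec.map_preimage y
    have hsq' : IsPullback fst snd g (Spec.map (CommRingCat.ofHom (algebraMap k K))) := by
      rw [hy]; exact hsq
    haveI : IsReduced (FBase.bc g K) := by
      haveI : ∀ x' : ↥(FBase.bc g K), _root_.IsReduced ((FBase.bc g K).presheaf.stalk x') :=
        fun x' => H ((FBase.bcπ g K).base x') K x' rfl
      exact isReduced_of_isReduced_stalk _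
    let e : Z ≅ FBase.bc g K := hsq'.isoPullback
    exact isReduced_of_isOpenImmersion e.hom

end Bridge

variable {X S : Scheme.{u}} (f : X ⟶ S) [LocallyOfFinitePresentation f]

theorem skP_iff_of_eq (n : ℕ) (x : X) (s : S) (hs : f x = s) (z : f.fiber s)
    (hz : f.fiberι s z = x) :
    (Groth.Agent.Helper16.FibSk.skFib n).P f x ↔
      LocCoh.HasSk n ((f.fiber s).presheaf.stalk z) ((f.fiber s).presheaf.stalk z) := by
  subst hs
  have : z = f.asFiber x :=
    (f.fiberι (f x)).isEmbedding.injective (hz.trans (f.fiberι_asFiber x).symm)
  subst this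
  rfl

/-- geometric reducedness at a point of a fibre. -/
theorem geomReduced_fibre_pt_iff (s : S) (w : f.fiber s) :
    FBase.IsGeomReducedAt (f.fiberToSpecResidueField s) w ↔
      FibSmCond 0 f (f.fiberι s w) ∧ (Groth.Agent.Helper16.FibSk.skFib 1).P f (f.fiberι s w) := by
  haveI hlfp : @LocallyOfFinitePresentation (f.fiber s)
      (Spec (CommRingCat.of (IsLocalRing.ResidueField (S.presheaf.stalk s))))
      (f.fiberToSpecResidueField s) := lfp_fiberToSpecResidueField f s
  rw [fibSmCond_iff_of_eq 0 f (f.fiberι s w) s (apply_fiberι f s w) w rfl,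
    skP_iff_of_eq f 1 (f.fiberι s w) s (apply_fiberι f s w) w rfl]
  exact Groth.Agent.Helper16.GeomRk.geomReduced_iff
    (k := IsLocalRing.ResidueField (S.presheaf.stalk s)) (f.fiberToSpecResidueField s) w

/-- geometric normality at a point of a fibre. -/
theorem geomNormal_fibre_pt_iff (s : S) (w : f.fiber s) :
    (∀ (K : Type u) [Field K] [Algebra (IsLocalRing.ResidueField (S.presheaf.stalk s)) K]
        (x' : ↥(FBase.bc (f.fiberToSpecResidueField s) K)),
        (FBase.bcπ (f.fiberToSpecResidueField s) K).base x' = w →
          (IsDomain ((FBase.bc (f.fiberToSpecResidueField s) K).presheaf.stalk x') ∧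
            IsIntegrallyClosed ((FBase.bc (f.fiberToSpecResidueField s) K).presheaf.stalk x'))) ↔
      FibSmCond 1 f (f.fiberι s w) ∧ (Groth.Agent.Helper16.FibSk.skFib 2).P f (f.fiberι s w) := by
  haveI hlfp : @LocallyOfFinitePresentation (f.fiber s)
      (Spec (CommRingCat.of (IsLocalRing.ResidueField (S.presheaf.stalk s))))
      (f.fiberToSpecResidueField s) := lfp_fiberToSpecResidueField f s
  rw [fibSmCond_iff_of_eq 1 f (f.fiberι s w) s (apply_fiberι f s w) w rfl,
    skP_iff_of_eq f 2 (f.fiberι s w) s (apply_fiberι f s w) w rfl]
  exact geomNormal_all_iff (k := IsLocalRing.ResidueField (S.presheaf.stalk s))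
    (f.fiberToSpecResidueField s) w

/-- the locus of the points where the fibre is geometrically reduced is locally constructible. -/
theorem isLocallyConstructible_geomReduced_fibre :
    IsLocallyConstructible {x : X |
      FBase.IsGeomReducedAt (f.fiberToSpecResidueField (f.base x)) (f.asFiber x)} := by
  have h1 := isLocallyConstructible_fibSmCond f 0
  have h2 := FibProp0.isLocallyConstructible (Groth.Agent.Helper16.FibSk.skFib_openNoeth 1) f
  have h := h1.inter h2
  convert h using 1
  ext x
  have h3 := geomReduced_fibre_pt_iff f (f x) (f.asFiber x)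
  have hι : f.fiberι (f x) (f.asFiber x) = x := f.fiberι_asFiber x
  rw [hι] at h3
  exact h3

/-- **S1301** -/
theorem isLocallyConstructible_geometricallyReduced_fibre [QuasiCompact f] :
    IsLocallyConstructible {y : S | GeometricallyReduced (f.fiberToSpecResidueField y)} := by
  have h1 := isLocallyConstructible_fibSmCond f 0
  have h2 := FibProp0.isLocallyConstructible (Groth.Agent.Helper16.FibSk.skFib_openNoeth 1) f
  have h := Groth.Agent.Helper16.FibCl.isLocallyConstructible_forall_fiber f Set.univ
    _ IsLocallyConstructible.univ (h1.inter h2)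
  convert h using 1
  ext s
  refine (geometricallyReduced_iff_forall (k := IsLocalRing.ResidueField (S.presheaf.stalk s))
    (f.fiberToSpecResidueField s)).trans ?_
  constructor
  · intro H x hx _
    obtain ⟨w, rfl⟩ : x ∈ Set.range (f.fiberι s) := by
      rw [f.range_fiberι]
      exact hx
    exact (geomReduced_fibre_pt_iff f s w).mp (H w)
  · intro H w
    exact (geomReduced_fibre_pt_iff f s w).mpr (H _ (apply_fiberι f s w) trivial)

/-- **S4827** -/
theorem isLocallyConstructible_geomNormal_whole_fibre [QuasiCompact f] :
    IsLocallyConstructible {s : S |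
      ∀ (K : Type u) [Field K] [Algebra (IsLocalRing.ResidueField (S.presheaf.stalk s)) K]
        (x' : ↥(FBase.bc (f.fiberToSpecResidueField s) K)),
        IsDomain ((FBase.bc (f.fiberToSpecResidueField s) K).presheaf.stalk x') ∧
          IsIntegrallyClosed ((FBase.bc (f.fiberToSpecResidueField s) K).presheaf.stalk x')} := by
  have h1 := isLocallyConstructible_fibSmCond f 1
  have h2 := FibProp0.isLocallyConstructible (Groth.Agent.Helper16.FibSk.skFib_openNoeth 2) f
  have h := Groth.Agent.Helper16.FibCl.isLocallyConstructible_forall_fiber f Set.univ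
    _ IsLocallyConstructible.univ (h1.inter h2)
  convert h using 1
  ext s
  constructor
  · intro H x hx _
    obtain ⟨w, rfl⟩ : x ∈ Set.range (f.fiberι s) := by
      rw [f.range_fiberι]
      exact hx
    exact (geomNormal_fibre_pt_iff f s w).mp (fun K _ _ x' _ => H K x')
  · intro H K _ _ x'
    have h2 := H (f.fiberι s ((FBase.bcπ (f.fiberToSpecResidueField s) K).base x'))
      (apply_fiberι f s _) trivial
    exact (geomNormal_fibre_pt_iff f s _).mpr h2 K x' rfl

end Groth.Agent.Helper16.SmCd
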