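import Mathlib
import Groth.Agent.Lib.Helper16.Sch.GeomRedCons1
import Groth.Agent.Lib.Helper16.Sch.GeomRed2

/-!
# Openness of the set of points of the base with geometrically reduced fibre (flat proper case)
(helper16)
-/

set_option autoImplicit false
set_option linter.style.haveILetI false
set_option linter.unusedSectionVars false
universe u

open AlgebraicGeometry CategoryTheory Limits IsLocalRing TopologicalSpace Topology

namespace Groth.Agent.Helper16.SmCd

open Groth.Agent.Helper16.FibCons Groth.Agent.Helper16.SmoothLocusBC Groth.Agent.Helper16.FibStalk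

variable {X S : Scheme.{u}} (f : X ⟶ S) [LocallyOfFinitePresentation f]

theorem geomReduced_fibre_asFiber_iff (x : X) :
    FBase.IsGeomReducedAt (f.fiberToSpecResidueField (f.base x)) (f.asFiber x) ↔
      FibSmCond 0 f x ∧ (Groth.Agent.Helper16.FibSk.skFib 1).P f x := by
  have h3 := geomReduced_fibre_pt_iff f (f x) (f.asFiber x)
  have hι : f.fiberι (f x) (f.asFiber x) = x := f.fiberι_asFiber x
  rw [hι] at h3
  exact h3

/-- the fibre over `s` is geometrically reduced iff it is so at each of its points. -/
theorem geometricallyReduced_fibre_iff (s : S) :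
    GeometricallyReduced (f.fiberToSpecResidueField s) ↔
      ∀ x : X, f x = s →
        FBase.IsGeomReducedAt (f.fiberToSpecResidueField (f.base x)) (f.asFiber x) := by
  refine (geometricallyReduced_iff_forall (k := IsLocalRing.ResidueField (S.presheaf.stalk s))
    (f.fiberToSpecResidueField s)).trans ?_
  constructor
  · intro H x hx
    obtain ⟨w, rfl⟩ : x ∈ Set.range (f.fiberι s) := by
      rw [f.range_fiberι]
      exact hx
    rw [geomReduced_fibre_asFiber_iff]
    exact (geomReduced_fibre_pt_iff f s w).mp (H w)
  · intro H w
    have := H _ (apply_fiberι f s w)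
    rw [geomReduced_fibre_asFiber_iff] at this
    exact (geomReduced_fibre_pt_iff f s w).mpr this

/-- **S0435** (for a closed flat morphism locally of finite presentation). -/
theorem isOpen_geometricallyReduced_fibre [Flat f] (hcl : IsClosedMap f) :
    IsOpen {y : S | GeometricallyReduced (f.fiberToSpecResidueField y)} := by
  have ho := Groth.Agent.Helper16.EquiSk.isOpen_geomReduced_fibre f
  have hc := hcl _ ho.isClosed_compl
  rw [← isClosed_compl_iff]
  convert hc using 1
  ext s
  simp only [Set.mem_compl_iff, Set.mem_ofPred_eq, Set.mem_image]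
  rw [geometricallyReduced_fibre_iff]
  constructor
  · intro H
    push Not at H
    obtain ⟨x, hx, hn⟩ := H
    exact ⟨x, hn, hx⟩
  · rintro ⟨x, hn, hx⟩ H
    exact hn (H x hx)

end Groth.Agent.Helper16.SmCd
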