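import Mathlib
import Groth.Prelude.Def_Neron
import Groth.Agent.Lib.Helper15.ProjSpaceProper
import Groth.Agent.Lib.Helper16.Sch.SmoothLocusBC

/-!
# Spreading out a smooth projective scheme over the generic point (S3259)

`exists_smooth_proper_model`: flat closure in a proper `S`-scheme `PS` of a closed subscheme of
the generic fibre, restricted over the open where it is smooth.
-/

set_option autoImplicit false
set_option linter.style.haveILetI false

open AlgebraicGeometry CategoryTheory Limits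

universe u

namespace Groth.Agent.Helper16.GoodRed

instance isSchemeTheoreticallyDominant_toImage {X Y : Scheme.{u}} (f : X ⟶ Y) [QuasiCompact f] :
    IsSchemeTheoreticallyDominant f.toImage := by
  rw [isSchemeTheoreticallyDominant_iff]
  refine Scheme.IdealSheafData.ext_of_iSup_eq_top
    (fun U : Y.affineOpens ↦ ⟨f.imageι ⁻¹ᵁ U.1, U.2.preimage f.imageι⟩) ?_ ?_
  · rw [eq_top_iff]
    intro x _
    obtain ⟨_, ⟨U, hU, rfl⟩, hxU, -⟩ :=
      Y.isBasis_affineOpens.exists_subset_of_mem_open (Set.mem_univ (f.imageι x)) isOpen_univ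
    exact TopologicalSpace.Opens.mem_iSup.mpr ⟨⟨U, hU⟩, hxU⟩
  · intro U
    rw [Scheme.Hom.ker_apply]
    simp only [Scheme.IdealSheafData.ideal_bot, Pi.bot_apply]
    exact (RingHom.injective_iff_ker_eq_bot _).mp (f.toImage_app_injective U)

lemma isPullback_id_of_mono {C : Type*} [Category C] {T Y Z : C} (f : T ⟶ Y) (g : Y ⟶ Z)
    [Mono g] : IsPullback (𝟙 T) f (f ≫ g) g := by
  refine ⟨⟨by simp⟩, ⟨PullbackCone.IsLimit.mk _ (fun s => s.fst) (fun s => by simp) (fun s => ?_)
    (fun s m h1 _ => ?_)⟩⟩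
  · rw [← cancel_mono g, Category.assoc]
    exact s.condition
  · simpa using h1

lemma lfp_of_lft {X Y : Scheme.{u}} (f : X ⟶ Y) [LocallyOfFiniteType f]
    [IsLocallyNoetherian Y] : LocallyOfFinitePresentation f := by
  constructor
  intro U hU V hV e
  haveI : IsNoetherianRing Γ(Y, U) := IsLocallyNoetherian.component_noetherian ⟨U, hU⟩
  exact RingHom.FinitePresentation.of_finiteType.1 (f.finiteType_appLE hU hV e)

lemma exists_projSpaceOver_map {S T : Scheme.{u}} (η : T ⟶ S) (n : ℕ) :
    ∃ a : CohB1.ProjSpaceOver n T ⟶ CohB1.ProjSpaceOver n S,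
      IsPullback a (CohB1.ProjSpaceOver.toBase n T) (CohB1.ProjSpaceOver.toBase n S) η := by
  let tS := CohB1.ProjSpace.toSpec n (ULift.{u} ℤ)
  let fT := specULiftZIsTerminal.from T
  let fS := specULiftZIsTerminal.from S
  have e2 : η ≫ fS = fT := specULiftZIsTerminal.hom_ext _ _
  let a : pullback tS fT ⟶ pullback tS fS :=
    pullback.lift (pullback.fst tS fT) (pullback.snd tS fT ≫ η)
      (by rw [Category.assoc, e2]; exact pullback.condition)
  have e1 : a ≫ pullback.fst tS fS = pullback.fst tS fT := pullback.lift_fst _ _ _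
  have e3 : a ≫ pullback.snd tS fS = pullback.snd tS fT ≫ η := pullback.lift_snd _ _ _
  refine ⟨a, ?_⟩
  have s : IsPullback (a ≫ pullback.fst tS fS) (pullback.snd tS fT) tS (η ≫ fS) := by
    rw [e1, e2]
    exact IsPullback.of_hasPullback tS fT
  exact IsPullback.of_right s e3 (IsPullback.of_hasPullback tS fS)

theorem exists_smooth_proper_model {S T PS PT C' : Scheme.{u}} [IsLocallyNoetherian S]
    (η : T ⟶ S) [Flat η] [Mono η] [QuasiCompact η]
    (tbS : PS ⟶ S) [IsProper tbS] (tbT : PT ⟶ T) (a : PT ⟶ PS) (HP : IsPullback a tbT tbS η)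
    (f : C' ⟶ T) [Smooth f] [QuasiCompact f] (i : C' ⟶ PT) [IsClosedImmersion i]
    (hi : i ≫ tbT = f) :
    ∃ (U : S.Opens) (ξ : T ⟶ (U : Scheme.{u})) (𝒞 : Scheme.{u}) (π : 𝒞 ⟶ (U : Scheme.{u})),
      ξ ≫ U.ι = η ∧ Smooth π ∧ IsProper π ∧
      ∃ e : pullback π ξ ≅ C', e.hom ≫ f = pullback.snd π ξ := by
  let h : C' ⟶ PS := i ≫ a
  have hh : h ≫ tbS = f ≫ η := by
    simp only [h, Category.assoc, HP.w]
    rw [← Category.assoc, hi]
  haveI : QuasiCompact (h ≫ tbS) := by rw [hh]; infer_instance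
  haveI : QuasiCompact h := MorphismProperty.of_postcomp (W := @QuasiCompact)
    (W' := @QuasiSeparated) h tbS inferInstance inferInstance
  let p : h.image ⟶ S := h.imageι ≫ tbS
  have hp : h.toImage ≫ p = f ≫ η := by
    simp only [p]
    rw [← Category.assoc, h.toImage_imageι, hh]
  haveI : IsProper p := inferInstanceAs (IsProper (h.imageι ≫ tbS))
  haveI : LocallyOfFinitePresentation p := lfp_of_lft p
  let q := pullback.fst p η
  let r := pullback.snd p η
  let c : C' ⟶ pullback p η := pullback.lift h.toImage f hp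
  have hcq : c ≫ q = h.toImage := pullback.lift_fst _ _ _
  have hcr : c ≫ r = f := pullback.lift_snd _ _ _
  have H4 : IsPullback (𝟙 C') c h.toImage q := by
    have outer : IsPullback (c ≫ r) (𝟙 C') η (h.toImage ≫ p) := by
      rw [hcr, hp]
      exact (isPullback_id_of_mono f η).flip
    exact (IsPullback.of_right outer (by rw [hcq]; simp)
      (IsPullback.of_hasPullback p η).flip).flip
  haveI : Flat q := inferInstanceAs (Flat (pullback.fst p η))
  haveI : IsSchemeTheoreticallyDominant c := IsSchemeTheoreticallyDominant.of_isPullback H4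
  let κ : pullback p η ⟶ PT := HP.lift (q ≫ h.imageι) r (by
    rw [Category.assoc]
    exact pullback.condition)
  have hκa : κ ≫ a = q ≫ h.imageι := HP.lift_fst _ _ _
  have hκt : κ ≫ tbT = r := HP.lift_snd _ _ _
  have hcκ : c ≫ κ = i := by
    apply HP.hom_ext
    · rw [Category.assoc, hκa, ← Category.assoc, hcq, h.toImage_imageι]
    · rw [Category.assoc, hκt, hcr, hi]
  haveI : IsSeparated r := inferInstanceAs (IsSeparated (pullback.snd p η))
  haveI : IsSeparated κ := by
    have : IsSeparated (κ ≫ tbT) := by rw [hκt]; infer_instance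
    exact MorphismProperty.of_postcomp (W := @IsSeparated) (W' := ⊤) κ tbT trivial this
  haveI : IsClosedImmersion c := by
    have : IsClosedImmersion (c ≫ κ) := by rw [hcκ]; infer_instance
    exact MorphismProperty.of_postcomp (W := @IsClosedImmersion) (W' := @IsSeparated) c κ
      inferInstance this
  haveI : IsIso c := IsClosedImmersion.isIso_iff_ker_eq_bot.mpr c.ker_eq_bot
  have hr : r = inv c ≫ f := by
    rw [IsIso.eq_inv_comp]
    exact hcr
  haveI : Smooth r := by rw [hr]; infer_instance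
  have hq_mem : ∀ x' : ↥(pullback p η), q x' ∈ p.smoothLocus := by
    intro x'
    exact SmoothLocusBC.mem_smoothLocus_of_isPullback_of_flat (IsPullback.of_hasPullback p η) x'
      (by rw [r.smoothLocus_eq_top]; trivial)
  let Zc : Set ↥h.image := (p.smoothLocus : Set ↥h.image)ᶜ
  have hZc : IsClosed Zc := p.smoothLocus.isOpen.isClosed_compl
  have hT : IsClosed (p '' Zc) := p.isClosedMap _ hZc
  let U : S.Opens := ⟨(p '' Zc)ᶜ, hT.isOpen_compl⟩
  have hηU : Set.range η ⊆ Set.range U.ι := by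
    rw [Scheme.Opens.range_ι]
    rintro _ ⟨t, rfl⟩
    show η t ∉ p '' Zc
    rintro ⟨z, hz, hzt⟩
    have hzq : z ∈ Set.range q := by
      rw [Scheme.Pullback.range_fst]
      exact ⟨t, hzt.symm⟩
    obtain ⟨x', rfl⟩ := hzq
    exact hz (hq_mem x')
  let ξ : T ⟶ (U : Scheme.{u}) := IsOpenImmersion.lift U.ι η hηU
  have hξ : ξ ≫ U.ι = η := IsOpenImmersion.lift_fac _ _ _
  refine ⟨U, ξ, (p ⁻¹ᵁ U : Scheme.{u}), p ∣_ U, hξ, ?_, ?_, ?_⟩
  · haveI : LocallyOfFinitePresentation (p ∣_ U) :=
      IsZariskiLocalAtTarget.restrict (P := @LocallyOfFinitePresentation) inferInstance U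
    rw [← Scheme.Hom.smoothLocus_eq_top_iff, eq_top_iff]
    intro x _
    have hx : x.1 ∈ p.smoothLocus := by
      by_contra hx
      exact x.2 ⟨x.1, hx, rfl⟩
    exact (RingHom.FormallySmooth.respectsIso.arrow_mk_iso_iff
      (morphismRestrictStalkMap p U x)).mpr hx
  · exact IsZariskiLocalAtTarget.restrict (P := @IsProper) inferInstance U
  · have Hsq : IsPullback (pullback.fst (p ∣_ U) ξ ≫ (p ⁻¹ᵁ U).ι) (pullback.snd (p ∣_ U) ξ)
        p η := by
      have := (IsPullback.of_hasPullback (p ∣_ U) ξ).paste_horiz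
        (isPullback_morphismRestrict p U).flip
      rwa [hξ] at this
    refine ⟨Hsq.isoPullback ≪≫ (asIso c).symm, ?_⟩
    simp only [Iso.trans_hom, Iso.symm_hom, asIso_inv, Category.assoc]
    rw [← hr]
    exact Hsq.isoPullback_hom_snd

theorem main {R : Type u} [CommRing R] [IsDedekindDomain R]
    (C : Over (Spec (CommRingCat.of (FractionRing R)))) [Smooth C.hom] [IsProper C.hom]
    (hproj : Neron.IsProjectiveOver (FractionRing R) C) :
    ∃ (U : (Spec (CommRingCat.of R)).Opens)
      (ξ : Spec (CommRingCat.of (FractionRing R)) ⟶ (U : Scheme.{u}))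
      (𝒞 : Scheme.{u}) (π : 𝒞 ⟶ (U : Scheme.{u})),
      ξ ≫ U.ι = Neron.genPt R ∧ Smooth π ∧ IsProper π ∧
      Nonempty (Over.mk (pullback.snd π ξ) ≅ C) := by
  obtain ⟨n, i, hi, hiw⟩ := hproj
  obtain ⟨a, HP⟩ := exists_projSpaceOver_map (Neron.genPt R) n
  haveI : Flat (Neron.genPt R) := by
    rw [HasRingHomProperty.Spec_iff (P := @Flat)]
    simp only [CommRingCat.hom_ofHom]
    exact RingHom.flat_algebraMap_iff.mpr
      (IsLocalization.flat (FractionRing R) (nonZeroDivisors R))
  haveI : IsPreimmersion (Neron.genPt R) :=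
    IsPreimmersion.of_isLocalization (nonZeroDivisors R)
  obtain ⟨U, ξ, 𝒞, π, h1, h2, h3, e, he⟩ := exists_smooth_proper_model (Neron.genPt R)
    (CohB1.ProjSpaceOver.toBase n _) (CohB1.ProjSpaceOver.toBase n _) a HP C.hom i hiw
  exact ⟨U, ξ, 𝒞, π, h1, h2, h3, ⟨Over.isoMk e he⟩⟩

end Groth.Agent.Helper16.GoodRed
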