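import Mathlib
import Groth.Agent.Lib.Helper16.Sch.GrpFib1

set_option autoImplicit false
set_option linter.style.haveILetI false
universe u
open CategoryTheory CategoryTheory.Limits AlgebraicGeometry Opposite TopologicalSpace Topology
  MonoidalCategory CartesianMonoidalCategory MonObj GrpObj

noncomputable section

namespace Groth.Agent.Helper16.GrpFib

open Groth.Agent.Helper14 Groth.Agent.Helper16
open scoped CategoryTheory.Obj

variable {S : Scheme.{u}} (G : Over S) [GrpObj G] [LocallyOfFiniteType G.hom]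

theorem fibreDimAt_eq_dim_fiber (x : G.left) :
    FlatMor.fibreDimAt G.hom x = topologicalKrullDim (G.hom.fiber (G.hom x)) := by
  let c : Spec (CommRingCat.of (S.residueField (G.hom x))) ⟶ S := S.fromSpecResidueField (G.hom x)
  haveI : LocallyOfFiniteType ((Over.pullback c).obj G).hom :=
    MorphismProperty.pullback_snd _ _ inferInstance
  exact Groth.Agent.Helper12.GrpDim.localDim_eq_dim (k := S.residueField (G.hom x))
    ((Over.pullback c).obj G) (G.hom.asFiber x)

theorem fibreDimAt_eq_dim (x : G.left) :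
    FlatMor.fibreDimAt G.hom x = topologicalKrullDim ↥(G.hom.base ⁻¹' {G.hom.base x}) := by
  rw [fibreDimAt_eq_dim_fiber, FTDim.dim_fiber_eq]

/-- the unit section. -/
def unitSec : S ⟶ G.left := η[G].left

theorem unitSec_hom : unitSec G ≫ G.hom = 𝟙 S := Over.w η[G]

theorem unitSec_apply (s : S) : G.hom (unitSec G s) = s := by
  rw [← Scheme.Hom.comp_apply, unitSec_hom]
  rfl

theorem dim_eq_fibreDimAt_unitSec (s : S) :
    topologicalKrullDim ↥(G.hom.base ⁻¹' {s}) = FlatMor.fibreDimAt G.hom (unitSec G s) := by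
  rw [fibreDimAt_eq_dim, unitSec_apply]

theorem exists_nat_dim_eq (s : S) :
    ∃ n : ℕ, topologicalKrullDim ↥(G.hom.base ⁻¹' {s}) = (n : WithBot ℕ∞) := by
  obtain ⟨z, n, -, -, -, -, h⟩ := EquidimAt.exists_maximal_trdeg_eq_fibreDimAt G.hom (unitSec G s)
  exact ⟨n, by rw [dim_eq_fibreDimAt_unitSec, h]⟩

theorem stableUnderGeneralization_lt [Flat G.hom] (c : WithBot ℕ∞) :
    StableUnderGeneralization {s : S | c < topologicalKrullDim ↥(G.hom.base ⁻¹' {s})} := by
  intro s₀ s₁ hs h
  have hs' : s₁ ⤳ G.hom (unitSec G s₀) := by rw [unitSec_apply]; exact hs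
  obtain ⟨x₁, hx₁, hle⟩ := exists_fibreDimAt_le_of_specializes G.hom (unitSec G s₀) s₁ hs'
  show c < topologicalKrullDim ↥(G.hom.base ⁻¹' {s₁})
  have h' : c < topologicalKrullDim ↥(G.hom.base ⁻¹' {s₀}) := h
  rw [dim_eq_fibreDimAt_unitSec] at h'
  rw [← hx₁, ← fibreDimAt_eq_dim]
  exact lt_of_lt_of_le h' hle

theorem isOpen_le (n : ℕ) :
    IsOpen {s : S | topologicalKrullDim ↥(G.hom.base ⁻¹' {s}) ≤ n} := by
  have h := (Groth.Agent.S0402.result G.hom n).preimage (unitSec G).continuous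
  convert h using 1
  ext s
  simp only [Set.mem_ofPred_eq, Set.mem_preimage]
  rw [dim_eq_fibreDimAt_unitSec]

theorem isLocallyConstructible_le [LocallyOfFinitePresentation G.hom] (n : ℕ) :
    IsLocallyConstructible {s : S | topologicalKrullDim ↥(G.hom.base ⁻¹' {s}) ≤ n} := by
  have h := Groth.Agent.Helper15.isLocallyConstructible_preimage (unitSec G)
    (ConsFD.isLocallyConstructible_fibreDimAt_le G.hom n)
  convert h using 1
  ext s
  simp only [Set.mem_ofPred_eq, Set.mem_preimage]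
  rw [dim_eq_fibreDimAt_unitSec]

theorem isOpen_lt [Flat G.hom] [LocallyOfFinitePresentation G.hom] (n : ℕ) :
    IsOpen {s : S | (n : WithBot ℕ∞) < topologicalKrullDim ↥(G.hom.base ⁻¹' {s})} := by
  apply FTOpen.isOpen_of_isLocallyConstructible_of_stableUnderGeneralization
  · have h := ConsFD.isLocallyConstructible_compl (isLocallyConstructible_le G n)
    convert h using 1
    ext s
    simp only [Set.mem_ofPred_eq, Set.mem_compl_iff, not_le]
  · exact stableUnderGeneralization_lt G n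

theorem main3022 [Flat G.hom] [LocallyOfFinitePresentation G.hom] :
    IsLocallyConstant (fun s : S => topologicalKrullDim ↥(G.hom.base ⁻¹' {s})) := by
  rw [IsLocallyConstant.iff_exists_open]
  intro s₀
  obtain ⟨n, hn⟩ := exists_nat_dim_eq G s₀
  rcases Nat.eq_zero_or_pos n with h0 | hpos
  · subst h0
    refine ⟨_, isOpen_le G 0, ?_, ?_⟩
    · show topologicalKrullDim ↥(G.hom.base ⁻¹' {s₀}) ≤ (0 : ℕ)
      rw [hn]
    · intro s hs
      have hs' : topologicalKrullDim ↥(G.hom.base ⁻¹' {s}) ≤ (0 : ℕ) := hs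
      obtain ⟨m, hm⟩ := exists_nat_dim_eq G s
      show topologicalKrullDim ↥(G.hom.base ⁻¹' {s}) = topologicalKrullDim ↥(G.hom.base ⁻¹' {s₀})
      rw [hn]
      rw [hm] at hs' ⊢
      have : m ≤ 0 := by exact_mod_cast hs'
      have : m = 0 := by omega
      rw [this]
  · obtain ⟨r, rfl⟩ : ∃ r, n = r + 1 := ⟨n - 1, by omega⟩
    refine ⟨_, (isOpen_le G (r + 1)).inter (isOpen_lt G r), ⟨?_, ?_⟩, ?_⟩
    · show topologicalKrullDim ↥(G.hom.base ⁻¹' {s₀}) ≤ ((r + 1 : ℕ) : WithBot ℕ∞)
      rw [hn]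
    · show (r : WithBot ℕ∞) < topologicalKrullDim ↥(G.hom.base ⁻¹' {s₀})
      rw [hn]
      exact_mod_cast Nat.lt_succ_self r
    · rintro s ⟨hs1, hs2⟩
      have hs1' : topologicalKrullDim ↥(G.hom.base ⁻¹' {s}) ≤ ((r + 1 : ℕ) : WithBot ℕ∞) := hs1
      have hs2' : (r : WithBot ℕ∞) < topologicalKrullDim ↥(G.hom.base ⁻¹' {s}) := hs2
      obtain ⟨m, hm⟩ := exists_nat_dim_eq G s
      show topologicalKrullDim ↥(G.hom.base ⁻¹' {s}) = topologicalKrullDim ↥(G.hom.base ⁻¹' {s₀})
      rw [hn]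
      rw [hm] at hs1' hs2' ⊢
      have h1 : m ≤ r + 1 := by exact_mod_cast hs1'
      have h2 : r < m := by exact_mod_cast hs2'
      have : m = r + 1 := by omega
      rw [this]

end Groth.Agent.Helper16.GrpFib
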