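import Mathlib
import Groth.Agent.Lib.Helper16.Sch.GrpFib2

set_option autoImplicit false
set_option linter.style.haveILetI false
universe u
open CategoryTheory CategoryTheory.Limits AlgebraicGeometry Opposite TopologicalSpace Topology
  MonoidalCategory CartesianMonoidalCategory MonObj GrpObj

noncomputable section

namespace Groth.Agent.Helper16.GrpFib

open Groth.Agent.Helper14 Groth.Agent.Helper16
open scoped CategoryTheory.Obj

variable {S : Scheme.{u}} (G : Over S) [GrpObj G] [LocallyOfFiniteType G.hom]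

theorem upperSemicontinuous_dim :
    UpperSemicontinuous (fun s : S => topologicalKrullDim ↥(G.hom.base ⁻¹' {s})) := by
  intro s y hy
  obtain ⟨n, hn⟩ := exists_nat_dim_eq G s
  have hmem : {t : S | topologicalKrullDim ↥(G.hom.base ⁻¹' {t}) ≤ n} ∈ nhds s :=
    (isOpen_le G n).mem_nhds
      (show topologicalKrullDim ↥(G.hom.base ⁻¹' {s}) ≤ (n : WithBot ℕ∞) by rw [hn])
  filter_upwards [hmem] with t ht
  have ht' : topologicalKrullDim ↥(G.hom.base ⁻¹' {t}) ≤ n := ht
  have hy' : topologicalKrullDim ↥(G.hom.base ⁻¹' {s}) < y := hy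
  rw [hn] at hy'
  exact lt_of_le_of_lt ht' hy'

theorem isLocallyConstructible_eq [LocallyOfFinitePresentation G.hom] (d : WithBot ℕ∞) :
    IsLocallyConstructible {s : S | topologicalKrullDim ↥(G.hom.base ⁻¹' {s}) = d} := by
  by_cases hd : ∃ n : ℕ, d = (n : WithBot ℕ∞)
  · obtain ⟨n, rfl⟩ := hd
    rcases Nat.eq_zero_or_pos n with h0 | hpos
    · subst h0
      convert isLocallyConstructible_le G 0 using 1
      ext s
      simp only [Set.mem_ofPred_eq]
      obtain ⟨m, hm⟩ := exists_nat_dim_eq G s
      rw [hm]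
      constructor
      · intro h; rw [h]
      · intro h
        have : m ≤ 0 := by exact_mod_cast h
        have : m = 0 := by omega
        rw [this]
    · obtain ⟨r, rfl⟩ : ∃ r, n = r + 1 := ⟨n - 1, by omega⟩
      convert (isLocallyConstructible_le G (r + 1)).inter
        (ConsFD.isLocallyConstructible_compl (isLocallyConstructible_le G r)) using 1
      ext s
      simp only [Set.mem_ofPred_eq, Set.mem_inter_iff, Set.mem_compl_iff, not_le]
      obtain ⟨m, hm⟩ := exists_nat_dim_eq G s
      rw [hm]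
      constructor
      · intro h
        have : m = r + 1 := by exact_mod_cast h
        subst this
        exact ⟨le_rfl, by exact_mod_cast Nat.lt_succ_self r⟩
      · rintro ⟨h1, h2⟩
        have h1' : m ≤ r + 1 := by exact_mod_cast h1
        have h2' : r < m := by exact_mod_cast h2
        have : m = r + 1 := by omega
        rw [this]
  · convert IsLocallyConstructible.empty (X := S) using 1
    ext s
    simp only [Set.mem_ofPred_eq, Set.mem_empty_iff_false, iff_false]
    intro h
    obtain ⟨m, hm⟩ := exists_nat_dim_eq G s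
    exact hd ⟨m, by rw [← h, hm]⟩

theorem main5329 :
    UpperSemicontinuous (fun s : S => topologicalKrullDim ↥(G.hom.base ⁻¹' {s})) ∧
    (LocallyOfFinitePresentation G.hom → ∀ s : S, ∃ V : S.Opens, s ∈ V ∧
      ((fun t : S => topologicalKrullDim ↥(G.hom.base ⁻¹' {t})) '' (V : Set S)).Finite ∧
      ∀ d : WithBot ℕ∞, Topology.IsConstructible
        {t : V | topologicalKrullDim ↥(G.hom.base ⁻¹' {(t : S)}) = d}) := by
  refine ⟨upperSemicontinuous_dim G, ?_⟩
  intro hfp s
  obtain ⟨n, hn⟩ := exists_nat_dim_eq G s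
  let U : S.Opens := ⟨{t : S | topologicalKrullDim ↥(G.hom.base ⁻¹' {t}) ≤ n}, isOpen_le G n⟩
  have hsU : s ∈ U :=
    show topologicalKrullDim ↥(G.hom.base ⁻¹' {s}) ≤ (n : WithBot ℕ∞) by rw [hn]
  obtain ⟨V, hV, hsV, hVU⟩ := exists_isAffineOpen_mem_and_subset (x := s) (U := U) hsU
  refine ⟨V, hsV, ?_, ?_⟩
  · refine Set.Finite.subset ((Set.finite_Iic n).image (fun m : ℕ => (m : WithBot ℕ∞))) ?_
    rintro _ ⟨t, ht, rfl⟩
    have h1 : topologicalKrullDim ↥(G.hom.base ⁻¹' {t}) ≤ n := hVU ht
    obtain ⟨m, hm⟩ := exists_nat_dim_eq G t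
    refine ⟨m, ?_, hm.symm⟩
    rw [hm] at h1
    show m ≤ n
    exact_mod_cast h1
  · intro d
    have h1 : IsLocallyConstructible ((Subtype.val : V → S) ⁻¹'
        {s : S | topologicalKrullDim ↥(G.hom.base ⁻¹' {s}) = d}) :=
      (isLocallyConstructible_eq G d).preimage_of_isOpenEmbedding (f := (Subtype.val : V → S))
        V.2.isOpenEmbedding_subtypeVal
    refine @IsLocallyConstructible.isConstructible _ _ _ ?_ ?_ ?_ h1
    · exact (V.2.isOpenEmbedding_subtypeVal).prespectralSpace
    · exact (isQuasiSeparated_iff_quasiSeparatedSpace _ V.2).mp hV.isQuasiSeparated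
    · exact isCompact_iff_compactSpace.mp hV.isCompact

end Groth.Agent.Helper16.GrpFib
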