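import Mathlib
import Groth.Agent.Lib.Helper16.Sch.GrpSm1

set_option autoImplicit false
set_option linter.style.haveILetI false
set_option linter.unusedSectionVars false
universe u v
open CategoryTheory CategoryTheory.Limits AlgebraicGeometry MonoidalCategory CartesianMonoidalCategory
  MonObj GrpObj

noncomputable section

namespace Groth.Agent.Helper16.GrpSm

open Groth.Agent.Helper16.GrpIrr Groth.Agent.Helper16.SmoothLocusBC
  Groth.Agent.Helper16.SmoothFibreSch Groth.Agent.Helper16.GenSm
open scoped CategoryTheory.Obj

theorem smooth_of_perfectField_reduced (K : Type u) [Field K] [PerfectField K]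
    (G : Over (Spec (CommRingCat.of K))) [GrpObj G] [LocallyOfFiniteType G.hom]
    [IsReduced G.left] : Smooth G.hom := by
  haveI : LocallyOfFinitePresentation G.hom :=
    LocallyOfFinitePresentation.iff_locallyOfFiniteType.mpr inferInstance
  have hd := Scheme.Hom.dense_smoothLocus_of_perfectField G.hom
  haveI : Nonempty G.left := ⟨η[G].left (IsLocalRing.closedPoint K)⟩
  exact smooth_of_smoothLocus_nonempty G hd.nonempty

theorem smooth_of_flat_geometricallyReduced {S : Scheme.{u}} (G : Over S) [GrpObj G]
    [Flat G.hom] [LocallyOfFinitePresentation G.hom] [GeometricallyReduced G.hom] :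
    Smooth G.hom := by
  rw [← Scheme.Hom.smoothLocus_eq_top_iff, eq_top_iff]
  intro x _
  rw [mem_smoothLocus_iff_flat_and_fiber G.hom x]
  refine ⟨Flat.stalkMap G.hom x, ?_⟩
  let c : Spec (CommRingCat.of (S.residueField (G.hom x))) ⟶ S :=
    S.fromSpecResidueField (G.hom x)
  haveI : LocallyOfFinitePresentation ((Over.pullback c).obj G).hom :=
    inferInstanceAs (LocallyOfFinitePresentation (pullback.snd G.hom c))
  haveI : GeometricallyReduced ((Over.pullback c).obj G).hom :=
    inferInstanceAs (GeometricallyReduced (pullback.snd G.hom c))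
  haveI : Nonempty ((Over.pullback c).obj G).left := ⟨G.hom.asFiber x⟩
  have hne := smoothLocus_nonempty_of_geometricallyReduced (S.residueField (G.hom x))
    ((Over.pullback c).obj G).hom
  haveI := smooth_of_smoothLocus_nonempty ((Over.pullback c).obj G) hne
  have htop : ((Over.pullback c).obj G).hom.smoothLocus = ⊤ := Scheme.Hom.smoothLocus_eq_top _
  have : G.hom.asFiber x ∈ ((Over.pullback c).obj G).hom.smoothLocus := by
    rw [htop]; trivial
  exact this

end Groth.Agent.Helper16.GrpSm
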