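import Mathlib
import Groth.Prelude.Def_Grpd
import Groth.Prelude.Def_MoreMor
import Groth.Agent.Lib.Helper18.GrpdRank
import Groth.Agent.Lib.Helper12.CMBC
import Groth.Agent.Lib.Helper16.Sch.CMCons1
import Groth.Agent.Lib.Helper16.Sch.CMDense
import Groth.Agent.S4961

set_option autoImplicit false
set_option linter.style.haveILetI false
set_option linter.unusedSectionVars false
universe u

open CategoryTheory AlgebraicGeometry Limits IsLocalRing

namespace Groth.Agent.Helper16.GrpdCM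

open Grpd Groth.Agent.Helper18.GrpdOm Groth.Agent.Helper18.GrpdRank
  Groth.Agent.Helper16.CMCons Groth.Agent.Helper16.FibStalk

theorem grpd_isCMAt_iff {X Y : Scheme.{u}} (f : X ⟶ Y) (x : X) :
    Grpd.IsCMAt f x ↔ MoreMor.IsCMAt f x := by
  unfold Grpd.IsCMAt MoreMor.IsCMAt
  refine and_congr Iff.rfl ?_
  exact (fibCM_iff_quot f x).symm

variable {S : Scheme.{u}} (G : GroupoidScheme S)

theorem i_i : G.i ≫ G.i = 𝟙 G.R := by
  have := i_i_point G (𝟙 G.R)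
  simpa using this

instance : IsIso G.i := ⟨⟨G.i, i_i G, i_i G⟩⟩

section

variable [Flat G.t] [LocallyOfFiniteType G.t]

/-- `t` is CM at `α ∘ β` iff it is CM at `β`. -/
theorem isCMAt_t_c (p : ↑(pullback G.s G.t)) :
    MoreMor.IsCMAt G.t (G.c p) ↔ MoreMor.IsCMAt G.t (pullback.snd G.s G.t p) := by
  have h1 := Groth.Agent.Helper12.CMBC.isCMAt_baseChange_iff (isPullback_c G) p
  have h2 := Groth.Agent.Helper12.CMBC.isCMAt_baseChange_iff
    (IsPullback.of_hasPullback G.s G.t).flip p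
  exact h1.symm.trans h2

theorem isCMAt_t_iff_e (r : G.R) :
    MoreMor.IsCMAt G.t r ↔ MoreMor.IsCMAt G.t (G.e (G.s r)) := by
  let lam : G.R ⟶ pullback G.s G.t :=
    pullback.lift (𝟙 G.R) (G.s ≫ G.e) (by rw [Category.id_comp, Category.assoc, G.e_t, Category.comp_id])
  have h1 : lam ≫ G.c = 𝟙 G.R := by
    have := cmp_e G (𝟙 G.R)
    unfold Groth.Agent.Helper18.GrpdOm.cmp at this
    simpa using this
  have h2 : lam ≫ pullback.snd G.s G.t = G.s ≫ G.e := pullback.lift_snd _ _ _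
  have h3 := isCMAt_t_c G (lam r)
  rw [← Scheme.Hom.comp_apply, ← Scheme.Hom.comp_apply, h1, h2] at h3
  simpa using h3

end

theorem isCMAt_s_iff_t_i [Flat G.t] [LocallyOfFiniteType G.t] (r : G.R) :
    MoreMor.IsCMAt G.s r ↔ MoreMor.IsCMAt G.t (G.i r) := by
  have hsq : IsPullback G.i (G.i ≫ G.t) G.t (𝟙 G.U) := IsPullback.of_horiz_isIso ⟨by simp⟩
  have := Groth.Agent.Helper12.CMBC.isCMAt_baseChange_iff hsq r
  rw [G.i_t] at this
  exact this


theorem exists_mem_fiber_isCMAt {X Y : Scheme.{u}} (f : X ⟶ Y) [Flat f] [LocallyOfFiniteType f]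
    (y : Y) (x₀ : X) (hx₀ : f x₀ = y) : ∃ x : X, f x = y ∧ MoreMor.IsCMAt f x := by
  have hd := Groth.Agent.Helper16.CMSch.dense_cm_fiber f y
  haveI hne : Nonempty (f.fiber y) := by
    have : x₀ ∈ f ⁻¹' {y} := hx₀
    rw [← f.range_fiberι y] at this
    obtain ⟨z, -⟩ := this
    exact ⟨z⟩
  obtain ⟨z, hz⟩ := hd.nonempty
  refine ⟨f.fiberι y z, ?_, hz⟩
  have : f.fiberι y z ∈ f ⁻¹' {y} := f.range_fiberι y ▸ Set.mem_range_self z
  exact this

theorem main [Flat G.s] [LocallyOfFinitePresentation G.s] [Flat G.t]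
    [LocallyOfFinitePresentation G.t] :
    ∃ U' : G.U.Opens, (G.t ⁻¹ᵁ U' : Set G.R) = {r | Grpd.IsCMAt G.s r} ∧
      (G.s ⁻¹ᵁ U' : Set G.R) = {r | Grpd.IsCMAt G.t r} ∧
      ⇑G.t '' (G.s ⁻¹ᵁ U' : Set G.R) = Set.univ ∧ ⇑G.s '' (G.t ⁻¹ᵁ U' : Set G.R) = Set.univ := by
  let Wt : G.R.Opens := ⟨{r | MoreMor.IsCMAt G.t r}, Groth.Agent.S4961.result G.t⟩
  let U' : G.U.Opens := G.e ⁻¹ᵁ Wt
  have hs : ∀ r : G.R, r ∈ (G.s ⁻¹ᵁ U' : Set G.R) ↔ MoreMor.IsCMAt G.t r :=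
    fun r => (isCMAt_t_iff_e G r).symm
  have ht : ∀ r : G.R, r ∈ (G.t ⁻¹ᵁ U' : Set G.R) ↔ MoreMor.IsCMAt G.s r := by
    intro r
    rw [isCMAt_s_iff_t_i, isCMAt_t_iff_e]
    have : G.s (G.i r) = G.t r := by rw [← Scheme.Hom.comp_apply, G.i_s]
    rw [this]
    rfl
  refine ⟨U', ?_, ?_, ?_, ?_⟩
  · ext r
    rw [Set.mem_ofPred_eq, grpd_isCMAt_iff]
    exact ht r
  · ext r
    rw [Set.mem_ofPred_eq, grpd_isCMAt_iff]
    exact hs r
  · rw [Set.eq_univ_iff_forall]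
    intro u
    obtain ⟨r, hr1, hr2⟩ := exists_mem_fiber_isCMAt G.t u (G.e u) (by
      rw [← Scheme.Hom.comp_apply, G.e_t]; rfl)
    exact ⟨r, (hs r).mpr hr2, hr1⟩
  · rw [Set.eq_univ_iff_forall]
    intro u
    obtain ⟨r, hr1, hr2⟩ := exists_mem_fiber_isCMAt G.s u (G.e u) (by
      rw [← Scheme.Hom.comp_apply, G.e_s]; rfl)
    exact ⟨r, (ht r).mpr hr2, hr1⟩

end Groth.Agent.Helper16.GrpdCM
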