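import Mathlib
import Groth.Prelude
import Groth.Agent.Lib.Helper16.Sch.HomKer
import Groth.Agent.Lib.Helper16.Sch.HomDim
import Groth.Agent.Lib.Helper18.SchImgGrp3

set_option autoImplicit false
set_option linter.style.haveILetI false
universe u
open CategoryTheory CategoryTheory.Limits AlgebraicGeometry Opposite TopologicalSpace Topology
  MonoidalCategory CartesianMonoidalCategory MonObj GrpObj

noncomputable section

namespace Groth.Agent.Helper16.HomFactor

open Groth.Agent.Helper14 Groth.Agent.Helper16 Groth.Agent.Helper28.AlgGrpShear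

section
variable {S : Scheme.{u}} {G H C : Over S} [GrpObj G] [GrpObj H] (u : G ⟶ H) [IsMonHom u]
  (i : C ⟶ H) [IsClosedImmersion i.left] (p : G ⟶ C) (hpi : p ≫ i = u)

omit [GrpObj H] in
theorem mono_i : Mono i := by
  haveI : Mono i.left := inferInstance
  exact Over.mono_of_mono_left _

theorem mul_comp_hom : μ[G] ≫ u = (fst G G ≫ u) * (snd G G ≫ u) := by
  rw [MonObj.mul_eq_mul, MonObj.mul_comp]

include hpi in
/-- the translation action of `G` on a schematically dominated closed subscheme. -/
theorem exists_act [Flat G.hom] [QuasiCompact p.left] [IsSchemeTheoreticallyDominant p.left] :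
    ∃ act : G ⊗ C ⟶ C, act ≫ i = (fst G C ≫ u) * (snd G C ≫ i) := by
  haveI : Flat (snd G C).left := by
    show Flat (pullback.snd G.hom C.hom); infer_instance
  haveI : IsSchemeTheoreticallyDominant (G ◁ p).left :=
    IsSchemeTheoreticallyDominant.of_isPullback
      (Groth.Agent.Helper18.GrpFppf.isPullback_left (isPullback_snd G p))
  exact Groth.Agent.Helper18.SchImgGrp.exists_factor_of_schDominant (G ◁ p) i
    ((fst G C ≫ u) * (snd G C ≫ i)) (μ[G] ≫ p) (by
      rw [Category.assoc, hpi, MonObj.comp_mul, ← Category.assoc, whiskerLeft_fst,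
        ← Category.assoc (G ◁ p), whiskerLeft_snd, Category.assoc, hpi, mul_comp_hom])

/-- the action structure. -/
def actOn (act : G ⊗ C ⟶ C) (hact : act ≫ i = (fst G C ≫ u) * (snd G C ≫ i)) :
    AlgGrp.Action G C where
  act := act
  one_act := by
    haveI := mono_i i
    rw [← cancel_mono i, Category.assoc, hact, MonObj.comp_mul, ← Category.assoc,
      whiskerRight_fst, Category.assoc, IsMonHom.one_hom, ← Category.assoc (η[G] ▷ C),
      whiskerRight_snd, leftUnitor_hom]
    have : fst (𝟙_ (Over S)) C ≫ η[H] = 1 := by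
      rw [Hom.one_def, toUnit_unique (fst (𝟙_ (Over S)) C) (toUnit _)]
    rw [this, _root_.one_mul]
  mul_act := by
    haveI := mono_i i
    rw [← cancel_mono i]
    simp only [Category.assoc, hact, MonObj.comp_mul]
    rw [← Category.assoc (G ◁ act), whiskerLeft_fst, ← Category.assoc (G ◁ act), whiskerLeft_snd]
    simp only [Category.assoc, hact, MonObj.comp_mul]
    simp only [← Category.assoc, whiskerRight_fst, whiskerRight_snd, associator_hom_fst]
    simp only [Category.assoc, mul_comp_hom, MonObj.comp_mul, associator_hom_snd_snd,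
      associator_hom_snd_fst]
    rw [_root_.mul_assoc]

theorem orbitMap_actOn (act : G ⊗ C ⟶ C) (hact : act ≫ i = (fst G C ≫ u) * (snd G C ≫ i))
    (hpi : p ≫ i = u) : (actOn u i act hact).orbitMap (η[G] ≫ p) = p := by
  haveI := mono_i i
  rw [← cancel_mono i]
  unfold AlgGrp.Action.orbitMap
  show (lift (𝟙 G) (toUnit G ≫ η[G] ≫ p) ≫ act) ≫ i = p ≫ i
  rw [Category.assoc, hact, MonObj.comp_mul, ← Category.assoc, lift_fst, ← Category.assoc,
    lift_snd, Category.id_comp, Category.assoc, Category.assoc, hpi, IsMonHom.one_hom,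
    ← Hom.one_def, _root_.mul_one]

include hpi in
/-- **Flatness onto the schematic image** (one-point base). -/
theorem flat_toImage [Subsingleton S] [Flat G.hom] [QuasiCompact p.left]
    [IsSchemeTheoreticallyDominant p.left] [IsLocallyNoetherian C.left]
    [Flat (pullback.fst u.left u.left)] [Flat (pullback.snd u.left u.left)] (s : S) :
    Flat p.left := by
  obtain ⟨act, hact⟩ := exists_act u i p hpi
  have horb := orbitMap_actOn u i p act hact hpi
  -- kernel pair of `p`
  have hP := KPFlat.isPullback_comp_mono (IsPullback.of_hasPullback p.left p.left) i.left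
  have hpu : p.left ≫ i.left = u.left := by rw [← Over.comp_left, hpi]
  rw [hpu] at hP
  haveI : Flat (pullback.fst p.left p.left) := by
    rw [← hP.isoPullback_hom_fst]; infer_instance
  haveI : Flat (pullback.snd p.left p.left) := by
    rw [← hP.isoPullback_hom_snd]; infer_instance
  obtain ⟨y, -, hy⟩ := GrpSurj.exists_isMaxPt ((η[G] ≫ p : 𝟙_ (Over S) ⟶ C).left s)
  haveI : IsDominant p.left := inferInstance
  obtain ⟨x, hx⟩ := hy.mem_range p.left p.left.denseRange
  have hflat : (p.left.stalkMap x).hom.Flat :=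
    KPFlat.stalkMap_flat_of_maximal p.left x (by rw [hx]; exact hy)
  have := OrbitFlat.flat_orbitMap (actOn u i act hact) (η[G] ≫ p) ⟨x, by rw [horb]; exact hflat⟩
  rwa [horb] at this

omit [IsClosedImmersion i.left] in
theorem isMonHom_of_comp_mono [GrpObj C] [IsMonHom i] [Mono i] (hpi : p ≫ i = u) : IsMonHom p where
  one_hom := by
    rw [← cancel_mono i, Category.assoc, hpi, IsMonHom.one_hom, IsMonHom.one_hom]
  mul_hom := by
    rw [← cancel_mono i, Category.assoc, hpi, Category.assoc, IsMonHom.mul_hom (f := i),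
      ← Category.assoc, tensorHom_comp_tensorHom, hpi, IsMonHom.mul_hom]

theorem inv_comp_hom : ι[G] ≫ u = u ≫ ι[H] := by
  have h1 : ι[G] = (𝟙 G)⁻¹ := by rw [Hom.inv_def, Category.id_comp]
  rw [h1, GrpObj.inv_comp, Category.id_comp, Hom.inv_def]

include hpi in
/-- the schematic image is a subgroup scheme (flat case). -/
theorem exists_grpObj [Flat G.hom] [Flat C.hom] [QuasiCompact p.left]
    [IsSchemeTheoreticallyDominant p.left] : ∃ (_ : GrpObj C), IsMonHom i ∧ IsMonHom p := by
  haveI := mono_i i
  haveI : Flat (fst C G).left := by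
    show Flat (pullback.fst C.hom G.hom); infer_instance
  haveI : Flat (snd C C).left := by
    show Flat (pullback.snd C.hom C.hom); infer_instance
  haveI : IsSchemeTheoreticallyDominant (p ▷ G).left :=
    IsSchemeTheoreticallyDominant.of_isPullback
      (Groth.Agent.Helper18.GrpFppf.isPullback_left (isPullback_fst p G))
  haveI : IsSchemeTheoreticallyDominant (C ◁ p).left :=
    IsSchemeTheoreticallyDominant.of_isPullback
      (Groth.Agent.Helper18.GrpFppf.isPullback_left (isPullback_snd C p))
  haveI : IsSchemeTheoreticallyDominant (p ⊗ₘ p).left := by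
    rw [MonoidalCategory.tensorHom_def, Over.comp_left]
    infer_instance
  have h1 : ∃ e : 𝟙_ (Over S) ⟶ C, e ≫ i = η[H] :=
    ⟨η[G] ≫ p, by rw [Category.assoc, hpi, IsMonHom.one_hom]⟩
  have h2 : ∃ m : C ⊗ C ⟶ C, m ≫ i = (i ⊗ₘ i) ≫ μ[H] :=
    Groth.Agent.Helper18.SchImgGrp.exists_factor_of_schDominant (p ⊗ₘ p) i
      ((i ⊗ₘ i) ≫ μ[H]) (μ[G] ≫ p) (by
        rw [Category.assoc, hpi, ← Category.assoc, tensorHom_comp_tensorHom, hpi,
          IsMonHom.mul_hom])
  have h3 : ∃ j : C ⟶ C, j ≫ i = i ≫ ι[H] :=
    Groth.Agent.Helper18.SchImgGrp.exists_factor_of_schDominant p i (i ≫ ι[H]) (ι[G] ≫ p) (by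
        rw [Category.assoc, hpi, ← Category.assoc, hpi, inv_comp_hom])
  obtain ⟨inst, hi⟩ := Groth.Agent.Helper18.SubGrpObj.exists_grpObj_of_mono i h1 h2 h3
  exact ⟨inst, hi, isMonHom_of_comp_mono u i p hpi⟩

end

theorem main3034 (A : Type u) [CommRing A] [IsArtinianRing A] [IsLocalRing A]
    (G H : Over (Spec (CommRingCat.of A))) [GrpObj G] [GrpObj H] [LocallyOfFiniteType G.hom]
    [LocallyOfFiniteType H.hom] [Flat G.hom] (u : G ⟶ H) [IsMonHom u] [QuasiCompact u.left]
    (hN : Flat (Limits.pullback.snd u.left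
      (η[H] : 𝟙_ (Over (Spec (CommRingCat.of A))) ⟶ H).left)) :
    ∃ (C : Over (Spec (CommRingCat.of A))) (_ : GrpObj C) (p : G ⟶ C) (i : C ⟶ H),
      IsMonHom p ∧ IsMonHom i ∧ p ≫ i = u ∧
      Flat p.left ∧ Surjective p.left ∧ LocallyOfFinitePresentation p.left ∧
        IsClosedImmersion i.left := by
  haveI : Subsingleton ↥(Spec (CommRingCat.of A)) := Ring.KrullDimLE.subsingleton_primeSpectrum A
  let C : Over (Spec (CommRingCat.of A)) := Over.mk (u.left.imageι ≫ H.hom)
  let i : C ⟶ H := Over.homMk u.left.imageι rfl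
  let p : G ⟶ C := Over.homMk u.left.toImage (by
    show u.left.toImage ≫ u.left.imageι ≫ H.hom = G.hom
    rw [← Category.assoc, Scheme.Hom.toImage_imageι, Over.w u])
  have hpi : p ≫ i = u := by
    ext
    exact Scheme.Hom.toImage_imageι u.left
  haveI : IsClosedImmersion i.left := inferInstanceAs (IsClosedImmersion u.left.imageι)
  haveI : IsSchemeTheoreticallyDominant p.left :=
    inferInstanceAs (IsSchemeTheoreticallyDominant u.left.toImage)
  haveI : QuasiCompact p.left := inferInstanceAs (QuasiCompact u.left.toImage)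
  haveI : LocallyOfFiniteType C.hom := by
    rw [← Over.w i]; infer_instance
  haveI : IsLocallyNoetherian C.left := LocallyOfFiniteType.isLocallyNoetherian C.hom
  -- the kernel pair is flat
  have hNf : Flat (HomKer.ker u).hom := by rw [HomKer.ker_hom]; exact hN
  obtain ⟨hf1, hf2⟩ :=
    HomKer.prop_kernelPair u @Flat (HomKer.kerι u) (HomKer.isKernel_kerι u) hNf
  haveI := hf1
  haveI := hf2
  haveI hflat : Flat p.left := flat_toImage u i p hpi (IsLocalRing.closedPoint A)
  -- surjectivity
  have hcl : IsClosed (Set.range u.left.base) := (HomDim.main3016 A G H u).1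
  have hpu : ∀ x, i.left (p.left x) = u.left x := by
    intro x
    rw [← Scheme.Hom.comp_apply, ← Over.comp_left, hpi]
  haveI : Surjective p.left := by
    have hr : Set.range p.left.base = i.left.base ⁻¹' (Set.range u.left.base) := by
      ext c
      constructor
      · rintro ⟨x, rfl⟩
        exact ⟨x, (hpu x).symm⟩
      · rintro ⟨x, hx⟩
        refine ⟨x, i.left.isClosedEmbedding.injective ?_⟩
        rw [hpu x]; exact hx
    have hclp : IsClosed (Set.range p.left.base) := by
      rw [hr]; exact hcl.preimage i.left.continuous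
    have hd := p.left.denseRange
    have huniv : Set.range p.left.base = Set.univ := by
      rw [← hclp.closure_eq]; exact hd.closure_range
    exact ⟨fun c => by
      have : c ∈ Set.range p.left.base := by rw [huniv]; trivial
      exact this⟩
  haveI : LocallyOfFiniteType (p.left ≫ C.hom) := by rw [Over.w]; infer_instance
  haveI : LocallyOfFiniteType p.left := locallyOfFiniteType_of_comp p.left C.hom
  haveI : LocallyOfFinitePresentation p.left := inferInstance
  haveI : Flat (p.left ≫ C.hom) := by rw [Over.w]; infer_instance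
  haveI : Flat C.hom := Groth.Agent.Helper18.GrpFppf.flat_of_comp_of_surjective p.left C.hom
  obtain ⟨inst, hi, hp⟩ := exists_grpObj u i p hpi
  exact ⟨C, inst, p, i, hp, hi, hpi, hflat, inferInstance, inferInstance, inferInstance⟩

end Groth.Agent.Helper16.HomFactor
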