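import Mathlib
import Groth.Prelude.Def_CohB1
import Groth.Agent.Lib.Helper16.Top.HypCover
import Groth.Agent.Lib.Helper16.Alg.HomAvoid
import Groth.Agent.Lib.Helper15.ProjSpaceProper

set_option autoImplicit false
set_option linter.style.haveILetI false
set_option linter.unusedSectionVars false
universe u

open CategoryTheory AlgebraicGeometry TopologicalSpace Topology

namespace Groth.Agent.Helper16.HypCoverProj

variable (k : Type u) [Field k] (n : ℕ)

local notation "𝒜" => CohB1.polyGrading n k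
local notation "P" => CohB1.ProjSpace n k

instance : IsNoetherian (CohB1.ProjSpace n k) := by
  haveI : IsLocallyNoetherian (CohB1.ProjSpace n k) :=
    LocallyOfFiniteType.isLocallyNoetherian (CohB1.ProjSpace.toSpec n k)
  haveI : CompactSpace ↥(CohB1.ProjSpace n k) :=
    QuasiCompact.compactSpace_of_compactSpace (CohB1.ProjSpace.toSpec n k)
  exact { }

/-- the basic open of projective space. -/
noncomputable def Dp (h : MvPolynomial (Fin (n + 1)) k) : (CohB1.ProjSpace n k).Opens :=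
  show (Proj (CohB1.polyGrading n k)).Opens from Proj.basicOpen (CohB1.polyGrading n k) h

/-- the family of hypersurface complements. -/
def hyp : Set (Set ↥(CohB1.ProjSpace n k)) :=
  {H | ∃ (d : ℕ) (h : MvPolynomial (Fin (n + 1)) k), 0 < d ∧ h.IsHomogeneous d ∧
    H = (Dp k n h : Set ↥(CohB1.ProjSpace n k))ᶜ}

theorem isClosed_of_mem_hyp (H : Set ↥(CohB1.ProjSpace n k)) (hH : H ∈ hyp k n) : IsClosed H := by
  obtain ⟨d, h, -, -, rfl⟩ := hH
  exact (Dp k n h).isOpen.isClosed_compl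

/-- **avoidance**: a closed subset of projective space and finitely many points outside it are
separated by a hypersurface. -/
theorem avoid (Y : Set ↥(CohB1.ProjSpace n k)) (hY : IsClosed Y)
    (Q : Finset ↥(CohB1.ProjSpace n k)) (hQ : ∀ p ∈ Q, p ∉ Y) :
    ∃ H ∈ hyp k n, Y ⊆ H ∧ ∀ p ∈ Q, p ∉ H := by
  let Y' : Set (ProjectiveSpectrum 𝒜) := Y
  let Q' : Finset (ProjectiveSpectrum 𝒜) := Q
  have hY' : IsClosed Y' := hY
  have hcl : ProjectiveSpectrum.zeroLocus 𝒜 (ProjectiveSpectrum.vanishingIdeal Y') = Y' := by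
    rw [ProjectiveSpectrum.zeroLocus_vanishingIdeal_eq_closure, hY'.closure_eq]
  have hI : (ProjectiveSpectrum.vanishingIdeal Y').toIdeal.IsHomogeneous 𝒜 :=
    (ProjectiveSpectrum.vanishingIdeal Y').isHomogeneous
  have hQ' : ∀ p ∈ Q', ¬ (ProjectiveSpectrum.vanishingIdeal Y').toIdeal ≤
      p.asHomogeneousIdeal.toIdeal := by
    intro p hp hle
    apply hQ p hp
    have : p ∈ ProjectiveSpectrum.zeroLocus 𝒜 (ProjectiveSpectrum.vanishingIdeal Y') := by
      rw [ProjectiveSpectrum.mem_zeroLocus]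
      exact hle
    rw [hcl] at this
    exact this
  obtain ⟨d, h, hd, hhd, hhI, hhQ⟩ :=
    Groth.Agent.Helper16.HomAvoid.exists_homogeneous_avoiding 𝒜 hI Q' hQ'
  refine ⟨_, ⟨d, h, hd, (MvPolynomial.mem_homogeneousSubmodule d h).mp hhd, rfl⟩, ?_, ?_⟩
  · intro y hy hyD
    have h1 : h ∈ ProjectiveSpectrum.vanishingIdeal Y' := hhI
    rw [ProjectiveSpectrum.mem_vanishingIdeal] at h1
    exact hyD (h1 y hy)
  · intro p hp hpH
    exact hpH (hhQ p hp)

theorem isAffineOpen_Dp (h : MvPolynomial (Fin (n + 1)) k) (d : ℕ) (hd : 0 < d)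
    (hh : h.IsHomogeneous d) : IsAffineOpen (Dp k n h) :=
  Proj.isAffineOpen_basicOpen (CohB1.polyGrading n k) h
    ((MvPolynomial.mem_homogeneousSubmodule d h).mpr hh) hd

/-- **covering `X ∖ Y` by `r + 1` affine hypersurface complements.** -/
theorem main (r : ℕ) {X Y : Scheme.{u}} (iX : X ⟶ CohB1.ProjSpace n k)
    (iY : Y ⟶ CohB1.ProjSpace n k) [IsClosedImmersion iX] [IsClosedImmersion iY]
    (hX : topologicalKrullDim ↥X = r) :
    ∃ (h : Fin (r + 1) → MvPolynomial (Fin (n + 1)) k),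
      (∀ j, ∃ d : ℕ, 0 < d ∧ (h j).IsHomogeneous d) ∧
      (∀ j, Set.range iY.base ⊆ (Dp k n (h j) : Set ↥(CohB1.ProjSpace n k))ᶜ) ∧
      (Set.range iX.base \ Set.range iY.base ⊆ ⋃ j, (Dp k n (h j) : Set ↥(CohB1.ProjSpace n k))) ∧
      ∀ j, IsAffineOpen (iX ⁻¹ᵁ (Dp k n (h j))) := by
  haveI : NoetherianSpace ↥(CohB1.ProjSpace n k) := inferInstance
  have hXcl : IsClosed (Set.range iX.base) := iX.isClosedEmbedding.isClosed_range
  have hYcl : IsClosed (Set.range iY.base) := iY.isClosedEmbedding.isClosed_range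
  have hdim : topologicalKrullDim ↥(Set.range iX.base) ≤ (r : WithBot ℕ∞) := by
    rw [← hX]
    exact (IsHomeomorph.topologicalKrullDim_eq _
      iX.isClosedEmbedding.isEmbedding.toHomeomorph.isHomeomorph).ge
  obtain ⟨H, hH, hYH, hsub⟩ := Groth.Agent.Helper16.HypCover.exists_hypersurfaces (hyp k n)
    (isClosed_of_mem_hyp k n) (Set.range iY.base) hYcl (avoid k n _ hYcl) r
    (Set.range iX.base) hXcl hdim
  choose d h hd hh hHeq using hH
  refine ⟨h, fun j => ⟨d j, hd j, hh j⟩, ?_, ?_, ?_⟩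
  · intro j
    rw [← hHeq j]
    exact hYH j
  · rintro x ⟨hxX, hxY⟩
    by_contra hcon
    apply hxY
    apply hsub
    refine ⟨hxX, Set.mem_iInter.mpr (fun j => ?_)⟩
    rw [hHeq j]
    intro hxD
    exact hcon (Set.mem_iUnion.mpr ⟨j, hxD⟩)
  · intro j
    exact (isAffineOpen_Dp k n (h j) (d j) (hd j) (hh j)).preimage iX

end Groth.Agent.Helper16.HypCoverProj
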