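import Mathlib
import Groth.Agent.Lib.Helper16.Sch.Birat7
import Groth.Agent.Lib.Helper4.FunField

set_option autoImplicit false
set_option linter.style.haveILetI false
universe u
open CategoryTheory AlgebraicGeometry

namespace Groth.Agent.Helper16.HypSch

attribute [local instance] Curv2.stalkAlgebra

theorem toStalk_eqToHom (R : CommRingCat.{u}) {p p' : Spec R} (h : p = p') :
    (StructureSheaf.toStalk R p : R ⟶ (Spec R).presheaf.stalk p) ≫
      eqToHom (congrArg (Spec R).presheaf.stalk h) =
      (StructureSheaf.toStalk R p' : R ⟶ (Spec R).presheaf.stalk p') := by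
  subst h
  exact Category.comp_id _

theorem stalkMap_SpecMap {R S : CommRingCat.{u}} (φ : R ⟶ S) (y : Spec S) :
    (StructureSheaf.toStalk R ((Spec.map φ) y) : R ⟶ (Spec R).presheaf.stalk ((Spec.map φ) y)) ≫
        (Spec.map φ).stalkMap y =
      φ ≫ (StructureSheaf.toStalk S y : S ⟶ (Spec S).presheaf.stalk y) :=
  AlgebraicGeometry.stalkMap_toStalk φ y

theorem exists_partialIso (k : Type u) [Field k] (X : Scheme.{u})
    [X.Over (Spec (CommRingCat.of k))] [IsIntegral X]
    [LocallyOfFiniteType (X ↘ Spec (CommRingCat.of k))]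
    (C : Type u) [CommRing C] [Algebra k C] [Algebra.FiniteType k C]
    (ψ : C →ₐ[k] X.presheaf.stalk (genericPoint X)) (hinj : Function.Injective ψ)
    (hsurj : ∀ z : X.presheaf.stalk (genericPoint X), ∃ x y, z = ψ x / ψ y) :
    ∃ (U : X.Opens) (V : (Spec (CommRingCat.of C)).Opens) (e : (U : Scheme.{u}) ≅ (V : Scheme.{u})),
      (U : Set X).Nonempty ∧ (V : Set (Spec (CommRingCat.of C))).Nonempty ∧
      e.hom ≫ V.ι ≫ Spec.map (CommRingCat.ofHom (algebraMap k C)) =
        U.ι ≫ (X ↘ Spec (CommRingCat.of k)) := by
  let K := X.presheaf.stalk (genericPoint X)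
  haveI : IsDomain C := Function.Injective.isDomain ψ.toRingHom hinj
  letI algCK : Algebra C K := ψ.toRingHom.toAlgebra
  haveI : FaithfulSMul C K := (faithfulSMul_iff_algebraMap_injective C K).2 hinj
  haveI : IsFractionRing C K := IsFractionRing.of_field C K hsurj
  let Y : Scheme.{u} := Spec (CommRingCat.of C)
  let sX := X ↘ Spec (CommRingCat.of k)
  let sY : Y ⟶ Spec (CommRingCat.of k) := Spec.map (CommRingCat.ofHom (algebraMap k C))
  haveI : LocallyOfFiniteType sY := by
    rw [HasRingHomProperty.Spec_iff (P := @LocallyOfFiniteType)]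
    exact RingHom.finiteType_algebraMap.2 inferInstance
  haveI : LocallyOfFinitePresentation sX :=
    LocallyOfFinitePresentation.iff_locallyOfFiniteType.mpr inferInstance
  haveI : LocallyOfFinitePresentation sY :=
    LocallyOfFinitePresentation.iff_locallyOfFiniteType.mpr inferInstance
  have hs : sX (genericPoint X) = sY (genericPoint Y) := Subsingleton.elim _ _
  haveI : IsDomain (CommRingCat.of C) := ‹IsDomain C›
  letI algCY : Algebra C Y.functionField :=
    instAlgebraCarrierFunctionFieldSpec (CommRingCat.of C)
  haveI : IsFractionRing C Y.functionField :=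
    functionField_isFractionRing_of_affine (CommRingCat.of C)
  let ε : K ≃ₐ[C] Y.functionField :=
    IsLocalization.algEquiv (nonZeroDivisors C) K Y.functionField
  let e : X.presheaf.stalk (genericPoint X) ≅ Y.presheaf.stalk (genericPoint Y) :=
    ε.toRingEquiv.toCommRingCatIso
  have he : sX.stalkMap (genericPoint X) ≫ e.hom =
      eqToHom (congrArg (Spec (CommRingCat.of k)).presheaf.stalk hs) ≫
        sY.stalkMap (genericPoint Y) := by
    let t : CommRingCat.of k ⟶ (Spec (CommRingCat.of k)).presheaf.stalk (sX (genericPoint X)) :=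
      StructureSheaf.toStalk (CommRingCat.of k) (sX (genericPoint X))
    haveI : IsIso t := Groth.Agent.Helper4.FunField.isIso_toStalk_field k (sX (genericPoint X))
    rw [← cancel_epi t]
    have h3 : t ≫ sX.stalkMap (genericPoint X) =
        CommRingCat.ofHom (Curv2.stalkMap k X (genericPoint X)) :=
      (Groth.Agent.Helper4.FunField.stalkMap_eq k X (genericPoint X)).symm
    have h4 : t ≫ eqToHom (congrArg (Spec (CommRingCat.of k)).presheaf.stalk hs) =
        (StructureSheaf.toStalk (CommRingCat.of k) (sY (genericPoint Y)) : CommRingCat.of k ⟶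
          (Spec (CommRingCat.of k)).presheaf.stalk (sY (genericPoint Y))) :=
      toStalk_eqToHom _ hs
    rw [← Category.assoc, h3, ← Category.assoc, h4]
    refine Eq.trans ?_ (stalkMap_SpecMap (CommRingCat.ofHom (algebraMap k C)) (genericPoint Y)).symm
    ext a
    have h1 : ε (algebraMap C K (algebraMap k C a)) = algebraMap C Y.functionField (algebraMap k C a) :=
      ε.commutes _
    have h2 : algebraMap C K (algebraMap k C a) = Curv2.stalkMap k X (genericPoint X) a :=
      ψ.commutes a
    rw [h2] at h1
    exact h1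
  obtain ⟨f, hf⟩ := Groth.Agent.Helper16.Birat.birationalOver_of_stalk_iso sX sY hs e he
  refine ⟨f.source, f.target, f.iso, f.dense_source.nonempty, f.dense_target.nonempty, hf⟩

end Groth.Agent.Helper16.HypSch
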