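import Mathlib
import Groth.Prelude.Def_BlowUp2
import Groth.Prelude.Def_W4c6modpairsegaMP

universe u
open CategoryTheory Opposite TopologicalSpace AlgebraicGeometry TensorProduct

namespace Groth.Agent.Helper16.IntClEt

/-- Smooth (e.g. étale) base change preserves "integrally closed in the localization away from `f`". -/
theorem alg_main {A C Af Cf : Type u} [CommRing A] [CommRing C] [CommRing Af] [CommRing Cf]
    [Algebra A C] [Algebra.Smooth A C] [Algebra A Af] [Algebra C Cf] (f : A)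
    [IsLocalization.Away f Af] [IsLocalization.Away (algebraMap A C f) Cf]
    (h : ∀ b : Af, IsIntegral A b → b ∈ Set.range (algebraMap A Af))
    (c : Cf) (hc : IsIntegral C c) : c ∈ Set.range (algebraMap C Cf) := by
  haveI : IsLocalization.Away (algebraMap A C f) (C ⊗[A] Af) := by
    have := IsLocalization.tensor (S := C) (A := Af) (Submonoid.powers f)
    rwa [Algebra.algebraMapSubmonoid_powers] at this
  let e : (C ⊗[A] Af) ≃ₐ[C] Cf :=
    IsLocalization.algEquiv (Submonoid.powers (algebraMap A C f)) _ _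
  have hc' : IsIntegral C (e.symm c) := hc.map e.symm.toAlgHom
  obtain ⟨z, hz⟩ := (TensorProduct.toIntegralClosure_bijective_of_smooth (R := A) (S := C)
    (B := Af)).2 ⟨e.symm c, hc'⟩
  have hmem : ∀ z : C ⊗[A] integralClosure A Af,
      Algebra.TensorProduct.map (AlgHom.id C C) (integralClosure A Af).val z ∈
        (algebraMap C (C ⊗[A] Af)).range := by
    intro z
    induction z using TensorProduct.induction_on with
    | zero => simp
    | tmul x y =>
      obtain ⟨a, ha⟩ := h y.1 y.2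
      refine ⟨a • x, ?_⟩
      rw [Algebra.TensorProduct.map_tmul, Algebra.TensorProduct.algebraMap_apply]
      simp only [AlgHom.coe_id, id_eq, Subalgebra.coe_val, Algebra.algebraMap_self,
        RingHom.id_apply]
      rw [← ha, Algebra.algebraMap_eq_smul_one, TensorProduct.smul_tmul]
    | add x y hx hy => rw [map_add]; exact add_mem hx hy
  have key : ∀ z : C ⊗[A] integralClosure A Af,
      ((TensorProduct.toIntegralClosure A C Af z : integralClosure C (C ⊗[A] Af)) : C ⊗[A] Af) ∈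
        (algebraMap C (C ⊗[A] Af)).range := fun z => hmem z
  obtain ⟨x, hx⟩ := key z
  refine ⟨x, ?_⟩
  have h1 : e.symm c = algebraMap C (C ⊗[A] Af) x := by rw [hx, hz]
  calc algebraMap C Cf x = e (algebraMap C (C ⊗[A] Af) x) := (e.commutes x).symm
    _ = e (e.symm c) := by rw [h1]
    _ = c := e.apply_symm_apply c

/-- restriction of sections -/
noncomputable abbrev res (Z : Scheme.{u}) {O₁ O₂ : Z.Opens} (h : O₁ ≤ O₂) : Γ(Z, O₂) →+* Γ(Z, O₁) :=
  (Z.presheaf.map (homOfLE h).op).hom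

lemma res_res (Z : Scheme.{u}) {O₁ O₂ O₃ : Z.Opens} (h₁ : O₁ ≤ O₂) (h₂ : O₂ ≤ O₃) (s : Γ(Z, O₃)) :
    res Z h₁ (res Z h₂ s) = res Z (h₁.trans h₂) s := by
  simp only [res]
  rw [← CommRingCat.comp_apply, ← Functor.map_comp]
  rfl

lemma isIntegralElem_res (Z : Scheme.{u}) {V V' W W' : Z.Opens} (hV : V' ≤ V) (hW : W' ≤ W)
    (hWV : W ≤ V) (hWV' : W' ≤ V') (t : Γ(Z, V')) (ht : (res Z hV).IsIntegralElem t) :
    (res Z hW).IsIntegralElem (res Z hWV' t) := by
  obtain ⟨p, hp, hpt⟩ := ht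
  refine ⟨p.map (res Z hWV), hp.map _, ?_⟩
  rw [Polynomial.eval₂_map]
  have hcomm : (res Z hW).comp (res Z hWV) = (res Z hWV').comp (res Z hV) := by
    ext s
    simp only [RingHom.comp_apply]
    rw [res_res, res_res]
  rw [hcomm, ← Polynomial.hom_eval₂, hpt, map_zero]

lemma aux (Z : Scheme.{u}) (Z₀ : Z.Opens) {V W O : Z.Opens} (hWV : W ≤ V) (hOW : O ≤ W)
    (t : Γ(Z, V ⊓ Z₀)) (s : Γ(Z, W))
    (hs : res Z (inf_le_left : W ⊓ Z₀ ≤ W) s = res Z (inf_le_inf_right Z₀ hWV) t) :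
    res Z (inf_le_left : O ⊓ Z₀ ≤ O) (res Z hOW s) =
      res Z (inf_le_inf_right Z₀ (hOW.trans hWV)) t := by
  have h1 : res Z (inf_le_left : O ⊓ Z₀ ≤ O) (res Z hOW s) =
      res Z (inf_le_inf_right Z₀ hOW) (res Z (inf_le_left : W ⊓ Z₀ ≤ W) s) := by
    rw [res_res, res_res]
  rw [h1, hs, res_res]

theorem key_local {X Y : Scheme.{u}} (g : Y ⟶ X) [Etale g] {U : X.Opens} (hU : IsAffineOpen U)
    {W : Y.Opens} (hW : IsAffineOpen W) (e : W ≤ g ⁻¹ᵁ U) (f : Γ(X, U))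
    (hf : f ∈ nonZeroDivisors Γ(X, U))
    (O : X.Opens) (hO : O = X.basicOpen f) (hOU : O ≤ U)
    (O' : Y.Opens) (hO' : O' = Y.basicOpen (g.appLE U W e f)) (hO'W : O' ≤ W)
    (hint : ∀ s : Γ(X, O), (res X hOU).IsIntegralElem s → s ∈ Set.range (res X hOU)) :
    Function.Injective (res Y hO'W) ∧
      ∀ t : Γ(Y, O'), (res Y hO'W).IsIntegralElem t → t ∈ Set.range (res Y hO'W) := by
  subst hO hO'
  letI algAC : Algebra Γ(X, U) Γ(Y, W) := (g.appLE U W e).hom.toAlgebra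
  haveI : Algebra.Etale Γ(X, U) Γ(Y, W) :=
    HasRingHomProperty.appLE (P := @Etale) g inferInstance ⟨U, hU⟩ ⟨W, hW⟩ e
  haveI locA : IsLocalization.Away f Γ(X, X.basicOpen f) := hU.isLocalization_basicOpen f
  haveI locC : IsLocalization.Away (algebraMap Γ(X, U) Γ(Y, W) f)
      Γ(Y, Y.basicOpen (g.appLE U W e f)) :=
    hW.isLocalization_basicOpen (g.appLE U W e f)
  constructor
  · have hregA : IsSMulRegular Γ(X, U) f := by
      intro a b hab
      have h0 : (a - b) * f = 0 := by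
        simp only [smul_eq_mul] at hab
        rw [sub_mul, mul_comm a, mul_comm b, hab, sub_self]
      exact sub_eq_zero.mp (mem_nonZeroDivisors_iff_right.mp hf _ h0)
    have hreg : IsSMulRegular Γ(Y, W) (algebraMap Γ(X, U) Γ(Y, W) f) := IsSMulRegular.of_flat hregA
    have hnzd : algebraMap Γ(X, U) Γ(Y, W) f ∈ nonZeroDivisors Γ(Y, W) := by
      rw [mem_nonZeroDivisors_iff_right]
      intro x hx
      apply hreg
      simp only [smul_eq_mul, mul_zero]
      rw [mul_comm]; exact hx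
    exact IsLocalization.injective (M := Submonoid.powers (algebraMap Γ(X, U) Γ(Y, W) f)) _
      (Submonoid.powers_le.mpr hnzd)
  · intro t ht
    exact alg_main (A := Γ(X, U)) (C := Γ(Y, W)) f (fun b hb => hint b hb) t ht

theorem inter_interior_eq_basicOpen {X : Scheme.{u}} (IX : X.IdealSheafData) (U : X.affineOpens)
    (f : Γ(X, U.1)) (hfI : IX.ideal U = Ideal.span {f}) :
    U.1 ⊓ ModPair.interior IX = X.basicOpen f := by
  ext z
  constructor
  · rintro ⟨hzU, hz⟩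
    have h1 : z ∉ IX.support := hz
    rw [Scheme.IdealSheafData.mem_support_iff_of_mem hzU, hfI, Scheme.zeroLocus_span,
      Scheme.zeroLocus_singleton] at h1
    simpa using h1
  · intro hz
    have hzU : z ∈ U.1 := X.basicOpen_le f hz
    refine ⟨hzU, ?_⟩
    show z ∉ IX.support
    rw [Scheme.IdealSheafData.mem_support_iff_of_mem hzU, hfI, Scheme.zeroLocus_span,
      Scheme.zeroLocus_singleton]
    simpa using hz

set_option maxHeartbeats 1600000 in
theorem main {X Y : Scheme.{u}}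
    (IX : X.IdealSheafData) (hX : BlowUp.IsEffCartierIdeal IX)
    (hint : ∀ U ∈ X.affineOpens, ∀ s : Γ(X, U ⊓ ModPair.interior IX),
      (X.presheaf.map (homOfLE (inf_le_left : U ⊓ ModPair.interior IX ≤ U)).op).hom.IsIntegralElem s →
        s ∈ Set.range (X.presheaf.map (homOfLE (inf_le_left : U ⊓ ModPair.interior IX ≤ U)).op).hom)
    (g : Y ⟶ X) [Etale g] :
    ∀ V ∈ Y.affineOpens, ∀ t : Γ(Y, V ⊓ g ⁻¹ᵁ ModPair.interior IX),
      (Y.presheaf.map (homOfLE (inf_le_left : V ⊓ g ⁻¹ᵁ ModPair.interior IX ≤ V)).op).hom.IsIntegralElem t →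
        t ∈ Set.range (Y.presheaf.map (homOfLE (inf_le_left : V ⊓ g ⁻¹ᵁ ModPair.interior IX ≤ V)).op).hom := by
  have stepL : ∀ y : Y, ∃ W₀ : Y.Opens, y ∈ W₀ ∧ ∀ W : Y.Opens, IsAffineOpen W → W ≤ W₀ →
      (Function.Injective (res Y (inf_le_left : W ⊓ g ⁻¹ᵁ ModPair.interior IX ≤ W)) ∧
        ∀ t : Γ(Y, W ⊓ g ⁻¹ᵁ ModPair.interior IX),
          (res Y (inf_le_left : W ⊓ g ⁻¹ᵁ ModPair.interior IX ≤ W)).IsIntegralElem t →
          t ∈ Set.range (res Y (inf_le_left : W ⊓ g ⁻¹ᵁ ModPair.interior IX ≤ W))) := by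
    intro y
    obtain ⟨U, hxU, f, hf, hfI⟩ := hX (g.base y)
    refine ⟨g ⁻¹ᵁ U.1, hxU, fun W hW hWU => ?_⟩
    have h1 := inter_interior_eq_basicOpen IX U f hfI
    have h2 : W ⊓ g ⁻¹ᵁ ModPair.interior IX = Y.basicOpen (g.appLE U.1 W hWU f) := by
      rw [Scheme.basicOpen_appLE, ← h1]
      ext z
      constructor
      · rintro ⟨hzW, hz⟩
        exact ⟨hzW, hWU hzW, hz⟩
      · rintro ⟨hzW, _, hz⟩
        exact ⟨hzW, hz⟩
    exact key_local g U.2 hW hWU f hf _ h1 inf_le_left _ h2 inf_le_left (hint U.1 U.2)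
  have stepI : ∀ O : Y.Opens,
      Function.Injective (res Y (inf_le_left : O ⊓ g ⁻¹ᵁ ModPair.interior IX ≤ O)) := by
    intro O
    rw [injective_iff_map_eq_zero]
    intro s hs
    have hcov : ∀ y : O, ∃ W : Y.Opens, (y : Y) ∈ W ∧ ∃ _ : W ≤ O,
        Function.Injective (res Y (inf_le_left : W ⊓ g ⁻¹ᵁ ModPair.interior IX ≤ W)) := by
      intro y
      obtain ⟨W₀, hyW₀, hW₀⟩ := stepL y
      obtain ⟨W, hWaff, hyW, hWle⟩ := Opens.isBasis_iff_nbhd.mp Y.isBasis_affineOpens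
        (show (y : Y) ∈ O ⊓ W₀ from ⟨y.2, hyW₀⟩)
      exact ⟨W, hyW, hWle.trans inf_le_left, (hW₀ W hWaff (hWle.trans inf_le_right)).1⟩
    choose Wf hyW hWO hWinj using hcov
    refine Y.sheaf.eq_of_locally_eq' Wf O (fun y => homOfLE (hWO y)) ?_ s 0 ?_
    · intro z hz
      exact Opens.mem_iSup.mpr ⟨⟨z, hz⟩, hyW ⟨z, hz⟩⟩
    · intro y
      show res Y (hWO y) s = res Y (hWO y) 0
      rw [map_zero]
      apply hWinj y
      rw [map_zero]
      have h1 : res Y (inf_le_left : Wf y ⊓ g ⁻¹ᵁ ModPair.interior IX ≤ Wf y) (res Y (hWO y) s) =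
          res Y (inf_le_inf_right _ (hWO y)) (res Y inf_le_left s) := by
        rw [res_res, res_res]
      rw [h1, hs, map_zero]
  intro V hV t ht
  have hcov : ∀ y : V, ∃ W : Y.Opens, (y : Y) ∈ W ∧ ∃ hWV : W ≤ V, ∃ s : Γ(Y, W),
      res Y (inf_le_left : W ⊓ g ⁻¹ᵁ ModPair.interior IX ≤ W) s =
        res Y (inf_le_inf_right _ hWV) t := by
    intro y
    obtain ⟨W₀, hyW₀, hW₀⟩ := stepL y
    obtain ⟨W, hWaff, hyW, hWle⟩ := Opens.isBasis_iff_nbhd.mp Y.isBasis_affineOpens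
      (show (y : Y) ∈ V ⊓ W₀ from ⟨y.2, hyW₀⟩)
    have hWV : W ≤ V := hWle.trans inf_le_left
    refine ⟨W, hyW, hWV, ?_⟩
    obtain ⟨s, hs⟩ := (hW₀ W hWaff (hWle.trans inf_le_right)).2 _
      (isIntegralElem_res Y inf_le_left inf_le_left hWV (inf_le_inf_right _ hWV) t ht)
    exact ⟨s, hs⟩
  choose Wf hyW hWV sf hsf using hcov
  have hcompat : TopCat.Presheaf.IsCompatible Y.presheaf Wf sf := by
    intro i j
    show res Y inf_le_left (sf i) = res Y inf_le_right (sf j)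
    apply stepI (Wf i ⊓ Wf j)
    rw [aux Y _ (hWV i) inf_le_left t (sf i) (hsf i), aux Y _ (hWV j) inf_le_right t (sf j) (hsf j)]
  obtain ⟨s, hs, -⟩ := Y.sheaf.existsUnique_gluing' Wf V (fun y => homOfLE (hWV y))
    (fun z hz => Opens.mem_iSup.mpr ⟨⟨z, hz⟩, hyW ⟨z, hz⟩⟩) sf hcompat
  refine ⟨s, ?_⟩
  refine Y.sheaf.eq_of_locally_eq' (fun y : V => Wf y ⊓ g ⁻¹ᵁ ModPair.interior IX)
    (V ⊓ g ⁻¹ᵁ ModPair.interior IX) (fun y => homOfLE (inf_le_inf_right _ (hWV y))) ?_ _ _ ?_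
  · rintro z ⟨hzV, hz⟩
    exact Opens.mem_iSup.mpr ⟨⟨z, hzV⟩, hyW ⟨z, hzV⟩, hz⟩
  · intro y
    show res Y (inf_le_inf_right _ (hWV y)) (res Y inf_le_left s) =
      res Y (inf_le_inf_right _ (hWV y)) t
    have hsy : res Y (hWV y) s = sf y := hs y
    rw [res_res, ← hsf y, ← hsy, res_res]

end Groth.Agent.Helper16.IntClEt
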