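import Mathlib
import Groth.Prelude.Def_Flat
import Groth.Prelude.Def_EGA4b
import Groth.Agent.Lib.Helper16.Alg.QFPreC
import Groth.Agent.Lib.Helper16.Sch.FibComp1
import Groth.Agent.Lib.Helper14.ResFieldBridge
import Groth.Agent.Lib.Helper8.SmD2

set_option autoImplicit false
set_option linter.style.haveILetI false
set_option linter.unusedSectionVars false
universe u

open CategoryTheory AlgebraicGeometry Limits IsLocalRing

namespace Groth.Agent.Helper16.LocStruct

open Groth.Agent.Helper16.FibStalk Groth.Agent.Helper16.FTDim Groth.Agent.Helper14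

variable {X S : Scheme.{u}}

/-- the fibre local ring at a point computed in affine charts. -/
theorem ringKrullDim_fibLocRing_chart (f : X ⟶ S) {V : X.Opens} (hV : IsAffineOpen V)
    {W : S.Opens} (hW : IsAffineOpen W) (eV : V ≤ f ⁻¹ᵁ W) (x : X) (hxV : x ∈ V)
    [Algebra Γ(S, W) Γ(X, V)] (halg : algebraMap Γ(S, W) Γ(X, V) = (f.appLE W V eV).hom) :
    ringKrullDim (X.presheaf.stalk x ⧸ fibIdeal f x) =
      ringKrullDim (EGA4.FibLocRing Γ(S, W) Γ(X, V) (hV.primeIdealOf ⟨x, hxV⟩).asIdeal) := by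
  have hfx : f x ∈ W := eV hxV
  letI aΛ := S.presheaf.algebra_section_stalk ⟨f x, hfx⟩
  letI aLX := X.presheaf.algebra_section_stalk ⟨x, hxV⟩
  haveI lΛ := hW.isLocalization_stalk ⟨f x, hfx⟩
  haveI lLX := hV.isLocalization_stalk ⟨x, hxV⟩
  have hp : (hW.primeIdealOf ⟨f x, hfx⟩).asIdeal =
      (hV.primeIdealOf ⟨x, hxV⟩).asIdeal.comap (algebraMap Γ(S, W) Γ(X, V)) := by
    have h3 := IsAffineOpen.comap_primeIdealOf_appLE (f := f) W hW V hV eV hxV
    rw [halg]
    exact congr($(h3).1).symm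
  have hα : (f.stalkMap x).hom.comp (algebraMap Γ(S, W) (S.presheaf.stalk (f x))) =
      (algebraMap Γ(X, V) (X.presheaf.stalk x)).comp (algebraMap Γ(S, W) Γ(X, V)) := by
    rw [halg]
    ext a
    simp only [RingHom.comp_apply, RingHom.algebraMap_toAlgebra,
      Scheme.Hom.germ_stalkMap_apply, Scheme.Hom.appLE,
      homOfLE_leOfHom, CommRingCat.hom_comp, X.presheaf.germ_res_apply]
  have hIX : fibIdeal f x =
      ((hV.primeIdealOf ⟨x, hxV⟩).asIdeal.comap (algebraMap Γ(S, W) Γ(X, V))).map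
        ((algebraMap Γ(X, V) (X.presheaf.stalk x)).comp (algebraMap Γ(S, W) Γ(X, V))) := by
    rw [fibIdeal_def, ← hp, ← IsLocalization.AtPrime.map_eq_maximalIdeal
      (hW.primeIdealOf ⟨f x, hfx⟩).asIdeal (S.presheaf.stalk (f x)), Ideal.map_map, hα]
  let e : X.presheaf.stalk x ≃ₐ[Γ(X, V)]
      Localization.AtPrime (hV.primeIdealOf ⟨x, hxV⟩).asIdeal :=
    IsLocalization.algEquiv (hV.primeIdealOf ⟨x, hxV⟩).asIdeal.primeCompl _ _
  have hI : Ideal.map (algebraMap Γ(S, W) (Localization.AtPrime (hV.primeIdealOf ⟨x, hxV⟩).asIdeal))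
      ((hV.primeIdealOf ⟨x, hxV⟩).asIdeal.comap (algebraMap Γ(S, W) Γ(X, V))) =
      Ideal.map (e.toRingEquiv : _ →+* _) (fibIdeal f x) := by
    rw [hIX, Ideal.map_map]
    congr 1
    ext r
    show algebraMap Γ(S, W) (Localization.AtPrime (hV.primeIdealOf ⟨x, hxV⟩).asIdeal) r =
      e (algebraMap Γ(X, V) _ (algebraMap Γ(S, W) Γ(X, V) r))
    rw [e.commutes, ← IsScalarTower.algebraMap_apply]
  exact ringKrullDim_eq_of_ringEquiv (Ideal.quotientEquiv _ _ e.toRingEquiv hI)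

theorem withBot_aux (a : WithBot ℕ∞) (n r : ℕ)
    (e : (n : WithBot ℕ∞) = a + (r : WithBot ℕ∞)) :
    r ≤ n ∧ a = ((n - r : ℕ) : WithBot ℕ∞) := by
  induction a using WithBot.recBotCoe with
  | bot =>
    rw [WithBot.bot_add] at e
    exact absurd e (WithBot.coe_ne_bot)
  | coe h =>
    have e' : ((n : ℕ∞) : WithBot ℕ∞) = ((h + (r : ℕ∞) : ℕ∞) : WithBot ℕ∞) := by
      rw [WithBot.coe_add]
      exact e
    have e'' : (n : ℕ∞) = h + (r : ℕ∞) := WithBot.coe_injective e'
    have hfin : h ≠ ⊤ := by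
      intro htop
      rw [htop, top_add] at e''
      exact ENat.natCast_ne_top n e''
    obtain ⟨m, rfl⟩ := ENat.ne_top_iff_exists.1 hfin
    have : n = m + r := by exact_mod_cast e''
    constructor
    · omega
    · have : m = n - r := by omega
      rw [this]
      rfl

set_option maxHeartbeats 1600000 in
set_option synthInstance.maxHeartbeats 400000 in
/-- **Quasi-finite chart**: near a point where the fibre has local dimension `n`, there is a
locally quasi-finite morphism to an affine space of relative dimension `n` over (an affine open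
of) the base. -/
theorem exists_qf_chart (f : X ⟶ S) [LocallyOfFiniteType f] (x : X) (n : ℕ)
    (hn : FlatMor.fibreDimAt f x = (n : WithBot ℕ∞)) :
    ∃ (U : X.Opens) (_ : x ∈ U) (T : Scheme.{u}) (u₀ : (U : Scheme.{u}) ⟶ T) (t : T ⟶ S),
      u₀ ≫ t = U.ι ≫ f ∧ LocallyQuasiFinite u₀ ∧ SmoothOfRelativeDimension n t := by
  obtain ⟨W, hW, hfx, -⟩ := TopologicalSpace.Opens.isBasis_iff_nbhd.mp S.isBasis_affineOpens
    (TopologicalSpace.Opens.mem_top (f x))
  obtain ⟨V, hV, hxV, eV⟩ := TopologicalSpace.Opens.isBasis_iff_nbhd.mp X.isBasis_affineOpens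
    (show x ∈ f ⁻¹ᵁ W from hfx)
  letI alg : Algebra Γ(S, W) Γ(X, V) := (f.appLE W V eV).hom.toAlgebra
  have halg : algebraMap Γ(S, W) Γ(X, V) = (f.appLE W V eV).hom := rfl
  haveI : Algebra.FiniteType Γ(S, W) Γ(X, V) := Scheme.Hom.finiteType_appLE f hW hV eV
  set q : Ideal Γ(X, V) := (hV.primeIdealOf ⟨x, hxV⟩).asIdeal with hq
  haveI : q.IsPrime := (hV.primeIdealOf ⟨x, hxV⟩).isPrime
  -- numerics
  have h1 := FibComp.fibreDimAt_eq_quot_add_td f x
  rw [hn, ringKrullDim_fibLocRing_chart f hV hW eV x hxV halg] at h1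
  obtain ⟨hrn, hm⟩ := withBot_aux _ _ _ h1
  have hr : Algebra.trdeg (Γ(S, W) ⧸ q.comap (algebraMap Γ(S, W) Γ(X, V))) (Γ(X, V) ⧸ q) =
      ((td f x : ℕ) : Cardinal.{u}) := by
    haveI : q.LiesOver (q.comap (algebraMap Γ(S, W) Γ(X, V))) := ⟨rfl⟩
    rw [← td_spec f x]
    exact (ResFieldBridge.trdeg_residueField_eq f hV hW eV x hxV halg
      (q.comap (algebraMap Γ(S, W) Γ(X, V))) q rfl).symm
  obtain ⟨g₀, φ, hgq, hft, hqf, -⟩ := QFPre.main_affine (R := Γ(S, W)) q hrn hr hm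
  letI aLX := X.presheaf.algebra_section_stalk ⟨x, hxV⟩
  haveI lLX := hV.isLocalization_stalk ⟨x, hxV⟩
  have hUaff : IsAffineOpen (X.basicOpen g₀) := hV.basicOpen g₀
  have hxU : x ∈ X.basicOpen g₀ := (X.mem_basicOpen g₀ x hxV).mpr
    (IsLocalization.map_units (X.presheaf.stalk x) (⟨g₀, hgq⟩ : q.primeCompl))
  haveI lCg : IsLocalization.Away g₀ Γ(X, X.basicOpen g₀) := hV.isLocalization_basicOpen g₀
  have eU : X.basicOpen g₀ ≤ f ⁻¹ᵁ W := (X.basicOpen_le g₀).trans eV
  have happ : (f.appLE W (X.basicOpen g₀) eU).hom =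
      (algebraMap Γ(X, V) Γ(X, X.basicOpen g₀)).comp (algebraMap Γ(S, W) Γ(X, V)) := by
    rw [← Scheme.Hom.appLE_map f eV (homOfLE (X.basicOpen_le g₀)).op]
    rfl
  let ε : Localization.Away g₀ ≃ₐ[Γ(X, V)] Γ(X, X.basicOpen g₀) :=
    IsLocalization.algEquiv (Submonoid.powers g₀) _ _
  set ψ : MvPolynomial (Fin n) Γ(S, W) →+* Γ(X, X.basicOpen g₀) :=
    (ε.toAlgHom.toRingHom).comp φ.toRingHom with hψ
  have hψqf : ψ.QuasiFinite :=
    (RingHom.QuasiFinite.of_finite (RingHom.Finite.of_surjective _ ε.surjective)).comp hqf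
  have hψC : CommRingCat.ofHom (MvPolynomial.C : Γ(S, W) →+* MvPolynomial (Fin n) Γ(S, W)) ≫
      CommRingCat.ofHom ψ = f.appLE W (X.basicOpen g₀) eU := by
    ext a
    change ψ (MvPolynomial.C a) = (f.appLE W (X.basicOpen g₀) eU).hom a
    rw [happ]
    change ε (φ (MvPolynomial.C a)) = _
    rw [show (MvPolynomial.C a : MvPolynomial (Fin n) Γ(S, W)) = algebraMap _ _ a from rfl,
      φ.commutes, IsScalarTower.algebraMap_apply Γ(S, W) Γ(X, V) (Localization.Away g₀),
      ε.commutes]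
    rfl
  haveI : LocallyQuasiFinite (Spec.map (CommRingCat.ofHom ψ)) :=
    (HasRingHomProperty.Spec_iff (P := @LocallyQuasiFinite)).mpr hψqf
  haveI hsm : SmoothOfRelativeDimension n (Spec.map (CommRingCat.ofHom
      (MvPolynomial.C : Γ(S, W) →+* MvPolynomial (Fin n) Γ(S, W)))) := by
    rw [HasRingHomProperty.Spec_iff (P := @SmoothOfRelativeDimension n)]
    apply RingHom.locally_of RingHom.isStandardSmoothOfRelativeDimension_respectsIso
    exact (RingHom.isStandardSmoothOfRelativeDimension_algebraMap n).mpr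
      (Groth.Agent.Helper8.SmD.isStandardSmoothOfRelativeDimension_mvPolynomial Γ(S, W) n)
  refine ⟨X.basicOpen g₀, hxU, Spec (CommRingCat.of (MvPolynomial (Fin n) Γ(S, W))),
    hUaff.isoSpec.hom ≫ Spec.map (CommRingCat.ofHom ψ),
    Spec.map (CommRingCat.ofHom (MvPolynomial.C : Γ(S, W) →+* MvPolynomial (Fin n) Γ(S, W))) ≫
      hW.fromSpec, ?_, inferInstance,
    inferInstanceAs (SmoothOfRelativeDimension (n + 0) _)⟩
  simp only [Category.assoc]
  rw [← Spec.map_comp_assoc, hψC,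
    IsAffineOpen.SpecMap_appLE_fromSpec f hW hUaff eU, ← Category.assoc]
  congr 1
  rw [IsAffineOpen.fromSpec, Iso.hom_inv_id_assoc]

end Groth.Agent.Helper16.LocStruct
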