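import Mathlib
import Groth.Agent.Lib.Helper16.Sch.SplitSch
import Groth.Agent.Lib.Helper16.Alg.QFSplit
import Groth.Agent.Lib.Helper16.Sch.SplitSep
import Groth.Agent.Lib.Helper16.Sch.SpecRes
import Groth.Agent.Lib.Helper16.Sch.SplitMain
set_option autoImplicit false
set_option linter.style.haveILetI false
set_option linter.dupNamespace false
open TensorProduct CategoryTheory CategoryTheory.Limits AlgebraicGeometry
universe u

namespace Groth.Agent.Helper16.QFSch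
open Groth.Agent.Helper16.SplitSch Groth.Agent.Helper16.QFSplit

/-- the pieces of `X ×_S Spec R'` cut out by a product decomposition of `R' ⊗ Γ(X,V)`,
general version -/
theorem pieces' {X S : Scheme.{u}} (f : X ⟶ S) {U : S.Opens} (hU : IsAffineOpen U)
    {V : X.Opens} (hV : IsAffineOpen V) (hUV : V ≤ f ⁻¹ᵁ U)
    (R' : Type u) [CommRing R'] [Algebra Γ(S, U) R'] (p' : Ideal R') [p'.IsPrime]
    {J : Type} [Finite J] (Q : J → Type u) [∀ j, CommRing (Q j)] [∀ j, Algebra R' (Q j)]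
    (B : Type u) [CommRing B] [Algebra R' B] :
    letI : Algebra Γ(S, U) Γ(X, V) := (f.appLE U V hUV).hom.toAlgebra
    ∀ (E : (R' ⊗[Γ(S, U)] Γ(X, V)) ≃ₐ[R'] ((∀ j, Q j) × B)),
    ∃ h : ∀ j, Spec (.of (Q j)) ⟶
        pullback f (Spec.map (CommRingCat.ofHom (algebraMap Γ(S, U) R')) ≫ hU.fromSpec),
      (∀ j, IsOpenImmersion (h j)) ∧
      (∀ j, h j ≫ pullback.snd _ _ = Spec.map (CommRingCat.ofHom (algebraMap R' (Q j)))) ∧
      (∀ j, h j ≫ pullback.fst _ _ = Spec.map (CommRingCat.ofHom (toPiece E j)) ≫ hV.fromSpec) ∧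
      (∀ j j', j ≠ j' → Disjoint (Set.range (h j)) (Set.range (h j'))) ∧
      (∀ w : ↑(pullback f (Spec.map (CommRingCat.ofHom (algebraMap Γ(S, U) R')) ≫ hU.fromSpec)),
        pullback.snd f (Spec.map (CommRingCat.ofHom (algebraMap Γ(S, U) R')) ≫ hU.fromSpec) w =
          (⟨p', inferInstance⟩ : PrimeSpectrum R') →
        pullback.fst f (Spec.map (CommRingCat.ofHom (algebraMap Γ(S, U) R')) ≫ hU.fromSpec) w ∈ V →
        (∃ j, w ∈ Set.range (h j)) ∨
        ∃ (Qb : Ideal B) (hQb : Qb.IsPrime), Qb.comap (algebraMap R' B) = p' ∧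
          pullback.fst f (Spec.map (CommRingCat.ofHom (algebraMap Γ(S, U) R')) ≫ hU.fromSpec) w =
            hV.fromSpec (⟨Qb.comap (toRest E), Ideal.comap_isPrime _ _⟩ :
              PrimeSpectrum Γ(X, V))) := by
  classical
  letI : Algebra Γ(S, U) Γ(X, V) := (f.appLE U V hUV).hom.toAlgebra
  intro E
  obtain ⟨γ, hγ, hγs, hγf, hγr⟩ := chart f hU hV hUV R'
  let π : ∀ j, (R' ⊗[Γ(S, U)] Γ(X, V)) →+* Q j := fun j => (proj Q B j).comp E.toRingEquiv.toRingHom
  have hπalg : ∀ j, (π j).comp (algebraMap R' (R' ⊗[Γ(S, U)] Γ(X, V))) = algebraMap R' (Q j) := by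
    intro j
    ext r
    show ((E (algebraMap R' _ r)).1 : ∀ j, Q j) j = algebraMap R' (Q j) r
    rw [E.commutes]
    rfl
  haveI hoi : ∀ j, IsOpenImmersion (Spec.map (CommRingCat.ofHom (π j))) := by
    intro j
    have : CommRingCat.ofHom (π j) =
        E.toRingEquiv.toCommRingCatIso.hom ≫ CommRingCat.ofHom (proj Q B j) := rfl
    rw [this, Spec.map_comp]
    haveI := isOpenImmersion_proj Q B j
    infer_instance
  refine ⟨fun j => Spec.map (CommRingCat.ofHom (π j)) ≫ γ, fun j => inferInstance, ?_, ?_, ?_, ?_⟩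
  · intro j
    rw [Category.assoc, hγs, ← Spec.map_comp, ← CommRingCat.ofHom_comp, hπalg]
  · intro j
    rw [Category.assoc, hγf, ← Category.assoc, ← Spec.map_comp, ← CommRingCat.ofHom_comp]
    rfl
  · intro j j' hjj'
    rw [Set.disjoint_iff_forall_ne]
    rintro _ ⟨a, rfl⟩ _ ⟨b, rfl⟩ hab
    have hab' : Spec.map (CommRingCat.ofHom (π j)) a = Spec.map (CommRingCat.ofHom (π j')) b :=
      γ.isOpenEmbedding.injective hab
    let x : R' ⊗[Γ(S, U)] Γ(X, V) := E.symm (Pi.single j 1, 0)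
    have h1 : π j x = 1 := by
      show ((E (E.symm (Pi.single j 1, 0))).1 : ∀ j, Q j) j = 1
      rw [E.apply_symm_apply]; simp
    have h2 : π j' x = 0 := by
      show ((E (E.symm (Pi.single j 1, 0))).1 : ∀ j, Q j) j' = 0
      rw [E.apply_symm_apply]; simp [Pi.single_eq_of_ne (Ne.symm hjj')]
    have h3 : x ∈ (Spec.map (CommRingCat.ofHom (π j')) b).asIdeal := by
      show π j' x ∈ b.asIdeal
      rw [h2]; exact b.asIdeal.zero_mem
    rw [← hab'] at h3
    have h4 : π j x ∈ a.asIdeal := h3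
    rw [h1] at h4
    exact a.2.one_notMem h4
  · intro w hw hwV
    have hwr : w ∈ Set.range γ := by rw [hγr]; exact hwV
    obtain ⟨c, rfl⟩ := hwr
    have hc : c.asIdeal.comap (algebraMap R' (R' ⊗[Γ(S, U)] Γ(X, V))) = p' := by
      have h1 : (γ ≫ pullback.snd _ _) c = (⟨p', inferInstance⟩ : PrimeSpectrum R') := hw
      rw [hγs] at h1
      exact congrArg PrimeSpectrum.asIdeal h1
    let c' : Ideal ((∀ j, Q j) × B) := c.asIdeal.comap E.symm.toRingEquiv.toRingHom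
    haveI : c'.IsPrime := Ideal.comap_isPrime _ _
    have hcc' : c.asIdeal = c'.comap E.toRingEquiv.toRingHom := by
      ext y
      show y ∈ c.asIdeal ↔ E.symm (E y) ∈ c.asIdeal
      rw [E.symm_apply_apply]
    rcases prime_cases Q B c' with ⟨j, q, hq, hcq⟩ | ⟨q, hq, hcq⟩
    · left
      refine ⟨j, ⟨⟨q, hq⟩, ?_⟩⟩
      show γ (Spec.map (CommRingCat.ofHom (π j)) ⟨q, hq⟩) = γ c
      congr 1
      apply PrimeSpectrum.ext
      show q.comap (π j) = c.asIdeal
      rw [hcc', hcq, Ideal.comap_comap]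
    · right
      refine ⟨q, hq, ?_, ?_⟩
      · rw [← hc, hcc', hcq, Ideal.comap_comap, Ideal.comap_comap]
        congr 1
        ext r
        show algebraMap R' B r = (E (algebraMap R' _ r)).2
        rw [E.commutes]
        rfl
      · have h1 : pullback.fst f _ (γ c) = (γ ≫ pullback.fst f _) c := rfl
        rw [h1, hγf, Scheme.Hom.comp_apply]
        congr 1
        apply PrimeSpectrum.ext
        show c.asIdeal.comap _ = q.comap (toRest E)
        rw [hcc', hcq, Ideal.comap_comap, Ideal.comap_comap]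
        rfl

/-- with a trivial residue field extension, there is at most one point of `X ×_S Spec R'` over
a given point of the chart `V` and the marked point -/
theorem unique_point {X S : Scheme.{u}} (f : X ⟶ S) {U : S.Opens} (hU : IsAffineOpen U)
    {V : X.Opens} (hV : IsAffineOpen V) (hUV : V ≤ f ⁻¹ᵁ U)
    (R' : Type u) [CommRing R'] [Algebra Γ(S, U) R'] (p : Ideal Γ(S, U)) [p.IsPrime]
    (p' : Ideal R') [p'.IsPrime] [p'.LiesOver p]
    (hbij : Function.Bijective (Ideal.ResidueField.mapₐ p p' (Algebra.ofId _ _) (p'.over_def p)))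
    (w w' : ↑(pullback f (Spec.map (CommRingCat.ofHom (algebraMap Γ(S, U) R')) ≫ hU.fromSpec)))
    (hw : pullback.snd f (Spec.map (CommRingCat.ofHom (algebraMap Γ(S, U) R')) ≫ hU.fromSpec) w =
          (⟨p', inferInstance⟩ : PrimeSpectrum R'))
    (hw' : pullback.snd f (Spec.map (CommRingCat.ofHom (algebraMap Γ(S, U) R')) ≫ hU.fromSpec) w' =
          (⟨p', inferInstance⟩ : PrimeSpectrum R'))
    (hwV : pullback.fst f (Spec.map (CommRingCat.ofHom (algebraMap Γ(S, U) R')) ≫ hU.fromSpec) w ∈ V)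
    (hww' : pullback.fst f (Spec.map (CommRingCat.ofHom (algebraMap Γ(S, U) R')) ≫ hU.fromSpec) w =
      pullback.fst f (Spec.map (CommRingCat.ofHom (algebraMap Γ(S, U) R')) ≫ hU.fromSpec) w') :
    w = w' := by
  letI : Algebra Γ(S, U) Γ(X, V) := (f.appLE U V hUV).hom.toAlgebra
  obtain ⟨γ, hγ, hγs, hγf, hγr⟩ := chart f hU hV hUV R'
  have hwr : w ∈ Set.range γ := by rw [hγr]; exact hwV
  have hwr' : w' ∈ Set.range γ := by rw [hγr]; show _ ∈ V; rw [← hww']; exact hwV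
  obtain ⟨c, rfl⟩ := hwr
  obtain ⟨c', rfl⟩ := hwr'
  have hc : ∀ c : Spec (.of (R' ⊗[Γ(S, U)] Γ(X, V))),
      pullback.snd f (Spec.map (CommRingCat.ofHom (algebraMap Γ(S, U) R')) ≫ hU.fromSpec) (γ c) =
        (⟨p', inferInstance⟩ : PrimeSpectrum R') →
      c.asIdeal.comap (algebraMap R' (R' ⊗[Γ(S, U)] Γ(X, V))) = p' := by
    intro c hw
    have h1 : (γ ≫ pullback.snd _ _) c = (⟨p', inferInstance⟩ : PrimeSpectrum R') := hw
    rw [hγs] at h1
    exact congrArg PrimeSpectrum.asIdeal h1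
  have hf : ∀ c : Spec (.of (R' ⊗[Γ(S, U)] Γ(X, V))),
      pullback.fst f (Spec.map (CommRingCat.ofHom (algebraMap Γ(S, U) R')) ≫ hU.fromSpec) (γ c) =
      hV.fromSpec (⟨c.asIdeal.comap (Algebra.TensorProduct.includeRight :
        Γ(X, V) →ₐ[Γ(S, U)] R' ⊗[Γ(S, U)] Γ(X, V)).toRingHom, Ideal.comap_isPrime _ _⟩ :
          PrimeSpectrum Γ(X, V)) := by
    intro c
    have h1 : pullback.fst f _ (γ c) = (γ ≫ pullback.fst f _) c := rfl
    rw [h1, hγf, Scheme.Hom.comp_apply]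
    rfl
  rw [hf, hf] at hww'
  have h2 := hV.fromSpec.isOpenEmbedding.injective hww'
  have h3 : c.asIdeal.comap (Algebra.TensorProduct.includeRight :
        Γ(X, V) →ₐ[Γ(S, U)] R' ⊗[Γ(S, U)] Γ(X, V)).toRingHom =
      c'.asIdeal.comap (Algebra.TensorProduct.includeRight :
        Γ(X, V) →ₐ[Γ(S, U)] R' ⊗[Γ(S, U)] Γ(X, V)).toRingHom := congrArg PrimeSpectrum.asIdeal h2
  haveI : c.asIdeal.LiesOver p' := ⟨(hc c hw).symm⟩
  haveI : c'.asIdeal.LiesOver p' := ⟨(hc c' hw').symm⟩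
  have h4 := Ideal.eq_of_comap_eq_comap_of_bijective_residueFieldMap hbij c.asIdeal c'.asIdeal h3
  rw [PrimeSpectrum.ext h4]

/-- scheme-level piece data (quasi-finite case) around one point `x₀` -/
def QFPieceData {X S : Scheme.{u}} (f : X ⟶ S) (R' : CommRingCat.{u}) (g : Spec R' ⟶ S)
    (u : Spec R') (x₀ : X) (Φ : ∀ (Q : CommRingCat.{u}), (R' ⟶ Q) → Spec Q → Prop) : Prop :=
  ∃ (J : Type) (_ : Finite J) (Q : J → CommRingCat.{u}) (α : ∀ j, R' ⟶ Q j)
    (h : ∀ j, Spec (Q j) ⟶ pullback f g) (r : ∀ j, Spec (Q j)),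
    (∀ j, IsOpenImmersion (h j)) ∧ (∀ j, h j ≫ pullback.snd f g = Spec.map (α j)) ∧
    (∀ j, (α j).hom.Finite) ∧ (∀ j, Spec.map (α j) (r j) = u) ∧
    (∀ j a, Spec.map (α j) a = u → a = r j) ∧ (∀ j, pullback.fst f g (h j (r j)) = x₀) ∧
    (∀ j j', j ≠ j' → Disjoint (Set.range (h j)) (Set.range (h j'))) ∧
    (∀ w : ↑(pullback f g), pullback.snd f g w = u → pullback.fst f g w = x₀ →
      ∃ j, w ∈ Set.range (h j)) ∧
    (∀ j, Φ (Q j) (α j) (r j))

theorem qfPieceData_of_dec {X S : Scheme.{u}} (f : X ⟶ S) {U : S.Opens} (hU : IsAffineOpen U)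
    {V : X.Opens} (hV : IsAffineOpen V) (hUV : V ≤ f ⁻¹ᵁ U)
    (R' : Type u) [CommRing R'] [Algebra Γ(S, U) R'] (p' : Ideal R') [p'.IsPrime]
    (x₀ : X) (hx₀ : x₀ ∈ V)
    (Φ : ∀ (Q : CommRingCat.{u}), (CommRingCat.of R' ⟶ Q) → Spec Q → Prop) :
    letI : Algebra Γ(S, U) Γ(X, V) := (f.appLE U V hUV).hom.toAlgebra
    ∀ (_ : QFDec Γ(S, U) R' Γ(X, V) p' {(hV.primeIdealOf ⟨x₀, hx₀⟩).asIdeal})
      (_ : ∀ (Q : Type u) [CommRing Q] [Algebra R' Q] (π : R' ⊗[Γ(S, U)] Γ(X, V) →ₐ[R'] Q)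
        (_ : Function.Surjective π) (_ : Module.Finite R' Q) (r : Ideal Q) (hr : r.IsPrime)
        (_ : r.comap (algebraMap R' Q) = p')
        (_ : r.comap (π.toRingHom.comp (Algebra.TensorProduct.includeRight :
          Γ(X, V) →ₐ[Γ(S, U)] R' ⊗[Γ(S, U)] Γ(X, V)).toRingHom) =
            (hV.primeIdealOf ⟨x₀, hx₀⟩).asIdeal),
        Φ (.of Q) (CommRingCat.ofHom (algebraMap R' Q)) (⟨r, hr⟩ : PrimeSpectrum Q)),
    QFPieceData f (.of R') (Spec.map (CommRingCat.ofHom (algebraMap Γ(S, U) R')) ≫ hU.fromSpec)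
      (⟨p', inferInstance⟩ : PrimeSpectrum R') x₀ Φ := by
  letI : Algebra Γ(S, U) Γ(X, V) := (f.appLE U V hUV).hom.toAlgebra
  intro hdec hΦ
  obtain ⟨J, _, Aj, _, _, B, _, _, E, hpieces, hrest⟩ := hdec
  obtain ⟨h, hoi, hsnd, hfst, hdisj, hcov⟩ := pieces' f hU hV hUV R' p' Aj B E
  choose hfin r hr hrp hruniq hrT using hpieces
  have hfstx : ∀ j, pullback.fst f _ (h j (⟨r j, hr j⟩ : PrimeSpectrum (Aj j))) = x₀ := by
    intro j
    have h1 : pullback.fst f _ (h j (⟨r j, hr j⟩ : PrimeSpectrum (Aj j))) =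
        (h j ≫ pullback.fst f _) (⟨r j, hr j⟩ : PrimeSpectrum (Aj j)) := rfl
    rw [h1, hfst, Scheme.Hom.comp_apply]
    have h2 : (Spec.map (CommRingCat.ofHom (toPiece E j))) (⟨r j, hr j⟩ : PrimeSpectrum (Aj j)) =
        hV.primeIdealOf ⟨x₀, hx₀⟩ := PrimeSpectrum.ext (hrT j)
    rw [h2]
    exact hV.fromSpec_primeIdealOf ⟨x₀, hx₀⟩
  refine ⟨J, inferInstance, fun j => .of (Aj j),
    fun j => CommRingCat.ofHom (algebraMap R' (Aj j)), h,
    fun j => (⟨r j, hr j⟩ : PrimeSpectrum (Aj j)), hoi, hsnd, ?_, ?_, ?_, hfstx, hdisj, ?_, ?_⟩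
  · intro j
    exact RingHom.finite_algebraMap.mpr (hfin j)
  · intro j
    exact PrimeSpectrum.ext (hrp j)
  · intro j a ha
    apply PrimeSpectrum.ext
    exact hruniq j a.asIdeal a.2 (congrArg PrimeSpectrum.asIdeal ha)
  · intro w hwu hwx
    rcases hcov w hwu (by rw [hwx]; exact hx₀) with hj | ⟨Qb, hQb, hQbp, hQbw⟩
    · exact hj
    · exfalso
      apply hrest Qb hQb hQbp
      rw [hwx] at hQbw
      have h3 : hV.fromSpec (hV.primeIdealOf ⟨x₀, hx₀⟩) = hV.fromSpec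
          (⟨Qb.comap (toRest E), Ideal.comap_isPrime _ _⟩ : PrimeSpectrum Γ(X, V)) :=
        (hV.fromSpec_primeIdealOf ⟨x₀, hx₀⟩).trans hQbw
      have := hV.fromSpec.isOpenEmbedding.injective h3
      exact (congrArg PrimeSpectrum.asIdeal this).symm
  · intro j
    refine hΦ (Aj j) ((Pi.evalAlgHom R' Aj j).comp ((AlgHom.fst R' (∀ j, Aj j) B).comp E.toAlgHom))
      ?_ (hfin j) (r j) (hr j) (hrp j) (hrT j)
    intro y
    classical
    obtain ⟨t, ht⟩ := E.surjective (Pi.single j y, 0)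
    refine ⟨t, ?_⟩
    show (E t).1 j = y
    rw [ht]
    simp

/-- assembling the piece data around finitely many points -/
theorem combineQF {X S : Scheme.{u}} (f : X ⟶ S) (R' : CommRingCat.{u}) (g : Spec R' ⟶ S)
    (u : Spec R') {ι : Type} [Finite ι] (x : ι → ↑X) (hinj : Function.Injective x)
    (Φ : ∀ (Q : CommRingCat.{u}), (R' ⟶ Q) → Spec Q → Prop) (Ψ : ↑(pullback f g) → Prop)
    (hΦΨ : ∀ (Q : CommRingCat.{u}) (α : R' ⟶ Q) (h : Spec Q ⟶ pullback f g) (_ : IsOpenImmersion h)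
      (r : Spec Q), h ≫ pullback.snd f g = Spec.map α → Φ Q α r → Ψ (h r))
    (hpd : ∀ i, QFPieceData f R' g u (x i) Φ) :
    ∃ (J : ι → Type) (_ : ∀ i, Finite (J i)) (V : ∀ i, J i → (pullback f g).Opens)
      (v : ∀ i, J i → ↑(pullback f g)),
      (∀ i j, v i j ∈ V i j ∧ IsFinite ((V i j).ι ≫ pullback.snd f g) ∧
        pullback.snd f g (v i j) = u ∧
        (∀ w : ↑(pullback f g), w ∈ V i j → pullback.snd f g w = u → w = v i j) ∧
        Ψ (v i j) ∧ pullback.fst f g (v i j) = x i) ∧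
      (∀ i j i' j', v i j = v i' j' → i = i' ∧ HEq j j') ∧
      (∀ (w : ↑(pullback f g)) (i : ι), pullback.snd f g w = u → pullback.fst f g w = x i →
        ∃ j, w = v i j) := by
  choose J hJ Q α h r hoi hsnd hfin hru hruniq hfst hdisj hcov hΦ using hpd
  haveI := hoi
  have hsnd' : ∀ i j (a : Spec (Q i j)), pullback.snd f g (h i j a) = Spec.map (α i j) a := by
    intro i j a
    rw [← hsnd i j]
    rfl
  have key : ∀ i j (w : ↑(pullback f g)), w ∈ Set.range (h i j) → pullback.snd f g w = u →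
      w = h i j (r i j) := by
    rintro i j _ ⟨a, rfl⟩ hw
    rw [hsnd'] at hw
    rw [hruniq i j a hw]
  refine ⟨J, hJ, fun i j => (h i j).opensRange, fun i j => h i j (r i j), ?_, ?_, ?_⟩
  · intro i j
    refine ⟨⟨_, rfl⟩, ?_, ?_, ?_, ?_, hfst i j⟩
    · rw [← MorphismProperty.cancel_left_of_respectsIso @IsFinite (h i j).isoOpensRange.hom,
        Scheme.Hom.isoOpensRange_hom_ι_assoc, hsnd]
      exact (IsFinite.SpecMap_iff _).mpr (hfin i j)
    · rw [hsnd', hru]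
    · intro w hw hwu
      exact key i j w hw hwu
    · exact hΦΨ _ _ (h i j) (hoi i j) (r i j) (hsnd i j) (hΦ i j)
  · intro i j i' j' hv
    have hv' : h i j (r i j) = h i' j' (r i' j') := hv
    have hii' : i = i' := by
      apply hinj
      rw [← hfst i j, ← hfst i' j', hv']
    subst hii'
    refine ⟨rfl, heq_of_eq ?_⟩
    by_contra hne
    exact Set.disjoint_iff_forall_ne.mp (hdisj i j j' hne) ⟨_, rfl⟩ ⟨_, rfl⟩ hv'
  · intro w i hwu hwx
    obtain ⟨j, hj⟩ := hcov i w hwu hwx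
    exact ⟨j, key i j w hj hwu⟩

/-- for a separated morphism, the finite pieces can be made clopen and pairwise disjoint -/
theorem separate {Y U : Scheme.{u}} (q : Y ⟶ U) [IsSeparated q] (u : U) {ι : Type} [Finite ι]
    (J : ι → Type) [∀ i, Finite (J i)] (V : ∀ i, J i → Y.Opens) (v : ∀ i, J i → ↑Y)
    (h1 : ∀ i j, v i j ∈ V i j ∧ IsFinite ((V i j).ι ≫ q) ∧ q (v i j) = u ∧
      (∀ w : ↑Y, w ∈ V i j → q w = u → w = v i j))
    (h2 : ∀ i j i' j', v i j = v i' j' → i = i' ∧ HEq j j') :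
    ∃ V' : ∀ i, J i → Y.Opens, (∀ i j, V' i j ≤ V i j) ∧
      (∀ i j, IsClopen (V' i j : Set Y)) ∧
      (∀ i j i' j', ((V' i j : Set Y) ∩ V' i' j').Nonempty → i = i' ∧ HEq j j') ∧
      (∀ i j, v i j ∈ V' i j ∧ IsFinite ((V' i j).ι ≫ q)) := by
  classical
  have hcl : ∀ i j, IsClosed (V i j : Set Y) := by
    intro i j
    haveI := (h1 i j).2.1
    haveI : IsFinite (V i j).ι := IsFinite.of_comp (V i j).ι q
    have := (V i j).ι.isClosedMap.isClosed_range
    rwa [Scheme.Opens.range_ι] at this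
  let C : ∀ i, J i → Set Y := fun i j =>
    ⋃ (k : Σ i, J i) (_ : k ≠ ⟨i, j⟩), (V k.1 k.2 : Set Y)
  have hCcl : ∀ i j, IsClosed (C i j) := fun i j =>
    isClosed_iUnion_of_finite fun k => isClosed_iUnion_of_finite fun _ => hcl k.1 k.2
  have hCop : ∀ i j, IsOpen (C i j) := fun i j =>
    isOpen_iUnion fun k => isOpen_iUnion fun _ => (V k.1 k.2).2
  let V' : ∀ i, J i → Y.Opens := fun i j => V i j ⊓ ⟨(C i j)ᶜ, (hCcl i j).isOpen_compl⟩
  have hV'cl : ∀ i j, IsClosed (V' i j : Set Y) := fun i j =>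
    (hcl i j).inter (hCop i j).isClosed_compl
  have hV'le : ∀ i j, V' i j ≤ V i j := fun i j => inf_le_left
  refine ⟨V', hV'le, fun i j => ⟨hV'cl i j, (V' i j).2⟩, ?_, ?_⟩
  · rintro i j i' j' ⟨w, hw, hw'⟩
    by_contra hne
    have hk : (⟨i', j'⟩ : Σ i, J i) ≠ ⟨i, j⟩ := by
      intro h
      obtain ⟨rfl, h'⟩ := Sigma.mk.inj_iff.mp h
      exact hne ⟨rfl, h'.symm⟩
    exact hw.2 (Set.mem_iUnion₂.mpr ⟨⟨i', j'⟩, hk, hw'.1⟩)
  · intro i j
    constructor
    · refine ⟨(h1 i j).1, ?_⟩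
      show v i j ∉ C i j
      intro hmem
      obtain ⟨⟨i', j'⟩, hk, hmem'⟩ := Set.mem_iUnion₂.mp hmem
      have h3 := (h1 i' j').2.2.2 (v i j) hmem' (h1 i j).2.2.1
      obtain ⟨rfl, h4⟩ := h2 i j i' j' h3
      exact hk (Sigma.mk.inj_iff.mpr ⟨rfl, h4.symm⟩)
    · haveI := (h1 i j).2.1
      haveI := Groth.Agent.Helper16.SplitSep.isClosedImmersion_homOfLE (hV'le i j) (hV'cl i j)
      rw [← Y.homOfLE_ι (hV'le i j), Category.assoc]
      infer_instance

/-- ring-level set-up at finitely many quasi-finite points -/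
theorem qf_setup {X S : Scheme.{u}} (f : X ⟶ S) [LocallyOfFiniteType f] (s : S)
    {ι : Type} (x : ι → ↑X) (hs : ∀ i, f (x i) = s) (hx : ∀ i, f.QuasiFiniteAt (x i))
    {U : S.Opens} (hU : IsAffineOpen U) (hsU : s ∈ U) (V : ι → X.Opens)
    (hV : ∀ i, IsAffineOpen (V i)) (hxV : ∀ i, x i ∈ V i) (hUV : ∀ i, V i ≤ f ⁻¹ᵁ U) (i : ι) :
    letI : Algebra Γ(S, U) Γ(X, V i) := (f.appLE U (V i) (hUV i)).hom.toAlgebra
    Algebra.FiniteType Γ(S, U) Γ(X, V i) ∧
    ∀ q ∈ ({((hV i).primeIdealOf ⟨x i, hxV i⟩).asIdeal} : Set (Ideal Γ(X, V i))),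
      ∃ (_ : q.IsPrime), q.comap (algebraMap Γ(S, U) Γ(X, V i)) =
        (hU.primeIdealOf ⟨s, hsU⟩).asIdeal ∧ Algebra.QuasiFiniteAt Γ(S, U) q := by
  letI : Algebra Γ(S, U) Γ(X, V i) := (f.appLE U (V i) (hUV i)).hom.toAlgebra
  have hxU : f (x i) ∈ U := by rw [hs]; exact hsU
  refine ⟨f.finiteType_appLE hU (hV i) (hUV i), ?_⟩
  rintro q rfl
  have hlo : hU.primeIdealOf ⟨f (x i), hxU⟩ =
      Spec.map (f.appLE U (V i) (hUV i)) ((hV i).primeIdealOf ⟨x i, hxV i⟩) := by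
    apply hU.isoSpec.inv.homeomorph.injective
    apply Subtype.ext
    simp only [IsAffineOpen.primeIdealOf, Scheme.Hom.homeomorph_apply,
      ← Scheme.Hom.comp_apply, ← Scheme.Opens.ι_apply, IsAffineOpen.isoSpec_hom]
    simp
  have hss : hU.primeIdealOf ⟨f (x i), hxU⟩ = hU.primeIdealOf ⟨s, hsU⟩ := by
    congr 1
    exact Subtype.ext (hs i)
  refine ⟨inferInstance, ?_, (hx i).quasiFiniteAt (hV i) hU (hUV i) (hxV i)⟩
  rw [← hss, hlo]
  rfl

/-- étale localization at finitely many quasi-finite points, with trivial residue field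
extension -/
theorem qfMain_triv {X S : Scheme.{u}} (f : X ⟶ S) [LocallyOfFiniteType f] (s : S)
    {ι : Type} [Finite ι] (x : ι → ↑X) (hs : ∀ i, f (x i) = s)
    (hx : ∀ i, f.QuasiFiniteAt (x i)) :
    ∃ (R' : CommRingCat.{u}) (g : Spec R' ⟶ S) (u : Spec R'), Etale g ∧ g u = s ∧
      Function.Surjective (g.residueFieldMap u) ∧
      (∀ i, QFPieceData f R' g u (x i) (fun _ _ _ => True)) ∧
      (∀ (w w' : ↑(pullback f g)) (i : ι), pullback.snd f g w = u → pullback.snd f g w' = u →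
        pullback.fst f g w = x i → pullback.fst f g w' = x i → w = w') := by
  obtain ⟨_, ⟨U, hU, rfl⟩, hsU, -⟩ := S.isBasis_affineOpens.exists_subset_of_mem_open
    (Set.mem_univ s) isOpen_univ
  obtain ⟨V, hVaff, hxV, -, hUV⟩ := Groth.Agent.Helper16.SplitMain.exists_charts f s x hs
    (fun _ => ⊤) (fun _ => trivial) hsU
  letI : ∀ i, Algebra Γ(S, U) Γ(X, V i) := fun i => (f.appLE U (V i) (hUV i)).hom.toAlgebra
  haveI : ∀ i, Algebra.FiniteType Γ(S, U) Γ(X, V i) := fun i =>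
    (qf_setup f s x hs hx hU hsU V hVaff hxV hUV i).1
  obtain ⟨R', _, _, _, p', _, _, hbij, hdec⟩ :=
    family_qfDec' Γ(S, U) (hU.primeIdealOf ⟨s, hsU⟩).asIdeal (fun i => Γ(X, V i))
      (fun i => {((hVaff i).primeIdealOf ⟨x i, hxV i⟩).asIdeal})
      (fun i => Set.finite_singleton _)
      (fun i => (qf_setup f s x hs hx hU hsU V hVaff hxV hUV i).2)
  haveI : Etale (Spec.map (CommRingCat.ofHom (algebraMap Γ(S, U) R'))) :=
    HasRingHomProperty.Spec_iff.mpr (RingHom.etale_algebraMap.mpr inferInstance)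
  refine ⟨.of R', Spec.map (CommRingCat.ofHom (algebraMap Γ(S, U) R')) ≫ hU.fromSpec,
    (⟨p', inferInstance⟩ : PrimeSpectrum R'), inferInstance,
    Groth.Agent.Helper16.SplitMain.map_point hU s hsU R' p', ?_, ?_, ?_⟩
  · rw [Scheme.residueFieldMap_comp]
    have h1 : Function.Surjective ((Spec.map (CommRingCat.ofHom (algebraMap Γ(S, U) R'))).residueFieldMap
        (⟨p', inferInstance⟩ : PrimeSpectrum R')) := by
      apply Groth.Agent.Helper16.SpecRes.residueFieldMap_surjective_of_ew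
      intro a' b' hb'
      have h2 : (Spec.map (CommRingCat.ofHom (algebraMap Γ(S, U) R'))
          (⟨p', inferInstance⟩ : PrimeSpectrum R')).asIdeal = (hU.primeIdealOf ⟨s, hsU⟩).asIdeal :=
        (Ideal.over_def p' (hU.primeIdealOf ⟨s, hsU⟩).asIdeal).symm
      rw [h2]
      exact Groth.Agent.Helper16.ResEW.ew_of_bij _ p' hbij a' b' hb'
    have h3 : Function.Bijective (hU.fromSpec.residueFieldMap
        (Spec.map (CommRingCat.ofHom (algebraMap Γ(S, U) R'))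
          (⟨p', inferInstance⟩ : PrimeSpectrum R'))) :=
      ConcreteCategory.bijective_of_isIso _
    exact h1.comp h3.2
  · intro i
    exact qfPieceData_of_dec f hU (hVaff i) (hUV i) R' p' (x i) (hxV i) (fun _ _ _ => True)
      (hdec i) (fun _ _ _ _ _ _ _ _ _ _ => trivial)
  · intro w w' i hw hw' hwx hw'x
    exact unique_point f hU (hVaff i) (hUV i) R' (hU.primeIdealOf ⟨s, hsU⟩).asIdeal p' hbij w w'
      hw hw' (by rw [hwx]; exact hxV i) (hwx.trans hw'x.symm)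

end Groth.Agent.Helper16.QFSch
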