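import Mathlib
import Groth.Agent.Lib.Helper16.Sch.LocStruct1
import Groth.Agent.S1353

set_option autoImplicit false
set_option linter.style.haveILetI false
set_option linter.unusedSectionVars false
universe u

open CategoryTheory AlgebraicGeometry Limits

namespace Groth.Agent.Helper16.LocStruct

set_option maxHeartbeats 1600000 in
/-- **Local structure of a morphism locally of finite type.** -/
theorem main {X S : Scheme.{u}} (f : X ⟶ S) [LocallyOfFiniteType f] (x : X) (n : ℕ)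
    (hn : FlatMor.fibreDimAt f x = n) :
    ∃ (X' Y : Scheme.{u}) (g : X' ⟶ X) (π : X' ⟶ Y) (h : Y ⟶ S) (x' : X'), g ≫ f = π ≫ h ∧
      Etale g ∧ g x' = x ∧
      Function.Surjective (g.residueFieldMap x') ∧ IsFinite π ∧ SmoothOfRelativeDimension n h ∧
      ∀ z : ↑X', π z = π x' → z = x' := by
  obtain ⟨U, hxU, T, u₀, t, hcomm, hqf, hsm⟩ := exists_qf_chart f x n hn
  haveI : LocallyOfFiniteType (u₀ ≫ t) := by rw [hcomm]; infer_instance
  haveI : LocallyOfFiniteType u₀ := locallyOfFiniteType_of_comp u₀ t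
  obtain ⟨Y, g₀, y, hnb, V, v, hvV, hfin, hsnd, huniq, hfst, hbij⟩ :=
    Groth.Agent.S1353.result u₀ ⟨x, hxU⟩ (Scheme.Hom.quasiFiniteAt u₀ _)
  haveI := hnb.etale
  refine ⟨V, Y, V.ι ≫ pullback.fst u₀ g₀ ≫ U.ι, V.ι ≫ pullback.snd u₀ g₀, g₀ ≫ t, ⟨v, hvV⟩,
    ?_, ?_, ?_, ?_, hfin, ?_, ?_⟩
  · simp only [Category.assoc]
    rw [← hcomm, pullback.condition_assoc]
  · infer_instance
  · change U.ι (pullback.fst u₀ g₀ (V.ι ⟨v, hvV⟩)) = x
    have : V.ι ⟨v, hvV⟩ = v := rfl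
    rw [this, hfst]
    rfl
  · rw [Scheme.residueFieldMap_comp, Scheme.residueFieldMap_comp]
    have h1 : Function.Surjective (V.ι.residueFieldMap ⟨v, hvV⟩) :=
      (ConcreteCategory.bijective_of_isIso _).2
    have h2 : Function.Surjective ((pullback.fst u₀ g₀).residueFieldMap (V.ι ⟨v, hvV⟩)) := hbij.2
    have h3 : Function.Surjective (U.ι.residueFieldMap (pullback.fst u₀ g₀ (V.ι ⟨v, hvV⟩))) :=
      (ConcreteCategory.bijective_of_isIso _).2
    intro z
    obtain ⟨z₁, rfl⟩ := h1 z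
    obtain ⟨z₂, rfl⟩ := h2 z₁
    obtain ⟨z₃, rfl⟩ := h3 z₂
    exact ⟨z₃, rfl⟩
  · have := (inferInstance : SmoothOfRelativeDimension (0 + n) (g₀ ≫ t))
    rwa [zero_add] at this
  · intro z hz
    have h1 : pullback.snd u₀ g₀ z.1 = y := by
      have : (V.ι ≫ pullback.snd u₀ g₀) z = (V.ι ≫ pullback.snd u₀ g₀) ⟨v, hvV⟩ := hz
      rw [Scheme.Hom.comp_apply, Scheme.Hom.comp_apply] at this
      exact this.trans hsnd
    exact Subtype.ext (huniq z.1 z.2 h1)

end Groth.Agent.Helper16.LocStruct
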