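import Mathlib
import Groth.Agent.Lib.Helper16.Sch.LocalLift
import Groth.Agent.Lib.Helper16.Sch.UnramLocus
import Groth.Agent.Lib.Helper3.FormEt

set_option autoImplicit false
set_option linter.style.haveILetI false
universe u
open CategoryTheory CategoryTheory.Limits AlgebraicGeometry Opposite TopologicalSpace Topology
open scoped TensorProduct

namespace Groth.Agent.Helper16.LocalLift

open Groth.Agent.Helper16.UnramLocus

/-- Ring-level criterion: a local algebra is formally unramified as soon as sections of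
square-zero surjections from local algebras onto it are unique. -/
theorem formallyUnramified_of_local_uniqueness {R C : Type u} [CommRing R] [CommRing C]
    [Algebra R C] [IsLocalRing C]
    (H : ∀ (B' : Type u) [CommRing B'] [IsLocalRing B'] [Algebra R B'] (φ : B' →ₐ[R] C),
      Function.Surjective φ → RingHom.ker φ.toRingHom ^ 2 = ⊥ →
        ∀ g₁ g₂ : C →ₐ[R] B', φ.comp g₁ = AlgHom.id R C → φ.comp g₂ = AlgHom.id R C → g₁ = g₂) :
    Algebra.FormallyUnramified R C := by
  let π : C ⊗[R] C →ₐ[R] C := Algebra.TensorProduct.lmul' R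
  have hπ : Function.Surjective π := fun c => ⟨c ⊗ₜ 1, by simp [π]⟩
  have surj : Function.Surjective π.kerSquareLift :=
    Ideal.Quotient.lift_surjective_of_surjective _ _ hπ
  have sqz : RingHom.ker π.kerSquareLift.toRingHom ^ 2 = ⊥ := by
    rw [AlgHom.ker_kerSquareLift, Ideal.cotangentIdeal_square]
  haveI : IsLocalHom π.kerSquareLift.toRingHom :=
    isLocalHom_of_surjective_of_isNilpotent_ker _ surj ⟨2, sqz⟩
  haveI : IsLocalRing ((C ⊗[R] C) ⧸ RingHom.ker π.toRingHom ^ 2) :=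
    RingHom.domain_isLocalRing π.kerSquareLift.toRingHom
  let g₁ : C →ₐ[R] (C ⊗[R] C) ⧸ RingHom.ker π.toRingHom ^ 2 :=
    (Ideal.Quotient.mkₐ R _).comp Algebra.TensorProduct.includeLeft
  let g₂ : C →ₐ[R] (C ⊗[R] C) ⧸ RingHom.ker π.toRingHom ^ 2 :=
    (Ideal.Quotient.mkₐ R _).comp Algebra.TensorProduct.includeRight
  have h1 : π.kerSquareLift.comp g₁ = AlgHom.id R C := by
    ext c
    show π.kerSquareLift (Ideal.Quotient.mk _ (c ⊗ₜ[R] (1 : C))) = c
    rw [AlgHom.kerSquareLift_mk]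
    simp [π]
  have h2 : π.kerSquareLift.comp g₂ = AlgHom.id R C := by
    ext c
    show π.kerSquareLift (Ideal.Quotient.mk _ ((1 : C) ⊗ₜ[R] c)) = c
    rw [AlgHom.kerSquareLift_mk]
    simp [π]
  have h12 := H _ π.kerSquareLift surj sqz g₁ g₂ h1 h2
  have hD : ∀ c, KaehlerDifferential.D R C c = 0 := by
    intro c
    rw [KaehlerDifferential.D_apply]
    refine (Ideal.toCotangent_eq_zero _ _).mpr ?_
    have h3 := congr($h12 c)
    have h4 : Ideal.Quotient.mk (RingHom.ker π.toRingHom ^ 2) (c ⊗ₜ[R] (1 : C)) =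
        Ideal.Quotient.mk (RingHom.ker π.toRingHom ^ 2) ((1 : C) ⊗ₜ[R] c) := h3
    rw [Ideal.Quotient.eq] at h4
    have h5 : ((1 : C) ⊗ₜ[R] c - c ⊗ₜ[R] (1 : C)) ∈ RingHom.ker π.toRingHom ^ 2 := by
      rw [← neg_sub]
      exact neg_mem h4
    exact h5
  have htop : (⊥ : Submodule C (Ω[C⁄R])) = ⊤ := by
    rw [← KaehlerDifferential.span_range_derivation, eq_comm, Submodule.span_eq_bot]
    rintro _ ⟨c, rfl⟩
    exact hD c
  exact ⟨(Submodule.subsingleton_iff C).mp (subsingleton_iff_bot_eq_top.mp htop)⟩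

/-- (⇐) of the local uniqueness criterion for unramifiedness at a point. -/
theorem unrAt_of_local_uniqueness {X Y : Scheme.{u}} (f : X ⟶ Y)
    [LocallyOfFiniteType f] (x : X)
    (H : ∀ (B B' : Type u) [CommRing B] [CommRing B'] [IsLocalRing B] [IsLocalRing B']
      (φ : B' →+* B), Function.Surjective φ → RingHom.ker φ ^ 2 = ⊥ →
      ∀ (α : Spec (CommRingCat.of B) ⟶ X) (β : Spec (CommRingCat.of B') ⟶ Y),
        α.base (IsLocalRing.closedPoint B) = x → Spec.map (CommRingCat.ofHom φ) ≫ β = α ≫ f →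
        ∀ γ₁ γ₂ : Spec (CommRingCat.of B') ⟶ X,
          Spec.map (CommRingCat.ofHom φ) ≫ γ₁ = α → γ₁ ≫ f = β →
          Spec.map (CommRingCat.ofHom φ) ≫ γ₂ = α → γ₂ ≫ f = β → γ₁ = γ₂) :
    UnrAt f x := by
  rw [unrAt_iff_stalkMap]
  algebraize [(f.stalkMap x).hom]
  show Algebra.FormallyUnramified (Y.presheaf.stalk (f x)) (X.presheaf.stalk x)
  apply formallyUnramified_of_local_uniqueness
  intro B' _ _ _ φ hφ hker g₁ g₂ hg₁ hg₂
  let α : Spec (CommRingCat.of (X.presheaf.stalk x)) ⟶ X := X.fromSpecStalk x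
  let β : Spec (CommRingCat.of B') ⟶ Y :=
    Spec.map (CommRingCat.ofHom (algebraMap (Y.presheaf.stalk (f x)) B')) ≫ Y.fromSpecStalk (f x)
  have hα : α.base (IsLocalRing.closedPoint (X.presheaf.stalk x)) = x :=
    Scheme.fromSpecStalk_closedPoint
  have hsq : Spec.map (CommRingCat.ofHom φ.toRingHom) ≫ β = α ≫ f := by
    have h1 : CommRingCat.ofHom (algebraMap (Y.presheaf.stalk (f x)) B') ≫
        CommRingCat.ofHom φ.toRingHom = f.stalkMap x := by
      ext r
      exact φ.commutes r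
    rw [← Scheme.SpecMap_stalkMap_fromSpecStalk, ← h1, Spec.map_comp, Category.assoc]
  have key : ∀ g : X.presheaf.stalk x →ₐ[Y.presheaf.stalk (f x)] B',
      φ.comp g = AlgHom.id _ _ →
      Spec.map (CommRingCat.ofHom φ.toRingHom) ≫
        (Spec.map (CommRingCat.ofHom g.toRingHom) ≫ X.fromSpecStalk x) = α ∧
      (Spec.map (CommRingCat.ofHom g.toRingHom) ≫ X.fromSpecStalk x) ≫ f = β := by
    intro g hg
    constructor
    · rw [← Category.assoc, ← Spec.map_comp]
      have : CommRingCat.ofHom g.toRingHom ≫ CommRingCat.ofHom φ.toRingHom = 𝟙 _ := by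
        ext c
        exact congr($hg c)
      rw [this, Spec.map_id]
      exact Category.id_comp _
    · rw [Category.assoc, ← Scheme.SpecMap_stalkMap_fromSpecStalk, ← Category.assoc,
        ← Spec.map_comp]
      have : f.stalkMap x ≫ CommRingCat.ofHom g.toRingHom =
          CommRingCat.ofHom (algebraMap (Y.presheaf.stalk (f x)) B') := by
        ext r
        exact g.commutes r
      exact congrArg (fun t => Spec.map t ≫ Y.fromSpecStalk (f x)) this
  obtain ⟨k1, k2⟩ := key g₁ hg₁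
  obtain ⟨k3, k4⟩ := key g₂ hg₂
  have := H _ B' φ.toRingHom hφ hker α β hα hsq _ _ k1 k2 k3 k4
  rw [cancel_mono] at this
  have h2 := Spec.map_injective this
  ext c
  exact congr($(h2).hom c)

/-- (⇒) of the local uniqueness criterion for unramifiedness at a point. -/
theorem local_uniqueness_of_unrAt {X Y : Scheme.{u}} (f : X ⟶ Y) (x : X) (hx : UnrAt f x)
    (B B' : Type u) [CommRing B] [CommRing B'] [IsLocalRing B] [IsLocalRing B'] (φ : B' →+* B)
    (hφ : Function.Surjective φ) (hker : RingHom.ker φ ^ 2 = ⊥)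
    (α : Spec (CommRingCat.of B) ⟶ X)
    (hα : α.base (IsLocalRing.closedPoint B) = x)
    (γ₁ γ₂ : Spec (CommRingCat.of B') ⟶ X)
    (h1 : Spec.map (CommRingCat.ofHom φ) ≫ γ₁ = α)
    (h2 : Spec.map (CommRingCat.ofHom φ) ≫ γ₂ = α) (h3 : γ₁ ≫ f = γ₂ ≫ f) : γ₁ = γ₂ := by
  obtain ⟨U, hxU, hU⟩ := hx
  haveI : IsLocalHom φ := isLocalHom_of_surjective_of_isNilpotent_ker _ hφ ⟨2, hker⟩
  have hcp : Spec.map (CommRingCat.ofHom φ) (IsLocalRing.closedPoint B) =
      IsLocalRing.closedPoint B' := IsLocalRing.comap_closedPoint φ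
  have hr : ∀ γ : Spec (CommRingCat.of B') ⟶ X, Spec.map (CommRingCat.ofHom φ) ≫ γ = α →
      Set.range γ ⊆ Set.range U.ι := by
    intro γ hγ
    rw [Scheme.Opens.range_ι]
    refine range_subset_of_closedPoint_mem (R := CommRingCat.of B') γ ?_
    rw [← hcp, ← Scheme.Hom.comp_apply, hγ, hα]
    exact hxU
  let γ₁' := IsOpenImmersion.lift U.ι γ₁ (hr γ₁ h1)
  let γ₂' := IsOpenImmersion.lift U.ι γ₂ (hr γ₂ h2)
  have e1 : γ₁' ≫ U.ι = γ₁ := IsOpenImmersion.lift_fac _ _ _
  have e2 : γ₂' ≫ U.ι = γ₂ := IsOpenImmersion.lift_fac _ _ _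
  haveI : IsClosedImmersion (Spec.map (CommRingCat.ofHom φ)) :=
    IsClosedImmersion.spec_of_surjective _ hφ
  have hnil : IsNilpotent (Spec.map (CommRingCat.ofHom φ)).ker :=
    ⟨2, by rw [pow_two]; exact Groth.Agent.Helper3.FormEt.ker_sq_specMap _ hker⟩
  have : γ₁' = γ₂' := by
    refine FormallyUnramified.hom_ext (Spec.map (CommRingCat.ofHom φ)) hnil (U.ι ≫ f) ?_ ?_
    · rw [← cancel_mono U.ι, Category.assoc, Category.assoc, e1, e2, h1, h2]
    · rw [← Category.assoc, ← Category.assoc, e1, e2, h3]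
  rw [← e1, ← e2, this]

end Groth.Agent.Helper16.LocalLift
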