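import Mathlib
import Groth.Agent.Lib.Helper16.Sch.FlatPtFib
import Groth.Agent.Lib.Helper16.Sch.FibMap2
import Groth.Agent.Lib.Helper16.Sch.ConsFD3
import Groth.Agent.Lib.Helper14.FibreDimBC
import Groth.Agent.Lib.Helper14.ConstrNhds

set_option autoImplicit false
set_option linter.style.haveILetI false
universe u
open CategoryTheory CategoryTheory.Limits AlgebraicGeometry Opposite TopologicalSpace Topology

noncomputable section

namespace Groth.Agent.Helper16.M0450

open Groth.Agent.Helper14 Groth.Agent.Helper16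

theorem main0450 {X S : Scheme.{u}} (f : X ⟶ S) [Flat f] [IsProper f]
    [LocallyOfFinitePresentation f] (U : S.Opens)
    (hU : Dense (U : Set ↑S)) [IsFinite (f ∣_ U)] : IsFinite f := by
  -- the set of points where the fibre has positive dimension
  set B : Set X := {x : X | FlatMor.fibreDimAt f x ≤ (0 : ℕ)}ᶜ with hB
  have hBc : IsLocallyConstructible B :=
    ConsFD.isLocallyConstructible_compl (ConsFD.isLocallyConstructible_fibreDimAt_le f 0)
  have hFc : IsLocallyConstructible (f '' B) := f.isLocallyConstructible_image hBc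
  -- stable under generization
  have hgen : ∀ s₀ ∈ f '' B, ∀ s₁ : S, s₁ ⤳ s₀ → s₁ ∈ f '' B := by
    rintro s₀ ⟨x₀, hx₀, rfl⟩ s₁ hs
    obtain ⟨x₁, hx₁, -, hle⟩ := FlatPtFib.exists_fibreDimAt_le_of_specializes f x₀
      (Flat.stalkMap f x₀) s₁ hs
    refine ⟨x₁, ?_, hx₁⟩
    intro h1
    exact hx₀ (hle.trans h1)
  have hFopen : IsOpen (f '' B) := by
    rw [isOpen_iff_mem_nhds]
    intro s₀ hs₀
    exact ConstrNhds.mem_nhds_of_isLocallyConstructible hFc s₀ (hgen s₀ hs₀)
  -- disjoint from `U`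
  have hdisj : ∀ s ∈ f '' B, s ∉ (U : Set S) := by
    rintro s ⟨x, hx, rfl⟩ hsU
    apply hx
    have hsq := isPullback_morphismRestrict f U
    let x' : ↥(f ⁻¹ᵁ U) := ⟨x, hsU⟩
    have h1 := FibreDimBC.fibreDimAt_eq hsq.flip x'
    have h2 : (f ⁻¹ᵁ U).ι x' = x := rfl
    rw [h2] at h1
    show FlatMor.fibreDimAt f x ≤ (0 : ℕ)
    rw [← h1]
    have := (FibMap.locallyQuasiFinite_iff_fibreDimAt (f ∣_ U)).mp inferInstance x'
    exact_mod_cast this
  have hFe : f '' B = ∅ := by
    by_contra hne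
    obtain ⟨s, hs⟩ := Set.nonempty_iff_ne_empty.mpr hne
    obtain ⟨t, htF, htU⟩ := hU.inter_open_nonempty _ hFopen ⟨s, hs⟩
    exact hdisj t htF htU
  have hBe : B = ∅ := Set.image_eq_empty.mp hFe
  haveI : LocallyQuasiFinite f := by
    rw [FibMap.locallyQuasiFinite_iff_fibreDimAt]
    intro x
    have : x ∉ B := by rw [hBe]; exact Set.notMem_empty x
    rw [hB, Set.notMem_compl_iff] at this
    exact_mod_cast this
  exact IsFinite.of_isProper_of_locallyQuasiFinite f

end Groth.Agent.Helper16.M0450
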