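import Mathlib
import Groth.Agent.Lib.Helper16.Sch.M14887
import Groth.Agent.Lib.Helper16.Sch.GenDim1

set_option autoImplicit false
set_option linter.style.haveILetI false
universe u
open CategoryTheory CategoryTheory.Limits AlgebraicGeometry Opposite TopologicalSpace Topology

noncomputable section

namespace Groth.Agent.Helper16.M11561

open Groth.Agent.Helper14 Groth.Agent.Helper16 Groth.Agent.Helper16.FTDim

variable {X Y : Scheme.{u}}

theorem main11561 (f : X ⟶ Y) [IrreducibleSpace ↥Y] [IrreducibleSpace ↥X] [LocallyOfFiniteType f]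
    (y : Y) [Nonempty ↥(f.fiber y)] [Finite ↥(f.fiber y)] :
    Subsingleton ↥(f.fiber (genericPoint ↥Y)) := by
  obtain ⟨x₀⟩ := ‹Nonempty ↥(f.fiber y)›
  have hfx : f (f.fiberι y x₀) = y := (f.fiberHomeo y x₀).2
  have h0 : FlatMor.fibreDimAt f (f.fiberι y x₀) ≤ 0 :=
    (GenDim.fibreDimAt_le_dim_fiber f _ y hfx).trans
      (topologicalKrullDim_zero_of_discreteTopology _)
  have h1 := SectionComp.fibreDimAt_le_of_specializes f (genericPoint X) (f.fiberι y x₀)
    (genericPoint_specializes _)
  have h2 := EquidimAt.trdeg_le_fibreDimAt f (genericPoint X) (genericPoint X) specializes_rfl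
    (td f (genericPoint X)) (td_spec f _)
  have htd : td f (genericPoint X) = 0 := by
    have := h2.trans (h1.trans h0)
    have h3 : td f (genericPoint X) ≤ 0 := by exact_mod_cast this
    omega
  have key : ∀ z : f.fiber (genericPoint ↥Y), f.fiberι _ z = genericPoint X := by
    intro z
    by_contra hne
    have hfz : f (f.fiberι _ z) = genericPoint ↥Y := (f.fiberHomeo _ z).2
    have hsp : genericPoint X ⤳ f.fiberι _ z := genericPoint_specializes _
    have hfξ : f (genericPoint X) = f (f.fiberι _ z) := by
      have h4 : f (genericPoint X) ⤳ genericPoint ↥Y := by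
        rw [← hfz]
        exact hsp.map f.continuous
      rw [hfz]
      exact (h4.antisymm (genericPoint_specializes _)).eq
    have := M14887.td_lt_of_specializes_of_ne f (genericPoint X) _ hsp hfξ (Ne.symm hne)
    omega
  refine ⟨fun z₁ z₂ => ?_⟩
  exact (f.fiberι _).isEmbedding.injective ((key z₁).trans (key z₂).symm)

end Groth.Agent.Helper16.M11561
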