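import Mathlib
import Groth.Agent.Lib.Helper16.Sch.SpecFib
import Groth.Agent.Lib.Helper16.Sch.FlatPtFib
import Groth.Agent.Lib.Helper14.SectionComp
import Groth.Agent.Lib.Helper14.FibreMax
import Groth.Agent.Lib.Helper14.GenericFibrePrime

set_option autoImplicit false
set_option linter.style.haveILetI false
universe u
open CategoryTheory CategoryTheory.Limits AlgebraicGeometry Opposite TopologicalSpace Topology
open scoped TensorProduct

noncomputable section

namespace Groth.Agent.Helper16.M1403

open Groth.Agent.Helper14 Groth.Agent.Helper16 Groth.Agent.Helper16.RingFibDim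
open Groth.Agent.Helper16.SpecFib

section scheme

variable (A C : Type u) [CommRing A] [CommRing C] [IsDomain A] [IsDomain C] [Algebra A C]
  [FaithfulSMul A C]

/-- the generic point of the spectrum of a domain. -/
def eta : ↥(Spec (CommRingCat.of C)) := (⟨⊥, Ideal.isPrime_bot⟩ : PrimeSpectrum C)

theorem eta_specializes (x : ↥(Spec (CommRingCat.of C))) : eta C ⤳ x := by
  have : @LE.le (PrimeSpectrum C) _ (⟨⊥, Ideal.isPrime_bot⟩ : PrimeSpectrum C) x :=
    (bot_le : (⊥ : Ideal C) ≤ PrimeSpectrum.asIdeal x)
  exact (PrimeSpectrum.le_iff_specializes _ _).mp this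

theorem eq_eta_of_specializes (x : ↥(Spec (CommRingCat.of C))) (h : x ⤳ eta C) : x = eta C := by
  have h1 : @LE.le (PrimeSpectrum C) _ x (⟨⊥, Ideal.isPrime_bot⟩ : PrimeSpectrum C) :=
    (PrimeSpectrum.le_iff_specializes _ _).mpr h
  have h2 : PrimeSpectrum.asIdeal x = ⊥ :=
    le_bot_iff.mp (show PrimeSpectrum.asIdeal x ≤ ⊥ from h1)
  exact PrimeSpectrum.ext h2

theorem specMap_eta : (specMap A C) (eta C) = eta A := by
  apply PrimeSpectrum.ext
  show Ideal.comap (algebraMap A C) ⊥ = ⊥
  rw [← RingHom.ker_eq_comap_bot]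
  exact (RingHom.injective_iff_ker_eq_bot _).mp (FaithfulSMul.algebraMap_injective A C)

theorem trdeg_eta (r : ℕ) (hr : Algebra.trdeg A C = r) :
    @Algebra.trdeg ((Spec (CommRingCat.of A)).residueField ((specMap A C) (eta C)))
      ((Spec (CommRingCat.of C)).residueField (eta C)) _ _
      ((specMap A C).residueFieldMap (eta C)).hom.toAlgebra = r := by
  haveI : (⊥ : Ideal C).LiesOver (⊥ : Ideal A) := ⟨by
    rw [Ideal.under_def, ← RingHom.ker_eq_comap_bot]
    exact ((RingHom.injective_iff_ker_eq_bot _).mp (FaithfulSMul.algebraMap_injective A C)).symm⟩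
  haveI : (PrimeSpectrum.asIdeal (eta C)).LiesOver (⊥ : Ideal A) :=
    inferInstanceAs ((⊥ : Ideal C).LiesOver (⊥ : Ideal A))
  rw [trdeg_residueField_eq A C (eta C) (⊥ : Ideal A)]
  show Algebra.trdeg (A ⧸ (⊥ : Ideal A)) (C ⧸ (⊥ : Ideal C)) = r
  rw [GenericFibrePrime.trdeg_quotient_bot, hr]

variable [Algebra.FiniteType A C]

theorem fibreDimAt_eta (r : ℕ) (hr : Algebra.trdeg A C = r) :
    FlatMor.fibreDimAt (specMap A C) (eta C) = (r : WithBot ℕ∞) :=
  FibreMax.fibreDimAt_eq_of_maximal (specMap A C) (eta C)
    (fun x₁ _ h => eq_eta_of_specializes C x₁ h) r (trdeg_eta A C r hr)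

/-- for a flat (at `x`) finite-type extension of domains, the fibre dimension at `x` is the
transcendence degree of the extension. -/
theorem fibreDimAt_eq_trdeg (x : ↥(Spec (CommRingCat.of C)))
    (hflat : ((specMap A C).stalkMap x).hom.Flat) (r : ℕ) (hr : Algebra.trdeg A C = r) :
    FlatMor.fibreDimAt (specMap A C) x = (r : WithBot ℕ∞) := by
  apply le_antisymm
  · have hs : eta A ⤳ (specMap A C) x := eta_specializes A _
    obtain ⟨x₁, hx₁, -, hle⟩ :=
      FlatPtFib.exists_fibreDimAt_le_of_specializes (specMap A C) x hflat (eta A) hs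
    refine hle.trans ?_
    obtain ⟨ζ, N, hζx, hfζ, hmax, hN, hdim⟩ :=
      EquidimAt.exists_maximal_trdeg_eq_fibreDimAt (specMap A C) x₁
    have hζ : eta C = ζ := hmax (eta C) (by rw [specMap_eta, hfζ, hx₁]) (eta_specializes C ζ)
    subst hζ
    rw [hdim]
    have := trdeg_eta A C r hr
    rw [hN] at this
    have : N = r := by exact_mod_cast this
    rw [this]
  · rw [← fibreDimAt_eta A C r hr]
    exact SectionComp.fibreDimAt_le_of_specializes (specMap A C) (eta C) x (eta_specializes C x)

end scheme

section ring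

variable {A B : Type u} [CommRing A] [CommRing B] [IsDomain A] [IsDomain B] [IsLocalRing A]
  [IsLocalRing B] [Algebra A B] [IsLocalHom (algebraMap A B)] [FaithfulSMul A B]
  [Algebra.EssFiniteType A B] [Module.Flat A B]

theorem main1403 :
    ∃ d e : ℕ, ringKrullDim (B ⧸ Ideal.map (algebraMap A B) (IsLocalRing.maximalIdeal A)) = d ∧
      Algebra.trdeg (IsLocalRing.ResidueField A) (IsLocalRing.ResidueField B) = e ∧
      Algebra.trdeg A B = (d + e : ℕ) := by
  let C := Algebra.EssFiniteType.subalgebra A B
  let q : Ideal C := (IsLocalRing.maximalIdeal B).comap (algebraMap C B)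
  haveI hqp : q.IsPrime := Ideal.comap_isPrime _ _
  have hsub : Algebra.EssFiniteType.submonoid A B = q.primeCompl := by
    ext c
    show IsUnit (algebraMap C B c) ↔ c ∉ q
    rw [Ideal.mem_comap, IsLocalRing.mem_maximalIdeal, mem_nonunits_iff, not_not]
  haveI hloc : IsLocalization.AtPrime B q := by
    have := Algebra.EssFiniteType.isLocalization (R := A) (S := B)
    rwa [hsub] at this
  haveI : FaithfulSMul A C := (faithfulSMul_iff_algebraMap_injective A C).mpr (fun a b h => by
    apply FaithfulSMul.algebraMap_injective A B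
    have := congrArg (algebraMap C B) h
    rwa [← IsScalarTower.algebraMap_apply, ← IsScalarTower.algebraMap_apply] at this)
  have hqA : q.comap (algebraMap A C) = IsLocalRing.maximalIdeal A := by
    show ((IsLocalRing.maximalIdeal B).comap (algebraMap C B)).comap (algebraMap A C) = _
    rw [Ideal.comap_comap, ← IsScalarTower.algebraMap_eq]
    exact IsLocalRing.maximalIdeal_comap (algebraMap A B)
  haveI hlo : q.LiesOver (IsLocalRing.maximalIdeal A) := ⟨hqA.symm⟩
  let x : ↥(Spec (CommRingCat.of C)) := (⟨q, hqp⟩ : PrimeSpectrum C)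
  let eB : B ≃ₐ[C] Localization.AtPrime q := IsLocalization.algEquiv q.primeCompl B _
  have hd : ringKrullDim (B ⧸ Ideal.map (algebraMap A B) (IsLocalRing.maximalIdeal A)) =
      ringKrullDim (EGA4.FibLocRing A C q) := by
    have hI : Ideal.map (algebraMap A (Localization.AtPrime q)) (q.comap (algebraMap A C)) =
        Ideal.map (eB.toRingEquiv : B →+* _)
          (Ideal.map (algebraMap A B) (IsLocalRing.maximalIdeal A)) := by
      rw [Ideal.map_map, hqA]
      congr 1
      ext a
      show algebraMap A (Localization.AtPrime q) a = eB (algebraMap A B a)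
      rw [IsScalarTower.algebraMap_apply A C B, eB.commutes, ← IsScalarTower.algebraMap_apply]
    exact ringKrullDim_eq_of_ringEquiv (Ideal.quotientEquiv _ _ eB.toRingEquiv hI)
  have he : Algebra.trdeg (IsLocalRing.ResidueField A) (IsLocalRing.ResidueField B) =
      Algebra.trdeg (A ⧸ IsLocalRing.maximalIdeal A) (C ⧸ q) := by
    have key := TrdegBridge.trdeg_eq_of_fraction (IsLocalRing.maximalIdeal A) q
      (IsLocalRing.residue A) IsLocalRing.ker_residue
      ((IsLocalRing.residue B).comp (algebraMap C B))
      (by rw [← RingHom.comap_ker, IsLocalRing.ker_residue])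
      (algebraMap (IsLocalRing.ResidueField A) (IsLocalRing.ResidueField B))
      (by
        ext a
        simp only [RingHom.comp_apply, IsLocalRing.ResidueField.algebraMap_residue,
          ← IsScalarTower.algebraMap_apply])
      (by
        intro z
        obtain ⟨a, rfl⟩ := IsLocalRing.residue_surjective z
        exact ⟨a, 1, by simp, by simp⟩)
      (by
        intro z
        obtain ⟨b, rfl⟩ := IsLocalRing.residue_surjective z
        obtain ⟨⟨r, s⟩, hrs⟩ := IsLocalization.surj q.primeCompl b
        refine ⟨r, s, ?_, ?_⟩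
        · intro h0
          rw [RingHom.comp_apply, IsLocalRing.residue_eq_zero_iff] at h0
          exact s.2 h0
        · have := congrArg (IsLocalRing.residue B) hrs
          rw [map_mul] at this
          exact this)
    rw [← key]
    exact FibreBC.trdeg_congr_algebra _ _ rfl
  haveI : Algebra.IsAlgebraic C B := IsLocalization.isAlgebraic B q.primeCompl
  have hAB : Algebra.trdeg A C = Algebra.trdeg A B := by
    have t := _root_.trdeg_add_eq A C (A := B)
    have z : Algebra.trdeg C B = 0 := _root_.trdeg_eq_zero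
    rw [z, add_zero] at t
    exact t
  obtain ⟨r, hr⟩ := Cardinal.lt_aleph0.mp (trdeg_lt_aleph0_of_finiteType (R := A) (S := C))
  obtain ⟨e, he'⟩ := ResFieldBridge.exists_nat_trdeg_residueField (specMap A C) x
  rw [trdeg_residueField_eq A C x (IsLocalRing.maximalIdeal A)] at he'
  have hflat : ((specMap A C).stalkMap x).hom.Flat := by
    have hbij : Function.Bijective (toSt A ((specMap A C) x)).hom := by
      letI := stAlg A ((specMap A C) x)
      haveI := isLocalization_st A ((specMap A C) x)
      have hM : (PrimeSpectrum.asIdeal ((specMap A C) x)).primeCompl ≤ IsUnit.submonoid A := by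
        intro y hy
        have hy1 : y ∉ PrimeSpectrum.asIdeal ((specMap A C) x) := hy
        have hy' : y ∉ IsLocalRing.maximalIdeal A := by
          rw [← hqA]
          exact hy1
        exact IsLocalRing.notMem_maximalIdeal.mp hy'
      exact (IsLocalization.atUnits A _
        (S := (Spec (CommRingCat.of A)).presheaf.stalk ((specMap A C) x)) hM).bijective
    rw [← RingHom.Flat.comp_iff_of_bijective_right hbij]
    have h := congrArg CommRingCat.Hom.hom (toSt_comp_stalkMap A C x)
    rw [CommRingCat.hom_comp, CommRingCat.hom_comp] at h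
    rw [h]
    letI := stAlg C x
    haveI := isLocalization_st C x
    let e' : B ≃ₐ[C] (Spec (CommRingCat.of C)).presheaf.stalk x :=
      IsLocalization.algEquiv q.primeCompl B _
    have h2 : (toSt C x).hom.comp (CommRingCat.ofHom (algebraMap A C)).hom =
        (e'.toRingEquiv : B →+* _).comp (algebraMap A B) := by
      ext a
      show algebraMap C _ (algebraMap A C a) = e' (algebraMap A B a)
      rw [IsScalarTower.algebraMap_apply A C B, e'.commutes]
    rw [h2]
    exact RingHom.Flat.comp ((RingHom.flat_algebraMap_iff).mpr inferInstance)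
      (RingHom.Flat.of_bijective e'.bijective)
  have h1 := fibreDimAt_eq_trdeg A C x hflat r hr
  have h2 := SpecFib.fibreDimAt_eq A C x (IsLocalRing.maximalIdeal A) e he'
  rw [h1, ← hd] at h2
  generalize ringKrullDim (B ⧸ Ideal.map (algebraMap A B) (IsLocalRing.maximalIdeal A)) = D at h2
  induction D using WithBot.recBotCoe with
  | bot => rw [WithBot.bot_add] at h2; exact absurd h2 (by simp)
  | coe D =>
    induction D using ENat.recTopCoe with
    | top =>
      exfalso
      have h3 : ((r : ℕ∞) : WithBot ℕ∞) = ((⊤ + (e : ℕ∞) : ℕ∞) : WithBot ℕ∞) := h2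
      rw [top_add] at h3
      have h4 : (r : ℕ∞) = ⊤ := WithBot.coe_injective h3
      exact ENat.coe_ne_top r h4
    | coe d =>
      refine ⟨d, e, rfl, he.trans he', ?_⟩
      have h3 : ((r : ℕ∞) : WithBot ℕ∞) = (((d : ℕ∞) + (e : ℕ∞) : ℕ∞) : WithBot ℕ∞) := h2
      have h4 : (r : ℕ∞) = (d : ℕ∞) + (e : ℕ∞) := WithBot.coe_injective h3
      have h5 : r = d + e := by exact_mod_cast h4
      rw [← hAB, hr, h5]

end ring

end Groth.Agent.Helper16.M1403
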