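import Mathlib
import Groth.Agent.Lib.Helper16.Sch.PITSch2
import Groth.Agent.Lib.Helper16.Sch.FTFlat4
import Groth.Agent.Lib.Helper16.Sch.FTSub
import Groth.Agent.Lib.Helper28.RegImmStalk

set_option autoImplicit false
set_option linter.style.haveILetI false
universe u
open CategoryTheory CategoryTheory.Limits AlgebraicGeometry Opposite TopologicalSpace Topology

noncomputable section

namespace Groth.Agent.Helper16.RegK

open Groth.Agent.Helper14 Groth.Agent.Helper16 Groth.Agent.Helper16.FTDim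

/-- over an affine open `U` where `ι` restricts to a closed immersion, the range of `ι` is the
zero locus of any generating set of the kernel of `Γ(X, U) → Γ(W, ι⁻¹U)`. -/
theorem mem_range_iff {X W : Scheme.{u}} (ι : W ⟶ X) (U : X.Opens) (hU : IsAffineOpen U)
    [IsClosedImmersion (ι ∣_ U)] (rs : List Γ(X, U))
    (hker : RingHom.ker (ι.app U).hom = Ideal.ofList rs) (x : X) (hx : x ∈ U) :
    x ∈ Set.range ι ↔ ∀ r ∈ rs, x ∉ X.basicOpen r := by
  constructor
  · rintro ⟨w, rfl⟩ r hr hmem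
    have hr0 : (ι.app U).hom r = 0 := by
      have : r ∈ RingHom.ker (ι.app U).hom := by
        rw [hker]
        exact Ideal.subset_span hr
      exact this
    have h1 : w ∈ ι ⁻¹ᵁ X.basicOpen r := hmem
    rw [Scheme.preimage_basicOpen] at h1
    have h2 : W.basicOpen ((ι.app U).hom r) = ⊥ := by
      rw [hr0]; exact Scheme.basicOpen_zero (X := W) _
    erw [h2] at h1
    exact h1
  · intro h
    have hV : IsAffineOpen (ι ⁻¹ᵁ U) := Helper28.RegImmStalk.isAffineOpen_preimage ι U hU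
    have hsurj : Function.Surjective (ι.app U).hom := Helper28.RegImmStalk.app_surjective ι U hU
    set p := hU.primeIdealOf ⟨x, hx⟩ with hp
    have hle : RingHom.ker (ι.app U).hom ≤ p.asIdeal := by
      rw [hker]
      apply Ideal.span_le.mpr
      intro r hr
      have := h r hr
      rw [PITSch.mem_basicOpen_iff hU r x hx, not_not] at this
      exact this
    have hmem : p ∈ Set.range (PrimeSpectrum.comap (ι.app U).hom) := by
      rw [range_comap_of_surjective _ _ hsurj]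
      exact hle
    obtain ⟨p', hp'⟩ := hmem
    have hcomm := IsAffineOpen.SpecMap_appLE_fromSpec ι hU hV le_rfl
    refine ⟨hV.fromSpec p', ?_⟩
    have h1 : (hV.fromSpec ≫ ι) p' = (Spec.map (ι.appLE U (ι ⁻¹ᵁ U) le_rfl) ≫ hU.fromSpec) p' := by
      rw [hcomm]
    have h2 : hU.fromSpec p = x := hU.fromSpec_primeIdealOf ⟨x, hx⟩
    rw [← h2]
    refine h1.trans ?_
    show hU.fromSpec ((Spec.map (ι.appLE U (ι ⁻¹ᵁ U) le_rfl)) p') = hU.fromSpec p
    congr 1
    rw [← hp']
    have : ι.appLE U (ι ⁻¹ᵁ U) le_rfl = ι.app U := Scheme.Hom.appLE_eq_app ι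
    rw [this]
    rfl

variable (k : Type u) [Field k]

/-- **Lemma K** (Krull's height theorem along a regular immersion of codimension `c`). -/
theorem lemmaK {C X W : Scheme.{u}} (qC : C ⟶ Spec (CommRingCat.of k)) [LocallyOfFiniteType qC]
    (π : C ⟶ X) (ι : W ⟶ X) (c : ℕ)
    (hι : ∀ z : W, ∃ U : X.affineOpens, ι z ∈ U.1 ∧ IsClosedImmersion (ι ∣_ U.1) ∧
      ∃ rs : List Γ(X, U.1), rs.length = c ∧ RingHom.ker (ι.app U.1).hom = Ideal.ofList rs)
    (ξ ζ : C) (h : ξ ⤳ ζ) (hζ : π ζ ∈ Set.range ι)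
    (hmax : ∀ z : C, ξ ⤳ z → z ⤳ ζ → π z ∈ Set.range ι → z = ζ) :
    td qC ξ ≤ td qC ζ + c := by
  classical
  obtain ⟨w, hw⟩ := hζ
  obtain ⟨U, hwU, hcl, rs, hlen, hker⟩ := hι w
  haveI := hcl
  have hζU : ζ ∈ π ⁻¹ᵁ U.1 := by
    show π ζ ∈ U.1
    rw [← hw]; exact hwU
  obtain ⟨V, hV, hζV, hVU⟩ := Opens.isBasis_iff_nbhd.mp C.isBasis_affineOpens hζU
  have hV' : IsAffineOpen V := hV
  let s : Finset Γ(C, V) := (rs.map (π.appLE U.1 V hVU)).toFinset
  have hcard : s.card ≤ c := by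
    calc s.card ≤ (rs.map (π.appLE U.1 V hVU)).length := List.toFinset_card_le _
      _ = c := by rw [List.length_map, hlen]
  have key : ∀ z : C, z ∈ V → ((∀ f ∈ s, z ∉ C.basicOpen f) ↔ π z ∈ Set.range ι) := by
    intro z hz
    have hzU : π z ∈ U.1 := hVU hz
    rw [mem_range_iff ι U.1 U.2 rs hker (π z) hzU]
    constructor
    · intro hf r hr hmem
      apply hf (π.appLE U.1 V hVU r)
      · simp only [s, List.mem_toFinset, List.mem_map]
        exact ⟨r, hr, rfl⟩
      · rw [Scheme.basicOpen_appLE]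
        exact ⟨hz, hmem⟩
    · intro hr f hf hmem
      simp only [s, List.mem_toFinset, List.mem_map] at hf
      obtain ⟨r, hr', rfl⟩ := hf
      rw [Scheme.basicOpen_appLE] at hmem
      exact hr r hr' hmem.2
  have := PITSch.td_le_td_add_card k qC hV' s ξ ζ hζV h
    ((key ζ hζV).mpr ⟨w, hw⟩)
    (fun z h1 h2 h3 => hmax z h1 h2 ((key z (h2.mem_open V.isOpen hζV)).mp h3))
  omega

/-- generic points of irreducible components of locally closed subsets. -/
theorem exists_generic_lc {P : Scheme.{u}} (q : P ⟶ Spec (CommRingCat.of k))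
    [LocallyOfFiniteType q]
    (A : Set ↥P) (hA : IsLocallyClosed A) (C : Set ↥A) (hC : C ∈ irreducibleComponents ↥A) :
    ∃ ξ : P, ξ ∈ A ∧ (Subtype.val '' C : Set ↥P) = A ∩ closure {ξ} ∧
      topologicalKrullDim ↥C = (td q ξ : WithBot ℕ∞) ∧ ∀ a ∈ A, a ⤳ ξ → a = ξ := by
  obtain ⟨U, Z, hU, hZ, rfl⟩ := hA
  haveI : QuasiSober ↥U := hU.isOpenEmbedding_subtypeVal.quasiSober
  haveI : QuasiSober ↥(U ∩ Z) := QuasiSober.inter_of_isClosed_of_quasiSober_left U hZ
  have hCcl : IsClosed C := isClosed_of_mem_irreducibleComponents C hC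
  obtain ⟨c, hc⟩ := QuasiSober.sober hC.1 hCcl
  have hcC : closure ({c} : Set ↥(U ∩ Z)) = C := hc.def
  have himg : (Subtype.val '' C : Set ↥P) = (U ∩ Z) ∩ closure {c.1} := by
    rw [← hcC, FTSub.val_image_closure (U ∩ Z) c.1 c.2]
  refine ⟨c.1, c.2, himg, ?_, ?_⟩
  · rw [FTFlat.dim_val_image C, himg]
    have : (U ∩ Z) ∩ closure {c.1} = ((⟨U, hU⟩ : P.Opens) : Set P) ∩ closure {c.1} := by
      rw [Set.inter_assoc]
      congr 1
      apply Set.inter_eq_right.mpr
      exact closure_minimal (Set.singleton_subset_iff.mpr c.2.2) hZ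
    rw [this]
    exact FTSub.dim_inter_closure k q ⟨U, hU⟩ c.1 c.2.1
  · intro a ha hac
    have h1 : (⟨a, ha⟩ : ↥(U ∩ Z)) ⤳ c := by
      rw [← IsInducing.subtypeVal.specializes_iff]
      exact hac
    have h2 := FTFlat.maximal_of_mem_irreducibleComponents c (by rw [hcC]; exact hC) ⟨a, ha⟩ h1
    exact congrArg Subtype.val h2

end Groth.Agent.Helper16.RegK
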