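import Mathlib
import Groth.Prelude.Def_RegImm
import Groth.Agent.Lib.Helper16.Sch.RegK
import Groth.Agent.Lib.Helper16.Sch.FTMisc2

set_option autoImplicit false
set_option linter.style.haveILetI false
universe u
open CategoryTheory CategoryTheory.Limits AlgebraicGeometry Opposite TopologicalSpace Topology

noncomputable section

namespace Groth.Agent.Helper16.M14481

open Groth.Agent.Helper14 Groth.Agent.Helper16 Groth.Agent.Helper16.FTDim

theorem main14481 (k : Type u) [Field k] (C X W : Scheme.{u})
    (q : X ⟶ Spec (CommRingCat.of k)) (π : C ⟶ X) (ι : W ⟶ X)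
    [LocallyOfFiniteType q] [LocallyOfFiniteType π]
    (κ : RegImm.Kind) (n c : ℕ) (hι : RegImm.IsRegularImmersionOfCodim κ c ι)
    (hC : ∀ P ∈ irreducibleComponents (C : Type u), topologicalKrullDim P = n) :
    (∀ P ∈ irreducibleComponents (C : Type u),
        ∀ Q ∈ irreducibleComponents (P ∩ π ⁻¹' Set.range ι : Set C),
        topologicalKrullDim Q + (c : WithBot ℕ∞) = n) ↔
      topologicalKrullDim (π ⁻¹' Set.range ι : Set C) + (c : WithBot ℕ∞) ≤ n := by
  haveI := hι.1
  have hι' : ∀ z : W, ∃ U : X.affineOpens, ι z ∈ U.1 ∧ IsClosedImmersion (ι ∣_ U.1) ∧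
      ∃ rs : List Γ(X, U.1), rs.length = c ∧ RingHom.ker (ι.app U.1).hom = Ideal.ofList rs := by
    intro z
    obtain ⟨U, h1, h2, rs, h3, -, h4⟩ := hι.2 z
    exact ⟨U, h1, h2, rs, h3, h4⟩
  set R : Set C := π ⁻¹' Set.range ι with hR
  have hRlc : IsLocallyClosed R := ι.isLocallyClosed_range.preimage π.continuous
  let qC : C ⟶ Spec (CommRingCat.of k) := π ≫ q
  -- data attached to a point of `P ∩ R`
  have hPcl : ∀ P ∈ irreducibleComponents (C : Type u), IsClosed P := fun P hP =>
    isClosed_of_mem_irreducibleComponents P hP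
  have hPRlc : ∀ P ∈ irreducibleComponents (C : Type u), IsLocallyClosed (P ∩ R) := fun P hP =>
    (hPcl P hP).isLocallyClosed.inter hRlc
  constructor
  · intro ha
    have hz : ∀ z ∈ R, (td qC z : WithBot ℕ∞) + (c : WithBot ℕ∞) ≤ n := by
      intro z hz
      set P := irreducibleComponent z with hPdef
      have hP : P ∈ irreducibleComponents (C : Type u) :=
        irreducibleComponent_mem_irreducibleComponents z
      have hzP : z ∈ P ∩ R := ⟨mem_irreducibleComponent, hz⟩
      set Q := irreducibleComponent (⟨z, hzP⟩ : ↥(P ∩ R)) with hQdef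
      have hQ : Q ∈ irreducibleComponents ↥(P ∩ R) :=
        irreducibleComponent_mem_irreducibleComponents _
      have hdim := ha P hP Q hQ
      obtain ⟨ζ, hζA, himg, -, -⟩ := RegK.exists_generic_lc k qC (P ∩ R) (hPRlc P hP) Q hQ
      have hlc : IsLocallyClosed (Subtype.val '' Q : Set C) := by
        rw [himg]
        exact (hPRlc P hP).inter isClosed_closure.isLocallyClosed
      have h1 := FTSub.td_le_dim_of_isLocallyClosed k qC _ hlc z
        ⟨⟨z, hzP⟩, mem_irreducibleComponent, rfl⟩
      rw [← FTFlat.dim_val_image Q] at h1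
      rw [← hdim]
      exact add_le_add_left h1 _
    by_cases hne : R.Nonempty
    · obtain ⟨z₀, hz₀⟩ := hne
      have hcn : c ≤ n := by
        have := hz z₀ hz₀
        have h2 : ((td qC z₀ + c : ℕ) : WithBot ℕ∞) ≤ (n : ℕ) := by exact_mod_cast this
        have h3 : td qC z₀ + c ≤ n := by exact_mod_cast h2
        omega
      have hdimR := FTSub.dim_le_of_forall_td_of_isLocallyClosed k qC R hRlc ((n - c : ℕ) : WithBot ℕ∞)
        (by
          intro z hzR
          have := hz z hzR
          have h2 : ((td qC z + c : ℕ) : WithBot ℕ∞) ≤ (n : ℕ) := by exact_mod_cast this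
          have h3 : td qC z + c ≤ n := by exact_mod_cast h2
          have h4 : td qC z ≤ n - c := by omega
          exact_mod_cast h4)
      calc topologicalKrullDim ↥R + (c : WithBot ℕ∞)
          ≤ ((n - c : ℕ) : WithBot ℕ∞) + (c : WithBot ℕ∞) := add_le_add_left hdimR _
        _ = (n : WithBot ℕ∞) := by
          have : n - c + c = n := by omega
          exact_mod_cast this
    · rw [Set.not_nonempty_iff_eq_empty] at hne
      haveI : IsEmpty ↥R := by rw [hne]; infer_instance
      rw [FTMisc.dim_eq_bot_of_isEmpty, WithBot.bot_add]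
      exact bot_le
  · intro hb P hP Q hQ
    obtain ⟨ζ, hζA, himg, hdim, hmax⟩ :=
      RegK.exists_generic_lc k qC (P ∩ R) (hPRlc P hP) Q hQ
    haveI : QuasiSober C := inferInstance
    obtain ⟨ξ, hξ⟩ := QuasiSober.sober hP.1 (hPcl P hP)
    have hξP : closure ({ξ} : Set C) = P := hξ.def
    have hn : (n : WithBot ℕ∞) = (td qC ξ : WithBot ℕ∞) := by
      rw [← hC P hP, ← hξP]
      exact dim_closure k qC ξ
    have hnn : n = td qC ξ := by exact_mod_cast hn
    have hξζ : ξ ⤳ ζ := by
      rw [specializes_iff_mem_closure, hξP]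
      exact hζA.1
    have hK := RegK.lemmaK k qC π ι c hι' ξ ζ hξζ hζA.2 (by
      intro z h1 h2 h3
      refine hmax z ⟨?_, h3⟩ h2
      rw [← hξP]
      exact h1.mem_closure)
    apply le_antisymm
    · have h1 := FTSub.td_le_dim_of_isLocallyClosed k qC R hRlc ζ hζA.2
      rw [hdim]
      exact (add_le_add_left h1 _).trans hb
    · rw [hdim]
      have : n ≤ td qC ζ + c := by omega
      exact_mod_cast this

end Groth.Agent.Helper16.M14481
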