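import Mathlib
import Groth.Agent.Lib.Helper16.Sch.ClosedRed
import Groth.Agent.Lib.Helper16.Sch.FibComp2
import Groth.Agent.Lib.Helper14.FieldBC
import Groth.Agent.Lib.Helper14.EquidimAt

set_option autoImplicit false
set_option linter.style.haveILetI false
universe u
open CategoryTheory CategoryTheory.Limits AlgebraicGeometry Opposite TopologicalSpace Topology

noncomputable section

namespace Groth.Agent.Helper16.ProdPt

open Groth.Agent.Helper14 Groth.Agent.Helper16 Groth.Agent.Helper16.FTDim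
open Groth.Agent.Helper16.ClosedRed

variable {X Y : Scheme.{u}}

theorem td_of_surjectiveOnStalks {F Z : Scheme.{u}} (h : F ⟶ Z) [SurjectiveOnStalks h] (z : F) :
    td h z = 0 := by
  unfold td
  rw [FibreComp.trdeg_of_surjectiveOnStalks h z]
  simp

theorem exists_generization_prod (k : Type u) [Field k] (qX : X ⟶ Spec (CommRingCat.of k))
    (qY : Y ⟶ Spec (CommRingCat.of k)) [LocallyOfFiniteType qX] [LocallyOfFiniteType qY]
    (ξX : X) (ξY : Y) (δ : ↥(pullback qX qY)) (hX : ξX ⤳ pullback.fst qX qY δ)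
    (hY : ξY ⤳ pullback.snd qX qY δ) :
    ∃ ω : ↥(pullback qX qY), ω ⤳ δ ∧ ξX ⤳ pullback.fst qX qY ω ∧ ξY ⤳ pullback.snd qX qY ω ∧
      td (pullback.fst qX qY ≫ qX) ω = td qX ξX + td qY ξY := by
  haveI : Subsingleton ↥(Spec (CommRingCat.of k)) :=
    inferInstanceAs (Subsingleton (PrimeSpectrum k))
  let j : pullback (ιs ξX ≫ qX) (ιs ξY ≫ qY) ⟶ pullback qX qY :=
    pullback.map (ιs ξX ≫ qX) (ιs ξY ≫ qY) qX qY (ιs ξX) (ιs ξY) (𝟙 _)
      ((Category.comp_id _).trans rfl) ((Category.comp_id _).trans rfl)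
  haveI : SurjectiveOnStalks j :=
    MorphismProperty.pullbackMap (P := @SurjectiveOnStalks) (inferInstance : SurjectiveOnStalks (ιs ξX))
      (inferInstance : SurjectiveOnStalks (ιs ξY)) rfl rfl
  have hrange : Set.range j = pullback.fst qX qY ⁻¹' Set.range (ιs ξX) ∩
      pullback.snd qX qY ⁻¹' Set.range (ιs ξY) := Scheme.Pullback.range_map _ _ _ _ _ _ _ _ _
  obtain ⟨z, hz⟩ : δ ∈ Set.range j := by
    rw [hrange, range_ιs, range_ιs]
    exact ⟨hX.mem_closure, hY.mem_closure⟩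
  have hld := FibComp.localDim_pullback k (ιs ξX ≫ qX) (ιs ξY ≫ qY) z
  rw [localDim_Xs k qX, localDim_Xs k qY] at hld
  obtain ⟨ω', N, hω'z, -, -, hN, hdim⟩ := EquidimAt.exists_maximal_trdeg_eq_fibreDimAt
    (pullback.fst (ιs ξX ≫ qX) (ιs ξY ≫ qY) ≫ (ιs ξX ≫ qX)) z
  rw [FieldBC.fibreDimAt_eq_localDim, hld] at hdim
  have hNeq : N = td qX ξX + td qY ξY := by
    have : ((td qX ξX + td qY ξY : ℕ) : WithBot ℕ∞) = (N : WithBot ℕ∞) := by
      rw [← hdim]; push_cast; rfl
    exact_mod_cast this.symm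
  have hfac : j ≫ (pullback.fst qX qY ≫ qX) =
      pullback.fst (ιs ξX ≫ qX) (ιs ξY ≫ qY) ≫ (ιs ξX ≫ qX) := by
    show pullback.map _ _ _ _ _ _ _ _ _ ≫ _ = _
    rw [pullback.lift_fst_assoc, Category.assoc]
  refine ⟨j ω', ?_, ?_, ?_, ?_⟩
  · rw [← hz]
    exact hω'z.map j.continuous
  · have hmem : j ω' ∈ Set.range j := ⟨ω', rfl⟩
    rw [hrange] at hmem
    have : pullback.fst qX qY (j ω') ∈ Set.range (ιs ξX) := hmem.1
    rw [range_ιs] at this
    exact specializes_iff_mem_closure.mpr this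
  · have hmem : j ω' ∈ Set.range j := ⟨ω', rfl⟩
    rw [hrange] at hmem
    have : pullback.snd qX qY (j ω') ∈ Set.range (ιs ξY) := hmem.2
    rw [range_ιs] at this
    exact specializes_iff_mem_closure.mpr this
  · haveI : LocallyOfFiniteType (j ≫ (pullback.fst qX qY ≫ qX)) := by
      rw [hfac]; infer_instance
    haveI : LocallyOfFiniteType j := locallyOfFiniteType_of_comp j (pullback.fst qX qY ≫ qX)
    have h1 := td_comp j (pullback.fst qX qY ≫ qX) ω'
    rw [td_of_surjectiveOnStalks j ω', add_zero] at h1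
    rw [← h1, ← hNeq]
    apply td_eq
    have : ∀ (m : pullback (ιs ξX ≫ qX) (ιs ξY ≫ qY) ⟶ Spec (CommRingCat.of k)),
        m = pullback.fst (ιs ξX ≫ qX) (ιs ξY ≫ qY) ≫ (ιs ξX ≫ qX) →
        @Algebra.trdeg ((Spec (CommRingCat.of k)).residueField (m ω')) (Scheme.residueField _ ω') _ _
          (m.residueFieldMap ω').hom.toAlgebra = N := by
      rintro m rfl
      exact hN
    exact this _ hfac

end Groth.Agent.Helper16.ProdPt
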