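import Mathlib
import Groth.Prelude.Def_RegImm
import Groth.Agent.Lib.Helper16.Sch.RegK
import Groth.Agent.Lib.Helper16.Sch.FTMisc2
import Groth.Agent.Lib.Helper16.Sch.M14887
import Groth.Agent.Lib.Helper16.Sch.ProdPt

set_option autoImplicit false
set_option linter.style.haveILetI false
universe u
open CategoryTheory CategoryTheory.Limits AlgebraicGeometry Opposite TopologicalSpace Topology

noncomputable section

namespace Groth.Agent.Helper16.M14482

open Groth.Agent.Helper14 Groth.Agent.Helper16 Groth.Agent.Helper16.FTDim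

/-- a fibre of dimension at least `j` contains a point of relative transcendence degree
at least `j`. -/
theorem exists_td_ge {C X : Scheme.{u}} (π : C ⟶ X) [LocallyOfFiniteType π] (x : X) (j : ℕ)
    (hj : (j : WithBot ℕ∞) ≤ topologicalKrullDim (π.fiber x)) :
    ∃ z : C, π z = x ∧ j ≤ td π z := by
  haveI : LocallyOfFiniteType (π.fiberToSpecResidueField x) :=
    MorphismProperty.pullback_snd _ _ inferInstance
  by_contra hcon
  push Not at hcon
  have hall : ∀ y : π.fiber x, td (π.fiberToSpecResidueField x) y < j := by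
    intro y
    rw [← M14887.td_fiberι]
    apply hcon
    have : π.fiberι x y ∈ Set.range (π.fiberι x) := ⟨y, rfl⟩
    rw [π.range_fiberι x] at this
    exact this
  cases j with
  | zero =>
    haveI : IsEmpty (π.fiber x) := ⟨fun y => absurd (hall y) (by omega)⟩
    rw [FTMisc.dim_eq_bot_of_isEmpty] at hj
    simp at hj
  | succ j =>
    have := FTMisc.dim_le_of_forall_td ((X.residueField x : Type u)) (π.fiberToSpecResidueField x)
      (j : WithBot ℕ∞) (fun y => by
        have := hall y
        have h2 : td (π.fiberToSpecResidueField x) y ≤ j := by omega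
        exact_mod_cast h2)
    have h3 := hj.trans this
    have h4 : j + 1 ≤ j := by exact_mod_cast h3
    omega

/-- the relative transcendence degree of a point is at most the dimension of its fibre. -/
theorem td_le_dim_fiber {C X : Scheme.{u}} (π : C ⟶ X) [LocallyOfFiniteType π] (z : C) :
    (td π z : WithBot ℕ∞) ≤ topologicalKrullDim (π.fiber (π z)) := by
  haveI : LocallyOfFiniteType (π.fiberToSpecResidueField (π z)) :=
    MorphismProperty.pullback_snd _ _ inferInstance
  have h1 := M14887.td_fiberι π (π z) (π.asFiber z)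
  rw [π.fiberι_asFiber z] at h1
  rw [h1]
  exact FTMisc.td_le_dim_univ ((X.residueField (π z) : Type u)) (π.fiberToSpecResidueField (π z)) _

variable (k : Type u) [Field k]

/-- bounding `dim S + m` by pointwise transcendence degrees. -/
theorem dim_add_le {Y : Scheme.{u}} (q : Y ⟶ Spec (CommRingCat.of k)) [LocallyOfFiniteType q]
    (S : Set Y) (hS : IsLocallyClosed S) (m n : ℕ) (h : ∀ y ∈ S, td q y + m ≤ n) :
    topologicalKrullDim ↥S + (m : WithBot ℕ∞) ≤ n := by
  by_cases hne : S.Nonempty
  · obtain ⟨z₀, hz₀⟩ := hne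
    have hmn : m ≤ n := by have := h z₀ hz₀; omega
    have hdim := FTSub.dim_le_of_forall_td_of_isLocallyClosed k q S hS ((n - m : ℕ) : WithBot ℕ∞)
      (by
        intro z hz
        have := h z hz
        have h4 : td q z ≤ n - m := by omega
        exact_mod_cast h4)
    calc topologicalKrullDim ↥S + (m : WithBot ℕ∞)
        ≤ ((n - m : ℕ) : WithBot ℕ∞) + (m : WithBot ℕ∞) := add_le_add_left hdim _
      _ = (n : WithBot ℕ∞) := by
        have : n - m + m = n := by omega
        exact_mod_cast this
  · rw [Set.not_nonempty_iff_eq_empty] at hne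
    haveI : IsEmpty ↥S := by rw [hne]; infer_instance
    rw [FTMisc.dim_eq_bot_of_isEmpty, WithBot.bot_add]
    exact bot_le

/-- converse direction, pointwise. -/
theorem td_add_le_of_dim_add_le {Y : Scheme.{u}} (q : Y ⟶ Spec (CommRingCat.of k))
    [LocallyOfFiniteType q] (S : Set Y) (hS : IsLocallyClosed S) (m n : ℕ)
    (h : topologicalKrullDim ↥S + (m : WithBot ℕ∞) ≤ n) (y : Y) (hy : y ∈ S) :
    td q y + m ≤ n := by
  have h1 := FTSub.td_le_dim_of_isLocallyClosed k q S hS y hy
  have h2 : ((td q y + m : ℕ) : WithBot ℕ∞) ≤ (n : ℕ) := by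
    push_cast
    exact (add_le_add_left h1 _).trans h
  exact_mod_cast h2

theorem main14482 (C X W : Scheme.{u})
    (q : X ⟶ Spec (CommRingCat.of k)) (π : C ⟶ X) (ι : W ⟶ X)
    [LocallyOfFiniteType q] [LocallyOfFiniteType π]
    (κ : RegImm.Kind) (n c : ℕ) (hι : RegImm.IsRegularImmersionOfCodim κ c ι)
    (hC : ∀ P ∈ irreducibleComponents (C : Type u), topologicalKrullDim P = n)
    (hB : ∀ j : ℕ, IsClosed {x : X | (j : WithBot ℕ∞) ≤ topologicalKrullDim (π.fiber x)}) :
    (∀ j : ℕ, topologicalKrullDim {x : X | (j : WithBot ℕ∞) ≤ topologicalKrullDim (π.fiber x)} +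
        (j : WithBot ℕ∞) ≤ n) ∧
      (topologicalKrullDim (π ⁻¹' Set.range ι : Set C) + (c : WithBot ℕ∞) ≤ n ↔
        ∀ j : ℕ, topologicalKrullDim
          (ι ⁻¹' {x : X | (j : WithBot ℕ∞) ≤ topologicalKrullDim (π.fiber x)} : Set W) +
            (c : WithBot ℕ∞) + (j : WithBot ℕ∞) ≤ n) := by
  haveI := hι.1
  set R : Set C := π ⁻¹' Set.range ι with hR
  have hRlc : IsLocallyClosed R := ι.isLocallyClosed_range.preimage π.continuous
  let qC : C ⟶ Spec (CommRingCat.of k) := π ≫ q
  let qW : W ⟶ Spec (CommRingCat.of k) := ι ≫ q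
  have htdC : ∀ z : C, td qC z = td q (π z) + td π z := fun z => td_comp π q z
  have htdW : ∀ w : W, td qW w = td q (ι w) := fun w => by
    have := td_comp ι q w
    rw [ProdPt.td_of_surjectiveOnStalks ι w] at this
    simpa using this
  have hCn : ∀ z : C, td qC z ≤ n := by
    intro z
    have hP := irreducibleComponent_mem_irreducibleComponents z
    have h1 := FTSub.td_le_dim_of_isLocallyClosed k qC (irreducibleComponent z)
      (isClosed_of_mem_irreducibleComponents _ hP).isLocallyClosed z mem_irreducibleComponent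
    rw [hC _ hP] at h1
    exact_mod_cast h1
  refine ⟨?_, ?_, ?_⟩
  · intro j
    apply dim_add_le k q _ (hB j).isLocallyClosed
    intro x hx
    obtain ⟨z, hz, hjz⟩ := exists_td_ge π x j hx
    have h1 := htdC z
    have h2 := hCn z
    rw [hz] at h1
    omega
  · intro hb j
    have hcl : IsClosed (ι ⁻¹' {x : X | (j : WithBot ℕ∞) ≤ topologicalKrullDim (π.fiber x)}) :=
      (hB j).preimage ι.continuous
    have := dim_add_le k qW _ hcl.isLocallyClosed (c + j) n (by
      intro w hw
      obtain ⟨z, hz, hjz⟩ := exists_td_ge π (ι w) j hw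
      have hzR : z ∈ R := ⟨w, hz.symm⟩
      have h1 := td_add_le_of_dim_add_le k qC R hRlc c n hb z hzR
      have h2 := htdC z
      have h3 := htdW w
      rw [hz] at h2
      omega)
    rw [add_assoc]
    exact_mod_cast this
  · intro hb
    apply dim_add_le k qC R hRlc
    intro z hz
    obtain ⟨w, hw⟩ := hz
    set j := td π z with hj
    have hmem : w ∈ ι ⁻¹' {x : X | (j : WithBot ℕ∞) ≤ topologicalKrullDim (π.fiber x)} := by
      show (j : WithBot ℕ∞) ≤ topologicalKrullDim (π.fiber (ι w))
      rw [hw]
      exact td_le_dim_fiber π z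
    have hcl : IsClosed (ι ⁻¹' {x : X | (j : WithBot ℕ∞) ≤ topologicalKrullDim (π.fiber x)}) :=
      (hB j).preimage ι.continuous
    have hbj := hb j
    rw [add_assoc] at hbj
    have hbj' : topologicalKrullDim
        ↥(ι ⁻¹' {x : X | (j : WithBot ℕ∞) ≤ topologicalKrullDim (π.fiber x)}) +
          ((c + j : ℕ) : WithBot ℕ∞) ≤ n := by exact_mod_cast hbj
    have h1 := td_add_le_of_dim_add_le k qW _ hcl.isLocallyClosed (c + j) n hbj' w hmem
    have h2 := htdC z
    have h3 := htdW w
    rw [hw] at h3
    omega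

end Groth.Agent.Helper16.M14482
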