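import Mathlib
import Groth.Agent.Lib.Helper16.Sch.WellInt
import Groth.Agent.Lib.Helper16.Sch.M14482
import Groth.Agent.Lib.Helper16.Sch.FibMap3
import Groth.Agent.Lib.Helper16.Sch.FTDim7
import Groth.Agent.Lib.Helper14.FibreDimBC
import Groth.Agent.Lib.Helper14.PullbackPts

set_option autoImplicit false
set_option linter.style.haveILetI false
universe u
open CategoryTheory CategoryTheory.Limits AlgebraicGeometry Opposite TopologicalSpace Topology

noncomputable section

namespace Groth.Agent.Helper16.M14485

open Groth.Agent.Helper14 Groth.Agent.Helper16 Groth.Agent.Helper16.FTDim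
open Groth.Agent.Helper16.WellInt Groth.Agent.Helper16.FibMap

/-- (F) constant fibre dimension is stable under base change. -/
theorem dim_fiber_of_isPullback {X S X' S' : Scheme.{u}} {f : X ⟶ S} {g : S' ⟶ S}
    {g' : X' ⟶ X} {f' : X' ⟶ S'} [LocallyOfFiniteType f] (hsq : IsPullback g' f' f g) (d : ℕ)
    (hd : ∀ s : S, topologicalKrullDim (f.fiber s) = d) (s' : S') :
    topologicalKrullDim (f'.fiber s') = d := by
  haveI : LocallyOfFiniteType f' := FibreDimBC.locallyOfFiniteType_of_isPullback hsq
  apply le_antisymm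
  · rw [ConsFD.dim_fiber_le_iff]
    intro x' hx'
    rw [FibreDimBC.fibreDimAt_eq hsq x']
    exact (GenDim.fibreDimAt_le_dim_fiber f (g' x') _ rfl).trans (hd _).le
  · obtain ⟨z, hz, hdz⟩ := M14482.exists_td_ge f (g s') d (hd _).ge
    have h1 : (td f z : WithBot ℕ∞) ≤ FlatMor.fibreDimAt f z :=
      EquidimAt.trdeg_le_fibreDimAt f z z specializes_rfl (td f z) (td_spec f z)
    obtain ⟨x', hx'1, hx'2⟩ := exists_preimage_of_isPullback hsq z s' hz
    have h2 := FibreDimBC.fibreDimAt_eq hsq x'
    rw [hx'1] at h2
    have h3 := GenDim.fibreDimAt_le_dim_fiber f' x' s' hx'2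
    rw [h2] at h3
    refine le_trans ?_ (h1.trans h3)
    exact_mod_cast hdz

variable (k : Type u) [Field k]

/-- (L) preimages under a morphism with fibres of constant dimension `d`. -/
theorem dim_preimage_eq {A A' : Scheme.{u}} (qA : A ⟶ Spec (CommRingCat.of k))
    [LocallyOfFiniteType qA] (h : A' ⟶ A) [LocallyOfFiniteType h] (d : ℕ)
    (hd : ∀ a : A, topologicalKrullDim (h.fiber a) = d) (T : Set A) (hT : IsLocallyClosed T) :
    topologicalKrullDim ↥(h ⁻¹' T) = topologicalKrullDim ↥T + (d : WithBot ℕ∞) := by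
  have hT' : IsLocallyClosed (h ⁻¹' T) := hT.preimage h.continuous
  have htd : ∀ a' : A', td (h ≫ qA) a' = td qA (h a') + td h a' := fun a' => td_comp h qA a'
  apply le_antisymm
  · apply FTSub.dim_le_of_forall_td_of_isLocallyClosed k (h ≫ qA) _ hT'
    intro a' ha'
    rw [htd a']
    have h1 := FTSub.td_le_dim_of_isLocallyClosed k qA T hT (h a') ha'
    have h2 := M14482.td_le_dim_fiber h a'
    rw [hd] at h2
    push_cast
    exact add_le_add h1 h2
  · have key : ∀ t ∈ T, ((td qA t + d : ℕ) : WithBot ℕ∞) ≤ topologicalKrullDim ↥(h ⁻¹' T) := by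
      intro t ht
      obtain ⟨a', ha't, hda'⟩ := M14482.exists_td_ge h t d (hd t).ge
      have h1 := FTSub.td_le_dim_of_isLocallyClosed k (h ≫ qA) _ hT' a'
        (by show h a' ∈ T; rw [ha't]; exact ht)
      refine le_trans ?_ h1
      have := htd a'
      rw [ha't] at this
      have h2 : td qA t + d ≤ td (h ≫ qA) a' := by omega
      exact_mod_cast h2
    generalize hM : topologicalKrullDim ↥(h ⁻¹' T) = M at key ⊢
    induction M using WithBot.recBotCoe with
    | bot =>
      have hTe : T = ∅ := by
        by_contra hne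
        obtain ⟨t, ht⟩ := Set.nonempty_iff_ne_empty.mpr hne
        exact absurd (key t ht) (by simp)
      haveI : IsEmpty ↥T := by rw [hTe]; infer_instance
      rw [FTMisc.dim_eq_bot_of_isEmpty, WithBot.bot_add]
    | coe M =>
      induction M using ENat.recTopCoe with
      | top => exact le_top
      | coe m =>
        have := M14482.dim_add_le k qA T hT d m (fun t ht => by
          have := key t ht
          exact_mod_cast this)
        exact_mod_cast this

theorem nat_add_le_iff (N : ℕ) (a b : WithBot ℕ∞) :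
    a + (N : WithBot ℕ∞) ≤ b + (N : WithBot ℕ∞) ↔ a ≤ b := by
  constructor
  · intro h
    rw [add_comm a, add_comm b] at h
    exact withBot_cancel N a b h
  · intro h
    exact add_le_add_left h _

theorem main14485 (X S S' : Scheme.{u})
    (q : S ⟶ Spec (CommRingCat.of k)) (f : X ⟶ S) (g : S' ⟶ S)
    [LocallyOfFiniteType q] [LocallyOfFiniteType f] [IsSeparated f]
    [LocallyOfFiniteType g]
    (d : ℕ) (hd : ∀ s : S, topologicalKrullDim (g.fiber s) = d)
    (Y Z : Set X) (hYc : IsClosed Y) (hZc : IsClosed Z) :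
    (topologicalKrullDim ↥(E f Y Z) + topologicalKrullDim S ≤
        topologicalKrullDim Y + topologicalKrullDim Z) ↔
      (topologicalKrullDim ↥(E (pullback.snd f g) ((pullback.fst f g) ⁻¹' Y)
          ((pullback.fst f g) ⁻¹' Z)) + topologicalKrullDim S' ≤
        topologicalKrullDim ((pullback.fst f g) ⁻¹' Y) +
          topologicalKrullDim ((pullback.fst f g) ⁻¹' Z)) := by
  have hsq : IsPullback (pullback.fst f g) (pullback.snd f g) f g := IsPullback.of_hasPullback f g
  -- fibre dimensions of the base changes of `g`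
  have hd1 : ∀ x : X, topologicalKrullDim ((pullback.fst f g).fiber x) = d :=
    dim_fiber_of_isPullback hsq.flip d hd
  have hsqP := (isPullback_sqMap_base hsq).flip
  have hd2 : ∀ p : ↥(pullback f f), topologicalKrullDim ((sqMap hsq).fiber p) = d :=
    dim_fiber_of_isPullback hsqP d hd
  haveI : LocallyOfFiniteType (sqMap hsq) := FibreDimBC.locallyOfFiniteType_of_isPullback hsqP
  -- the four dimension formulas
  have hS' : topologicalKrullDim S' = topologicalKrullDim S + (d : WithBot ℕ∞) := by
    have := dim_preimage_eq k q g d hd Set.univ isClosed_univ.isLocallyClosed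
    rw [Set.preimage_univ, dim_univ, dim_univ] at this
    exact this
  have hY' := dim_preimage_eq k (f ≫ q) (pullback.fst f g) d hd1 Y hYc.isLocallyClosed
  have hZ' := dim_preimage_eq k (f ≫ q) (pullback.fst f g) d hd1 Z hZc.isLocallyClosed
  have hE' := dim_preimage_eq k (qP k q f) (sqMap hsq) d hd2 (E f Y Z)
    (isLocallyClosed_E f Y Z hYc hZc)
  have hEeq : E (pullback.snd f g) ((pullback.fst f g) ⁻¹' Y) ((pullback.fst f g) ⁻¹' Z) =
      (sqMap hsq) ⁻¹' (E f Y Z) := by
    ext p'
    have h1 : pullback.fst f f (sqMap hsq p') =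
        pullback.fst f g (pullback.fst (pullback.snd f g) (pullback.snd f g) p') := by
      rw [← Scheme.Hom.comp_apply, sqMap_fst]; rfl
    have h2 : pullback.snd f f (sqMap hsq p') =
        pullback.fst f g (pullback.snd (pullback.snd f g) (pullback.snd f g) p') := by
      rw [← Scheme.Hom.comp_apply, sqMap_snd]; rfl
    have h3 := range_snd_of_isPullback (isPullback_diagonal hsq).flip
    have h4 : p' ∈ Set.range (pullback.diagonal (pullback.snd f g)) ↔
        sqMap hsq p' ∈ Set.range (pullback.diagonal f) := by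
      rw [h3]; rfl
    simp only [E, Set.mem_ofPred_eq, Set.mem_preimage, h1, h2, h4]
  rw [hEeq, hE', hS', hY', hZ']
  rw [add_add_add_comm, add_add_add_comm (topologicalKrullDim ↥Y)]
  have : ((d : WithBot ℕ∞) + (d : WithBot ℕ∞)) = ((d + d : ℕ) : WithBot ℕ∞) := by push_cast; rfl
  rw [this, nat_add_le_iff]

end Groth.Agent.Helper16.M14485
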