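import Mathlib
import Groth.Agent.Lib.Helper16.Sch.FTSub
import Groth.Agent.Lib.Helper16.Sch.FTFlat1
import Groth.Agent.Lib.Helper14.SectionComp
import Groth.Agent.Lib.Helper14.FibreMax
import Groth.Agent.Lib.Helper14.EquidimAt

set_option autoImplicit false
set_option linter.style.haveILetI false
universe u
open CategoryTheory CategoryTheory.Limits AlgebraicGeometry Opposite TopologicalSpace Topology

noncomputable section

namespace Groth.Agent.Helper16.M14901

open Groth.Agent.Helper14 Groth.Agent.Helper16 Groth.Agent.Helper16.FTDim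
open Groth.Agent.Helper16.FTFlat Groth.Agent.Helper16.FTMisc Groth.Agent.Helper16.FTSub

theorem main14901 (k : Type u) [Field k] (S X : Scheme.{u})
    (pS : S ⟶ Spec (CommRingCat.of k)) (pX : X ⟶ Spec (CommRingCat.of k))
    [LocallyOfFiniteType pS] [QuasiCompact pS]
    [IsSeparated pX] [LocallyOfFiniteType pX]
    (hS : ∀ (s : S) (A B : Set S), A ∈ irreducibleComponents (S : Type u) →
      B ∈ irreducibleComponents (S : Type u) →
      s ∈ A → s ∈ B → topologicalKrullDim A = topologicalKrullDim B)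
    (f : S ⟶ X) (hf : f ≫ pX = pS) (Z : Set X)
    (h : ∀ s : S, f.base s ∈ Z →
      topologicalKrullDim (Set.range f.base) + 1 ≤ ringKrullDim (S.presheaf.stalk s)) :
    f.base ⁻¹' Z = ∅ := by
  subst hf
  by_contra hne
  obtain ⟨s₀, hs₀⟩ := Set.nonempty_iff_ne_empty.mpr hne
  have hs₀' : f.base s₀ ∈ Z := hs₀
  haveI : LocallyOfFiniteType f := locallyOfFiniteType_of_comp f pX
  haveI : QuasiCompact f := QuasiCompact.of_comp f pX
  haveI : IsLocallyNoetherian X := LocallyOfFiniteType.isLocallyNoetherian pX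
  have hrange : IsLocallyConstructible (Set.range f.base) := by
    rw [← Set.image_univ]
    exact f.isLocallyConstructible_image IsLocallyConstructible.univ
  obtain ⟨ξ, hmaxξ, hξs₀, -⟩ := exists_maximal_td_eq k (f ≫ pX) s₀
  obtain ⟨nξ, hnξ⟩ := ResFieldBridge.exists_nat_trdeg_residueField f ξ
  have h2 : FlatMor.fibreDimAt f ξ = nξ :=
    FibreMax.fibreDimAt_eq_of_maximal f ξ (fun x₁ _ hx => hmaxξ x₁ hx) nξ hnξ
  have h2' := SectionComp.fibreDimAt_le_of_specializes f ξ s₀ hξs₀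
  obtain ⟨ζ, N, hζs₀, hfζ, hmaxζ, hN, hdim⟩ := EquidimAt.exists_maximal_trdeg_eq_fibreDimAt f s₀
  have hnN : nξ ≤ N := by
    rw [h2, hdim] at h2'
    exact_mod_cast h2'
  have hζZ : f.base ζ ∈ Z := by
    have : f.base ζ = f.base s₀ := hfζ
    rw [this]
    exact hs₀'
  have h4 := h ζ hζZ
  obtain ⟨ξ', hmaxξ', hξ'ζ, m, hm, htd⟩ := exists_maximal_td_eq k (f ≫ pX) ζ
  have h6 : td (f ≫ pX) ξ = td (f ≫ pX) ξ' := by
    have := hS s₀ (closure {ξ}) (closure {ξ'}) (UOpenAtDim.mem_genericPoints_of_maximal ξ hmaxξ)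
      (UOpenAtDim.mem_genericPoints_of_maximal ξ' hmaxξ') hξs₀.mem_closure
      (hξ'ζ.trans hζs₀).mem_closure
    rw [dim_closure k (f ≫ pX), dim_closure k (f ≫ pX)] at this
    exact_mod_cast this
  have e1 : td (f ≫ pX) ξ = td pX (f ξ) + td f ξ := td_comp f pX ξ
  have e2 : td (f ≫ pX) ζ = td pX (f ζ) + td f ζ := td_comp f pX ζ
  have e3 : td f ξ = nξ := td_eq f ξ nξ hnξ
  have e4 : td f ζ = N := td_eq f ζ N hN
  have hm_le : m ≤ td pX (f ξ) := by omega
  have h8 := td_le_dim_of_isLocallyConstructible k pX (Set.range f.base) hrange (f ξ) ⟨ξ, rfl⟩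
  rw [hm] at h4
  generalize topologicalKrullDim ↥(Set.range f.base) = D at h4 h8
  induction D using WithBot.recBotCoe with
  | bot => exact absurd h8 (by simp)
  | coe D =>
    induction D using ENat.recTopCoe with
    | top =>
      have : ((⊤ + 1 : ℕ∞) : WithBot ℕ∞) ≤ ((m : ℕ∞) : WithBot ℕ∞) := h4
      rw [top_add, WithBot.coe_le_coe] at this
      exact absurd this (by simp)
    | coe n =>
      have a1 : (((n : ℕ∞) + 1 : ℕ∞) : WithBot ℕ∞) ≤ ((m : ℕ∞) : WithBot ℕ∞) := h4
      have a2 : ((td pX (f ξ) : ℕ∞) : WithBot ℕ∞) ≤ ((n : ℕ∞) : WithBot ℕ∞) := h8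
      rw [WithBot.coe_le_coe] at a1 a2
      have b1 : n + 1 ≤ m := by exact_mod_cast a1
      have b2 : td pX (f ξ) ≤ n := by exact_mod_cast a2
      omega

end Groth.Agent.Helper16.M14901
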