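import Mathlib
import Groth.Agent.Lib.Helper16.Sch.FTSub
import Groth.Agent.Lib.Helper16.Sch.FTFlat1
import Groth.Agent.Lib.Helper16.Sch.FTDim7

set_option autoImplicit false
set_option linter.style.haveILetI false
universe u
open CategoryTheory CategoryTheory.Limits AlgebraicGeometry Opposite TopologicalSpace Topology

noncomputable section

namespace Groth.Agent.Helper16.M17411

open Groth.Agent.Helper14 Groth.Agent.Helper16 Groth.Agent.Helper16.FTDim
open Groth.Agent.Helper16.FTFlat

variable {X Y Z : Scheme.{u}}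

/-- a quasi-compact dominant morphism locally of finite presentation hits the generic point. -/
theorem genericPoint_mem_range (f : X ⟶ Z) [IrreducibleSpace ↥Z] [LocallyOfFinitePresentation f]
    [QuasiCompact f] (hd : DenseRange f) : genericPoint ↥Z ∈ Set.range f := by
  by_contra hne
  have hc : IsLocallyConstructible (Set.range f)ᶜ := by
    have : IsLocallyConstructible (Set.range f) := by
      rw [← Set.image_univ]
      exact f.isLocallyConstructible_image IsLocallyConstructible.univ
    intro x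
    obtain ⟨U, hU, hUo, hUc⟩ := this x
    exact ⟨U, hU, hUo, by rw [Set.preimage_compl]; exact hUc.compl⟩
  have hn := ConstrNhds.mem_nhds_of_isLocallyConstructible hc (genericPoint ↥Z) (fun η hη => by
    have : η = genericPoint ↥Z := (hη.antisymm (genericPoint_specializes η)).eq
    rw [this]
    exact hne)
  obtain ⟨U, hUs, hUo, hzU⟩ := mem_nhds_iff.mp hn
  obtain ⟨w, hwU, x, rfl⟩ := hd.inter_open_nonempty U hUo ⟨_, hzU⟩
  exact hUs hwU ⟨x, rfl⟩

theorem main17411 (k : Type u) [Field k]
    (qX : X ⟶ Spec (CommRingCat.of k)) (qY : Y ⟶ Spec (CommRingCat.of k))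
    (qZ : Z ⟶ Spec (CommRingCat.of k))
    [LocallyOfFiniteType qX] [QuasiCompact qX] [LocallyOfFiniteType qY] [LocallyOfFiniteType qZ]
    [IrreducibleSpace ↥Y] [IrreducibleSpace ↥Z] (hdim : topologicalKrullDim Y = topologicalKrullDim Z)
    (ρ : X ⟶ Y) (hρ : ρ ≫ qY = qX) (η : Y ⟶ Z) (hη : η ≫ qZ = qY) [IsDominant η] :
    IsDominant (ρ ≫ η) ↔ IsDominant ρ := by
  constructor
  · intro hd
    subst hη
    subst hρ
    haveI : IsLocallyNoetherian Z := LocallyOfFiniteType.isLocallyNoetherian qZ
    haveI : LocallyOfFiniteType η := locallyOfFiniteType_of_comp η qZ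
    haveI : LocallyOfFiniteType ρ := locallyOfFiniteType_of_comp ρ (η ≫ qZ)
    haveI : LocallyOfFiniteType (ρ ≫ η) := inferInstance
    haveI : QuasiCompact ((ρ ≫ η) ≫ qZ) := by
      rw [Category.assoc]; infer_instance
    haveI : QuasiCompact (ρ ≫ η) := QuasiCompact.of_comp (ρ ≫ η) qZ
    obtain ⟨x, hx⟩ := genericPoint_mem_range (ρ ≫ η) hd.denseRange
    have hx' : η (ρ x) = genericPoint ↥Z := hx
    have h1 := td_comp η qZ (ρ x)
    have h2 : (td qZ (genericPoint ↥Z) : WithBot ℕ∞) = (td (η ≫ qZ) (genericPoint ↥Y) : WithBot ℕ∞) := by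
      rw [← dim_eq_td_genericPoint k qZ, ← dim_eq_td_genericPoint k (η ≫ qZ), hdim]
    have h2' : td qZ (genericPoint ↥Z) = td (η ≫ qZ) (genericPoint ↥Y) := by exact_mod_cast h2
    have hy : ρ x = genericPoint ↥Y := by
      by_contra hne
      have hlt := ((isDimFun_td k (η ≫ qZ)) (genericPoint ↥Y) (ρ x) (genericPoint_specializes _)
        (Ne.symm hne)).1
      have hlt' : ((td (η ≫ qZ) (ρ x) : ℕ) : ℤ) < ((td (η ≫ qZ) (genericPoint ↥Y) : ℕ) : ℤ) := hlt
      rw [hx'] at h1
      omega
    refine ⟨?_⟩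
    rw [denseRange_iff_closure_range]
    have hmem : genericPoint ↥Y ∈ Set.range ρ := ⟨x, hy⟩
    have hsub : closure ({genericPoint ↥Y} : Set Y) ⊆ closure (Set.range ρ) :=
      closure_mono (Set.singleton_subset_iff.mpr hmem)
    rw [(genericPoint_spec ↥Y).def] at hsub
    exact Set.univ_subset_iff.mp hsub
  · intro hd
    infer_instance

end Groth.Agent.Helper16.M17411
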