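import Mathlib
import Groth.Agent.Lib.Helper16.Sch.ProdPt
import Groth.Agent.Lib.Helper16.Sch.AffDiag
import Groth.Agent.Lib.Helper16.Sch.PITSch2
import Groth.Agent.Lib.Helper16.Sch.FTFlat4
import Groth.Agent.Lib.Helper16.Sch.FTSub

set_option autoImplicit false
set_option linter.style.haveILetI false
universe u
open CategoryTheory CategoryTheory.Limits AlgebraicGeometry Opposite TopologicalSpace Topology

noncomputable section

namespace Groth.Agent.Helper16.M7674

open Groth.Agent.Helper14 Groth.Agent.Helper16 Groth.Agent.Helper16.FTDim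
open Groth.Agent.Helper16.AffDiag

variable (k : Type u) [Field k] (n : ℕ)

/-- affine `n`-space over `k`. -/
abbrev An : Scheme.{u} := 𝔸(ULift.{u} (Fin n); Spec (CommRingCat.of k))

/-- structure morphism -/
abbrev qA : An k n ⟶ Spec (CommRingCat.of k) := 𝔸(ULift.{u} (Fin n); Spec (CommRingCat.of k)) ↘ _

instance : LocallyOfFiniteType (qA k n) := inferInstance

theorem core (ξX ξY ζ : An k n) (hX : ξX ⤳ ζ) (hY : ξY ⤳ ζ)
    (hmax : ∀ ζ' : An k n, ξX ⤳ ζ' → ξY ⤳ ζ' → ζ' ⤳ ζ → ζ' = ζ) :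
    td (qA k n) ξX + td (qA k n) ξY ≤ td (qA k n) ζ + n := by
  classical
  set W' := W (S := Spec (CommRingCat.of k)) (ULift.{u} (Fin n)) with hW'
  set D := Δ (S := Spec (CommRingCat.of k)) (ULift.{u} (Fin n)) with hD
  set π₁ := p₁ (S := Spec (CommRingCat.of k)) (ULift.{u} (Fin n)) with hπ₁
  set π₂ := p₂ (S := Spec (CommRingCat.of k)) (ULift.{u} (Fin n)) with hπ₂
  have hD1 : ∀ x, π₁ (D x) = x := fun x => by
    rw [← Scheme.Hom.comp_apply, hD, hπ₁, pullback.diagonal_fst]; rfl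
  have hD2 : ∀ x, π₂ (D x) = x := fun x => by
    rw [← Scheme.Hom.comp_apply, hD, hπ₂, pullback.diagonal_snd]; rfl
  obtain ⟨ω, hωδ, hω1, hω2, htd⟩ := ProdPt.exists_generization_prod k (qA k n) (qA k n) ξX ξY (D ζ)
    (by rw [hD1]; exact hX) (by rw [hD2]; exact hY)
  let gg := g (S := Spec (CommRingCat.of k)) (ULift.{u} (Fin n))
  let F : Set W' := closure {ω} ∩ ⋂ i, ((W'.basicOpen (gg i) : Set W'))ᶜ
  have hF : IsClosed F :=
    isClosed_closure.inter (isClosed_iInter fun i => (W'.basicOpen (gg i)).2.isClosed_compl)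
  have hδF : D ζ ∈ F := by
    refine ⟨hωδ.mem_closure, ?_⟩
    rw [Set.mem_iInter]
    intro i
    exact diag_notMem_basicOpen (S := Spec (CommRingCat.of k)) (ULift.{u} (Fin n)) ζ i
  obtain ⟨δ', hδ'F, hδ'δ, hδ'max⟩ := PITSch.exists_maximal_generization_mem F hF (D ζ) hδF
  have hδ'V : ∀ i, δ' ∉ W'.basicOpen (gg i) := fun i => (Set.mem_iInter.mp hδ'F.2 i)
  obtain ⟨ζ', hζ'⟩ := mem_range_diag (S := Spec (CommRingCat.of k)) (ULift.{u} (Fin n)) δ' hδ'V
  have hωδ' : ω ⤳ δ' := specializes_iff_mem_closure.mpr hδ'F.1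
  have hζ'eq : ζ' = ζ := by
    apply hmax
    · have := hωδ'.map π₁.continuous
      rw [← hζ', hD1] at this
      exact hω1.trans this
    · have := hωδ'.map π₂.continuous
      rw [← hζ', hD2] at this
      exact hω2.trans this
    · have := hδ'δ.map π₁.continuous
      rw [← hζ', hD1, hD1] at this
      exact this
  have hδ'eq : δ' = D ζ := by rw [← hζ', hζ'eq]
  have hWaff : IsAffineOpen (⊤ : W'.Opens) := isAffineOpen_top W'
  have key := PITSch.td_le_td_add_card k (π₁ ≫ qA k n) hWaff (Finset.univ.image gg) ω (D ζ) trivial hωδ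
    (by
      intro f hf
      obtain ⟨i, -, rfl⟩ := Finset.mem_image.mp hf
      exact diag_notMem_basicOpen (S := Spec (CommRingCat.of k)) (ULift.{u} (Fin n)) ζ i)
    (by
      intro z hωz hzδ hzV
      rw [← hδ'eq]
      apply hδ'max z ⟨hωz.mem_closure, ?_⟩ (by rw [hδ'eq]; exact hzδ)
      rw [Set.mem_iInter]
      intro i
      exact hzV (gg i) (Finset.mem_image.mpr ⟨i, Finset.mem_univ _, rfl⟩))
  have hcard : (Finset.univ.image gg).card ≤ n := by
    refine Finset.card_image_le.trans ?_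
    simp
  obtain ⟨hlft, htdD⟩ := td_of_section D π₁ (pullback.diagonal_fst _) ζ
  have h3 := td_comp D (π₁ ≫ qA k n) ζ
  have h4 : td (D ≫ π₁ ≫ qA k n) ζ = td (qA k n) ζ := by
    have : ∀ (m : An k n ⟶ Spec (CommRingCat.of k)), m = qA k n → td m ζ = td (qA k n) ζ := by
      rintro m rfl; rfl
    apply this
    rw [hD, hπ₁, pullback.diagonal_fst_assoc]
  have htd' : td (π₁ ≫ qA k n) ω = td (qA k n) ξX + td (qA k n) ξY := htd
  omega

/-- generic points of irreducible components of closed subsets. -/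
theorem exists_generic {P : Scheme.{u}} (q : P ⟶ Spec (CommRingCat.of k)) [LocallyOfFiniteType q]
    (A : Set ↥P) (hA : IsClosed A) (C : Set ↥A) (hC : C ∈ irreducibleComponents ↥A) :
    ∃ ξ : P, ξ ∈ A ∧ (Subtype.val '' C : Set ↥P) = closure {ξ} ∧
      topologicalKrullDim ↥C = (td q ξ : WithBot ℕ∞) ∧ ∀ a ∈ A, a ⤳ ξ → a = ξ := by
  haveI : QuasiSober ↥A := hA.isClosedEmbedding_subtypeVal.quasiSober
  have hCcl : IsClosed C := isClosed_of_mem_irreducibleComponents C hC
  obtain ⟨c, hc⟩ := QuasiSober.sober hC.1 hCcl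
  have hcC : closure ({c} : Set ↥A) = C := hc.def
  have himg : (Subtype.val '' C : Set ↥P) = closure {c.1} := by
    rw [← hcC, FTSub.val_image_closure A c.1 c.2]
    apply Set.inter_eq_right.mpr
    exact closure_minimal (Set.singleton_subset_iff.mpr c.2) hA
  refine ⟨c.1, c.2, himg, ?_, ?_⟩
  · rw [FTFlat.dim_val_image C, himg, dim_closure k q]
  · intro a ha hac
    have h1 : (⟨a, ha⟩ : ↥A) ⤳ c := by
      rw [← IsInducing.subtypeVal.specializes_iff]
      exact hac
    have h2 := FTFlat.maximal_of_mem_irreducibleComponents c (by rw [hcC]; exact hC) ⟨a, ha⟩ h1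
    exact congrArg Subtype.val h2

theorem main7674 (r s : ℕ)
    (X Y : Set ↥(An k n)) (hX : IsClosed X) (hY : IsClosed Y)
    (hXr : ∀ Z ∈ irreducibleComponents X, topologicalKrullDim Z = r)
    (hYs : ∀ Z ∈ irreducibleComponents Y, topologicalKrullDim Z = s)
    (Z : Set ↥(X ∩ Y)) (hZ : Z ∈ irreducibleComponents ↥(X ∩ Y)) :
    ((r + s : ℕ) : WithBot ℕ∞) ≤ topologicalKrullDim Z + (n : WithBot ℕ∞) := by
  obtain ⟨ζ, hζXY, -, hζdim, hζmax⟩ := exists_generic k (qA k n) (X ∩ Y) (hX.inter hY) Z hZ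
  obtain ⟨ξX, hξXX, hξXimg, hξXdim, -⟩ := exists_generic k (qA k n) X hX
    (irreducibleComponent (⟨ζ, hζXY.1⟩ : ↥X)) (irreducibleComponent_mem_irreducibleComponents _)
  obtain ⟨ξY, hξYY, hξYimg, hξYdim, -⟩ := exists_generic k (qA k n) Y hY
    (irreducibleComponent (⟨ζ, hζXY.2⟩ : ↥Y)) (irreducibleComponent_mem_irreducibleComponents _)
  rw [hXr _ (irreducibleComponent_mem_irreducibleComponents _)] at hξXdim
  rw [hYs _ (irreducibleComponent_mem_irreducibleComponents _)] at hξYdim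
  have hr : r = td (qA k n) ξX := by exact_mod_cast hξXdim
  have hs : s = td (qA k n) ξY := by exact_mod_cast hξYdim
  have hXζ : ξX ⤳ ζ := by
    rw [specializes_iff_mem_closure, ← hξXimg]
    exact ⟨⟨ζ, hζXY.1⟩, mem_irreducibleComponent, rfl⟩
  have hYζ : ξY ⤳ ζ := by
    rw [specializes_iff_mem_closure, ← hξYimg]
    exact ⟨⟨ζ, hζXY.2⟩, mem_irreducibleComponent, rfl⟩
  have hcore := core k n ξX ξY ζ hXζ hYζ (by
    intro ζ' h1 h2 h3
    apply hζmax ζ' ⟨?_, ?_⟩ h3
    · exact closure_minimal (Set.singleton_subset_iff.mpr hξXX) hX h1.mem_closure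
    · exact closure_minimal (Set.singleton_subset_iff.mpr hξYY) hY h2.mem_closure)
  rw [hζdim, hr, hs]
  exact_mod_cast hcore

end Groth.Agent.Helper16.M7674
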