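import Mathlib
import Groth.Prelude.Def_RegImm
import Groth.Agent.Lib.Helper16.Sch.RegK
import Groth.Agent.Lib.Helper16.Sch.M7674
import Groth.Agent.Lib.Helper28.DiagReg

set_option autoImplicit false
set_option linter.style.haveILetI false
universe u
open CategoryTheory CategoryTheory.Limits AlgebraicGeometry Opposite TopologicalSpace Topology

noncomputable section

namespace Groth.Agent.Helper16.M19416

open Groth.Agent.Helper14 Groth.Agent.Helper16 Groth.Agent.Helper16.FTDim
open Groth.Agent.Helper16.AffDiag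

variable (k : Type u) [Field k]

/-- reduction to the diagonal: if the diagonal of `X/k` is locally cut out by `n` equations,
then `td ξX + td ξY ≤ td ζ + n` for a maximal common specialization `ζ`. -/
theorem core {X : Scheme.{u}} (f : X ⟶ Spec (CommRingCat.of k)) [LocallyOfFiniteType f] (n : ℕ)
    (hΔ : ∀ z : X, ∃ U : (pullback f f).affineOpens, pullback.diagonal f z ∈ U.1 ∧
      IsClosedImmersion (pullback.diagonal f ∣_ U.1) ∧
      ∃ rs : List Γ(pullback f f, U.1), rs.length = n ∧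
        RingHom.ker ((pullback.diagonal f).app U.1).hom = Ideal.ofList rs)
    (ξX ξY ζ : X) (hX : ξX ⤳ ζ) (hY : ξY ⤳ ζ)
    (hmax : ∀ ζ' : X, ξX ⤳ ζ' → ξY ⤳ ζ' → ζ' ⤳ ζ → ζ' = ζ) :
    td f ξX + td f ξY ≤ td f ζ + n := by
  set D := pullback.diagonal f with hD
  set π₁ := pullback.fst f f with hπ₁
  set π₂ := pullback.snd f f with hπ₂
  have hD1 : ∀ x, π₁ (D x) = x := fun x => by
    rw [← Scheme.Hom.comp_apply, hD, hπ₁, pullback.diagonal_fst]; rfl
  have hD2 : ∀ x, π₂ (D x) = x := fun x => by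
    rw [← Scheme.Hom.comp_apply, hD, hπ₂, pullback.diagonal_snd]; rfl
  obtain ⟨ω, hωδ, hω1, hω2, htd⟩ := ProdPt.exists_generization_prod k f f ξX ξY (D ζ)
    (by rw [hD1]; exact hX) (by rw [hD2]; exact hY)
  have key := RegK.lemmaK k (π₁ ≫ f) (𝟙 (pullback f f)) D n hΔ ω (D ζ) hωδ ⟨ζ, rfl⟩ (by
    rintro z hωz hzδ ⟨ζ', hζ'⟩
    have hζ'' : D ζ' = z := hζ'
    have hζ'eq : ζ' = ζ := by
      apply hmax
      · have := hωz.map π₁.continuous
        rw [← hζ'', hD1] at this
        exact hω1.trans this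
      · have := hωz.map π₂.continuous
        rw [← hζ'', hD2] at this
        exact hω2.trans this
      · have := hzδ.map π₁.continuous
        rw [← hζ'', hD1, hD1] at this
        exact this
    rw [← hζ'', hζ'eq])
  obtain ⟨hlft, htdD⟩ := td_of_section D π₁ (pullback.diagonal_fst _) ζ
  have h3 := td_comp D (π₁ ≫ f) ζ
  have h4 : td (D ≫ π₁ ≫ f) ζ = td f ζ := by
    have : ∀ (m : X ⟶ Spec (CommRingCat.of k)), m = f → td m ζ = td f ζ := by
      rintro m rfl; rfl
    apply this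
    rw [hD, hπ₁, pullback.diagonal_fst_assoc]
  have htd' : td (π₁ ≫ f) ω = td f ξX + td f ξY := htd
  omega

theorem main19416 (X : Scheme.{u})
    (f : X ⟶ Spec (CommRingCat.of k)) [Smooth f] [IsSeparated f] [IsIntegral X]
    (n r s : ℕ) (hn : topologicalKrullDim X = n) (V W : Set X) (hVc : IsClosed V)
    (hVi : IsIrreducible V) (hWc : IsClosed W) (hWi : IsIrreducible W)
    (hr : topologicalKrullDim ↥V = r) (hs : topologicalKrullDim ↥W = s) (Z : Set ↥(V ∩ W))
    (hZ : Z ∈ irreducibleComponents ↥(V ∩ W)) :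
    ((r + s : ℕ) : WithBot ℕ∞) ≤ topologicalKrullDim ↥Z + n := by
  have hreg := Helper28.DiagReg.diagonal_regular f n hn
  have hΔ : ∀ z : X, ∃ U : (pullback f f).affineOpens, pullback.diagonal f z ∈ U.1 ∧
      IsClosedImmersion (pullback.diagonal f ∣_ U.1) ∧
      ∃ rs : List Γ(pullback f f, U.1), rs.length = n ∧
        RingHom.ker ((pullback.diagonal f).app U.1).hom = Ideal.ofList rs := by
    intro z
    obtain ⟨U, h1, h2, rs, h3, -, h4⟩ := hreg.2 z
    exact ⟨U, h1, h2, rs, h3, h4⟩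
  obtain ⟨ζ, hζVW, -, hζdim, hζmax⟩ := M7674.exists_generic k f (V ∩ W) (hVc.inter hWc) Z hZ
  obtain ⟨ξV, hξV⟩ := QuasiSober.sober hVi hVc
  obtain ⟨ξW, hξW⟩ := QuasiSober.sober hWi hWc
  have hV : closure ({ξV} : Set X) = V := hξV.def
  have hW : closure ({ξW} : Set X) = W := hξW.def
  have hr' : (r : WithBot ℕ∞) = (td f ξV : WithBot ℕ∞) := by
    rw [← hr, ← hV]; exact dim_closure k f ξV
  have hs' : (s : WithBot ℕ∞) = (td f ξW : WithBot ℕ∞) := by
    rw [← hs, ← hW]; exact dim_closure k f ξW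
  have hrn : r = td f ξV := by exact_mod_cast hr'
  have hsn : s = td f ξW := by exact_mod_cast hs'
  have hVζ : ξV ⤳ ζ := by
    rw [specializes_iff_mem_closure, hV]; exact hζVW.1
  have hWζ : ξW ⤳ ζ := by
    rw [specializes_iff_mem_closure, hW]; exact hζVW.2
  have hcore := core k f n hΔ ξV ξW ζ hVζ hWζ (by
    intro ζ' h1 h2 h3
    apply hζmax ζ' ⟨?_, ?_⟩ h3
    · rw [← hV]; exact h1.mem_closure
    · rw [← hW]; exact h2.mem_closure)
  rw [hζdim, hrn, hsn]
  exact_mod_cast hcore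

end Groth.Agent.Helper16.M19416
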