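import Mathlib
import Groth.Agent.Lib.Helper16.Sch.FTSub
import Groth.Agent.Lib.Helper16.Sch.PITSch2
import Groth.Agent.Lib.Helper16.Sch.FTFlat1
import Groth.Agent.Lib.Helper14.FibreDimIneq

set_option autoImplicit false
set_option linter.style.haveILetI false
universe u
open CategoryTheory CategoryTheory.Limits AlgebraicGeometry Opposite TopologicalSpace Topology

noncomputable section

namespace Groth.Agent.Helper16.M4644

open Groth.Agent.Helper14 Groth.Agent.Helper16 Groth.Agent.Helper16.FTDim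
open Groth.Agent.Helper16.FTFlat Groth.Agent.Helper16.FTMisc Groth.Agent.Helper16.FTSub

theorem main4644 {k : Type u} [Field k] {Y : Scheme.{u}} [Nonempty ↥Y]
    (g : Y ⟶ Spec (CommRingCat.of k)) [LocallyOfFiniteType g]
    (heq : ∀ T ∈ irreducibleComponents ↥Y, topologicalKrullDim ↥T = topologicalKrullDim ↥Y)
    (Z : Set ↥Y) (hZ : IsLocallyClosed Z) :
    IsNowhereDense Z ↔ topologicalKrullDim ↥Z < topologicalKrullDim ↥Y := by
  haveI : IsLocallyNoetherian Y := LocallyOfFiniteType.isLocallyNoetherian g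
  have hmaxd : ∀ ξ : Y, (∀ ξ' : Y, ξ' ⤳ ξ → ξ' = ξ) →
      topologicalKrullDim ↥Y = (td g ξ : WithBot ℕ∞) := by
    intro ξ hmax
    rw [← heq _ (UOpenAtDim.mem_genericPoints_of_maximal ξ hmax), dim_closure k g ξ]
  constructor
  · intro hnd
    have hnd' : interior (closure Z) = ∅ := hnd
    have key : ∀ z ∈ Z, ∃ ξ : Y, (∀ ξ' : Y, ξ' ⤳ ξ → ξ' = ξ) ∧ td g z + 1 ≤ td g ξ := by
      intro z hz
      obtain ⟨ξ, hmax, hξz, m, hm, htd⟩ := exists_maximal_td_eq k g z
      refine ⟨ξ, hmax, ?_⟩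
      have hm0 : m ≠ 0 := by
        intro h0
        rw [h0] at hm
        have hzmax := FibreDimIneq.maximal_of_stalk_eq_zero z (by simpa using hm)
        have := PITSch.interior_nonempty_of_maximal_mem (closure Z) isClosed_closure z hzmax
          (subset_closure hz)
        rw [hnd'] at this
        exact Set.not_nonempty_empty this
      omega
    by_cases hne : Z.Nonempty
    · obtain ⟨z₀, hz₀⟩ := hne
      obtain ⟨ξ₀, hmax₀, h₀⟩ := key z₀ hz₀
      rw [hmaxd ξ₀ hmax₀]
      have hle : topologicalKrullDim ↥Z ≤ ((td g ξ₀ - 1 : ℕ) : WithBot ℕ∞) := by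
        refine dim_le_of_forall_td_of_isLocallyClosed k g Z hZ _ (fun z hz => ?_)
        obtain ⟨ξ, hmax, h⟩ := key z hz
        have e1 : (td g ξ : WithBot ℕ∞) = (td g ξ₀ : WithBot ℕ∞) := by
          rw [← hmaxd ξ hmax, ← hmaxd ξ₀ hmax₀]
        have e2 : td g ξ = td g ξ₀ := by exact_mod_cast e1
        have : td g z ≤ td g ξ₀ - 1 := by omega
        exact_mod_cast this
      refine lt_of_le_of_lt hle ?_
      have : td g ξ₀ - 1 < td g ξ₀ := by omega
      exact_mod_cast this
    · rw [Set.not_nonempty_iff_eq_empty] at hne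
      subst hne
      rw [dim_eq_bot_of_isEmpty]
      obtain ⟨y⟩ := ‹Nonempty ↥Y›
      obtain ⟨ξ, hmax, -⟩ := exists_maximal_td_eq k g y
      rw [hmaxd ξ hmax]
      exact WithBot.bot_lt_coe _
  · intro hlt
    show interior (closure Z) = ∅
    by_contra hne
    obtain ⟨w, hw⟩ := Set.nonempty_iff_ne_empty.mpr hne
    obtain ⟨ξ, hmax, hξw, -⟩ := exists_maximal_td_eq k g w
    have hξW : ξ ∈ interior (closure Z) := hξw.mem_open isOpen_interior hw
    have hξcl : ξ ∈ closure Z := interior_subset hξW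
    obtain ⟨U, C, hU, hC, rfl⟩ := hZ
    have hξC : ξ ∈ C := closure_minimal Set.inter_subset_right hC hξcl
    have hξU : ξ ∈ U := by
      by_contra hξU
      have hF : IsClosed (closure (U ∩ C) ∩ Uᶜ) := isClosed_closure.inter hU.isClosed_compl
      obtain ⟨o, ho⟩ := PITSch.interior_nonempty_of_maximal_mem _ hF ξ hmax ⟨hξcl, hξU⟩
      have ho1 : o ∈ closure (U ∩ C) := (interior_subset ho).1
      rw [mem_closure_iff] at ho1
      obtain ⟨z, hz1, hz2⟩ := ho1 _ isOpen_interior ho
      exact (interior_subset hz1).2 hz2.1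
    have h1 := td_le_dim_of_isLocallyClosed k g (U ∩ C) ⟨U, C, hU, hC, rfl⟩ ξ ⟨hξU, hξC⟩
    rw [hmaxd ξ hmax] at hlt
    exact absurd (lt_of_le_of_lt h1 hlt) (lt_irrefl _)

end Groth.Agent.Helper16.M4644
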