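import Mathlib
import Groth.Prelude.Def_RegImm
import Groth.Agent.Lib.Helper16.Sch.RegK
import Groth.Agent.Lib.Helper16.Sch.ProdPt
import Groth.Agent.Lib.Helper16.Sch.FTDim7

set_option autoImplicit false
set_option linter.style.haveILetI false
universe u
open CategoryTheory CategoryTheory.Limits AlgebraicGeometry Opposite TopologicalSpace Topology

noncomputable section

namespace Groth.Agent.Helper16.M6473

open Groth.Agent.Helper14 Groth.Agent.Helper16 Groth.Agent.Helper16.FTDim

theorem main6473 (K : Type u) [Field K] (X Y Z : Scheme.{u})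
    (gY : Y ⟶ Spec (CommRingCat.of K)) [LocallyOfFiniteType gY]
    (f : X ⟶ Y) (κ : RegImm.Kind) (c : ℕ) (hreg : RegImm.IsRegularImmersionOfCodim κ c f)
    (ι : Z ⟶ Y) [IsClosedImmersion ι] [IsIntegral Z] (d : ℕ) (hd : topologicalKrullDim Z = d)
    (T : Set ↥(pullback f ι)) (hT : T ∈ irreducibleComponents ↥(pullback f ι)) :
    ((d : ℕ) : WithBot ℕ∞) ≤ topologicalKrullDim ↥T + c := by
  haveI := hreg.1
  have hreg' : ∀ z : X, ∃ U : Y.affineOpens, f z ∈ U.1 ∧ IsClosedImmersion (f ∣_ U.1) ∧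
      ∃ rs : List Γ(Y, U.1), rs.length = c ∧ RingHom.ker (f.app U.1).hom = Ideal.ofList rs := by
    intro z
    obtain ⟨U, h1, h2, rs, h3, -, h4⟩ := hreg.2 z
    exact ⟨U, h1, h2, rs, h3, h4⟩
  let qZ : Z ⟶ Spec (CommRingCat.of K) := ι ≫ gY
  let s : pullback f ι ⟶ Z := pullback.snd f ι
  let qP : pullback f ι ⟶ Spec (CommRingCat.of K) := s ≫ qZ
  have hTcl : IsClosed T := isClosed_of_mem_irreducibleComponents T hT
  obtain ⟨τ, hτ⟩ := QuasiSober.sober hT.1 hTcl
  have hτT : closure ({τ} : Set ↥(pullback f ι)) = T := hτ.def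
  have hdimT : topologicalKrullDim ↥T = (td qP τ : WithBot ℕ∞) := by
    rw [← hτT]; exact dim_closure K qP τ
  have htd : td qP τ = td qZ (s τ) := by
    have := td_comp s qZ τ
    rw [ProdPt.td_of_surjectiveOnStalks s τ] at this
    simpa using this
  set ξ := genericPoint Z with hξ
  have hdZ : (d : WithBot ℕ∞) = (td qZ ξ : WithBot ℕ∞) := by
    rw [← hd]; exact dim_eq_td_genericPoint K qZ
  have hdn : d = td qZ ξ := by exact_mod_cast hdZ
  have hξζ : ξ ⤳ s τ := genericPoint_specializes _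
  have hmem : ι (s τ) ∈ Set.range f := by
    refine ⟨pullback.fst f ι τ, ?_⟩
    have := congrArg (fun g : pullback f ι ⟶ Y => g τ) (pullback.condition (f := f) (g := ι))
    exact this
  have hK := RegK.lemmaK K qZ ι f c hreg' ξ (s τ) hξζ hmem (by
    intro z _ h2 h3
    have hz : z ∈ Set.range s := by
      rw [Scheme.Pullback.range_snd]
      exact h3
    obtain ⟨t, rfl⟩ := hz
    have h4 : t ⤳ τ := (s.isEmbedding.isInducing.specializes_iff).mp h2
    have := FTFlat.maximal_of_mem_irreducibleComponents τ (by rw [hτT]; exact hT) t h4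
    rw [this])
  rw [hdimT, htd]
  have : d ≤ td qZ (s τ) + c := by omega
  exact_mod_cast this

end Groth.Agent.Helper16.M6473
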