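import Mathlib
import Groth.Prelude.Def_CohB1
import Groth.Agent.Lib.Helper26.ProjChart
import Groth.Agent.Lib.Helper26.ProjDim
import Groth.Agent.Lib.Helper15.ProjSpaceProper
import Groth.Agent.Lib.Helper28.DiagReg
import Groth.Agent.Lib.Helper16.Sch.FTDim7

set_option autoImplicit false
set_option linter.style.haveILetI false
universe u
open CategoryTheory CategoryTheory.Limits AlgebraicGeometry Opposite TopologicalSpace Topology

noncomputable section

namespace Groth.Agent.Helper16.ProjSm

open MvPolynomial HomogeneousLocalization Groth.Agent.Lib.Helper26.ProjChart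

variable (n : ℕ) (k : Type u) [Field k]

local notation "𝒜" => CohB1.polyGrading n k

/-- the ring map `k → k[T]_(T_i)` is smooth. -/
theorem smooth_chart (i : Fin (n + 1)) :
    ((HomogeneousLocalization.fromZeroRingHom 𝒜 (Submonoid.powers (X i))).comp
        (algebraMap k (𝒜 0))).Smooth := by
  have h1 : (HomogeneousLocalization.fromZeroRingHom 𝒜 (Submonoid.powers (X i))).comp
        (algebraMap k (𝒜 0)) = (φ n k i).comp (C : k →+* MvPolynomial {j : Fin (n + 1) // j ≠ i} k) := by
    ext r
    simp [φ]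
  rw [h1]
  have h2 : (C : k →+* MvPolynomial {j : Fin (n + 1) // j ≠ i} k).Smooth := by
    have : (algebraMap k (MvPolynomial {j : Fin (n + 1) // j ≠ i} k)).Smooth :=
      RingHom.smooth_algebraMap.mpr ⟨inferInstance, inferInstance⟩
    exact this
  exact h2.comp (RingHom.Smooth.of_bijective (φ_bijective n k i))

theorem smooth_aux : Smooth (Proj.toSpecZero 𝒜 ≫
    Spec.map (CommRingCat.ofHom (algebraMap k (𝒜 0)))) := by
  apply IsZariskiLocalAtSource.of_iSup_eq_top (P := @Smooth)
    (fun i : Fin (n + 1) => Proj.basicOpen 𝒜 (X i : MvPolynomial (Fin (n + 1)) k)) (iSup_basicOpen n k)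
  intro i
  have h1 : (Proj.basicOpen 𝒜 (X i : MvPolynomial (Fin (n + 1)) k)).ι =
      (Proj.basicOpenIsoSpec 𝒜 (X i : MvPolynomial (Fin (n + 1)) k) (X_mem n k i) one_pos).hom ≫
        Proj.awayι 𝒜 (X i : MvPolynomial (Fin (n + 1)) k) (X_mem n k i) one_pos := by
    rw [← Proj.basicOpenIsoSpec_inv_ι, Iso.hom_inv_id_assoc]
  have h2 : (Proj.basicOpen 𝒜 (X i : MvPolynomial (Fin (n + 1)) k)).ι ≫ (Proj.toSpecZero 𝒜 ≫
      Spec.map (CommRingCat.ofHom (algebraMap k (𝒜 0)))) =
      (Proj.basicOpenIsoSpec 𝒜 (X i : MvPolynomial (Fin (n + 1)) k) (X_mem n k i) one_pos).hom ≫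
        Spec.map (CommRingCat.ofHom
          ((HomogeneousLocalization.fromZeroRingHom 𝒜 (Submonoid.powers (X i))).comp
            (algebraMap k (𝒜 0)))) := by
    rw [h1, Category.assoc, Proj.awayι_toSpecZero_assoc, ← Spec.map_comp]
    rfl
  show Smooth ((Proj.basicOpen 𝒜 (X i : MvPolynomial (Fin (n + 1)) k)).ι ≫ (Proj.toSpecZero 𝒜 ≫
      Spec.map (CommRingCat.ofHom (algebraMap k (𝒜 0)))))
  rw [h2]
  haveI : Smooth (Spec.map (CommRingCat.ofHom
      ((HomogeneousLocalization.fromZeroRingHom 𝒜 (Submonoid.powers (X i))).comp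
        (algebraMap k (𝒜 0))))) := by
    rw [HasRingHomProperty.Spec_iff (P := @Smooth)]
    exact smooth_chart n k i
  infer_instance

instance smooth_toSpec : Smooth (CohB1.ProjSpace.toSpec n k) := smooth_aux n k

/-- the generic point of projective space: the zero ideal. -/
def eta : ProjectiveSpectrum 𝒜 where
  asHomogeneousIdeal := ⊥
  isPrime := by
    show (⊥ : Ideal (MvPolynomial (Fin (n + 1)) k)).IsPrime
    exact Ideal.isPrime_bot
  not_irrelevant_le := by
    intro h
    have h1 : (X 0 : MvPolynomial (Fin (n + 1)) k) ∈ HomogeneousIdeal.irrelevant 𝒜 := by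
      rw [HomogeneousIdeal.mem_irrelevant_iff]
      have : (X 0 : MvPolynomial (Fin (n + 1)) k) ∈ 𝒜 1 := X_mem n k 0
      rw [GradedRing.proj_apply, DirectSum.decompose_of_mem_ne 𝒜 this (by norm_num)]
    have h2 := h h1
    have h3 : (X 0 : MvPolynomial (Fin (n + 1)) k) = 0 := h2
    exact X_ne_zero 0 h3

instance irreducibleSpace : IrreducibleSpace ↥(CohB1.ProjSpace n k) := by
  apply FTDim.irreducibleSpace_of_isIrreducible_univ
  have h : closure ({eta n k} : Set (ProjectiveSpectrum 𝒜)) = Set.univ := by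
    ext y
    simp only [Set.mem_univ, iff_true]
    rw [← ProjectiveSpectrum.le_iff_mem_closure]
    show (eta n k).asHomogeneousIdeal ≤ y.asHomogeneousIdeal
    exact bot_le
  have : IsIrreducible (Set.univ : Set (ProjectiveSpectrum 𝒜)) := by
    rw [← h]
    exact isIrreducible_singleton.closure
  exact this

/-- the diagonal of projective space is locally cut out by `n` equations. -/
theorem hΔ : ∀ z : ↥(CohB1.ProjSpace n k),
    ∃ U : (pullback (CohB1.ProjSpace.toSpec n k) (CohB1.ProjSpace.toSpec n k)).affineOpens,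
      pullback.diagonal (CohB1.ProjSpace.toSpec n k) z ∈ U.1 ∧
      IsClosedImmersion (pullback.diagonal (CohB1.ProjSpace.toSpec n k) ∣_ U.1) ∧
      ∃ rs : List Γ(pullback (CohB1.ProjSpace.toSpec n k) (CohB1.ProjSpace.toSpec n k), U.1),
        rs.length = n ∧
        RingHom.ker ((pullback.diagonal (CohB1.ProjSpace.toSpec n k)).app U.1).hom =
          Ideal.ofList rs := by
  have hreg := Helper28.DiagReg.diagonal_regular (CohB1.ProjSpace.toSpec n k) n (main_dim n k)
  intro z
  obtain ⟨U, h1, h2, rs, h3, -, h4⟩ := hreg.2 z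
  exact ⟨U, h1, h2, rs, h3, h4⟩

end Groth.Agent.Helper16.ProjSm
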