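import Mathlib
import Groth.Prelude.Def_CohB1
import Groth.Agent.Lib.Helper16.Sch.ProjSm
import Groth.Agent.Lib.Helper16.Sch.SpecFib
import Groth.Agent.Lib.Helper16.Sch.M19416

set_option autoImplicit false
set_option linter.style.haveILetI false
universe u
open CategoryTheory CategoryTheory.Limits AlgebraicGeometry Opposite TopologicalSpace Topology

noncomputable section

namespace Groth.Agent.Helper16.ProjCone

open MvPolynomial HomogeneousLocalization Groth.Agent.Lib.Helper26.ProjChart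
open Groth.Agent.Helper14 Groth.Agent.Helper16 Groth.Agent.Helper16.FTDim

variable (n : ℕ) (k : Type u) [Field k]

local notation "𝒜" => CohB1.polyGrading n k

/-- affine `(n+1)`-space, as the spectrum of the polynomial ring. -/
abbrev SpA : Scheme.{u} := Spec (CommRingCat.of (MvPolynomial (Fin (n + 1)) k))

abbrev qA : SpA n k ⟶ Spec (CommRingCat.of k) :=
  RingFibDim.specMap k (MvPolynomial (Fin (n + 1)) k)

instance : LocallyOfFiniteType (qA n k) := inferInstance

instance : Smooth (qA n k) := by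
  rw [HasRingHomProperty.Spec_iff (P := @Smooth)]
  exact RingHom.smooth_algebraMap.mpr ⟨inferInstance, inferInstance⟩

theorem dim_SpA : topologicalKrullDim ↥(SpA n k) = ((n + 1 : ℕ) : WithBot ℕ∞) := by
  have h1 : topologicalKrullDim ↥(SpA n k) = ringKrullDim (MvPolynomial (Fin (n + 1)) k) :=
    PrimeSpectrum.topologicalKrullDim_eq_ringKrullDim _
  rw [h1, MvPolynomial.ringKrullDim_of_isNoetherianRing, ringKrullDim_eq_zero_of_field, zero_add]
  simp

instance : IrreducibleSpace ↥(SpA n k) :=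
  inferInstanceAs (IrreducibleSpace (PrimeSpectrum (MvPolynomial (Fin (n + 1)) k)))

theorem hΔA : ∀ z : ↥(SpA n k),
    ∃ U : (pullback (qA n k) (qA n k)).affineOpens,
      pullback.diagonal (qA n k) z ∈ U.1 ∧
      IsClosedImmersion (pullback.diagonal (qA n k) ∣_ U.1) ∧
      ∃ rs : List Γ(pullback (qA n k) (qA n k), U.1),
        rs.length = n + 1 ∧
        RingHom.ker ((pullback.diagonal (qA n k)).app U.1).hom = Ideal.ofList rs := by
  have hreg := Helper28.DiagReg.diagonal_regular (qA n k) (n + 1) (dim_SpA n k)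
  intro z
  obtain ⟨U, h1, h2, rs, h3, -, h4⟩ := hreg.2 z
  exact ⟨U, h1, h2, rs, h3, h4⟩

section td
variable {k} {T : Scheme.{u}} (q : T ⟶ Spec (CommRingCat.of k)) [LocallyOfFiniteType q]

theorem td_strict (ξ ζ : T) (h : ξ ⤳ ζ) (hne : ξ ≠ ζ) : td q ζ < td q ξ := by
  have h1 : ((td q ζ : ℕ) : ℤ) < ((td q ξ : ℕ) : ℤ) := (FTFlat.isDimFun_td k q ξ ζ h hne).1
  exact_mod_cast h1

theorem td_mono (ξ ζ : T) (h : ξ ⤳ ζ) : td q ζ ≤ td q ξ := by
  by_cases hne : ξ = ζ
  · rw [hne]
  · exact (td_strict q ξ ζ h hne).le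

end td

/-- the prime of the polynomial ring underlying a point of projective space (generic point
of the affine cone). -/
def c (z : ProjectiveSpectrum 𝒜) : PrimeSpectrum (MvPolynomial (Fin (n + 1)) k) :=
  ⟨z.asHomogeneousIdeal.toIdeal, z.isPrime⟩

/-- the vertex of the cone. -/
def o : PrimeSpectrum (MvPolynomial (Fin (n + 1)) k) :=
  ⟨(HomogeneousIdeal.irrelevant 𝒜).toIdeal, by
    rw [HomogeneousIdeal.toIdeal_irrelevant]
    exact RingHom.ker_isPrime _⟩

theorem c_injective : Function.Injective (c n k) := by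
  intro z z' h
  have h1 : z.asHomogeneousIdeal.toIdeal = z'.asHomogeneousIdeal.toIdeal :=
    congrArg PrimeSpectrum.asIdeal h
  exact ProjectiveSpectrum.ext (HomogeneousIdeal.toIdeal_injective h1)

theorem c_specializes (z z' : ProjectiveSpectrum 𝒜) (h : z ≤ z') :
    (c n k z : ↥(SpA n k)) ⤳ (c n k z' : ↥(SpA n k)) := by
  have h1 : @LE.le (PrimeSpectrum (MvPolynomial (Fin (n + 1)) k)) _ (c n k z) (c n k z') := by
    show z.asHomogeneousIdeal.toIdeal ≤ z'.asHomogeneousIdeal.toIdeal
    exact fun x hx => h hx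
  exact (PrimeSpectrum.le_iff_specializes _ _).mp h1

theorem decompose_zero_mem_range (f : MvPolynomial (Fin (n + 1)) k) :
    ∃ a : k, (DirectSum.decompose 𝒜 f 0 : MvPolynomial (Fin (n + 1)) k) = C a := by
  obtain ⟨a, ha⟩ := Groth.Agent.Helper15.surjective_algebraMap_polyGrading_zero n k
    (DirectSum.decompose 𝒜 f 0)
  refine ⟨a, ?_⟩
  have := congrArg Subtype.val ha
  exact this.symm

/-- every proper homogeneous ideal lies in the irrelevant ideal. -/
theorem le_irrelevant (I : HomogeneousIdeal 𝒜) (hI : I.toIdeal ≠ ⊤) :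
    I.toIdeal ≤ (HomogeneousIdeal.irrelevant 𝒜).toIdeal := by
  intro f hf
  show f ∈ HomogeneousIdeal.irrelevant 𝒜
  rw [HomogeneousIdeal.mem_irrelevant_iff, GradedRing.proj_apply]
  have h0 : (DirectSum.decompose 𝒜 f 0 : MvPolynomial (Fin (n + 1)) k) ∈ I.toIdeal :=
    I.isHomogeneous 0 hf
  obtain ⟨a, ha⟩ := decompose_zero_mem_range n k f
  rw [ha] at h0 ⊢
  by_contra hne
  have ha0 : a ≠ 0 := by
    rintro rfl
    exact hne (by simp)
  apply hI
  rw [Ideal.eq_top_iff_one]
  have : (C a⁻¹ : MvPolynomial (Fin (n + 1)) k) * C a = 1 := by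
    rw [← C_mul, inv_mul_cancel₀ ha0, C_1]
  rw [← this]
  exact Ideal.mul_mem_left _ _ h0

theorem c_le_o (z : ProjectiveSpectrum 𝒜) :
    (c n k z : ↥(SpA n k)) ⤳ (o n k : ↥(SpA n k)) := by
  have h1 : @LE.le (PrimeSpectrum (MvPolynomial (Fin (n + 1)) k)) _ (c n k z) (o n k) :=
    le_irrelevant n k z.asHomogeneousIdeal z.isPrime.ne_top
  exact (PrimeSpectrum.le_iff_specializes _ _).mp h1

theorem c_ne_o (z : ProjectiveSpectrum 𝒜) : c n k z ≠ o n k := by
  intro h
  have h1 : z.asHomogeneousIdeal.toIdeal = (HomogeneousIdeal.irrelevant 𝒜).toIdeal :=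
    congrArg PrimeSpectrum.asIdeal h
  have h2 := HomogeneousIdeal.toIdeal_injective h1
  exact z.not_irrelevant_le h2.ge

theorem isMaximal_o : (o n k).asIdeal.IsMaximal := by
  rw [Ideal.isMaximal_iff]
  refine ⟨?_, ?_⟩
  · intro h1
    have : (1 : MvPolynomial (Fin (n + 1)) k) ∈ HomogeneousIdeal.irrelevant 𝒜 := h1
    rw [HomogeneousIdeal.mem_irrelevant_iff, GradedRing.proj_apply] at this
    have h2 : (DirectSum.decompose 𝒜 (1 : MvPolynomial (Fin (n + 1)) k) 0 :
        MvPolynomial (Fin (n + 1)) k) = 1 := by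
      rw [DirectSum.decompose_of_mem_same 𝒜 (SetLike.GradedOne.one_mem)]
    rw [h2] at this
    exact one_ne_zero this
  · intro J f hJ hf hfJ
    -- `f - f₀ ∈ 𝒜₊ ⊆ J`, so `f₀ ∈ J`, a nonzero constant
    obtain ⟨a, ha⟩ := decompose_zero_mem_range n k f
    have h1 : f - C a ∈ (o n k).asIdeal := by
      show f - C a ∈ HomogeneousIdeal.irrelevant 𝒜
      rw [HomogeneousIdeal.mem_irrelevant_iff, GradedRing.proj_apply, DirectSum.decompose_sub,
        DFinsupp.sub_apply, AddSubgroupClass.coe_sub, ha]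
      have : (DirectSum.decompose 𝒜 (C a : MvPolynomial (Fin (n + 1)) k) 0 :
          MvPolynomial (Fin (n + 1)) k) = C a := by
        rw [DirectSum.decompose_of_mem_same 𝒜 (isHomogeneous_C _ a)]
      rw [this, sub_self]
    have h2 : C a ∈ J := by
      have := J.sub_mem hfJ (hJ h1)
      rwa [sub_sub_cancel] at this
    have ha0 : a ≠ 0 := by
      rintro rfl
      apply hf
      have : f ∈ HomogeneousIdeal.irrelevant 𝒜 := by
        rw [HomogeneousIdeal.mem_irrelevant_iff, GradedRing.proj_apply, ha]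
        simp
      exact this
    have : (C a⁻¹ : MvPolynomial (Fin (n + 1)) k) * C a = 1 := by
      rw [← C_mul, inv_mul_cancel₀ ha0, C_1]
    rw [← this]
    exact Ideal.mul_mem_left _ _ h2

theorem td_o : td (qA n k) (o n k : ↥(SpA n k)) = 0 := by
  set oo : ↥(SpA n k) := o n k with hoo
  have hcl : IsClosed ({oo} : Set ↥(SpA n k)) :=
    (PrimeSpectrum.isClosed_singleton_iff_isMaximal _).mpr (isMaximal_o n k)
  have h1 := dim_closure k (qA n k) oo
  have h3 : closure ({oo} : Set ↥(SpA n k)) = {oo} := hcl.closure_eq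
  rw [h3] at h1
  have h2 : topologicalKrullDim ↥({oo} : Set ↥(SpA n k)) ≤ 0 :=
    topologicalKrullDim_zero_of_discreteTopology _
  rw [h1] at h2
  have : td (qA n k) oo ≤ 0 := by exact_mod_cast h2
  omega

end Groth.Agent.Helper16.ProjCone
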