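import Mathlib
import Groth.Agent.Lib.Helper16.Sch.ProjCone

set_option autoImplicit false
set_option linter.style.haveILetI false
universe u
open CategoryTheory CategoryTheory.Limits AlgebraicGeometry Opposite TopologicalSpace Topology

noncomputable section

namespace Groth.Agent.Helper16.ProjCone

open MvPolynomial HomogeneousLocalization Groth.Agent.Lib.Helper26.ProjChart
open Groth.Agent.Helper14 Groth.Agent.Helper16 Groth.Agent.Helper16.FTDim

variable (n : ℕ) (k : Type u) [Field k]

local notation "𝒜" => CohB1.polyGrading n k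

abbrev PP : Scheme.{u} := CohB1.ProjSpace n k
abbrev qP : PP n k ⟶ Spec (CommRingCat.of k) := CohB1.ProjSpace.toSpec n k

/-- a point of `P^n` as a homogeneous prime. -/
abbrev toPS (z : ↥(PP n k)) : ProjectiveSpectrum 𝒜 := z

theorem le_of_specializes (z z' : ↥(PP n k)) (h : z ⤳ z') : toPS n k z ≤ toPS n k z' := by
  rw [ProjectiveSpectrum.le_iff_mem_closure]
  exact h.mem_closure

theorem specializes_of_le (z z' : ↥(PP n k)) (h : toPS n k z ≤ toPS n k z') : z ⤳ z' := by
  rw [specializes_iff_mem_closure]
  exact (ProjectiveSpectrum.le_iff_mem_closure _ _ _).mp h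

/-- the cone point of `z` has transcendence degree at least one more than `z`. -/
theorem td_cone_ge (z : ↥(PP n k)) :
    td (qP n k) z + 1 ≤ td (qA n k) (c n k (toPS n k z) : ↥(SpA n k)) := by
  classical
  have hdim := dim_closure k (qP n k) z
  set S : Set ↥(PP n k) := closure {z} with hS
  haveI : QuasiSober ↥S := isClosed_closure.isClosedEmbedding_subtypeVal.quasiSober
  have hle : ((td (qP n k) z : ℕ) : WithBot ℕ∞) ≤ Order.krullDim (IrreducibleCloseds ↥S) := by
    rw [← hdim]; rfl
  obtain ⟨l, hl⟩ := Order.le_krullDim_iff.mp hle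
  -- generic points
  have hgp : ∀ W : IrreducibleCloseds ↥S, ∃ g : ↥S, IsGenericPoint g (W : Set ↥S) := fun W =>
    QuasiSober.sober W.isIrreducible W.isClosed
  choose gp hgp' using hgp
  let g : IrreducibleCloseds ↥S → ↥(SpA n k) := fun W => c n k (toPS n k (gp W).1)
  have hstep : ∀ W W' : IrreducibleCloseds ↥S, W < W' →
      td (qA n k) (g W) < td (qA n k) (g W') := by
    intro W W' hlt
    apply td_strict
    · apply c_specializes
      apply le_of_specializes
      have h1 : gp W ∈ (W' : Set ↥S) := hlt.le ((hgp' W).mem)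
      have h2 : gp W' ⤳ gp W := (hgp' W').specializes h1
      exact h2.map continuous_subtype_val
    · intro heq
      have h1 : (gp W').1 = (gp W).1 := c_injective n k heq
      have h2 : gp W' = gp W := Subtype.ext h1
      have h3 : (W : Set ↥S) = (W' : Set ↥S) := by
        rw [← (hgp' W).def, ← (hgp' W').def, h2]
      exact hlt.ne (IrreducibleCloseds.ext h3)
  have hbase : ∀ W : IrreducibleCloseds ↥S, 1 ≤ td (qA n k) (g W) := by
    intro W
    have := td_strict (qA n k) (g W) (o n k : ↥(SpA n k)) (c_le_o n k _) (c_ne_o n k _)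
    omega
  have hind : ∀ m (hm : m < l.length + 1), m + 1 ≤ td (qA n k) (g (l ⟨m, hm⟩)) := by
    intro m
    induction m with
    | zero => intro hm; exact hbase _
    | succ m ih =>
      intro hm
      have h1 := ih (by omega)
      have h2 : l ⟨m, by omega⟩ < l ⟨m + 1, hm⟩ := l.strictMono (by simp [Fin.lt_def])
      have h3 := hstep _ _ h2
      omega
  have hlast := hind l.length (by omega)
  have hz : td (qA n k) (g (l ⟨l.length, by omega⟩)) ≤
      td (qA n k) (c n k (toPS n k z) : ↥(SpA n k)) := by
    apply td_mono
    apply c_specializes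
    apply le_of_specializes
    rw [specializes_iff_mem_closure]
    exact (gp (l ⟨l.length, by omega⟩)).2
  omega

end Groth.Agent.Helper16.ProjCone
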