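import Mathlib
import Groth.Agent.Lib.Helper16.Sch.ProjCone2
import Groth.Agent.Lib.Helper16.Sch.PITSch2
import Groth.Agent.Lib.Helper16.Sch.FTSub

set_option autoImplicit false
set_option linter.style.haveILetI false
universe u
open CategoryTheory CategoryTheory.Limits AlgebraicGeometry Opposite TopologicalSpace Topology

noncomputable section

namespace Groth.Agent.Helper16.ProjCone

open MvPolynomial HomogeneousLocalization Groth.Agent.Lib.Helper26.ProjChart
open Groth.Agent.Helper14 Groth.Agent.Helper16 Groth.Agent.Helper16.FTDim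

variable (n : ℕ) (k : Type u) [Field k]

local notation "𝒜" => CohB1.polyGrading n k

/-- a point of a closed nonempty subset realizing its (finite) dimension. -/
theorem exists_td_eq_dim {T : Scheme.{u}} (q : T ⟶ Spec (CommRingCat.of k))
    [LocallyOfFiniteType q] (S : Set T) (hS : IsClosed S) (hne : S.Nonempty) (r : ℕ)
    (hr : topologicalKrullDim ↥S = r) : ∃ z ∈ S, td q z = r := by
  by_contra hcon
  push Not at hcon
  have hle : ∀ z ∈ S, td q z ≤ r := by
    intro z hz
    have := FTSub.td_le_dim_of_isLocallyClosed k q S hS.isLocallyClosed z hz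
    rw [hr] at this
    exact_mod_cast this
  cases r with
  | zero =>
    obtain ⟨z, hz⟩ := hne
    exact hcon z hz (by have := hle z hz; omega)
  | succ r =>
    have := FTSub.dim_le_of_forall_td_of_isLocallyClosed k q S hS.isLocallyClosed (r : WithBot ℕ∞)
      (fun z hz => by
        have h1 := hle z hz
        have h2 := hcon z hz
        have h3 : td q z ≤ r := by omega
        exact_mod_cast h3)
    rw [hr] at this
    have h4 : r + 1 ≤ r := by exact_mod_cast this
    omega

/-- **projective nonemptiness**: two points of `P^n` whose transcendence degrees add up to at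
least `n` have a common specialization. -/
theorem exists_common_specialization (zX zY : ↥(PP n k))
    (hrs : n ≤ td (qP n k) zX + td (qP n k) zY) :
    ∃ w : ↥(PP n k), zX ⤳ w ∧ zY ⤳ w := by
  set ξX : ↥(SpA n k) := c n k (toPS n k zX) with hξX
  set ξY : ↥(SpA n k) := c n k (toPS n k zY) with hξY
  have h1 := td_cone_ge n k zX
  have h2 := td_cone_ge n k zY
  set oo : ↥(SpA n k) := o n k with hoo
  let F : Set ↥(SpA n k) := closure {ξX} ∩ closure {ξY}
  have hF : IsClosed F := isClosed_closure.inter isClosed_closure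
  have hoF : oo ∈ F := ⟨(c_le_o n k _).mem_closure, (c_le_o n k _).mem_closure⟩
  obtain ⟨ζ, hζF, hζo, hζmax⟩ := PITSch.exists_maximal_generization_mem F hF oo hoF
  have hXζ : ξX ⤳ ζ := specializes_iff_mem_closure.mpr hζF.1
  have hYζ : ξY ⤳ ζ := specializes_iff_mem_closure.mpr hζF.2
  have hcore := M19416.core k (qA n k) (n + 1) (hΔA n k) ξX ξY ζ hXζ hYζ (by
    intro ζ' h3 h4 h5
    exact hζmax ζ' ⟨h3.mem_closure, h4.mem_closure⟩ h5)
  have h1' : td (qP n k) zX + 1 ≤ td (qA n k) ξX := h1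
  have h2' : td (qP n k) zY + 1 ≤ td (qA n k) ξY := h2
  have htdζ : 1 ≤ td (qA n k) ζ := by omega
  have hζne : ζ ≠ oo := by
    intro h
    rw [h, hoo, td_o] at htdζ
    omega
  let ζ' : PrimeSpectrum (MvPolynomial (Fin (n + 1)) k) := ζ
  have hrel : ¬ HomogeneousIdeal.irrelevant 𝒜 ≤ ζ'.asIdeal.homogeneousCore 𝒜 := by
    intro h
    apply hζne
    have h3 : (HomogeneousIdeal.irrelevant 𝒜).toIdeal ≤ ζ'.asIdeal := by
      intro x hx
      exact Ideal.toIdeal_homogeneousCore_le 𝒜 _ (h hx)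
    have h4 : @LE.le (PrimeSpectrum (MvPolynomial (Fin (n + 1)) k)) _ (o n k) ζ' := h3
    have h5 : oo ⤳ ζ := (PrimeSpectrum.le_iff_specializes _ _).mp h4
    exact (hζo.antisymm h5).eq
  let w : ProjectiveSpectrum 𝒜 :=
    ⟨ζ'.asIdeal.homogeneousCore 𝒜, Ideal.IsPrime.homogeneousCore ζ'.isPrime, hrel⟩
  have key : ∀ z : ↥(PP n k), (c n k (toPS n k z) : ↥(SpA n k)) ⤳ ζ → toPS n k z ≤ w := by
    intro z hz
    have h3 : @LE.le (PrimeSpectrum (MvPolynomial (Fin (n + 1)) k)) _ (c n k (toPS n k z)) ζ' :=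
      (PrimeSpectrum.le_iff_specializes _ _).mpr hz
    have h4 : (toPS n k z).asHomogeneousIdeal.toIdeal ≤ ζ'.asIdeal := h3
    show (toPS n k z).asHomogeneousIdeal ≤ ζ'.asIdeal.homogeneousCore 𝒜
    exact (Ideal.homogeneousCore.gc 𝒜 _ _).mp h4
  refine ⟨(w : ↥(PP n k)), specializes_of_le n k zX w (key zX hXζ),
    specializes_of_le n k zY w (key zY hYζ)⟩

theorem main7675 (r s : ℕ)
    (X Y : Set ↥(CohB1.ProjSpace n k)) (hX : IsClosed X) (hY : IsClosed Y)
    (hXne : X.Nonempty) (hYne : Y.Nonempty)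
    (hXr : topologicalKrullDim X = r) (hYs : topologicalKrullDim Y = s) (hrs : n ≤ r + s) :
    (X ∩ Y).Nonempty ∧
      ((r + s : ℕ) : WithBot ℕ∞) ≤ topologicalKrullDim ↥(X ∩ Y) + (n : WithBot ℕ∞) := by
  obtain ⟨zX, hzX, htdX⟩ := exists_td_eq_dim k (qP n k) X hX hXne r hXr
  obtain ⟨zY, hzY, htdY⟩ := exists_td_eq_dim k (qP n k) Y hY hYne s hYs
  obtain ⟨w, hwX, hwY⟩ := exists_common_specialization n k zX zY (by omega)
  have hclX : closure ({zX} : Set ↥(PP n k)) ⊆ X :=
    closure_minimal (Set.singleton_subset_iff.mpr hzX) hX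
  have hclY : closure ({zY} : Set ↥(PP n k)) ⊆ Y :=
    closure_minimal (Set.singleton_subset_iff.mpr hzY) hY
  refine ⟨⟨w, hclX hwX.mem_closure, hclY hwY.mem_closure⟩, ?_⟩
  let F : Set ↥(PP n k) := closure {zX} ∩ closure {zY}
  have hF : IsClosed F := isClosed_closure.inter isClosed_closure
  obtain ⟨ζ, hζF, hζw, hζmax⟩ := PITSch.exists_maximal_generization_mem F hF w
    ⟨hwX.mem_closure, hwY.mem_closure⟩
  have hXζ : zX ⤳ ζ := specializes_iff_mem_closure.mpr hζF.1
  have hYζ : zY ⤳ ζ := specializes_iff_mem_closure.mpr hζF.2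
  have hcore := M19416.core k (qP n k) n (ProjSm.hΔ n k) zX zY ζ hXζ hYζ (by
    intro ζ' h3 h4 h5
    exact hζmax ζ' ⟨h3.mem_closure, h4.mem_closure⟩ h5)
  have hζXY : ζ ∈ X ∩ Y := ⟨hclX hζF.1, hclY hζF.2⟩
  have h1 := FTSub.td_le_dim_of_isLocallyClosed k (qP n k) (X ∩ Y) (hX.inter hY).isLocallyClosed
    ζ hζXY
  have h2 : ((r + s : ℕ) : WithBot ℕ∞) ≤ ((td (qP n k) ζ + n : ℕ) : WithBot ℕ∞) := by
    have : r + s ≤ td (qP n k) ζ + n := by omega
    exact_mod_cast this
  refine h2.trans ?_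
  push_cast
  exact add_le_add_left h1 _

end Groth.Agent.Helper16.ProjCone
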