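import Mathlib
import Groth.Agent.Lib.Helper16.Sch.ModLoci3
import Groth.Agent.Lib.Helper16.Sch.FTDim2

/-!
# Spreading out from the generic fibre: no embedded points (helper16)
-/

set_option autoImplicit false
set_option linter.style.haveILetI false
set_option linter.unusedSectionVars false
universe u

open AlgebraicGeometry CategoryTheory Limits IsLocalRing TopologicalSpace Topology

namespace Groth.Agent.Helper16.ModLoci

/-- a locally constructible subset of an integral Noetherian scheme containing the generic point
contains an open neighbourhood of the generic point. -/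
theorem exists_opens_of_genericPoint_mem {S : Scheme.{u}} [IsIntegral S] [IsNoetherian S]
    {E : Set S} (hE : IsLocallyConstructible E) (h : genericPoint S ∈ E) :
    ∃ U : S.Opens, genericPoint S ∈ U ∧ ∀ s ∈ U, s ∈ E := by
  have hc : IsConstructible E := hE.isConstructible
  obtain ⟨U, hU, hηU, hsub⟩ :=
    Groth.Agent.Helper16.FTDim.exists_open_of_mem_constructible (genericPoint S) hc h
  refine ⟨⟨U, hU⟩, hηU, fun s hs => hsub ⟨hs, ?_⟩⟩
  rw [(genericPoint_spec S).def]
  trivial

/-- **S5872** -/
theorem exists_nhd_noEmbedded {X S : Scheme.{u}} [IsIntegral S] [IsNoetherian S]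
    (f : X ⟶ S) [LocallyOfFiniteType f] [QuasiCompact f]
    (F : X.Modules) (hF : CohB1.IsFP F)
    (hη : AssSch.NoEmbedded ((Scheme.Modules.pullback (f.fiberι (genericPoint S))).obj F)) :
    ∃ U : S.Opens, genericPoint S ∈ U ∧
      ∀ s ∈ U, AssSch.NoEmbedded ((Scheme.Modules.pullback (f.fiberι s)).obj F) := by
  haveI : LocallyOfFinitePresentation f := inferInstance
  exact exists_opens_of_genericPoint_mem (isLocallyConstructible_noEmbedded f F hF) hη

end Groth.Agent.Helper16.ModLoci
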