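import Mathlib
set_option autoImplicit false
set_option linter.style.haveILetI false
open CategoryTheory AlgebraicGeometry Polynomial
universe u

namespace Groth.Agent.Helper16.MonoEt

/-- a standard étale algebra is an open piece of `(R[t]/p)[1/p']` with `p` monic -/
theorem exists_monic_awayDerivative (R A : Type u) [CommRing R] [CommRing A] [Algebra R A]
    [Algebra.IsStandardEtale R A] :
    ∃ (p : R[X]) (_ : p.Monic)
      (ψ : Localization.Away (AdjoinRoot.mk p (derivative p)) →ₐ[R] A),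
      IsOpenImmersion (Spec.map (CommRingCat.ofHom ψ.toRingHom)) := by
  obtain ⟨⟨P⟩⟩ := (inferInstance : Algebra.IsStandardEtale R A)
  let B := AdjoinRoot P.f
  let L := Localization.Away (AdjoinRoot.mk P.f P.g)
  let T := Localization.Away (AdjoinRoot.mk P.f (derivative P.f))
  let x : L := algebraMap B L (AdjoinRoot.root P.f)
  have hx : P.HasMap x := by
    refine ⟨?_, ?_⟩
    · rw [aeval_algebraMap_apply, AdjoinRoot.aeval_eq, AdjoinRoot.mk_self, map_zero]
    · rw [aeval_algebraMap_apply, AdjoinRoot.aeval_eq]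
      exact IsLocalization.Away.algebraMap_isUnit ..
  have hu : IsUnit (algebraMap B L (AdjoinRoot.mk P.f (derivative P.f))) := by
    have := hx.isUnit_derivative_f
    rwa [aeval_algebraMap_apply, AdjoinRoot.aeval_eq] at this
  let θ : T →ₐ[R] L := IsLocalization.Away.liftAlgHom (AdjoinRoot.mk P.f (derivative P.f))
    (f := IsScalarTower.toAlgHom R B L) hu
  let E : L ≃ₐ[R] A := (P.equivRing.trans P.equivAwayAdjoinRoot).symm
  refine ⟨P.f, P.monic_f, E.toAlgHom.comp θ, ?_⟩
  have h1 : Spec.map (CommRingCat.ofHom (E.toAlgHom.comp θ).toRingHom) =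
      Spec.map (CommRingCat.ofHom E.toAlgHom.toRingHom) ≫ Spec.map (CommRingCat.ofHom θ.toRingHom) := by
    rw [← Spec.map_comp]
    rfl
  rw [h1]
  haveI : IsIso (Spec.map (CommRingCat.ofHom E.toAlgHom.toRingHom)) := by
    haveI : IsIso (CommRingCat.ofHom E.toAlgHom.toRingHom) :=
      (ConcreteCategory.isIso_iff_bijective _).mpr E.bijective
    infer_instance
  haveI : IsOpenImmersion (Spec.map (CommRingCat.ofHom θ.toRingHom)) := by
    have h2 : Spec.map (CommRingCat.ofHom θ.toRingHom) ≫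
        Spec.map (CommRingCat.ofHom (algebraMap B T)) =
        Spec.map (CommRingCat.ofHom (algebraMap B L)) := by
      rw [← Spec.map_comp]
      congr 1
      refine CommRingCat.hom_ext (RingHom.ext fun b => ?_)
      show θ (algebraMap B T b) = algebraMap B L b
      rw [IsLocalization.Away.liftAlgHom_apply, IsLocalization.Away.lift_eq]
      rfl
    haveI : IsOpenImmersion (Spec.map (CommRingCat.ofHom θ.toRingHom) ≫
        Spec.map (CommRingCat.ofHom (algebraMap B T))) := by
      rw [h2]; infer_instance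
    exact IsOpenImmersion.of_comp _ (Spec.map (CommRingCat.ofHom (algebraMap B T)))
  infer_instance

/-- ring-level étaleness on affine opens inside an étale neighbourhood -/
theorem etale_appLE_of_nhd {X Y : Scheme.{u}} (φ : X ⟶ Y) (W : X.Opens) [Etale (W.ι ≫ φ)]
    (V : Y.Opens) (hV : IsAffineOpen V) (U : X.Opens) (hU : IsAffineOpen U) (hUW : U ≤ W)
    (e : U ≤ φ ⁻¹ᵁ V) : (φ.appLE V U e).hom.Etale := by
  haveI : Etale (U.ι ≫ φ) := by
    rw [← X.homOfLE_ι hUW, Category.assoc]
    infer_instance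
  have e' : (⊤ : U.toScheme.Opens) ≤ (U.ι ≫ φ) ⁻¹ᵁ V := by
    rintro ⟨y, hy⟩ -
    exact e hy
  haveI : IsAffine U.toScheme := hU
  have h1 := HasRingHomProperty.appLE (P := @Etale) (U.ι ≫ φ) inferInstance ⟨V, hV⟩
    ⟨⊤, isAffineOpen_top U.toScheme⟩ e'
  have e'' : (⊤ : U.toScheme.Opens) ≤ U.ι ⁻¹ᵁ U := by
    rintro ⟨y, hy⟩ -
    exact hy
  have h2 : φ.appLE V U e ≫ U.ι.appLE U ⊤ e'' = (U.ι ≫ φ).appLE V ⊤ e' :=
    Scheme.Hom.appLE_comp_appLE _ _ _ _ _ _ _
  haveI : IsIso (U.ι.appLE U ⊤ e'') := by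
    rw [Scheme.Opens.ι_appLE]
    have hle : U ≤ U.ι ''ᵁ ⊤ := by simp
    have hle' : U.ι ''ᵁ ⊤ ≤ U := by simp
    haveI : IsIso (homOfLE hle') :=
      ⟨homOfLE hle, Subsingleton.elim _ _, Subsingleton.elim _ _⟩
    haveI : IsIso (homOfLE hle').op := inferInstance
    exact Functor.map_isIso X.presheaf (homOfLE hle').op
  rw [← h2] at h1
  exact (RingHom.Etale.respectsIso.cancel_right_isIso _ (U.ι.appLE U ⊤ e'')).mp h1

end Groth.Agent.Helper16.MonoEt
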