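import Mathlib
import Groth.Prelude
import Groth.Agent.Lib.Helper16.Sch.UnrNormSchB
import Groth.Agent.Lib.Helper16.Sch.CurveEt4
import Groth.Agent.Lib.Helper16.Sch.GenSm2
import Groth.Agent.Lib.Helper16.Sch.FTDim7
import Groth.Agent.Lib.Helper16.Sch.FTDim3
import Groth.Agent.Lib.Helper4.DedFlat
set_option autoImplicit false
set_option linter.style.haveILetI false
universe u
open CategoryTheory CategoryTheory.Limits AlgebraicGeometry Opposite TopologicalSpace

namespace Groth.Agent.Helper16.SurfBC

open Groth.Agent.Helper16.FTDim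

variable {X Y Z : Scheme.{u}}

theorem td_eq_zero_of_quasiFiniteAt (f : X ⟶ Y) [LocallyOfFiniteType f] (x : X)
    (h : f.QuasiFiniteAt x) : td f x = 0 := by
  have h1 := (Groth.Agent.Helper15.FibDim.fibreDimAt_eq_zero_iff_quasiFiniteAt f x).mpr h
  rw [FibComp.fibreDimAt_eq_quot_add_td] at h1
  exact UnrNorm.nat_eq_zero_of_add_eq_zero _ _ h1

theorem mem_smoothLocus_comp (a : X ⟶ Y) (b : Y ⟶ Z) [LocallyOfFinitePresentation a]
    [LocallyOfFinitePresentation b] [LocallyOfFinitePresentation (a ≫ b)] (x : X)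
    (ha : x ∈ a.smoothLocus) (hb : a x ∈ b.smoothLocus) : x ∈ (a ≫ b).smoothLocus := by
  rw [Scheme.Hom.mem_smoothLocus] at *
  rw [Scheme.Hom.stalkMap_comp]
  exact RingHom.FormallySmooth.comp hb ha

/-- a quasi-finite morphism between integral curves over a field maps the generic point to the
generic point. -/
theorem map_genericPoint_of_quasiFinite (k : Type u) [Field k] {C C' : Scheme.{u}}
    (qC : C ⟶ Spec (CommRingCat.of k)) (qC' : C' ⟶ Spec (CommRingCat.of k))
    [LocallyOfFiniteType qC] [LocallyOfFiniteType qC'] [IsIntegral C] [IsIntegral C']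
    (n : ℕ) (hdimC : topologicalKrullDim C = n) (hdimC' : topologicalKrullDim C' = n)
    (ψ : C' ⟶ C) (hψq : ψ ≫ qC = qC') [LocallyQuasiFinite ψ] :
    ψ (genericPoint C') = genericPoint C := by
  subst hψq
  haveI : LocallyOfFiniteType ψ := locallyOfFiniteType_of_comp ψ qC
  have h1 : (td (ψ ≫ qC) (genericPoint C') : WithBot ℕ∞) = n := by
    rw [← dim_closure k (ψ ≫ qC) (genericPoint C'), (genericPoint_spec C').def, ← hdimC']
    exact dim_univ C'
  have h2 : td (ψ ≫ qC) (genericPoint C') = n := by exact_mod_cast h1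
  rw [td_comp, td_eq_zero_of_quasiFiniteAt ψ _ (ψ.quasiFiniteAt _), add_zero] at h2
  have h3 : topologicalKrullDim ↥(closure ({ψ (genericPoint C')} : Set C)) = n := by
    rw [dim_closure k qC, h2]
  have h4 : (Set.univ : Set C) ⊆ closure ({ψ (genericPoint C')} : Set C) := by
    refine eq_of_dim_eq (IrreducibleSpace.isIrreducible_univ C) isClosed_closure ?_ n
      ((dim_univ C).trans hdimC) ?_
    · exact ⟨ψ (genericPoint C'), subset_closure rfl, trivial⟩
    · rw [Set.inter_univ, h3]
  have h5 : IsGenericPoint (ψ (genericPoint C')) (Set.univ : Set C) :=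
    Set.Subset.antisymm (Set.subset_univ _) h4
  exact h5.eq (genericPoint_spec C)


theorem eq_genericPoint_of_maximal [IrreducibleSpace X] (ζ : X)
    (h : ∀ ξ : X, ξ ⤳ ζ → ξ = ζ) : ζ = genericPoint X :=
  (h _ ((genericPoint_spec X).specializes trivial)).symm

/-- Base change of a fibred surface along a cover of the base curve which is unramified over the
singular fibres is smooth. -/
theorem main (k : Type u) [Field k] {S C C' : Scheme.{u}}
    (qS : S ⟶ Spec (CommRingCat.of k)) (qC : C ⟶ Spec (CommRingCat.of k))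
    (qC' : C' ⟶ Spec (CommRingCat.of k))
    [Smooth qS] [IsIntegral S]
    [Smooth qC] [IsIntegral C] (hdimC : topologicalKrullDim C = 1)
    [Smooth qC'] [IsIntegral C'] (hdimC' : topologicalKrullDim C' = 1)
    (f : S ⟶ C) (hf : f ≫ qC = qS) [Surjective f]
    (ψ : C' ⟶ C) (hψq : ψ ≫ qC = qC') [IsFinite ψ]
    (hψ : ∀ c : C', ¬ Smooth (f.fiberToSpecResidueField (ψ c)) →
      ∃ U : C'.Opens, c ∈ U ∧ FormallyUnramified (U.ι ≫ ψ)) :
    Smooth (pullback.snd f ψ ≫ qC') := by
  haveI : LocallyOfFinitePresentation f := HomFibCrit.lfp_of_comp f qS qC hf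
  haveI : LocallyOfFinitePresentation ψ := HomFibCrit.lfp_of_comp ψ qC' qC hψq
  have hY : ∀ y : C, IsRegularLocalRing (C.presheaf.stalk y) ∧
      ringKrullDim (C.presheaf.stalk y) ≤ 1 := fun y =>
    ⟨Groth.Agent.Helper4.SmoothRegSch.isRegularLocalRing_stalk k qC y, by
      rw [← hdimC]; exact CurveEt.ringKrullDim_stalk_le y⟩
  have hFlatf : Flat f := Groth.Agent.Helper4.DedFlat.flat_of_maximal_points hY f
    (fun ζ hζ => by
      rw [eq_genericPoint_of_maximal ζ hζ]
      exact GenSm.map_genericPoint_of_isDominant f)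
  have hψgen : ψ (genericPoint C') = genericPoint C :=
    map_genericPoint_of_quasiFinite k qC qC' 1 hdimC hdimC' ψ hψq
  have hFlatψ : Flat ψ := Groth.Agent.Helper4.DedFlat.flat_of_maximal_points hY ψ
    (fun ζ hζ => by
      rw [eq_genericPoint_of_maximal ζ hζ]
      exact hψgen)
  -- the two descriptions of the structure morphism of the fibre product
  have hq : pullback.snd f ψ ≫ qC' = pullback.fst f ψ ≫ qS := by
    rw [← hψq, ← hf, ← Category.assoc, ← Category.assoc, pullback.condition]
  haveI : LocallyOfFinitePresentation (pullback.fst f ψ ≫ qS) := inferInstance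
  haveI : LocallyOfFinitePresentation (pullback.snd f ψ ≫ qC') := inferInstance
  rw [← Scheme.Hom.smoothLocus_eq_top_iff, eq_top_iff]
  intro z _
  by_cases hsm : Smooth (f.fiberToSpecResidueField (ψ (pullback.snd f ψ z)))
  · -- `f` is smooth at the image of `z`
    have e : f (pullback.fst f ψ z) = ψ (pullback.snd f ψ z) := by
      rw [← Scheme.Hom.comp_apply, pullback.condition, Scheme.Hom.comp_apply]
    rw [← e] at hsm
    have hs : pullback.fst f ψ z ∈ f.smoothLocus := by
      haveI : LocallyOfFinitePresentation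
          (f.fiberToSpecResidueField (f (pullback.fst f ψ z))) := inferInstance
      rw [SmoothFibreSch.mem_smoothLocus_iff_flat_and_fiber f (pullback.fst f ψ z)]
      refine ⟨Flat.stalkMap f _, ?_⟩
      rw [Scheme.Hom.smoothLocus_eq_top]
      trivial
    have hz : z ∈ (pullback.snd f ψ).smoothLocus :=
      SmoothLocusBC.preimage_smoothLocus_le (IsPullback.of_hasPullback f ψ) hs
    refine mem_smoothLocus_comp (pullback.snd f ψ) qC' z hz ?_
    rw [Scheme.Hom.smoothLocus_eq_top]
    trivial
  · -- `ψ` is étale at the image of `z`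
    obtain ⟨U, hcU, hU⟩ := CurveEt.exists_etale_nhd_of_flat_of_unrAt ψ (pullback.snd f ψ z)
      (Flat.stalkMap ψ _) (hψ _ hsm)
    have hc : pullback.snd f ψ z ∈ ψ.smoothLocus :=
      (HomFibCrit.exists_smooth_nhd_iff_mem_smoothLocus ψ _).mp ⟨U, hcU, inferInstance⟩
    have hz : z ∈ (pullback.fst f ψ).smoothLocus :=
      SmoothLocusBC.preimage_smoothLocus_le (IsPullback.of_hasPullback f ψ).flip hc
    have hz2 : z ∈ (pullback.fst f ψ ≫ qS).smoothLocus := by
      refine mem_smoothLocus_comp (pullback.fst f ψ) qS z hz ?_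
      rw [Scheme.Hom.smoothLocus_eq_top]
      trivial
    rw [Scheme.Hom.mem_smoothLocus] at hz2 ⊢
    have key : ∀ (a b : pullback f ψ ⟶ Spec (CommRingCat.of k)) (hab : a = b),
        (a.stalkMap z).hom.FormallySmooth → (b.stalkMap z).hom.FormallySmooth := by
      intro a b hab h
      subst hab
      exact h
    exact key _ _ hq.symm hz2

end Groth.Agent.Helper16.SurfBC
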