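import Mathlib
import Groth.Prelude
import Groth.Agent.Lib.Helper16.Sch.FTDim3
import Groth.Agent.Lib.Helper16.Sch.FTDim7
import Groth.Agent.Lib.Helper16.Sch.SurfBC

set_option autoImplicit false
universe u
open CategoryTheory CategoryTheory.Limits AlgebraicGeometry TopologicalSpace

namespace Groth.Agent.Helper16.MovLem

theorem main
    {k : Type u} [Field k] {X Bhat Z : Scheme.{u}}
    (sX : X ⟶ Spec (CommRingCat.of k)) (sB : Bhat ⟶ Spec (CommRingCat.of k))
    [IsAffine X] [LocallyOfFiniteType sX]
    (hXeq : ∀ T ∈ irreducibleComponents (X : Type u), topologicalKrullDim T = topologicalKrullDim X)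
    [IsProper sB]
    (B : Bhat.Opens) (hB : IsAffineOpen B)
    [IsIntegral Z] (ι : Z ⟶ ((pullback.snd sX sB) ⁻¹ᵁ B).toScheme) [IsClosedImmersion ι]
    (hZ : topologicalKrullDim Z = topologicalKrullDim X)
    (j : Z ⟶ pullback sX sB) (hj : j = ι ≫ ((pullback.snd sX sB) ⁻¹ᵁ B).ι) :
    (IsFinite (j ≫ pullback.fst sX sB) ∧
        Set.range (j ≫ pullback.fst sX sB).base ∈ irreducibleComponents (X : Type u)) ↔
      IsClosed (Set.range j.base) := by
  constructor
  · rintro ⟨hfin, -⟩
    haveI : IsProper (j ≫ pullback.fst sX sB) := inferInstance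
    haveI : IsProper j := IsProper.of_comp j (pullback.fst sX sB)
    exact j.isClosedMap.isClosed_range
  · intro hcl
    haveI : IsImmersion j := by rw [hj]; infer_instance
    haveI : IsClosedImmersion j := IsClosedImmersion.of_isPreimmersion j hcl
    set g := j ≫ pullback.fst sX sB with hg
    haveI : IsProper g := by rw [hg]; infer_instance
    haveI : IsAffineHom sX := isAffineHom_of_isAffine sX
    haveI : IsAffineHom (pullback.snd sX sB) :=
      MorphismProperty.pullback_snd (P := @IsAffineHom) sX sB inferInstance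
    have hBaff : IsAffineOpen ((pullback.snd sX sB) ⁻¹ᵁ B) := hB.preimage (pullback.snd sX sB)
    haveI : IsAffine ((pullback.snd sX sB) ⁻¹ᵁ B).toScheme := hBaff
    haveI : IsAffine Z := isAffine_of_isAffineHom ι
    haveI : IsAffineHom g := isAffineHom_of_isAffine g
    have hfin : IsFinite g := IsFinite.iff_isProper_and_isAffineHom.mpr ⟨inferInstance, inferInstance⟩
    refine ⟨hfin, ?_⟩
    haveI : LocallyOfFiniteType (g ≫ sX) := inferInstance
    -- generic point
    set ξ := genericPoint Z with hξ
    have hrange : Set.range g.base = closure {g ξ} := by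
      rw [← Set.image_univ, ← (genericPoint_spec Z).def,
        ← g.isClosedMap.closure_image_eq_of_continuous g.continuous, Set.image_singleton]
    have hdimZ : topologicalKrullDim Z = (FTDim.td (g ≫ sX) ξ : WithBot ℕ∞) := by
      rw [← FTDim.dim_closure k (g ≫ sX) ξ, (genericPoint_spec Z).def, FTDim.dim_univ]
    have htd : FTDim.td (g ≫ sX) ξ = FTDim.td sX (g ξ) := by
      rw [FTDim.td_comp g sX ξ, SurfBC.td_eq_zero_of_quasiFiniteAt g ξ (g.quasiFiniteAt ξ), add_zero]
    have hdimT : topologicalKrullDim (closure ({g ξ} : Set X)) = topologicalKrullDim X := by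
      rw [FTDim.dim_closure k sX (g ξ), ← htd, ← hdimZ, hZ]
    have hXn : topologicalKrullDim X = (FTDim.td (g ≫ sX) ξ : WithBot ℕ∞) := by rw [← hZ, hdimZ]
    -- a component containing T
    obtain ⟨T', hT'irr, hTT', hT'max⟩ := exists_preirreducible (closure ({g ξ} : Set X))
      isIrreducible_singleton.closure.isPreirreducible
    have hT'ne : T'.Nonempty := ⟨g ξ, hTT' (subset_closure rfl)⟩
    have hT'comp : T' ∈ irreducibleComponents (X : Type u) :=
      ⟨⟨hT'ne, hT'irr⟩, fun S hS hle => (hT'max S hS.isPreirreducible hle).subset⟩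
    have hT'dim : topologicalKrullDim T' = (FTDim.td (g ≫ sX) ξ : WithBot ℕ∞) := by
      rw [hXeq T' hT'comp, hXn]
    have hsub : T' ⊆ closure ({g ξ} : Set X) := by
      have hmem : g ξ ∈ closure ({g ξ} : Set X) := subset_closure rfl
      apply FTDim.eq_of_dim_eq (F := T') (C := closure ({g ξ} : Set X)) ⟨hT'ne, hT'irr⟩
        isClosed_closure ⟨g ξ, hmem, hTT' hmem⟩ (FTDim.td (g ≫ sX) ξ) hT'dim
      rw [Set.inter_eq_left.mpr hTT', hdimT, hXn]
    rw [hrange, Set.Subset.antisymm hTT' hsub]
    exact hT'comp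

end Groth.Agent.Helper16.MovLem
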