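import Mathlib
import Groth.Prelude.Def_SGA3x
import Groth.Agent.Lib.Helper16.Sch.CoverTriv
import Groth.Agent.Lib.Helper16.AlgSp.FlatDesc
import Groth.Agent.Lib.Helper10.DSFlat

/-!
# A group of multiplicative type (of finite type) is flat and locally of finite presentation (helper16)
-/

set_option autoImplicit false
set_option linter.style.haveILetI false
set_option linter.unusedSectionVars false
universe u
open CategoryTheory CategoryTheory.Limits AlgebraicGeometry Opposite MonoidalCategory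
  CartesianMonoidalCategory MonObj GrpObj MorphismProperty

noncomputable section

namespace Groth.Agent.Helper16.MultTypeFlat

variable (P : MorphismProperty Scheme.{u})

theorem snd_comp_iff [P.RespectsIso] {X S T T' : Scheme.{u}} (h : X ⟶ S) (a : T ⟶ S)
    (b : T' ⟶ T) : P (pullback.snd h (b ≫ a)) ↔ P (pullback.snd (pullback.snd h a) b) := by
  rw [← pullbackLeftPullbackSndIso_hom_snd h a b, P.cancel_left_of_respectsIso]

theorem restrict_iff [P.RespectsIso] {X Y : Scheme.{u}} (f : X ⟶ Y) (U : Y.Opens) :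
    P (f ∣_ U) ↔ P (pullback.snd f U.ι) := by
  unfold morphismRestrict
  exact P.cancel_left_of_respectsIso _ _

theorem snd_comp_of_snd [P.IsStableUnderBaseChange] {X S T T' : Scheme.{u}} (h : X ⟶ S)
    (a : T ⟶ S) (b : T' ⟶ T) (H : P (pullback.snd h a)) : P (pullback.snd h (b ≫ a)) := by
  rw [snd_comp_iff P h a b]
  exact P.pullback_snd _ _ H

theorem snd_of_snd_comp [P.RespectsIso]
    [P.DescendsAlong (@Surjective ⊓ @Flat ⊓ @QuasiCompact)] {X S T T' : Scheme.{u}} (h : X ⟶ S)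
    (a : T ⟶ S) (b : T' ⟶ T) (hb : Surjective b ∧ Flat b ∧ QuasiCompact b)
    (H : P (pullback.snd h (b ≫ a))) : P (pullback.snd h a) := by
  rw [snd_comp_iff P h a b] at H
  exact MorphismProperty.of_pullback_snd_of_descendsAlong
    (Q := @Surjective ⊓ @Flat ⊓ @QuasiCompact) (f := pullback.snd h a) (g := b)
    ⟨⟨hb.1, hb.2.1⟩, hb.2.2⟩ H

theorem snd_of_local [IsZariskiLocalAtTarget P] {X S T : Scheme.{u}} (h : X ⟶ S) (a : T ⟶ S)
    {J : Type*} (U : J → T.Opens) (hU : iSup U = ⊤)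
    (H : ∀ i, P (pullback.snd h ((U i).ι ≫ a))) : P (pullback.snd h a) := by
  apply IsZariskiLocalAtTarget.of_iSup_eq_top U hU
  intro i
  rw [restrict_iff P, ← snd_comp_iff P h a (U i).ι]
  exact H i

theorem of_snd_id [P.RespectsIso] {X S : Scheme.{u}} (h : X ⟶ S)
    (H : P (pullback.snd h (𝟙 S))) : P h := by
  have e : pullback.snd h (𝟙 S) = pullback.fst h (𝟙 S) ≫ h := by
    rw [pullback.condition, Category.comp_id]
  rw [e, P.cancel_left_of_respectsIso] at H
  exact H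

/-- general principle: a property which is Zariski-local on the target, stable under base change and
descends along fpqc coverings, and holds for all `D_U(M)` (`M` finitely generated), holds for
groups of multiplicative type of finite type -/
theorem prop_of_isMultTypeFT [IsZariskiLocalAtTarget P] [P.IsStableUnderBaseChange]
    [P.DescendsAlong (@Surjective ⊓ @Flat ⊓ @QuasiCompact)]
    (hDS : ∀ (U : Scheme.{u}) (M : Type) [AddCommGroup M], AddGroup.FG M → P (Red.DS U M).hom)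
    {S : Scheme.{u}} (H : Over S) [GrpObj H] (hH : SGA3x.IsMultTypeFT H) : P H.hom := by
  obtain ⟨S', f, hfl, hsurj, hqc, hloc⟩ := hH
  apply of_snd_id
  refine snd_of_local P H.hom (𝟙 S) (fun V : S.affineOpens => V.1) (iSup_affineOpens_eq_top S) ?_
  intro V
  obtain ⟨W, hWc, hW⟩ := hqc V.1 V.2
  obtain ⟨q, hq, hqfl, hqs, hqqc⟩ :=
    Groth.Agent.Helper16.CoverTriv.exists_lift f V.1 V.2 W hWc hW
  rw [Category.comp_id]
  refine snd_of_snd_comp P H.hom V.1.ι q ⟨hqs, hqfl, hqqc⟩ ?_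
  rw [hq]
  choose U hU hUM using hloc
  refine snd_of_local P H.hom (W.ι ≫ f) (fun w : W.toScheme => W.ι ⁻¹ᵁ (U (W.ι.base w))) ?_ ?_
  · exact eq_top_iff.mpr fun x _ => TopologicalSpace.Opens.mem_iSup.mpr ⟨x, hU _⟩
  · intro w
    obtain ⟨M, iM, hM, ⟨e⟩⟩ := hUM (W.ι.base w)
    set U₀ := U (W.ι.base w) with hU₀
    have hr : Set.range ((W.ι ⁻¹ᵁ U₀).ι ≫ W.ι).base ⊆ Set.range U₀.ι.base := by
      rintro _ ⟨b, rfl⟩
      rw [Scheme.Opens.range_ι]
      exact b.2
    let π : (W.ι ⁻¹ᵁ U₀).toScheme ⟶ U₀.toScheme :=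
      IsOpenImmersion.lift U₀.ι ((W.ι ⁻¹ᵁ U₀).ι ≫ W.ι) hr
    have hπ : π ≫ U₀.ι = (W.ι ⁻¹ᵁ U₀).ι ≫ W.ι := IsOpenImmersion.lift_fac _ _ _
    have e1 : (W.ι ⁻¹ᵁ U₀).ι ≫ W.ι ≫ f = π ≫ (U₀.ι ≫ f) := by
      rw [← Category.assoc, ← hπ, Category.assoc]
    rw [e1]
    refine snd_comp_of_snd P H.hom (U₀.ι ≫ f) π ?_
    -- `pullback.snd H.hom (U₀.ι ≫ f)` is the structure map of `Red.bc (U₀.ι ≫ f) H ≅ D_{U₀}(M)`
    have i : Red.bc (U₀.ι ≫ f) H ≅ Red.DS U₀.toScheme M := (Grp.forget _).mapIso e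
    let j : (Red.bc (U₀.ι ≫ f) H).left ≅ (Red.DS U₀.toScheme M).left :=
      (CategoryTheory.Over.forget _).mapIso i
    have hw : j.hom ≫ (Red.DS U₀.toScheme M).hom = (Red.bc (U₀.ι ≫ f) H).hom :=
      CategoryTheory.Over.w i.hom
    have h2 : P (Red.bc (U₀.ι ≫ f) H).hom := by
      rw [← hw]
      exact (P.cancel_left_of_respectsIso j.hom _).mpr (hDS _ M hM)
    exact h2

/-- (FLF) -/
theorem flat_lfp_of_isMultTypeFT {S : Scheme.{u}} (H : Over S) [GrpObj H]
    (hH : SGA3x.IsMultTypeFT H) : Flat H.hom ∧ LocallyOfFinitePresentation H.hom := by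
  haveI := Groth.Agent.Helper16.AS.flat_descendsAlong_fpqc.{u}
  constructor
  · exact prop_of_isMultTypeFT @Flat
      (fun U M _ hM => (Groth.Agent.Helper10.DSFlat.flat_lfp_DS U M hM).1) H hH
  · exact prop_of_isMultTypeFT @LocallyOfFinitePresentation
      (fun U M _ hM => (Groth.Agent.Helper10.DSFlat.flat_lfp_DS U M hM).2) H hH

end Groth.Agent.Helper16.MultTypeFlat
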