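import Mathlib
import Groth.Agent.S5022
import Groth.Agent.Lib.Helper16.Sch.GeomRk2
import Groth.Agent.Lib.Helper16.Sch.FTDim7
import Groth.Agent.Lib.Helper14.EquidimAt
import Groth.Agent.Lib.Helper14.RegSmooth
import Groth.Agent.Lib.Helper12.FieldSm
import Groth.Agent.Lib.Helper12.TanK
import Groth.Agent.Lib.Helper9.SepFS

set_option autoImplicit false
set_option linter.style.haveILetI false
universe u

open CategoryTheory AlgebraicGeometry IsLocalRing

namespace Groth.Agent.Helper16.NonsingOmega

open Groth.Agent.Helper16.FTDim Groth.Agent.Helper14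

variable (k : Type u) [Field k] {X : Scheme.{u}}

/-- the local dimension of an irreducible scheme locally of finite type over a field is its
dimension, at every point. -/
theorem fibreDimAt_eq_dim (q : X ⟶ Spec (CommRingCat.of k)) [LocallyOfFiniteType q]
    [IrreducibleSpace ↥X] (n : ℕ) (hn : topologicalKrullDim ↥X = (n : WithBot ℕ∞)) (x : X) :
    FlatMor.fibreDimAt q x = (n : WithBot ℕ∞) := by
  obtain ⟨z, m, hzx, -, hmax, htr, hdim⟩ := EquidimAt.exists_maximal_trdeg_eq_fibreDimAt q x
  have hξz : genericPoint X ⤳ z := genericPoint_specializes z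
  haveI : Subsingleton (PrimeSpectrum k) := inferInstance
  have h1 : genericPoint X = z :=
    hmax _ (Subsingleton.elim (α := PrimeSpectrum k) _ _) hξz
  have h2 := dim_closure k q z
  rw [← h1, (genericPoint_spec X).def, h1] at h2
  have h3 : topologicalKrullDim ↥(Set.univ : Set X) = topologicalKrullDim ↥X := dim_univ X
  rw [h3, hn, td_eq q z m htr] at h2
  rw [hdim, ← h2]

/-- over a perfect field, a point with regular local ring is a smooth point. -/
theorem mem_smoothLocus_of_regular [PerfectField k] (q : X ⟶ Spec (CommRingCat.of k))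
    [LocallyOfFiniteType q] (x : X) (hreg : IsRegularLocalRing (X.presheaf.stalk x)) :
    x ∈ q.smoothLocus := by
  haveI : LocallyOfFinitePresentation q := Groth.Agent.Helper12.FieldSm.lfp q
  obtain ⟨_, ⟨V, hV, rfl⟩, hxV, -⟩ :=
    X.isBasis_affineOpens.exists_subset_of_mem_open (Set.mem_univ x) isOpen_univ
  have hV' : IsAffineOpen V := hV
  letI := (Groth.Agent.Helper12.FieldSm.secHom q V).toAlgebra
  rw [Groth.Agent.Helper12.FieldSm.mem_smoothLocus_iff_isSmoothAt q V hV' x hxV]
  haveI : Algebra.FiniteType k Γ(X, V) := Groth.Agent.Helper12.FieldSm.finiteType_secHom q V hV'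
  haveI : (hV'.primeIdealOf ⟨x, hxV⟩).asIdeal.IsPrime := (hV'.primeIdealOf ⟨x, hxV⟩).isPrime
  haveI : Algebra.IsGeometricallyReduced k (hV'.primeIdealOf ⟨x, hxV⟩).asIdeal.ResidueField :=
    Groth.Agent.Helper9.SepFS.isGeometricallyReduced_of_perfectField
  haveI : IsRegularLocalRing (Localization.AtPrime (hV'.primeIdealOf ⟨x, hxV⟩).asIdeal) := by
    letI := X.presheaf.algebra_section_stalk (⟨x, hxV⟩ : V)
    haveI := hV'.isLocalization_stalk ⟨x, hxV⟩
    exact IsRegularLocalRing.of_ringEquiv
      (IsLocalization.algEquiv (hV'.primeIdealOf ⟨x, hxV⟩).asIdeal.primeCompl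
        (X.presheaf.stalk x) (Localization.AtPrime (hV'.primeIdealOf ⟨x, hxV⟩).asIdeal)).toRingEquiv
  exact RegSmooth.isSmoothAt_of_regular k Γ(X, V) (hV'.primeIdealOf ⟨x, hxV⟩).asIdeal

/-- **Nonsingularity via differentials** over an algebraically closed field. -/
theorem main [PerfectField k] (n : ℕ) (q : X ⟶ Spec (CommRingCat.of k)) [LocallyOfFiniteType q]
    [IrreducibleSpace ↥X] (hn : topologicalKrullDim ↥X = (n : WithBot ℕ∞))
    (Ω : X.Modules) (d : OmegaSh.Der q Ω) (hd : OmegaSh.IsUniversal d) :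
    FlatMod.IsFinLocFreeOfRank n Ω ↔ ∀ x : ↥X, IsRegularLocalRing ↑(X.presheaf.stalk x) := by
  haveI : LocallyOfFinitePresentation q := Groth.Agent.Helper12.FieldSm.lfp q
  haveI : Flat q := Groth.Agent.Helper12.Tan.flat_over_field q
  constructor
  · intro hΩ x
    obtain ⟨U, hxU, hU⟩ := hΩ x
    have hx : x ∈ q.smoothLocus :=
      (Groth.Agent.S5022.result q Ω d hd x).mpr
        ⟨Flat.stalkMap q x, U, n, hxU, hU, fibreDimAt_eq_dim k q n hn x⟩
    exact Groth.Agent.Helper16.GeomRk.isRegularLocalRing_stalk_of_mem_smoothLocus q x hx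
  · intro hreg x
    have hx : x ∈ q.smoothLocus := mem_smoothLocus_of_regular k q x (hreg x)
    obtain ⟨-, U, n', hxU, hU, hdim⟩ := (Groth.Agent.S5022.result q Ω d hd x).mp hx
    rw [fibreDimAt_eq_dim k q n hn x] at hdim
    have : n = n' := by exact_mod_cast hdim
    subst this
    exact ⟨U, hxU, hU⟩

end Groth.Agent.Helper16.NonsingOmega
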