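import Mathlib
import Groth.Prelude.Def_Pi1

set_option autoImplicit false
universe u
open CategoryTheory AlgebraicGeometry TopologicalSpace

namespace Groth.Agent.Helper16.Norm

/-- Algebra lemma: if `A_q` is an integrally closed domain and `p ≤ q`, then so is `A_p`. -/
theorem isDomain_isIntegrallyClosed_of_le {A : Type*} [CommRing A] (p q : Ideal A) [p.IsPrime]
    [q.IsPrime] (hpq : p ≤ q) (Sq Sp : Type*) [CommRing Sq] [CommRing Sp] [Algebra A Sq]
    [Algebra A Sp] [IsLocalization.AtPrime Sq q] [IsLocalization.AtPrime Sp p]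
    [IsDomain Sq] [IsIntegrallyClosed Sq] : IsDomain Sp ∧ IsIntegrallyClosed Sp := by
  have hle : q.primeCompl ≤ p.primeCompl := fun a ha hap => ha (hpq hap)
  letI : Algebra Sq Sp := IsLocalization.localizationAlgebraOfSubmonoidLe Sq Sp _ _ hle
  haveI : IsScalarTower A Sq Sp :=
    IsLocalization.localization_isScalarTower_of_submonoid_le Sq Sp _ _ hle
  haveI : IsLocalization (p.primeCompl.map (algebraMap A Sq)) Sp :=
    IsLocalization.isLocalization_of_submonoid_le Sq Sp _ _ hle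
  haveI : Nontrivial Sp := (IsLocalization.AtPrime.isLocalRing Sp p).toNontrivial
  have hM : p.primeCompl.map (algebraMap A Sq) ≤ nonZeroDivisors Sq := by
    rintro _ ⟨a, ha, rfl⟩
    rw [mem_nonZeroDivisors_iff_ne_zero]
    intro h0
    have h1 : algebraMap A Sp a = 0 := by
      rw [IsScalarTower.algebraMap_apply A Sq Sp, h0, map_zero]
    have h2 : IsUnit (algebraMap A Sp a) := IsLocalization.map_units Sp ⟨a, ha⟩
    rw [h1] at h2
    exact not_isUnit_zero h2
  haveI : IsDomain Sp := IsLocalization.isDomain_of_le_nonZeroDivisors (R := Sq) Sp hM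
  exact ⟨inferInstance, isIntegrallyClosed_of_isLocalization Sp _ hM⟩

theorem isNormalScheme_of_closedPoints (X : Scheme.{u}) [CompactSpace ↥X]
    (h : ∀ x : X, IsClosed ({x} : Set X) →
      IsDomain (X.presheaf.stalk x) ∧ IsIntegrallyClosed (X.presheaf.stalk x)) :
    Pi1.IsNormalScheme X := by
  intro x
  obtain ⟨y, hy, hycl⟩ := (isClosed_closure (s := ({x} : Set X))).exists_closed_singleton
    ⟨x, subset_closure rfl⟩
  have hxy : x ⤳ y := specializes_iff_mem_closure.2 hy
  obtain ⟨hdom, hic⟩ := h y hycl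
  obtain ⟨_, ⟨U, hU, rfl⟩, hyU, -⟩ :=
    X.isBasis_affineOpens.exists_subset_of_mem_open (Set.mem_univ y) isOpen_univ
  have hxU : x ∈ U := hxy.mem_open U.isOpen hyU
  have hsp : (⟨x, hxU⟩ : U) ⤳ ⟨y, hyU⟩ := (subtype_specializes_iff _ _).2 hxy
  have hsp' : hU.primeIdealOf ⟨x, hxU⟩ ⤳ hU.primeIdealOf ⟨y, hyU⟩ :=
    hsp.map hU.isoSpec.hom.continuous
  have hle : (hU.primeIdealOf ⟨x, hxU⟩).asIdeal ≤ (hU.primeIdealOf ⟨y, hyU⟩).asIdeal :=
    (PrimeSpectrum.le_iff_specializes _ _).2 hsp'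
  letI := X.presheaf.algebra_section_stalk ⟨x, hxU⟩
  letI := X.presheaf.algebra_section_stalk ⟨y, hyU⟩
  haveI := hU.isLocalization_stalk ⟨x, hxU⟩
  haveI := hU.isLocalization_stalk ⟨y, hyU⟩
  exact isDomain_isIntegrallyClosed_of_le _ _ hle (X.presheaf.stalk y) (X.presheaf.stalk x)

end Groth.Agent.Helper16.Norm
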