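import Mathlib
import Groth.Agent.Lib.Helper13.RpushCoh2
import Groth.Agent.Lib.Helper13.CohRoof
import Groth.Agent.Lib.Helper13.FinType

universe u
set_option linter.unusedSectionVars false
open CategoryTheory CategoryTheory.Limits Opposite TopologicalSpace AlgebraicGeometry

namespace Groth.Agent.Helper16.NormFin

open Groth.Agent.Helper13.FinProj

set_option maxHeartbeats 1600000 in
/-- For a proper morphism to a locally Noetherian scheme, the sections of `O_X` over the preimage of
an affine open form a finite module. -/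
theorem finite_app_of_isProper {X S : Scheme.{u}} (f : X ⟶ S) [IsProper f]
    [IsLocallyNoetherian S] (V : S.Opens) (hV : IsAffineOpen V) :
    (f.app V).hom.Finite := by
  haveI : IsNoetherianRing Γ(S, V) := IsLocallyNoetherian.component_noetherian ⟨V, hV⟩
  let T : Scheme.{u} := ((f ⁻¹ᵁ V : X.Opens) : Scheme.{u})
  let q : T ⟶ Spec (CommRingCat.of Γ(S, V)) := (f ∣_ V) ≫ V.toSpecΓ
  letI : T.Over (Spec (CommRingCat.of Γ(S, V))) := ⟨q⟩
  haveI : IsProper (f ∣_ V) := IsZariskiLocalAtTarget.restrict ‹IsProper f› V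
  haveI : IsIso V.toSpecΓ := by rw [← hV.isoSpec_hom]; infer_instance
  haveI : IsProper (T ↘ Spec (CommRingCat.of Γ(S, V))) := by
    show IsProper ((f ∣_ V) ≫ V.toSpecΓ)
    infer_instance
  let M : X.Modules := Coh.structureModule X
  have hM : Coh.IsCoh M := Groth.Agent.Helper13.CohRoof.isCoh_structureModule X
  haveI := hM.1
  haveI := hM.2
  have hM' : Coh.IsCoh (M.restrict (f ⁻¹ᵁ V).ι) :=
    ⟨inferInstance, Groth.Agent.Helper13.FinType.isFiniteType_restrict (f ⁻¹ᵁ V).ι M⟩
  haveI fin := finite_HH_of_isProper Γ(S, V) T (M.restrict (f ⁻¹ᵁ V).ι) hM' 0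
  letI alg : Algebra Γ(S, V) Γ(X, f ⁻¹ᵁ V) := (f.app V).hom.toAlgebra
  show Module.Finite Γ(S, V) Γ(X, f ⁻¹ᵁ V)
  let L : Γ(X, f ⁻¹ᵁ V) →ₗ[Γ(S, V)] Coh.HH T (M.restrict (f ⁻¹ᵁ V).ι) 0 :=
    { toFun := fun s => CohPull.sectH0 M (f ⁻¹ᵁ V) s
      map_add' := fun x y => map_add (CohPull.sectH0 M (f ⁻¹ᵁ V)) x y
      map_smul' := fun a s => by
        show CohPull.sectH0 M (f ⁻¹ᵁ V) ((f.app V).hom a * s) =
          Sheaf.H.map (Coh.smulAb _ (Coh.toGlobal q a)) 0 (CohPull.sectH0 M (f ⁻¹ᵁ V) s)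
        rw [toGlobal_restrict f V a]
        exact sectH0_smul M (f ⁻¹ᵁ V) ((f.app V).hom a) s }
  exact Module.Finite.of_injective L (CohPull.sectH0 M (f ⁻¹ᵁ V)).injective

/-- The integral closure of `Γ(S, V)` in `Γ(X, f⁻¹V)` is a finite module. -/
theorem finite_integralClosure {X S : Scheme.{u}} (f : X ⟶ S) [IsProper f]
    [IsLocallyNoetherian S] (V : S.Opens) (hV : IsAffineOpen V) :
    letI := (f.app V).hom.toAlgebra
    Module.Finite Γ(S, V) (integralClosure Γ(S, V) Γ(X, f ⁻¹ᵁ V)) := by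
  letI := (f.app V).hom.toAlgebra
  haveI : IsNoetherianRing Γ(S, V) := IsLocallyNoetherian.component_noetherian ⟨V, hV⟩
  haveI : Module.Finite Γ(S, V) Γ(X, f ⁻¹ᵁ V) := finite_app_of_isProper f V hV
  exact Module.Finite.of_injective (integralClosure Γ(S, V) Γ(X, f ⁻¹ᵁ V)).val.toLinearMap
    Subtype.val_injective

theorem main {X S : Scheme.{u}} (f : X ⟶ S) [IsProper f] [IsLocallyNoetherian S] :
    IsFinite f.fromNormalization := by
  haveI : IsAffineHom f.fromNormalization := inferInstance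
  refine ⟨fun U hU => ?_⟩
  rw [Scheme.Hom.fromNormalization_app f hU, CommRingCat.hom_comp]
  letI := (f.app U).hom.toAlgebra
  haveI := finite_integralClosure f U hU
  refine RingHom.Finite.comp ?_ ?_
  · exact RingHom.Finite.of_surjective _
      (ConcreteCategory.bijective_of_isIso (f.normalizationObjIso hU).inv).2
  · exact RingHom.finite_algebraMap.mpr inferInstance

end Groth.Agent.Helper16.NormFin
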