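import Mathlib
import Groth.Agent.Lib.Helper18.OmegaStalk

set_option autoImplicit false
set_option linter.style.haveILetI false
universe u
open CategoryTheory CategoryTheory.Limits AlgebraicGeometry TensorProduct TopologicalSpace
open Groth.Agent.Helper13.EffCartier Groth.Agent.Helper13.Pullback Groth.Agent.Helper13.QCohLoc
open Groth.Agent.Helper18.OmegaSec

namespace Groth.Agent.Helper16.OmegaStalkEquiv

variable {X S : Scheme.{u}} (f : X ⟶ S) [QuasiSeparated f]

/-- the stalk of `Ω_{X/S}` at a point of an affine chart is the module of differentials of the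
local ring over the sections on the base chart. -/
theorem nonempty_linearEquiv_stalk {U : X.Opens} {V : S.Opens} (hU : IsAffineOpen U)
    (hV : IsAffineOpen V) (e : U ≤ f ⁻¹ᵁ V) (x : U) :
    letI := algUV f e
    letI : Algebra Γ(S, V) (X.presheaf.stalk (x : X)) :=
      ((algebraMap Γ(X, U) (X.presheaf.stalk (x : X))).comp (algebraMap Γ(S, V) Γ(X, U))).toAlgebra
    Nonempty ((Omega.sheaf f).presheaf.stalk (x : X) ≃ₗ[X.presheaf.stalk (x : X)]
      Ω[X.presheaf.stalk (x : X)⁄Γ(S, V)]) := by
  letI := algUV f e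
  letI : Algebra Γ(S, V) (X.presheaf.stalk (x : X)) :=
    ((algebraMap Γ(X, U) (X.presheaf.stalk (x : X))).comp (algebraMap Γ(S, V) Γ(X, U))).toAlgebra
  haveI : IsScalarTower Γ(S, V) Γ(X, U) (X.presheaf.stalk (x : X)) :=
    IsScalarTower.of_algebraMap_eq (fun _ => rfl)
  letI := modStalk (Omega.sheaf f) x
  haveI := isScalarTower_stalk (Omega.sheaf f) x
  haveI hloc := hU.isLocalization_stalk x
  have h1 : IsLocalizedModule (hU.primeIdealOf x).asIdeal.primeCompl
      (germLin (Omega.sheaf f) x) := isLocalizedModule_germ (Omega.sheaf f) hU x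
  have h2 : IsLocalizedModule (hU.primeIdealOf x).asIdeal.primeCompl
      ((germLin (Omega.sheaf f) x).comp (omegaSections f hU hV e).symm.toLinearMap) :=
    IsLocalizedModule.of_linearEquiv_right _ _ _
  have h3 : IsLocalizedModule (hU.primeIdealOf x).asIdeal.primeCompl
      (KaehlerDifferential.map Γ(S, V) Γ(S, V) Γ(X, U) (X.presheaf.stalk (x : X))) :=
    KaehlerDifferential.isLocalizedModule_map _ _ _ _
  exact ⟨(IsLocalizedModule.linearEquiv (hU.primeIdealOf x).asIdeal.primeCompl
    ((germLin (Omega.sheaf f) x).comp (omegaSections f hU hV e).symm.toLinearMap)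
    (KaehlerDifferential.map Γ(S, V) Γ(S, V) Γ(X, U)
      (X.presheaf.stalk (x : X)))).extendScalarsOfIsLocalization
        (hU.primeIdealOf x).asIdeal.primeCompl (X.presheaf.stalk (x : X))⟩

/-- restated with explicit instances -/
theorem nonempty_linearEquiv_stalk' {U : X.Opens} {V : S.Opens} (hU : IsAffineOpen U)
    (hV : IsAffineOpen V) (e : U ≤ f ⁻¹ᵁ V) (x : X) (hxU : x ∈ U) :
    Nonempty ((Omega.sheaf f).presheaf.stalk x ≃ₗ[X.presheaf.stalk x]
      @KaehlerDifferential Γ(S, V) (X.presheaf.stalk x) _ _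
        ((X.presheaf.germ U x hxU).hom.comp (f.appLE V U e).hom).toAlgebra) :=
  nonempty_linearEquiv_stalk f hU hV e ⟨x, hxU⟩

end Groth.Agent.Helper16.OmegaStalkEquiv
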