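import Mathlib
import Groth.Prelude.Def_FixPt
import Groth.Agent.Lib.Helper16.Alg.OmegaCot3
import Groth.Agent.Lib.Helper16.Sch.OmegaStalkEquiv
import Groth.Agent.Lib.Helper16.Sch.CotSmoothSch5
import Groth.Agent.Lib.Helper14.DimFun

set_option autoImplicit false
set_option linter.style.haveILetI false
set_option linter.unusedSectionVars false
universe u

open CategoryTheory AlgebraicGeometry IsLocalRing KaehlerDifferential

namespace Groth.Agent.Helper16.OmegaFibDim

open Groth.Agent.Helper16.FTDim Groth.Agent.Helper16.CotSmoothSch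
open Groth.Agent.Helper14

variable (k : Type u) [Field k] {X Y : Scheme.{u}}

theorem secAlg_comp (qX : X ⟶ Spec (CommRingCat.of k)) (qY : Y ⟶ Spec (CommRingCat.of k))
    (f : X ⟶ Y) (hf : f ≫ qY = qX) (U : X.Opens) (V : Y.Opens) (e : U ≤ f ⁻¹ᵁ V) :
    secAlg k qX U = (f.appLE V U e).hom.comp (secAlg k qY V) := by
  subst hf
  ext a
  simp only [secAlg, RingHom.comp_apply]
  have h1 : (f ≫ qY).appLE ⊤ U le_top = qY.appLE ⊤ V le_top ≫ f.appLE V U e :=
    (Scheme.Hom.appLE_comp_appLE f qY ⊤ V U le_top e).symm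
  rw [h1, CommRingCat.hom_comp, RingHom.comp_apply]

theorem main [IsAlgClosed k] (qX : X ⟶ Spec (CommRingCat.of k)) (qY : Y ⟶ Spec (CommRingCat.of k))
    [LocallyOfFiniteType qX] (f : X ⟶ Y) (hf : f ≫ qY = qX)
    (x : X) (hx : IsClosed ({x} : Set X)) (Z : Set X) (hZ : IsIrreducible Z) (hZc : IsClosed Z)
    (hxZ : x ∈ Z) (hZf : Z ⊆ f ⁻¹' {f x}) (r : ℕ)
    (hr : topologicalKrullDim ↥Z = (r : WithBot ℕ∞))
    (ι : k →+* X.presheaf.stalk x) (hι : ι = stalkAlg k qX x) :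
    r ≤ @Module.finrank k (FixPt.fiber (Omega.sheaf f) x) _ _ (Module.compHom _ ι) := by
  subst hι
  haveI : IsLocallyNoetherian X := LocallyOfFiniteType.isLocallyNoetherian qX
  haveI : QuasiSeparated f := inferInstance
  haveI : LocallyOfFiniteType f := by
    haveI : LocallyOfFiniteType (f ≫ qY) := by rw [hf]; infer_instance
    exact locallyOfFiniteType_of_comp f qY
  -- generic point
  obtain ⟨η, hη⟩ := QuasiSober.sober hZ hZc
  have hηZ : closure ({η} : Set X) = Z := hη.def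
  have hηx : η ⤳ x := specializes_iff_mem_closure.mpr (by rw [hηZ]; exact hxZ)
  have hfη : f η = f x := hZf hη.mem
  -- charts
  obtain ⟨V, hV, hyV, -⟩ := exists_isAffineOpen_mem_and_subset (x := f x)
    (U := (⊤ : Y.Opens)) trivial
  obtain ⟨U, hU, hxU, e⟩ := exists_isAffineOpen_mem_and_subset (x := x) (U := f ⁻¹ᵁ V) hyV
  have hηU : η ∈ U := hηx.mem_open U.isOpen hxU
  haveI : IsNoetherianRing Γ(X, U) := IsLocallyNoetherian.component_noetherian ⟨U, hU⟩
  -- dimension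
  obtain ⟨n, hn, hδ⟩ := DimFun.delta_eq_add_height_sch (DimClosure.trdegFun qX)
    (DimClosure.isDimFun_trdegFun k qX) hU η x hηU hxU hηx
  have hnr : n = r := by
    rw [trdegFun_eq_td, trdegFun_eq_td, td_eq_zero_of_isClosed k qX x hx] at hδ
    have h1 := dim_closure k qX η
    rw [hηZ, hr] at h1
    have h2 : r = td qX η := by exact_mod_cast h1
    omega
  subst hnr
  -- algebra instances
  letI iAB : Algebra Γ(Y, V) Γ(X, U) := Groth.Agent.Helper18.OmegaSec.algUV f e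
  letI iBR : Algebra Γ(X, U) (X.presheaf.stalk x) := (X.presheaf.germ U x hxU).hom.toAlgebra
  letI iAR : Algebra Γ(Y, V) (X.presheaf.stalk x) :=
    ((X.presheaf.germ U x hxU).hom.comp (f.appLE V U e).hom).toAlgebra
  letI ikA : Algebra k Γ(Y, V) := (secAlg k qY V).toAlgebra
  letI ikR : Algebra k (X.presheaf.stalk x) := (stalkAlg k qX x).toAlgebra
  haveI : IsScalarTower Γ(Y, V) Γ(X, U) (X.presheaf.stalk x) :=
    IsScalarTower.of_algebraMap_eq (fun _ => rfl)
  haveI : IsScalarTower k Γ(Y, V) (X.presheaf.stalk x) := by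
    refine IsScalarTower.of_algebraMap_eq (fun c => ?_)
    change stalkAlg k qX x c = (X.presheaf.germ U x hxU).hom ((f.appLE V U e).hom (secAlg k qY V c))
    rw [stalkAlg_eq k qX U x hxU, secAlg_comp k qX qY f hf U V e]
    rfl
  haveI hloc : IsLocalization.AtPrime (X.presheaf.stalk x) (hU.primeIdealOf ⟨x, hxU⟩).asIdeal :=
    hU.isLocalization_stalk ⟨x, hxU⟩
  haveI : (hU.primeIdealOf ⟨x, hxU⟩).asIdeal.IsPrime := (hU.primeIdealOf ⟨x, hxU⟩).isPrime
  haveI : (hU.primeIdealOf ⟨η, hηU⟩).asIdeal.IsPrime := (hU.primeIdealOf ⟨η, hηU⟩).isPrime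
  have hle : hU.primeIdealOf ⟨η, hηU⟩ ≤ hU.primeIdealOf ⟨x, hxU⟩ := by
    rw [← ResFieldBridge.specializes_fromSpec_iff hU, hU.fromSpec_primeIdealOf ⟨η, hηU⟩,
      hU.fromSpec_primeIdealOf ⟨x, hxU⟩]
    exact hηx
  have hk : Function.Surjective (algebraMap k (ResidueField (X.presheaf.stalk x))) :=
    (bijective_residue_stalkAlg k qX x hx).2
  have hA : ∀ a : Γ(Y, V), algebraMap Γ(Y, V) Γ(X, U) a ∈ (hU.primeIdealOf ⟨x, hxU⟩).asIdeal →
      algebraMap Γ(Y, V) Γ(X, U) a ∈ (hU.primeIdealOf ⟨η, hηU⟩).asIdeal := by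
    intro a ha
    have h1 := IsAffineOpen.comap_primeIdealOf_appLE (f := f) V hV U hU e hxU
    have h2 := IsAffineOpen.comap_primeIdealOf_appLE (f := f) V hV U hU e hηU
    have h3 : hV.primeIdealOf ⟨f η, e hηU⟩ = hV.primeIdealOf ⟨f x, e hxU⟩ := by
      congr 1
      exact Subtype.ext hfη
    have h4 : a ∈ ((hU.primeIdealOf ⟨x, hxU⟩).comap (f.appLE V U e).hom).asIdeal := ha
    rw [h1, ← h3, ← h2] at h4
    exact h4
  haveI : Algebra.FiniteType Γ(Y, V) Γ(X, U) := f.finiteType_appLE hV hU e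
  haveI : Algebra.EssFiniteType Γ(X, U) (X.presheaf.stalk x) :=
    Algebra.EssFiniteType.of_isLocalization _ (hU.primeIdealOf ⟨x, hxU⟩).asIdeal.primeCompl
  haveI : Algebra.EssFiniteType Γ(Y, V) (X.presheaf.stalk x) :=
    Algebra.EssFiniteType.comp _ Γ(X, U) _
  obtain ⟨eW⟩ := Groth.Agent.Helper16.OmegaStalkEquiv.nonempty_linearEquiv_stalk' f hU hV e x hxU
  haveI : Module.Finite (X.presheaf.stalk x) ((Omega.sheaf f).presheaf.stalk x) :=
    Module.Finite.of_surjective eW.symm.toLinearMap eW.symm.surjective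
  have hmain := Groth.Agent.Helper16.OmegaCot.height_le_finrank (k := k) (A := Γ(Y, V))
    (B := Γ(X, U)) (R := X.presheaf.stalk x) (hU.primeIdealOf ⟨x, hxU⟩).asIdeal
    (hU.primeIdealOf ⟨η, hηU⟩).asIdeal hle hk hA eW.toLinearMap eW.surjective
  rw [hn] at hmain
  exact_mod_cast hmain

theorem stalkMap_eq_stalkAlg (X : Scheme.{u}) [X.Over (Spec (CommRingCat.of k))] (x : X) :
    Curv2.stalkMap k X x = stalkAlg k (X ↘ Spec (CommRingCat.of k)) x := by
  have h2 : (X ↘ Spec (CommRingCat.of k)).appLE ⊤ ⊤ le_top =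
      (X ↘ Spec (CommRingCat.of k)).app ⊤ := by
    rw [Scheme.Hom.app_eq_appLE]
    rfl
  unfold Curv2.stalkMap stalkAlg secAlg Coh.toGlobal
  rw [h2]

end Groth.Agent.Helper16.OmegaFibDim
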