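import Mathlib
import Groth.Prelude
import Groth.Agent.Lib.Helper16.Sch.FibCM
import Groth.Agent.Lib.Helper16.Sch.FibStalk
import Groth.Agent.Lib.Helper14.OpenAtDimFormula
import Groth.Agent.Lib.Helper15.AlgSpFinLocFree
import Groth.Agent.Lib.Helper21.FL9
import Groth.Agent.Lib.Lead.Miracle

set_option autoImplicit false
set_option linter.style.haveILetI false
set_option linter.unusedSectionVars false
universe u

open AlgebraicGeometry CategoryTheory Limits IsLocalRing TopologicalSpace

namespace Groth.Agent.Helper16.TfaeCM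

open Groth.Agent.Helper16.FibStalk

/-- flat at `x` implies universally open on a neighbourhood. -/
theorem exists_universallyOpen_of_flat {X Y : Scheme.{u}} (f : X ⟶ Y)
    [LocallyOfFinitePresentation f] (x : X) (hflat : (f.stalkMap x).hom.Flat) :
    ∃ U : X.Opens, x ∈ U ∧ UniversallyOpen (U.ι ≫ f) := by
  let F : X.Opens := ⟨{x : X | (f.stalkMap x).hom.Flat},
    Groth.Agent.Helper21.FL.isOpen_flatLocus_scheme f⟩
  have hst : ∀ z : F.toScheme, ((F.ι ≫ f).stalkMap z).hom.Flat ↔
      (f.stalkMap (F.ι z)).hom.Flat := by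
    intro z
    rw [Scheme.Hom.stalkMap_comp]
    exact RingHom.Flat.respectsIso.cancel_right_isIso _ (F.ι.stalkMap z)
  haveI hflat' : Flat (F.ι ≫ f) := by
    rw [Flat.iff_flat_stalkMap]
    intro z
    rw [hst]
    exact z.2
  exact ⟨F, hflat, inferInstance⟩

/-- universally open on a neighbourhood implies open at every generization. -/
theorem isOpenAt_of_universallyOpen_nhd {X Y : Scheme.{u}} (f : X ⟶ Y) (U : X.Opens)
    [UniversallyOpen (U.ι ≫ f)] (z : X) (hz : z ∈ U) : EGA43.IsOpenAt f.base z := by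
  intro N hN
  have hN' : (U.ι.base ⁻¹' N) ∈ nhds (⟨z, hz⟩ : U) :=
    U.ι.continuous.continuousAt.preimage_mem_nhds hN
  obtain ⟨W, hWN, hWo, hzW⟩ := mem_nhds_iff.mp hN'
  have ho : IsOpen ((U.ι ≫ f).base '' W) := (U.ι ≫ f).isOpenMap _ hWo
  refine Filter.mem_of_superset (ho.mem_nhds ⟨⟨z, hz⟩, hzW, rfl⟩) ?_
  rintro _ ⟨w, hw, rfl⟩
  exact ⟨U.ι w, hWN hw, rfl⟩

end Groth.Agent.Helper16.TfaeCM

namespace Groth.Agent.Helper16.TfaeCM

open Groth.Agent.Helper16.FibStalk

/-- miracle flatness at a point: dimension formula ⇒ flat with Cohen–Macaulay fibre. -/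
theorem flat_and_fibCM_of_dim_formula {X Y : Scheme.{u}} (f : X ⟶ Y) (x : X)
    (hreg : IsRegularLocalRing (Y.presheaf.stalk (f.base x)))
    (hCM : LocCoh.IsCohenMacaulayLocalRing (X.presheaf.stalk x))
    (hdim : ringKrullDim (X.presheaf.stalk x) =
      ringKrullDim (Y.presheaf.stalk (f.base x)) +
        ringKrullDim ((f.fiber (f.base x)).presheaf.stalk (f.asFiber x))) :
    (f.stalkMap x).hom.Flat ∧
      LocCoh.IsCohenMacaulayLocalRing ((f.fiber (f.base x)).presheaf.stalk (f.asFiber x)) := by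
  letI : Algebra (Y.presheaf.stalk (f x)) (X.presheaf.stalk x) := (f.stalkMap x).hom.toAlgebra
  haveI : IsLocalHom (algebraMap (Y.presheaf.stalk (f x)) (X.presheaf.stalk x)) :=
    inferInstanceAs (IsLocalHom (f.stalkMap x).hom)
  haveI := hreg
  haveI : IsNoetherianRing (X.presheaf.stalk x) := hCM.1
  haveI : IsNoetherianRing (Y.presheaf.stalk (f x)) := inferInstance
  have hCM' : LocCoh.IsCohenMacaulayModule (X.presheaf.stalk x) (X.presheaf.stalk x) :=
    hCM.supportDim_eq_depth
  have hI : ((maximalIdeal (Y.presheaf.stalk (f x))).map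
      (algebraMap (Y.presheaf.stalk (f x)) (X.presheaf.stalk x))) •
      (⊤ : Submodule (X.presheaf.stalk x) (X.presheaf.stalk x)) = fibIdeal f x := by
    rw [fibIdeal_def]
    exact Ideal.mul_top _
  have hflat : Module.Flat (Y.presheaf.stalk (f x)) (X.presheaf.stalk x) := by
    refine Groth.Agent.Lead.Miracle.flat_of_isCohenMacaulayModule (Y.presheaf.stalk (f x))
      (X.presheaf.stalk x) (X.presheaf.stalk x) hCM' ?_
    rw [Module.supportDim_self_eq_ringKrullDim, hI, Module.supportDim_quotient_eq_ringKrullDim,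
      hdim, ringKrullDim_eq_of_ringEquiv (fibStalkEquiv f x)]
  refine ⟨hflat, ?_⟩
  obtain ⟨-, h2⟩ := Groth.Agent.Helper16.FibCM.isCM_base_and_fibre hCM (fibIdeal f x) rfl
  exact Groth.Agent.Helper16.FibCM.isCM_of_ringEquiv (fibStalkEquiv f x)

/-- **EGA IV 15.4.2** (regular base, Cohen–Macaulay source). -/
theorem tfae {X Y : Scheme.{u}} [IsLocallyNoetherian Y] (f : X ⟶ Y)
    [LocallyOfFiniteType f] (x : X) (hreg : IsRegularLocalRing (Y.presheaf.stalk (f.base x)))
    (hCM : LocCoh.IsCohenMacaulayLocalRing (X.presheaf.stalk x)) :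
    List.TFAE [
      (f.stalkMap x).hom.Flat ∧ LocCoh.IsCohenMacaulayLocalRing ((f.fiber (f.base x)).presheaf.stalk (f.asFiber x)),
      (f.stalkMap x).hom.Flat,
      ∃ U : X.Opens, x ∈ U ∧ UniversallyOpen (U.ι ≫ f),
      (∀ z : ↥(f.fiber (f.base x)), f.asFiber x ∈ closure {z} →
          (∀ z' : ↥(f.fiber (f.base x)), z ∈ closure {z'} → z' = z) →
          EGA43.IsOpenAt f.base ((f.fiberι (f.base x)).base z)),
      ringKrullDim (X.presheaf.stalk x) =
        ringKrullDim (Y.presheaf.stalk (f.base x)) + ringKrullDim ((f.fiber (f.base x)).presheaf.stalk (f.asFiber x)) ] := by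
  haveI : LocallyOfFinitePresentation f :=
    Groth.Agent.Helper15.lfp_of_lft_of_isLocallyNoetherian f
  haveI : IsLocallyNoetherian X := LocallyOfFiniteType.isLocallyNoetherian f
  tfae_have 1 → 2 := fun h => h.1
  tfae_have 2 → 3 := fun h => exists_universallyOpen_of_flat f x h
  tfae_have 3 → 4 := by
    rintro ⟨U, hxU, hU⟩ z hz _
    haveI := hU
    refine isOpenAt_of_universallyOpen_nhd f U _ ?_
    have h1 : z ⤳ f.asFiber x := specializes_iff_mem_closure.mpr hz
    have h2 : (f.fiberι (f x)).base z ⤳ (f.fiberι (f x)).base (f.asFiber x) :=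
      h1.map (f.fiberι (f x)).continuous
    rw [f.fiberι_asFiber] at h2
    exact h2.mem_open U.2 hxU
  tfae_have 4 → 5 := fun h => Groth.Agent.Helper14.OpenAtDimFormula.dim_formula f x h
  tfae_have 5 → 1 := fun h => flat_and_fibCM_of_dim_formula f x hreg hCM h
  tfae_finish

end Groth.Agent.Helper16.TfaeCM
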