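import Mathlib
import Groth.Prelude.Def_Omega4
import Groth.Agent.Lib.Helper16.Alg.SmAtPt4
import Groth.Agent.Lib.Helper16.Sch.OmegaSmAt
import Groth.Agent.Lib.Helper16.Sch.TfaeCM1
import Groth.Agent.Lib.Helper16.Sch.CMSch1

set_option autoImplicit false
set_option linter.style.haveILetI false
set_option linter.unusedSectionVars false
universe u

open CategoryTheory AlgebraicGeometry

namespace Groth.Agent.Helper16.OmegaSmReg

variable {X Y : Scheme.{u}}

/-- regular base + receptacle free of rank the fibre dimension + dimension formula implies the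
local ring upstairs is regular. -/
theorem isRegularLocalRing_stalk_of_free [IsLocallyNoetherian Y] (f : X ⟶ Y)
    [LocallyOfFiniteType f]
    (Ω' : X.Modules) (d : OmegaSh.Der f Ω') (hd : OmegaSh.IsUniversal d) (x : X)
    (hreg : IsRegularLocalRing (Y.presheaf.stalk (f x)))
    (U₀ : X.Opens) (n : ℕ) (hxU₀ : x ∈ U₀)
    (iso : Ω'.restrict U₀.ι ≅ FlatMod.freeMod (↑U₀) n)
    (hn : (n : WithBot ℕ∞) ≤ FlatMor.fibreDimAt f x)
    (hdim : ringKrullDim (Y.presheaf.stalk (f x)) +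
      ringKrullDim ((f.fiber (f x)).presheaf.stalk (f.asFiber x)) ≤
        ringKrullDim (X.presheaf.stalk x)) :
    IsRegularLocalRing (X.presheaf.stalk x) := by
  haveI : IsLocallyNoetherian X := LocallyOfFiniteType.isLocallyNoetherian f
  obtain ⟨_, ⟨V, hV, rfl⟩, hxV, -⟩ :=
    Y.isBasis_affineOpens.exists_subset_of_mem_open (Set.mem_univ (f x)) isOpen_univ
  obtain ⟨_, ⟨U, hU, rfl⟩, hxU, hUle⟩ :=
    X.isBasis_affineOpens.exists_subset_of_mem_open
      (show x ∈ ((U₀ ⊓ f ⁻¹ᵁ V : X.Opens) : Set X) from ⟨hxU₀, hxV⟩) (U₀ ⊓ f ⁻¹ᵁ V).2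
  have hV' : IsAffineOpen V := hV
  have hU' : IsAffineOpen U := hU
  have hUU₀ : U ≤ U₀ := fun y hy => (hUle hy).1
  have e : U ≤ f ⁻¹ᵁ V := fun y hy => (hUle hy).2
  letI iBA := Groth.Agent.Helper18.OmegaSec.algUV f e
  have halg : algebraMap Γ(Y, V) Γ(X, U) = (f.appLE V U e).hom := rfl
  haveI : Algebra.FiniteType Γ(Y, V) Γ(X, U) := f.finiteType_appLE hV' hU' e
  obtain ⟨b₀⟩ := Groth.Agent.Helper13.LocFree.nonempty_basis_of_restrict_iso Ω' iso hUU₀
  let b : Module.Basis (Fin n) Γ(X, U) Ω[Γ(X, U)⁄Γ(Y, V)] :=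
    b₀.map (Groth.Agent.Helper18.Rec.recSec d e hd hU' hV')
  let p := (hV'.primeIdealOf ⟨f x, e hxU⟩).asIdeal
  let q := (hU'.primeIdealOf ⟨x, hxU⟩).asIdeal
  haveI : q.LiesOver p :=
    ⟨congr($(IsAffineOpen.comap_primeIdealOf_appLE V hV' U hU' e hxU).1).symm⟩
  let Q := Groth.Agent.Helper14.FibreChart.fibPrime f hU' hV' e halg x hxU
  have hQ : Q.asIdeal.comap (Algebra.TensorProduct.includeRight :
      Γ(X, U) →ₐ[Γ(Y, V)] p.Fiber Γ(X, U)).toRingHom = q :=
    congrArg PrimeSpectrum.asIdeal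
      (Groth.Agent.Helper14.FibreChart.comap_fibPrime f hU' hV' e halg x hxU)
  have hn' : (n : WithBot ℕ∞) ≤ FlatMor.localDim (PrimeSpectrum (p.Fiber Γ(X, U))) Q := by
    rw [← Groth.Agent.Helper14.FibreChart.fibreDimAt_eq f hU' hV' e halg x hxU]
    exact hn
  haveI hsm : Algebra.IsSmoothAt p.ResidueField Q.asIdeal :=
    Groth.Agent.Helper16.SmAtPt.isSmoothAt_fiber_of_basis Γ(Y, V) Γ(X, U) p Q n b hn'
  -- stalks as localizations
  letI : Algebra Γ(Y, V) (Y.presheaf.stalk (f x)) := Y.presheaf.algebra_section_stalk ⟨f x, e hxU⟩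
  haveI : IsLocalization.AtPrime (Y.presheaf.stalk (f x)) p := hV'.isLocalization_stalk ⟨f x, e hxU⟩
  letI : Algebra Γ(X, U) (X.presheaf.stalk x) := X.presheaf.algebra_section_stalk ⟨x, hxU⟩
  haveI : IsLocalization.AtPrime (X.presheaf.stalk x) q := hU'.isLocalization_stalk ⟨x, hxU⟩
  let eY : Y.presheaf.stalk (f x) ≃ₐ[Γ(Y, V)] Localization.AtPrime p :=
    IsLocalization.algEquiv p.primeCompl (Y.presheaf.stalk (f x)) (Localization.AtPrime p)
  let eX : X.presheaf.stalk x ≃ₐ[Γ(X, U)] Localization.AtPrime q :=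
    IsLocalization.algEquiv q.primeCompl (X.presheaf.stalk x) (Localization.AtPrime q)
  haveI : IsRegularLocalRing (Localization.AtPrime p) :=
    IsRegularLocalRing.of_ringEquiv (R := Y.presheaf.stalk (f x)) eY.toRingEquiv
  haveI : IsNoetherianRing Γ(X, U) := IsLocallyNoetherian.component_noetherian ⟨U, hU'⟩
  haveI : IsNoetherianRing (Localization.AtPrime q) :=
    IsLocalization.isNoetherianRing q.primeCompl _ inferInstance
  have hdimQ : ringKrullDim (Localization.AtPrime p) + ((Q.asIdeal.height : ℕ∞) : WithBot ℕ∞) ≤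
      ringKrullDim (Localization.AtPrime q) := by
    rw [← ringKrullDim_eq_of_ringEquiv eY.toRingEquiv, ← ringKrullDim_eq_of_ringEquiv eX.toRingEquiv,
      ← Groth.Agent.Helper14.FibreChart.ringKrullDim_fibre_stalk f hU' hV' e halg x hxU]
    exact hdim
  haveI : IsRegularLocalRing (Localization.AtPrime q) :=
    Groth.Agent.Helper16.SmAtPt.isRegularLocalRing_of_fiber_smooth p q Q.asIdeal hQ hdimQ
  exact IsRegularLocalRing.of_ringEquiv (R := Localization.AtPrime q) eX.symm.toRingEquiv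

end Groth.Agent.Helper16.OmegaSmReg
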