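import Mathlib
set_option autoImplicit false
open CategoryTheory CategoryTheory.Limits AlgebraicGeometry Opposite
universe u

namespace Groth.Agent.Helper16.OnePt

section Ring

variable {A B : Type*} [CommRing A] [CommRing B] [Algebra A B]

theorem residueField_surjective_of_forall (p : Ideal A) [p.IsPrime] (q : Ideal B) [q.IsPrime]
    [q.LiesOver p]
    [Algebra (Localization.AtPrime p) (Localization.AtPrime q)]
    [Localization.AtPrime.IsLiesOverAlgebra p q]
    (H : ∀ b : B, ∃ a u : A, u ∉ p ∧ algebraMap A B a - b * algebraMap A B u ∈ q) :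
    Function.Surjective (algebraMap p.ResidueField q.ResidueField) := by
  intro y
  obtain ⟨y, rfl⟩ := IsLocalRing.residue_surjective y
  obtain ⟨b, ⟨t, ht⟩, rfl⟩ := IsLocalization.exists_mk'_eq q.primeCompl y
  obtain ⟨a1, u1, hu1, h1⟩ := H b
  obtain ⟨a2, u2, hu2, h2⟩ := H t
  have hu2q : algebraMap A B u2 ∉ q := by
    intro h
    exact hu2 (by rw [q.over_def p]; exact h)
  have hu1q : algebraMap A B u1 ∉ q := by
    intro h
    exact hu1 (by rw [q.over_def p]; exact h)
  have ha2q : algebraMap A B a2 ∉ q := by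
    intro h
    have : t * algebraMap A B u2 ∈ q := by
      have := q.sub_mem h h2
      simpa using this
    rcases (‹q.IsPrime›.mem_or_mem this) with h' | h'
    · exact ht h'
    · exact hu2q h'
  have ha2 : a2 ∉ p := by
    intro h
    apply ha2q
    rw [q.over_def p] at h
    exact h
  refine ⟨IsLocalRing.residue _ (IsLocalization.mk' _ (a1 * u2)
    (⟨u1 * a2, ‹p.IsPrime›.mul_notMem hu1 ha2⟩ : p.primeCompl)), ?_⟩
  rw [IsLocalRing.ResidueField.algebraMap_residue, ← sub_eq_zero, ← map_sub,
    IsLocalRing.residue_eq_zero_iff, Localization.AtPrime.IsLiesOverAlgebra.algebraMap_eq,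
    Localization.localRingHom_mk', ← IsLocalization.mk'_sub,
    IsLocalization.AtPrime.mk'_mem_maximal_iff (Localization.AtPrime q) q]
  simp only [map_mul]
  have e : algebraMap A B a1 * algebraMap A B u2 * t - b * (algebraMap A B u1 * algebraMap A B a2)
      = (algebraMap A B a1 - b * algebraMap A B u1) * (algebraMap A B u2 * t)
        - b * algebraMap A B u1 * (algebraMap A B a2 - t * algebraMap A B u2) := by ring
  rw [e]
  exact q.sub_mem (q.mul_mem_right _ h1) (q.mul_mem_left _ h2)

theorem exists_mul_mem_range [Module.Finite A B] [Algebra.FormallyUnramified A B]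
    (p : Ideal A) [p.IsPrime] (q : Ideal B) [q.IsPrime] [q.LiesOver p]
    (hq : p.primesOver B = {q})
    (H : ∀ b : B, ∃ a u : A, u ∉ p ∧ algebraMap A B a - b * algebraMap A B u ∈ q) :
    ∃ r ∉ p, ∀ b : B, ∃ a : A, algebraMap A B a = b * algebraMap A B r := by
  classical
  letI := Localization.AtPrime.algebraOfLiesOver p q
  have hsurj := Localization.localRingHom_surjective_of_primesOver_eq_singleton hq
    (residueField_surjective_of_forall p q H)
  have key : ∀ b : B, ∃ a : A, ∃ d ∉ p, algebraMap A B a = b * algebraMap A B d := by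
    intro b
    obtain ⟨x, hx⟩ := hsurj (algebraMap B _ b)
    obtain ⟨a, ⟨u, hu⟩, rfl⟩ := IsLocalization.exists_mk'_eq p.primeCompl x
    rw [Localization.localRingHom_mk', IsLocalization.mk'_eq_iff_eq_mul, ← map_mul,
      IsLocalization.eq_iff_exists q.primeCompl] at hx
    obtain ⟨⟨c, hc⟩, hc'⟩ := hx
    obtain ⟨d, hd, e, he⟩ := Ideal.exists_notMem_dvd_algebraMap_of_primesOver_eq_singleton hq c hc
    refine ⟨d * a, d * u, ‹p.IsPrime›.mul_notMem hd hu, ?_⟩
    simp only [map_mul] at hc' ⊢
    rw [he]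
    linear_combination e * hc'
  obtain ⟨s, hs⟩ := Module.Finite.fg_top (R := A) (M := B)
  choose a d hd e using key
  refine ⟨∏ i ∈ s, d i, ?_, ?_⟩
  · exact prod_mem (S := p.primeCompl) fun i _ => hd i
  · intro b
    have hb : b ∈ Submodule.span A (s : Set B) := hs ▸ Submodule.mem_top
    induction hb using Submodule.span_induction with
    | mem x hx =>
      refine ⟨a x * ∏ i ∈ s.erase x, d i, ?_⟩
      rw [← Finset.mul_prod_erase s d hx, map_mul, map_mul, e x]
      ring
    | zero => exact ⟨0, by simp⟩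
    | add x y _ _ hx hy =>
      obtain ⟨ax, hax⟩ := hx
      obtain ⟨ay, hay⟩ := hy
      exact ⟨ax + ay, by rw [map_add, hax, hay]; ring⟩
    | smul c x _ hx =>
      obtain ⟨ax, hax⟩ := hx
      exact ⟨c * ax, by rw [map_mul, hax, Algebra.smul_def]; ring⟩

end Ring

end Groth.Agent.Helper16.OnePt

namespace Groth.Agent.Helper16.OnePt

section Ring2

variable {A B : Type*} [CommRing A] [CommRing B] [Algebra A B]

theorem exists_mul_mem_range' [Module.Finite A B] [Algebra.FormallyUnramified A B]
    (p : Ideal A) [p.IsPrime] (q : Ideal B) [q.IsPrime] [q.LiesOver p]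
    (hq : p.primesOver B = {q})
    (H : Function.Surjective (IsLocalRing.ResidueField.map
      (Localization.localRingHom p q (algebraMap A B) (q.over_def p)))) :
    ∃ r ∉ p, ∀ b : B, ∃ a : A, algebraMap A B a = b * algebraMap A B r := by
  classical
  letI := Localization.AtPrime.algebraOfLiesOver p q
  have H' : Function.Surjective (algebraMap p.ResidueField q.ResidueField) := H
  have hsurj := Localization.localRingHom_surjective_of_primesOver_eq_singleton hq H'
  have key : ∀ b : B, ∃ a : A, ∃ d ∉ p, algebraMap A B a = b * algebraMap A B d := by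
    intro b
    obtain ⟨x, hx⟩ := hsurj (algebraMap B _ b)
    obtain ⟨a, ⟨u, hu⟩, rfl⟩ := IsLocalization.exists_mk'_eq p.primeCompl x
    rw [Localization.localRingHom_mk', IsLocalization.mk'_eq_iff_eq_mul, ← map_mul,
      IsLocalization.eq_iff_exists q.primeCompl] at hx
    obtain ⟨⟨c, hc⟩, hc'⟩ := hx
    obtain ⟨d, hd, e, he⟩ := Ideal.exists_notMem_dvd_algebraMap_of_primesOver_eq_singleton hq c hc
    refine ⟨d * a, d * u, ‹p.IsPrime›.mul_notMem hd hu, ?_⟩
    simp only [map_mul] at hc' ⊢
    rw [he]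
    linear_combination e * hc'
  obtain ⟨s, hs⟩ := Module.Finite.fg_top (R := A) (M := B)
  choose a d hd e using key
  refine ⟨∏ i ∈ s, d i, ?_, ?_⟩
  · exact prod_mem (S := p.primeCompl) fun i _ => hd i
  · intro b
    have hb : b ∈ Submodule.span A (s : Set B) := hs ▸ Submodule.mem_top
    induction hb using Submodule.span_induction with
    | mem x hx =>
      refine ⟨a x * ∏ i ∈ s.erase x, d i, ?_⟩
      rw [← Finset.mul_prod_erase s d hx, map_mul, map_mul, e x]
      ring
    | zero => exact ⟨0, by simp⟩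
    | add x y _ _ hx hy =>
      obtain ⟨ax, hax⟩ := hx
      obtain ⟨ay, hay⟩ := hy
      exact ⟨ax + ay, by rw [map_add, hax, hay]; ring⟩
    | smul c x _ hx =>
      obtain ⟨ax, hax⟩ := hx
      exact ⟨c * ax, by rw [map_mul, hax, Algebra.smul_def]; ring⟩

end Ring2

/-- transport of surjectivity of residue field maps along an isomorphism of arrows -/
theorem residueField_map_surjective_of_arrow_iso {R R' T T' : CommRingCat.{u}}
    [IsLocalRing R] [IsLocalRing R'] [IsLocalRing T] [IsLocalRing T']
    (φ : R ⟶ R') (ψ : T ⟶ T') [IsLocalHom φ.hom] [IsLocalHom ψ.hom]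
    (e : Arrow.mk φ ≅ Arrow.mk ψ)
    (H : Function.Surjective (IsLocalRing.ResidueField.map φ.hom)) :
    Function.Surjective (IsLocalRing.ResidueField.map ψ.hom) := by
  intro y
  obtain ⟨t', rfl⟩ := IsLocalRing.residue_surjective y
  have hw : e.hom.left ≫ ψ = φ ≫ e.hom.right := e.hom.w
  let eL : R ≅ T := Arrow.leftFunc.mapIso e
  let eR : R' ≅ T' := Arrow.rightFunc.mapIso e
  obtain ⟨x, hx⟩ := H (IsLocalRing.residue _ (eR.inv t'))
  obtain ⟨r, rfl⟩ := IsLocalRing.residue_surjective x
  refine ⟨IsLocalRing.residue _ (eL.hom r), ?_⟩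
  rw [IsLocalRing.ResidueField.map_residue] at hx ⊢
  rw [← sub_eq_zero, ← map_sub, IsLocalRing.residue_eq_zero_iff] at hx ⊢
  have h1 : ψ.hom (eL.hom r) = eR.hom (φ.hom r) := by
    exact congr($(hw).hom r)
  have h2 : t' = eR.hom (eR.inv t') := by
    change t' = (eR.inv ≫ eR.hom) t'
    rw [Iso.inv_hom_id]; rfl
  rw [h1, h2, ← map_sub]
  have : IsLocalHom eR.hom.hom := isLocalHom_of_isIso _
  by_contra hcon
  have hu : IsUnit (eR.hom.hom (φ.hom r - eR.inv t')) := by
    simpa [IsLocalRing.mem_maximalIdeal, mem_nonunits_iff] using hcon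
  have := (isUnit_map_iff eR.hom.hom _).mp hu
  exact (IsLocalRing.mem_maximalIdeal _).mp hx this

end Groth.Agent.Helper16.OnePt
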