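import Mathlib
import Groth.Agent.Lib.Helper16.Sch.OnePt

set_option autoImplicit false
set_option linter.style.haveILetI false
open CategoryTheory CategoryTheory.Limits AlgebraicGeometry Opposite TopologicalSpace
universe u

namespace Groth.Agent.Helper16.OnePt

set_option backward.defeqAttrib.useBackward true in
set_option backward.isDefEq.respectTransparency false in
theorem exists_nhd_isClosedImmersion {X S : Scheme.{u}} (f : X ⟶ S) [IsFinite f]
    [FormallyUnramified f] (s : S) (x : X)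
    (hx : f.base ⁻¹' {s} = {x}) (hκ : Function.Surjective (f.residueFieldMap x)) :
    ∃ U : S.Opens, s ∈ U ∧ IsClosedImmersion (f ∣_ U) := by
  have hfx : f x = s := by
    have : x ∈ f.base ⁻¹' {s} := hx ▸ Set.mem_singleton x
    exact this
  subst hfx
  obtain ⟨_, ⟨V, hV, rfl⟩, hsV, -⟩ :=
    S.isBasis_affineOpens.exists_subset_of_mem_open (Set.mem_univ (f x)) isOpen_univ
  have hV' : IsAffineOpen (f ⁻¹ᵁ V) := hV.preimage f
  have hxV : x ∈ f ⁻¹ᵁ V := hsV
  have hfin : (f.appLE V (f ⁻¹ᵁ V) le_rfl).hom.Finite := by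
    rw [← Scheme.Hom.app_eq_appLE]
    exact IsFinite.finite_app f V hV
  have hfu := f.formallyUnramified_appLE hV hV' le_rfl
  algebraize [(f.appLE V (f ⁻¹ᵁ V) le_rfl).hom]
  let p := (hV.primeIdealOf ⟨f x, hsV⟩).asIdeal
  let q := (hV'.primeIdealOf ⟨x, hxV⟩).asIdeal
  have hlo : q.LiesOver p :=
    ⟨congr($(IsAffineOpen.comap_primeIdealOf_appLE V hV _ hV' le_rfl hxV).1).symm⟩
  -- uniqueness of the prime over p
  have hq : p.primesOver Γ(X, f ⁻¹ᵁ V) = {q} := by
    apply Set.eq_singleton_iff_unique_mem.mpr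
    refine ⟨⟨inferInstance, hlo⟩, ?_⟩
    rintro Q ⟨hQ, hQp⟩
    let Q' : Spec Γ(X, f ⁻¹ᵁ V) := ⟨Q, hQ⟩
    let x' : X := hV'.fromSpec Q'
    have hx' : f x' = f x := by
      have h1 := hV.SpecMap_appLE_fromSpec f hV' le_rfl
      have h2 : f x' = hV.fromSpec (Spec.map (f.appLE V (f ⁻¹ᵁ V) le_rfl) Q') := by
        rw [← Scheme.Hom.comp_apply, ← h1, Scheme.Hom.comp_apply]
      rw [h2]
      have h3 : Spec.map (f.appLE V (f ⁻¹ᵁ V) le_rfl) Q' = hV.primeIdealOf ⟨f x, hsV⟩ := by
        apply PrimeSpectrum.ext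
        exact (hQp.over).symm
      rw [h3, hV.fromSpec_primeIdealOf]
    have hx'x : x' = x := by
      have : x' ∈ f.base ⁻¹' {f x} := hx'
      rw [hx] at this
      exact this
    have h4 : hV'.fromSpec Q' = hV'.fromSpec (hV'.primeIdealOf ⟨x, hxV⟩) := by
      rw [hV'.fromSpec_primeIdealOf]; exact hx'x
    have h5 := hV'.fromSpec.isOpenEmbedding.injective h4
    exact congr($(h5).asIdeal)
  -- residue field surjectivity
  have H : Function.Surjective (IsLocalRing.ResidueField.map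
      (Localization.localRingHom p q (algebraMap Γ(S, V) Γ(X, f ⁻¹ᵁ V)) (q.over_def p))) := by
    have e := IsAffineOpen.arrowStalkMapIso f V hV _ hV' le_rfl hxV
    haveI : IsLocalHom (CommRingCat.ofHom (Localization.localRingHom p q
        (algebraMap Γ(S, V) Γ(X, f ⁻¹ᵁ V)) (q.over_def p))).hom :=
      Localization.isLocalHom_localRingHom p q _ (q.over_def p)
    exact residueField_map_surjective_of_arrow_iso (f.stalkMap x)
      (CommRingCat.ofHom (Localization.localRingHom p q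
        (algebraMap Γ(S, V) Γ(X, f ⁻¹ᵁ V)) (q.over_def p))) e hκ
  obtain ⟨r, hrp, hr⟩ := exists_mul_mem_range' p q hq H
  refine ⟨S.basicOpen r, ?_, ?_⟩
  · have hrp' : r ∉ (hV.primeIdealOf ⟨f x, hsV⟩).asIdeal := hrp
    rwa [← PrimeSpectrum.mem_basicOpen, IsAffineOpen.primeIdealOf,
      ← hV.fromSpec_preimage_basicOpen, Scheme.Hom.mem_preimage, ← Scheme.Hom.comp_apply,
      IsAffineOpen.isoSpec_hom, IsAffineOpen.toSpecΓ_fromSpec] at hrp'
  · have hU : IsAffineOpen (S.basicOpen r) := hV.basicOpen r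
    have hU' : IsAffineOpen (f ⁻¹ᵁ (S.basicOpen r)) := hU.preimage f
    haveI : IsAffine (S.basicOpen r).toScheme := hU
    haveI : IsAffine (f ⁻¹ᵁ (S.basicOpen r)).toScheme := hU'
    apply IsClosedImmersion.of_surjective_of_isAffine
    rw [morphismRestrict_appTop]
    have key : ∀ W : S.Opens, W = S.basicOpen r → Function.Surjective (f.app W) := by
      rintro _ rfl
      have hpre : f ⁻¹ᵁ S.basicOpen r = X.basicOpen (f.app V r) := Scheme.preimage_basicOpen f r
      have hle : f ⁻¹ᵁ S.basicOpen r ≤ f ⁻¹ᵁ V := f.preimage_mono (S.basicOpen_le r)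
      have hlocX := hV'.isLocalization_of_eq_basicOpen (f.app V r) (homOfLE hle) hpre
      have hlocS := hV.isLocalization_basicOpen r
      intro y
      letI := (X.presheaf.map (homOfLE hle).op).hom.toAlgebra
      obtain ⟨⟨b, ⟨_, n, rfl⟩⟩, hb⟩ := IsLocalization.surj (Submonoid.powers (f.app V r)) y
      obtain ⟨a, ha⟩ := hr b
      have ha' : f.app V a = b * f.app V r := by
        have h := ha
        simp only [RingHom.algebraMap_toAlgebra, ← Scheme.Hom.app_eq_appLE] at h
        exact h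
      have nat : ∀ a' : Γ(S, V), f.app (S.basicOpen r) (algebraMap Γ(S, V) Γ(S, S.basicOpen r) a')
          = algebraMap Γ(X, f ⁻¹ᵁ V) Γ(X, f ⁻¹ᵁ S.basicOpen r) (f.app V a') := by
        intro a'
        exact congr($(f.naturality (homOfLE (S.basicOpen_le r)).op).hom a')
      let z : Γ(S, S.basicOpen r) := IsLocalization.mk' Γ(S, S.basicOpen r) a
        (⟨r ^ (n + 1), n + 1, rfl⟩ : Submonoid.powers r)
      have hz : z * algebraMap Γ(S, V) Γ(S, S.basicOpen r) (r ^ (n + 1))
          = algebraMap Γ(S, V) Γ(S, S.basicOpen r) a := IsLocalization.mk'_spec _ _ _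
      have hu : IsUnit (algebraMap Γ(X, f ⁻¹ᵁ V) Γ(X, f ⁻¹ᵁ S.basicOpen r) (f.app V r)) :=
        IsLocalization.map_units (M := Submonoid.powers (f.app V r)) _
          (⟨f.app V r, 1, pow_one _⟩ : Submonoid.powers (f.app V r))
      refine ⟨z, ?_⟩
      apply (hu.pow (n + 1)).mul_left_injective
      dsimp only
      have e1 : f.app (S.basicOpen r) z *
          algebraMap Γ(X, f ⁻¹ᵁ V) Γ(X, f ⁻¹ᵁ S.basicOpen r) (f.app V r) ^ (n + 1)
          = algebraMap Γ(X, f ⁻¹ᵁ V) Γ(X, f ⁻¹ᵁ S.basicOpen r) (f.app V a) := by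
        rw [← nat a, ← hz, map_mul, nat, map_pow, map_pow]
      rw [e1, ha', map_mul, pow_succ, ← mul_assoc]
      congr 1
      rw [← hb]
      simp
    have h1 : Function.Surjective (f.app ((S.basicOpen r).ι ''ᵁ ⊤)) :=
      key _ (by simp)
    have h2 : Function.Bijective (X.presheaf.map
        (eqToHom (image_morphismRestrict_preimage f (S.basicOpen r) ⊤)).op) :=
      ConcreteCategory.bijective_of_isIso _
    have h3 := h2.surjective.comp h1
    intro y
    obtain ⟨z, hz⟩ := h3 y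
    exact ⟨z, hz⟩

end Groth.Agent.Helper16.OnePt

namespace Groth.Agent.Helper16.OnePt

theorem isIso_restrict_opensRange {X Y : Scheme.{u}} (g : X ⟶ Y) [IsOpenImmersion g] :
    IsIso (g ∣_ g.opensRange) := by
  rw [isIso_iff_isOpenImmersion_and_surjective]
  refine ⟨inferInstance, ⟨?_⟩⟩
  intro y
  obtain ⟨z, hz⟩ := y.2
  have hz' : z ∈ g ⁻¹ᵁ g.opensRange := by
    show g z ∈ g.opensRange
    exact ⟨z, rfl⟩
  refine ⟨⟨z, hz'⟩, ?_⟩
  apply Subtype.ext
  rw [morphismRestrict_base_coe]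
  exact hz

theorem exists_nhd_isIso {X S : Scheme.{u}} (f : X ⟶ S) [IsFinite f]
    [Etale f] (s : S) (x : X)
    (hx : f.base ⁻¹' {s} = {x}) (hκ : Function.Surjective (f.residueFieldMap x)) :
    ∃ U : S.Opens, s ∈ U ∧ IsIso (f ∣_ U) := by
  obtain ⟨U, hsU, hU⟩ := exists_nhd_isClosedImmersion f s x hx hκ
  have hfx : f x = s := by
    have : x ∈ f.base ⁻¹' {s} := hx ▸ Set.mem_singleton x
    exact this
  let g := f ∣_ U
  haveI : Etale g := inferInstance
  haveI : Mono g := inferInstance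
  haveI : IsOpenImmersion g := IsOpenImmersion.of_flat_of_mono g
  refine ⟨U.ι ''ᵁ g.opensRange, ?_, ?_⟩
  · have hxU : x ∈ f ⁻¹ᵁ U := by
      show f x ∈ U
      rw [hfx]; exact hsU
    refine ⟨⟨s, hsU⟩, ⟨⟨x, hxU⟩, ?_⟩, rfl⟩
    apply Subtype.ext
    rw [morphismRestrict_base_coe]
    exact hfx
  · have h1 : IsIso (g ∣_ g.opensRange) := isIso_restrict_opensRange g
    have e := morphismRestrictRestrict f U g.opensRange
    exact ((MorphismProperty.isomorphisms Scheme.{u}).arrow_mk_iso_iff e).mp h1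

end Groth.Agent.Helper16.OnePt
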