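import Mathlib
import Groth.Prelude
import Groth.Agent.Lib.Helper16.Sch.Orbit1
import Groth.Agent.Lib.Helper18.OrbitClosed

set_option autoImplicit false
set_option linter.style.haveILetI false
universe u
open CategoryTheory CategoryTheory.Limits AlgebraicGeometry Opposite TopologicalSpace Topology
  MonoidalCategory CartesianMonoidalCategory MonObj GrpObj

noncomputable section

namespace Groth.Agent.Helper16.Orbit

open Groth.Agent.Helper14 Groth.Agent.Helper16 Groth.Agent.Helper16.FTDim
open Groth.Agent.Helper28.AlgGrpShear Groth.Agent.Helper18.OrbitClosed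

variable {k : Type u} [Field k]
variable {G X : Over (Spec (CommRingCat.of k))} [GrpObj G]

/-- a rational point at every closed point (algebraically closed base field). -/
theorem exists_kpt [IsAlgClosed k] (X : Over (Spec (CommRingCat.of k))) [LocallyOfFiniteType X.hom]
    (y : X.left) (hy : IsClosed ({y} : Set X.left)) :
    ∃ x : 𝟙_ (Over (Spec (CommRingCat.of k))) ⟶ X, ∀ t, x.left t = y := by
  obtain ⟨p, hp⟩ := Groth.Agent.Helper18.KPts.exists_kpt_of_isClosed (K := k) X y hy
  have hc : Groth.Agent.Helper18.KPts.cK k k = 𝟙 _ := by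
    show Spec.map (CommRingCat.ofHom (algebraMap k k)) = 𝟙 _
    rw [Algebra.algebraMap_self]
    exact Spec.map_id _
  let x : 𝟙_ (Over (Spec (CommRingCat.of k))) ⟶ X := Over.homMk p.left (by
    show p.left ≫ X.hom = 𝟙 _
    rw [Over.w p]; exact hc)
  exact ⟨x, fun t => hp t⟩

theorem main19519 [IsAlgClosed k] (a : AlgGrp.Action G X) [LocallyOfFiniteType G.hom]
    [QuasiCompact G.hom] [LocallyOfFiniteType X.hom] [QuasiCompact X.hom]
    (x : 𝟙_ (Over (Spec (CommRingCat.of k))) ⟶ X)
    (hmin : ∀ y : 𝟙_ (Over (Spec (CommRingCat.of k))) ⟶ X,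
      topologicalKrullDim (Set.range (a.orbitMap x).left.base) ≤
        topologicalKrullDim (Set.range (a.orbitMap y).left.base)) :
    IsClosed (Set.range (a.orbitMap x).left.base) := by
  have hOlc : IsLocallyClosed (Set.range (a.orbitMap x).left.base) :=
    Groth.Agent.Helper18.OrbitLC.main k G X a x
  set O := Set.range (a.orbitMap x).left.base with hO
  have hOst : Stable a O := stable_range_orbit a x
  have hbd : IsClosed (closure O \ O) := by
    have := hOlc.isOpen_coborder
    rw [coborder] at this
    exact isOpen_compl_iff.mp this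
  by_contra hncl
  have hne : (closure O \ O).Nonempty := by
    rw [Set.nonempty_iff_ne_empty]
    intro h
    apply hncl
    rw [Set.sdiff_eq_empty] at h
    have : closure O = O := Set.Subset.antisymm h subset_closure
    rw [← this]
    exact isClosed_closure
  haveI := Groth.Agent.Helper18.KPts.jacobsonSpace_of_lft X
  obtain ⟨b, hbB, hb⟩ := nonempty_inter_closedPoints hne hbd.isLocallyClosed
  obtain ⟨y, hy⟩ := exists_kpt X b hb
  have hsub : Set.range (a.orbitMap y).left ⊆ closure O \ O :=
    (hOst.cl.sdiff hOst).range_orbit_subset y (fun t => by rw [hy t]; exact hbB)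
  have h1 : topologicalKrullDim ↥(Set.range (a.orbitMap y).left.base) ≤
      topologicalKrullDim ↥(closure O \ O) := dim_mono hsub
  have h2 := main16131 a x
  exact absurd (lt_of_le_of_lt ((hmin y).trans h1) h2) (lt_irrefl _)

end Groth.Agent.Helper16.Orbit
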