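import Mathlib
import Groth.Prelude
import Groth.Agent.Lib.Helper16.Sch.Orbit1
import Groth.Agent.Lib.Helper16.Sch.GenDim1

set_option autoImplicit false
set_option linter.style.haveILetI false
universe u
open CategoryTheory CategoryTheory.Limits AlgebraicGeometry Opposite TopologicalSpace Topology
  MonoidalCategory CartesianMonoidalCategory MonObj GrpObj

noncomputable section

namespace Groth.Agent.Helper16.Orbit

open Groth.Agent.Helper14 Groth.Agent.Helper16 Groth.Agent.Helper16.FTDim
open Groth.Agent.Helper28.AlgGrpShear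

variable {k : Type u} [Field k]
variable {G X : Over (Spec (CommRingCat.of k))} [GrpObj G]

/-- `(g, x) ↦ (g x, x)` -/
def Φ (a : AlgGrp.Action G X) : G ⊗ X ⟶ X ⊗ X := lift a.act (snd G X)

/-- `g ↦ (g, x)` -/
def iG (G : Over (Spec (CommRingCat.of k))) (x : 𝟙_ (Over (Spec (CommRingCat.of k))) ⟶ X) :
    G ⟶ G ⊗ X := lift (𝟙 G) (toUnit G ≫ x)

/-- `x ↦ (e, x)` -/
def sec (G X : Over (Spec (CommRingCat.of k))) [GrpObj G] : X ⟶ G ⊗ X :=
  lift (toUnit X ≫ η[G]) (𝟙 X)

theorem iG_act (a : AlgGrp.Action G X) (x : 𝟙_ (Over (Spec (CommRingCat.of k))) ⟶ X) :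
    iG G x ≫ a.act = a.orbitMap x := rfl

omit [GrpObj G] in
theorem comp_iG {T : Over (Spec (CommRingCat.of k))} (w : T ⟶ G)
    (x : 𝟙_ (Over (Spec (CommRingCat.of k))) ⟶ X) :
    w ≫ iG G x = lift w (toUnit T ≫ x) := by
  apply CartesianMonoidalCategory.hom_ext
  · simp [iG]
  · simp only [iG, Category.assoc, lift_snd]
    rw [← Category.assoc]
    congr 1
    exact toUnit_unique _ _

theorem cone_facts (a : AlgGrp.Action G X) (x : 𝟙_ (Over (Spec (CommRingCat.of k))) ⟶ X)
    {T : Over (Spec (CommRingCat.of k))} (u : T ⟶ G ⊗ X) (v : T ⟶ X)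
    (h : u ≫ Φ a = v ≫ iG X x) : u ≫ a.act = v ∧ u ≫ snd G X = toUnit T ≫ x := by
  rw [comp_iG] at h
  constructor
  · have := congrArg (fun f => f ≫ fst X X) h
    simpa [Φ] using this
  · have := congrArg (fun f => f ≫ snd X X) h
    simpa [Φ] using this

theorem isPullback_Φ (a : AlgGrp.Action G X) (x : 𝟙_ (Over (Spec (CommRingCat.of k))) ⟶ X) :
    IsPullback (iG G x) (a.orbitMap x) (Φ a) (iG X x) := by
  have hw : iG G x ≫ Φ a = a.orbitMap x ≫ iG X x := by
    rw [comp_iG]
    apply CartesianMonoidalCategory.hom_ext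
    · simp [Φ, iG, AlgGrp.Action.orbitMap]
    · simp [Φ, iG]
  refine ⟨⟨hw⟩, ⟨Limits.PullbackCone.IsLimit.mk _ (fun s => s.fst ≫ fst G X) ?_ ?_ ?_⟩⟩
  · intro s
    obtain ⟨h1, h2⟩ := cone_facts a x s.fst s.snd s.condition
    rw [comp_iG, ← h2]
    apply CartesianMonoidalCategory.hom_ext <;> simp
  · intro s
    obtain ⟨h1, h2⟩ := cone_facts a x s.fst s.snd s.condition
    rw [← iG_act, ← Category.assoc, comp_iG, ← h2, ← h1]
    congr 1
    apply CartesianMonoidalCategory.hom_ext <;> simp
  · intro s m h1 h2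
    have := congrArg (fun f => f ≫ fst G X) h1
    simpa [iG] using this

/-- the closure of a locally closed subset has the same dimension. -/
theorem dim_closure_eq {P : Scheme.{u}} (q : P ⟶ Spec (CommRingCat.of k)) [LocallyOfFiniteType q]
    (O : Set P) (hO : IsLocallyClosed O) :
    topologicalKrullDim ↥(closure O) = topologicalKrullDim ↥O := by
  haveI : IsLocallyNoetherian P := LocallyOfFiniteType.isLocallyNoetherian q
  apply le_antisymm
  · apply FTSub.dim_le_of_forall_td_of_isLocallyClosed k q _ isClosed_closure.isLocallyClosed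
    intro z hz
    obtain ⟨ζ, hζcl, hζz, hmax⟩ :=
      PITSch.exists_maximal_generization_mem (closure O) isClosed_closure z hz
    have hζO : ζ ∈ O :=
      WellInt.mem_of_mem_closure_of_maximal O
        (FTSub.isLocallyConstructible_of_isLocallyClosed O hO) ζ hζcl
        (fun s' hs' h => hmax s' (subset_closure hs') h)
    have h2 := FTSub.td_le_dim_of_isLocallyClosed k q O hO ζ hζO
    refine le_trans ?_ h2
    by_cases hne : ζ = z
    · rw [hne]
    · have h1 : td q z < td q ζ :=
        M14887.td_lt_of_specializes_of_ne q ζ z hζz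
          (Subsingleton.elim (α := PrimeSpectrum k) _ _) hne
      exact_mod_cast h1.le
  · exact dim_mono subset_closure

theorem sec_apply (x : 𝟙_ (Over (Spec (CommRingCat.of k))) ⟶ X) :
    (sec G X).left (x.left (show PrimeSpectrum k from ⊥)) = (iG G x).left (ept G) := by
  have h : x ≫ sec G X = η[G] ≫ iG G x := by
    rw [comp_iG]
    unfold sec
    apply CartesianMonoidalCategory.hom_ext
    · simp only [Category.assoc, lift_fst]
      rw [← Category.assoc, toUnit_unique (x ≫ toUnit X) (𝟙 _), Category.id_comp]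
    · simp only [Category.assoc, lift_snd, Category.comp_id]
      rw [toUnit_unique (toUnit (𝟙_ (Over (Spec (CommRingCat.of k))))) (𝟙 _), Category.id_comp]
  show (x ≫ sec G X).left _ = (η[G] ≫ iG G x).left _
  rw [h]

theorem main11244 (a : AlgGrp.Action G X) [LocallyOfFiniteType G.hom] [QuasiCompact G.hom]
    [LocallyOfFiniteType X.hom] [QuasiCompact X.hom] (r : ℕ) :
    ∃ Z : Set ↥X.left, IsClosed Z ∧
      ∀ x : 𝟙_ (Over (Spec (CommRingCat.of k))) ⟶ X,
        topologicalKrullDim ↥(closure (Set.range ⇑(a.orbitMap x).left.base)) ≤ (r : WithBot ℕ∞) ↔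
          Set.range ⇑x.left.base ⊆ Z := by
  haveI hGX : LocallyOfFiniteType (G ⊗ X).hom := by
    have e : (G ⊗ X).hom = Limits.pullback.fst G.hom X.hom ≫ G.hom := (Over.w (fst G X)).symm
    rw [e]
    infer_instance
  haveI : LocallyOfFiniteType (Φ a).left := by
    haveI : LocallyOfFiniteType ((Φ a).left ≫ (X ⊗ X).hom) := by rw [Over.w]; infer_instance
    exact locallyOfFiniteType_of_comp (Φ a).left (X ⊗ X).hom
  haveI : CompactSpace G.left := QuasiCompact.compactSpace_of_compactSpace G.hom
  -- dimension of `G`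
  have hGtop : topologicalKrullDim ↥G.left ≠ ⊤ := Groth.Agent.Helper23.WeilDim.krullDim_ne_top G.hom
  have hG0 : 0 ≤ topologicalKrullDim ↥G.left := by
    haveI : Nonempty ↥G.left := ⟨ept G⟩
    exact Groth.Agent.Helper9.TopDim.dim_nonneg_of_nonempty
  obtain ⟨n, hn⟩ : ∃ n : ℕ, topologicalKrullDim ↥G.left = (n : WithBot ℕ∞) := by
    generalize topologicalKrullDim ↥G.left = N at hGtop hG0
    induction N using WithBot.recBotCoe with
    | bot => exact absurd hG0 (by simp)
    | coe N =>
      induction N using ENat.recTopCoe with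
      | top => exact absurd rfl hGtop
      | coe n => exact ⟨n, rfl⟩
  refine ⟨(sec G X).left.base ⁻¹' {w | ((n - r : ℕ) : WithBot ℕ∞) ≤ FlatMor.fibreDimAt (Φ a).left w},
    (GenDim.isClosed_le_fibreDimAt (Φ a).left (n - r)).preimage (sec G X).left.continuous, ?_⟩
  intro x
  have hO : IsLocallyClosed (Set.range (a.orbitMap x).left.base) :=
    Groth.Agent.Helper18.OrbitLC.main k G X a x
  rw [dim_closure_eq X.hom _ hO]
  obtain ⟨d, hd⟩ := exists_nat_fibreDim a x
  have hdim := dim_eq a x d hd
  have hsq : IsPullback (iG G x).left (a.orbitMap x).left (Φ a).left (iG X x).left :=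
    (isPullback_Φ a x).map (Over.forget _)
  haveI := lft_left a x
  have hfd : FlatMor.fibreDimAt (Φ a).left ((sec G X).left (x.left (show PrimeSpectrum k from ⊥))) =
      (d : WithBot ℕ∞) := by
    rw [sec_apply, ← FibreDimBC.fibreDimAt_eq hsq (ept G)]
    exact hd _
  have hrange : Set.range ⇑x.left.base = {x.left (show PrimeSpectrum k from ⊥)} := by
    ext z
    constructor
    · rintro ⟨t, rfl⟩
      rw [Set.mem_singleton_iff]
      congr 1
      exact Subsingleton.elim (α := PrimeSpectrum k) _ _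
    · rintro rfl
      exact ⟨_, rfl⟩
  rw [hrange, Set.singleton_subset_iff, Set.mem_preimage, Set.mem_setOf_eq]
  have hfd' : FlatMor.fibreDimAt (Φ a).left ((sec G X).left.base (x.left (show PrimeSpectrum k from ⊥))) =
      (d : WithBot ℕ∞) := hfd
  rw [hfd']
  rw [hn] at hdim
  generalize topologicalKrullDim ↥(Set.range ⇑(a.orbitMap x).left.base) = D at hdim
  induction D using WithBot.recBotCoe with
  | bot => simp at hdim
  | coe D =>
    induction D using ENat.recTopCoe with
    | top =>
      exfalso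
      have h1 : ((⊤ : ℕ∞) : WithBot ℕ∞) + (d : WithBot ℕ∞) = ((⊤ : ℕ∞) : WithBot ℕ∞) := by
        rw [show (d : WithBot ℕ∞) = ((d : ℕ∞) : WithBot ℕ∞) from rfl, ← WithBot.coe_add, top_add]
      rw [h1] at hdim
      have h2 : ((n : ℕ∞)) = (⊤ : ℕ∞) := by exact_mod_cast hdim
      simp at h2
    | coe o =>
      have h1 : n = o + d := by exact_mod_cast hdim
      constructor
      · intro h
        have h2 : o ≤ r := by exact_mod_cast h
        exact_mod_cast (by omega : n - r ≤ d)
      · intro h
        have h2 : n - r ≤ d := by exact_mod_cast h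
        exact_mod_cast (by omega : o ≤ r)

end Groth.Agent.Helper16.Orbit
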