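import Mathlib
import Groth.Agent.Lib.Helper28.RestrictPB

set_option autoImplicit false
open CategoryTheory AlgebraicGeometry
universe u

namespace Groth.Agent.Helper16.PropImm

/-- If `f⁻¹U = ⊤`, then `f ∣_ U` is isomorphic (as arrow) to any lift of `f` through `U.ι`. -/
lemma morphismRestrict_eq_of_fac {X Y : Scheme.{u}} (f : X ⟶ Y) (U : Y.Opens)
    (g : X ⟶ U) (hg : g ≫ U.ι = f) : (f ⁻¹ᵁ U).ι ≫ g = f ∣_ U := by
  rw [← cancel_mono U.ι, Category.assoc, hg, morphismRestrict_ι]

lemma isIso_ι_of_range_subset {X Y : Scheme.{u}} (f : X ⟶ Y) (U : Y.Opens)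
    (h : Set.range f ⊆ U) : IsIso (f ⁻¹ᵁ U).ι := by
  have : f ⁻¹ᵁ U = ⊤ := by
    ext x
    simp only [TopologicalSpace.Opens.coe_top, Set.mem_univ, iff_true]
    exact h ⟨x, rfl⟩
  rw [this]
  exact (inferInstance : IsIso (Scheme.topIso X).hom)

theorem main {X Y : Scheme.{u}}
    (f : X ⟶ Y) :
    (∃ (Z : Scheme.{u}) (g : X ⟶ Z) (h : Z ⟶ Y), IsProper g ∧ IsImmersion h ∧ g ≫ h = f) ↔
      ∀ x : X, ∃ U : Y.Opens, f.base x ∈ U ∧ IsProper (f ∣_ U) := by
  constructor
  · rintro ⟨Z, g, h, hg, hh, rfl⟩ x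
    refine ⟨h.coborderRange, ?_, ?_⟩
    · have : (g ≫ h) x = h.coborderRange.ι (h.liftCoborder (g x)) := by
        rw [← Scheme.Hom.comp_apply, ← Scheme.Hom.comp_apply, h.liftCoborder_ι]
      rw [this]
      exact (h.liftCoborder (g x)).2
    · have hfac : (g ≫ h.liftCoborder) ≫ h.coborderRange.ι = g ≫ h := by
        rw [Category.assoc, h.liftCoborder_ι]
      have hr : Set.range (g ≫ h) ⊆ h.coborderRange := by
        rintro _ ⟨x, rfl⟩
        have : (g ≫ h) x = h.coborderRange.ι (h.liftCoborder (g x)) := by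
          rw [← Scheme.Hom.comp_apply, ← Scheme.Hom.comp_apply, h.liftCoborder_ι]
        rw [this]
        exact (h.liftCoborder (g x)).2
      have := isIso_ι_of_range_subset (g ≫ h) h.coborderRange hr
      rw [← morphismRestrict_eq_of_fac (g ≫ h) h.coborderRange _ hfac]
      infer_instance
  · intro H
    let S : Set Y.Opens := {U | IsProper (f ∣_ U)}
    have hS : IsProper (f ∣_ sSup S) :=
      Groth.Agent.Helper28.RestrictPB.restrict_sSup (P := @IsProper) f S (fun V hV => hV)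
    have hr : Set.range f ⊆ (sSup S : Y.Opens) := by
      rintro _ ⟨x, rfl⟩
      obtain ⟨U, hxU, hU⟩ := H x
      exact TopologicalSpace.Opens.mem_sSup.mpr ⟨U, hU, hxU⟩
    have hr' : Set.range f ⊆ Set.range (sSup S).ι := by
      simpa using hr
    refine ⟨((sSup S : Y.Opens) : Scheme.{u}), IsOpenImmersion.lift (sSup S).ι f hr', (sSup S).ι, ?_, inferInstance,
      IsOpenImmersion.lift_fac _ _ _⟩
    have := isIso_ι_of_range_subset f (sSup S) hr
    have h1 := morphismRestrict_eq_of_fac f (sSup S) (IsOpenImmersion.lift (sSup S).ι f hr')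
      (IsOpenImmersion.lift_fac _ _ _)
    rw [← h1] at hS
    exact (MorphismProperty.cancel_left_of_respectsIso @IsProper _ _).mp hS

end Groth.Agent.Helper16.PropImm
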