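import Mathlib
import Groth.Agent.Lib.Helper16.Alg.QFSplitPI
import Groth.Agent.Lib.Helper16.Sch.SpecRes
import Groth.Agent.Lib.Helper16.Sch.QFSch

set_option autoImplicit false
universe u
open CategoryTheory CategoryTheory.Limits AlgebraicGeometry Polynomial TensorProduct

namespace Groth.Agent.Helper16.QFPI
open Groth.Agent.Helper16.SpecRes

/-- finite purely inseparable residue field extension along `Spec.map α` at `r` -/
def ΦPI (R' : CommRingCat.{u}) : ∀ (Q : CommRingCat.{u}), (R' ⟶ Q) → Spec Q → Prop :=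
  fun Q α r =>
    letI := ((Spec.map α).residueFieldMap r).hom.toAlgebra
    Module.Finite ((Spec R').residueField (Spec.map α r)) ((Spec Q).residueField r) ∧
    IsPurelyInseparable ((Spec R').residueField (Spec.map α r)) ((Spec Q).residueField r)

/-- finiteness of the residue field extension along a finite ring map -/
theorem finite_residue {R₂ Q : CommRingCat.{u}} (α : R₂ ⟶ Q) (hα : α.hom.Finite) (r : Spec Q) :
    letI := ((Spec.map α).residueFieldMap r).hom.toAlgebra
    Module.Finite ((Spec R₂).residueField (Spec.map α r)) ((Spec Q).residueField r) := by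
  classical
  letI := ((Spec.map α).residueFieldMap r).hom.toAlgebra
  letI := α.hom.toAlgebra
  haveI : Module.Finite R₂ Q := hα
  obtain ⟨s, hs⟩ := Module.Finite.fg_top (R := R₂) (M := Q)
  have e1 : ∀ a : R₂, algebraMap ((Spec R₂).residueField (Spec.map α r)) ((Spec Q).residueField r)
      (ev R₂ (Spec.map α r) a) = ev Q r (α a) := fun a => ev_naturality α r a
  have hint : ∀ z : Q, IsIntegral ((Spec R₂).residueField (Spec.map α r)) (ev Q r z) := by
    intro z
    refine IsIntegral.map_of_comp_eq (ev R₂ (Spec.map α r)) (ev Q r) ?_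
      (IsIntegral.of_finite R₂ z)
    ext a
    exact e1 a
  let S : Subalgebra ((Spec R₂).residueField (Spec.map α r)) ((Spec Q).residueField r) :=
    Algebra.adjoin _ ((ev Q r) '' (s : Set Q))
  have hSint : S ≤ integralClosure _ _ := by
    apply Algebra.adjoin_le
    rintro _ ⟨z, -, rfl⟩
    exact hint z
  have hmem : ∀ z : Q, ev Q r z ∈ S := by
    intro z
    have hz : z ∈ Submodule.span R₂ (s : Set Q) := by rw [hs]; trivial
    induction hz using Submodule.span_induction with
    | mem z hz => exact Algebra.subset_adjoin ⟨z, hz, rfl⟩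
    | zero => rw [map_zero]; exact zero_mem _
    | add x y _ _ hx hy => rw [map_add]; exact add_mem hx hy
    | smul a x _ hx =>
      have : ev Q r (a • x) = algebraMap _ _ (ev R₂ (Spec.map α r) a) * ev Q r x := by
        rw [e1, ← map_mul]
        rfl
      rw [this]
      exact mul_mem (S.algebraMap_mem _) hx
  have htop : S = ⊤ := by
    rw [eq_top_iff]
    intro c _
    obtain ⟨a', b', hb', hab'⟩ := exists_frac_ev Q r c
    have hb0 : ev Q r b' ≠ 0 := by rw [Ne, ev_eq_zero_iff]; exact hb'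
    have hc : c = ev Q r a' * (ev Q r b')⁻¹ := by
      rw [← hab', mul_assoc, mul_inv_cancel₀ hb0, mul_one]
    rw [hc]
    exact mul_mem (hmem a') (S.inv_mem_of_algebraic (x := ⟨ev Q r b', hmem b'⟩) (hint b').isAlgebraic)
  haveI : Algebra.FiniteType ((Spec R₂).residueField (Spec.map α r)) ((Spec Q).residueField r) := by
    constructor
    rw [← htop]
    have : ((ev Q r) '' (s : Set Q)) = ((s.image (ev Q r) : Finset _) : Set _) := by
      simp
    show (Algebra.adjoin _ ((ev Q r) '' (s : Set Q))).FG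
    rw [this]
    exact Subalgebra.fg_adjoin_finset _
  haveI : Algebra.IsIntegral ((Spec R₂).residueField (Spec.map α r)) ((Spec Q).residueField r) := by
    constructor
    intro c
    have : c ∈ S := by rw [htop]; trivial
    exact hSint this
  exact Algebra.IsIntegral.finite


set_option backward.isDefEq.respectTransparency.types false in
/-- the residue field extension of a piece is purely inseparable -/
theorem piece_pi {R R₂ A Q : Type u} [CommRing R] [CommRing R₂] [CommRing A] [CommRing Q]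
    [Algebra R R₂] [Algebra R A] [Algebra R₂ Q]
    (p : Ideal R) [p.IsPrime] (p₂ : Ideal R₂) [p₂.IsPrime] [p₂.LiesOver p]
    (q : Ideal A) [q.IsPrime] (hq : p = q.comap (algebraMap R A)) [Algebra.QuasiFiniteAt R q]
    (hsplit : letI := (Ideal.ResidueField.map p q (algebraMap R A) hq).toAlgebra
      ∀ β : q.ResidueField, IsSeparable p.ResidueField β →
        ((minpoly p.ResidueField β).map
          (Ideal.ResidueField.map p p₂ (algebraMap R R₂) (p₂.over_def p))).Splits)
    (π : R₂ ⊗[R] A →ₐ[R₂] Q) (hπ : Function.Surjective π)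
    (r : Ideal Q) (hr : r.IsPrime) (hrp : r.comap (algebraMap R₂ Q) = p₂)
    (hrq : r.comap (π.toRingHom.comp (Algebra.TensorProduct.includeRight :
      A →ₐ[R] R₂ ⊗[R] A).toRingHom) = q) :
    letI := ((Spec.map (CommRingCat.ofHom (algebraMap R₂ Q))).residueFieldMap
      (⟨r, hr⟩ : PrimeSpectrum Q)).hom.toAlgebra
    IsPurelyInseparable
      ((Spec (.of R₂)).residueField (Spec.map (CommRingCat.ofHom (algebraMap R₂ Q))
        (⟨r, hr⟩ : PrimeSpectrum Q)))
      ((Spec (.of Q)).residueField (⟨r, hr⟩ : PrimeSpectrum Q)) := by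
  letI algL := (Ideal.ResidueField.map p q (algebraMap R A) hq).toAlgebra
  haveI : Module.Finite p.ResidueField q.ResidueField :=
    Groth.Agent.Helper16.ENR.finite_residueField_of_quasiFiniteAt p q hq
  obtain ⟨α, hα⟩ : ∃ α : CommRingCat.of R₂ ⟶ CommRingCat.of Q,
      α = CommRingCat.ofHom (algebraMap R₂ Q) := ⟨_, rfl⟩
  obtain ⟨r', hr'⟩ : ∃ r' : Spec (.of Q), r' = (⟨r, hr⟩ : PrimeSpectrum Q) := ⟨_, rfl⟩
  rw [← hα, ← hr']
  have hαa : ∀ a : R₂, α a = algebraMap R₂ Q a := fun a => by rw [hα]; rfl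
  have hr'r : r'.asIdeal = r := by rw [hr']
  have hu' : ∀ a : R₂, a ∈ (Spec.map α r').asIdeal ↔ a ∈ p₂ := by
    intro a
    rw [← hrp]
    show α a ∈ r'.asIdeal ↔ algebraMap R₂ Q a ∈ r
    rw [hαa, hr'r]
  -- the maps
  let evM := ev (.of R₂) (Spec.map α r')
  let evF := ev (.of Q) r'
  let iM := ((Spec.map α).residueFieldMap r').hom
  have e1 : ∀ a : R₂, iM (evM a) = evF (algebraMap R₂ Q a) := fun a => by
    have := ev_naturality α r' a
    rw [hαa] at this
    exact this
  have e2 : ∀ a : R₂, evM a = 0 ↔ a ∈ p₂ := fun a =>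
    (ev_eq_zero_iff (.of R₂) (Spec.map α r') a).trans (hu' a)
  have e3 : ∀ z : Q, evF z = 0 ↔ z ∈ r := fun z => by
    rw [← hr'r]; exact ev_eq_zero_iff (.of Q) r' z
  let jM' : p₂.ResidueField →+* (Spec (.of R₂)).residueField (Spec.map α r') :=
    Ideal.ResidueField.lift p₂ evM (fun a ha => (e2 a).mpr ha) (fun a ha => by
      show IsUnit (evM a)
      rw [isUnit_iff_ne_zero, Ne, e2]
      exact ha)
  have hjM' : ∀ a : R₂, jM' (algebraMap R₂ p₂.ResidueField a) = evM a := fun a =>
    Ideal.ResidueField.lift_algebraMap _ _ _ _ a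
  let φ : A →+* Q := π.toRingHom.comp (Algebra.TensorProduct.includeRight :
      A →ₐ[R] R₂ ⊗[R] A).toRingHom
  have hφq : ∀ a : A, φ a ∈ r ↔ a ∈ q := fun a => by rw [← hrq]; rfl
  let iL : q.ResidueField →+* (Spec (.of Q)).residueField r' :=
    Ideal.ResidueField.lift q (evF.comp φ) (fun a ha => by
      show evF (φ a) = 0
      rw [e3, hφq]; exact ha) (fun a ha => by
      show IsUnit (evF (φ a))
      rw [isUnit_iff_ne_zero, Ne, e3, hφq]
      exact ha)
  have hiL : ∀ a : A, iL (algebraMap A q.ResidueField a) = evF (φ a) := fun a =>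
    Ideal.ResidueField.lift_algebraMap _ _ _ _ a
  have hφR : ∀ a : R, φ (algebraMap R A a) = algebraMap R₂ Q (algebraMap R R₂ a) := by
    intro a
    have h1 := congrArg (fun g => g a)
      (Groth.Agent.Helper16.QFSplit.includeRight_comp_algebraMap R R₂ A)
    have h2 : (Algebra.TensorProduct.includeRight : A →ₐ[R] R₂ ⊗[R] A) (algebraMap R A a) =
        algebraMap R₂ (R₂ ⊗[R] A) (algebraMap R R₂ a) := h1
    show π ((Algebra.TensorProduct.includeRight : A →ₐ[R] R₂ ⊗[R] A) (algebraMap R A a)) = _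
    rw [h2, AlgHom.commutes]
  refine Groth.Agent.Helper16.FieldPI.isPurelyInseparable_of_splits
    (jM'.comp (Ideal.ResidueField.map p p₂ (algebraMap R R₂) (p₂.over_def p))) iL iM ?_ ?_ ?_
  · apply Ideal.ResidueField.ringHom_ext
    ext a
    show iM (jM' (Ideal.ResidueField.map p p₂ (algebraMap R R₂) _ (algebraMap R p.ResidueField a))) =
      iL (Ideal.ResidueField.map p q (algebraMap R A) hq (algebraMap R p.ResidueField a))
    rw [Ideal.ResidueField.map_algebraMap, Ideal.ResidueField.map_algebraMap, hjM', e1, hiL, hφR]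
  · intro β hβ
    rw [← Polynomial.map_map]
    exact (hsplit β hβ).map _
  · rw [eq_top_iff]
    intro c _
    have hz : ∀ z : Q, evF z ∈ Subfield.closure (Set.range iL ∪ Set.range iM) := by
      intro z
      obtain ⟨t, rfl⟩ := hπ z
      induction t using TensorProduct.induction_on with
      | zero => rw [map_zero, map_zero]; exact zero_mem _
      | add x y hx hy => rw [map_add, map_add]; exact add_mem hx hy
      | tmul x a =>
        have h1 : π (x ⊗ₜ[R] a) = algebraMap R₂ Q x * φ a := by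
          have : x ⊗ₜ[R] a = x • ((1 : R₂) ⊗ₜ[R] a) := by
            rw [TensorProduct.smul_tmul', smul_eq_mul, mul_one]
          rw [this, map_smul, Algebra.smul_def]
          rfl
        rw [h1, map_mul]
        refine mul_mem (Subfield.subset_closure (Or.inr ⟨evM x, e1 x⟩))
          (Subfield.subset_closure (Or.inl ⟨algebraMap A q.ResidueField a, hiL a⟩))
    obtain ⟨a', b', hb', hab'⟩ := exists_frac_ev (.of Q) r' c
    have hb0 : evF b' ≠ 0 := by rw [Ne, e3, ← hr'r]; exact hb'
    have hc : c = evF a' * (evF b')⁻¹ := by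
      rw [← hab', mul_assoc, mul_inv_cancel₀ hb0, mul_one]
    rw [hc]
    exact mul_mem (hz a') (inv_mem (hz b'))


/-- transfer of `ΦPI` through an open immersion chart -/
theorem ΦPI_transfer {Y : Scheme.{u}} {R' Q : CommRingCat.{u}} (a : Y ⟶ Spec R') (α : R' ⟶ Q)
    (h : Spec Q ⟶ Y) [IsOpenImmersion h] (r : Spec Q) (hsnd : h ≫ a = Spec.map α)
    (hΦ : ΦPI R' Q α r) :
    letI := (a.residueFieldMap (h r)).hom.toAlgebra
    Module.Finite ((Spec R').residueField (a (h r))) (Y.residueField (h r)) ∧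
    IsPurelyInseparable ((Spec R').residueField (a (h r))) (Y.residueField (h r)) := by
  have hpt : a (h r) = Spec.map α r := by
    rw [← hsnd]; rfl
  refine Groth.Agent.Helper16.FieldPI.transfer_fpi (a.residueFieldMap (h r)).hom
    ((Spec.map α).residueFieldMap r).hom
    ((Spec R').residueFieldCongr hpt).commRingCatIsoToRingEquiv
    (asIso (h.residueFieldMap r)).commRingCatIsoToRingEquiv ?_ hΦ
  have h1 : a.residueFieldMap (h r) ≫ h.residueFieldMap r =
      ((Spec R').residueFieldCongr hpt).hom ≫ (Spec.map α).residueFieldMap r := by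
    rw [← Scheme.residueFieldMap_comp]
    exact Scheme.Hom.residueFieldMap_congr hsnd r
  ext k
  exact ConcreteCategory.congr_hom h1 k


open Groth.Agent.Helper16.QFSch Groth.Agent.Helper16.QFSplit in
/-- étale localization at finitely many quasi-finite points, with finite purely inseparable
residue field extensions -/
theorem qfMain_pi {X S : Scheme.{u}} (f : X ⟶ S) [LocallyOfFiniteType f] (s : S)
    {ι : Type} [Finite ι] (x : ι → ↑X) (hs : ∀ i, f (x i) = s)
    (hx : ∀ i, f.QuasiFiniteAt (x i)) :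
    ∃ (R' : CommRingCat.{u}) (g : Spec R' ⟶ S) (u : Spec R'), Etale g ∧ g u = s ∧
      (∀ i, QFPieceData f R' g u (x i) (ΦPI R')) := by
  obtain ⟨_, ⟨U, hU, rfl⟩, hsU, -⟩ := S.isBasis_affineOpens.exists_subset_of_mem_open
    (Set.mem_univ s) isOpen_univ
  obtain ⟨V, hVaff, hxV, -, hUV⟩ := Groth.Agent.Helper16.SplitMain.exists_charts f s x hs
    (fun _ => ⊤) (fun _ => trivial) hsU
  letI : ∀ i, Algebra Γ(S, U) Γ(X, V i) := fun i => (f.appLE U (V i) (hUV i)).hom.toAlgebra
  haveI : ∀ i, Algebra.FiniteType Γ(S, U) Γ(X, V i) := fun i =>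
    (qf_setup f s x hs hx hU hsU V hVaff hxV hUV i).1
  have hq : ∀ i, (hU.primeIdealOf ⟨s, hsU⟩).asIdeal =
      ((hVaff i).primeIdealOf ⟨x i, hxV i⟩).asIdeal.comap (algebraMap Γ(S, U) Γ(X, V i)) :=
    fun i => (((qf_setup f s x hs hx hU hsU V hVaff hxV hUV i).2 _ rfl).2.1).symm
  have hqf : ∀ i, Algebra.QuasiFiniteAt Γ(S, U) ((hVaff i).primeIdealOf ⟨x i, hxV i⟩).asIdeal :=
    fun i => ((qf_setup f s x hs hx hU hsU V hVaff hxV hUV i).2 _ rfl).2.2
  obtain ⟨R', _, _, _, p', _, _, hdec, hsplit⟩ :=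
    Groth.Agent.Helper16.ENR.exists_etale_split Γ(S, U) (hU.primeIdealOf ⟨s, hsU⟩).asIdeal
      (fun i => Γ(X, V i)) (fun i => ((hVaff i).primeIdealOf ⟨x i, hxV i⟩).asIdeal) hq hqf
  haveI : Etale (Spec.map (CommRingCat.ofHom (algebraMap Γ(S, U) R'))) :=
    HasRingHomProperty.Spec_iff.mpr (RingHom.etale_algebraMap.mpr inferInstance)
  refine ⟨.of R', Spec.map (CommRingCat.ofHom (algebraMap Γ(S, U) R')) ≫ hU.fromSpec,
    (⟨p', inferInstance⟩ : PrimeSpectrum R'), inferInstance,
    Groth.Agent.Helper16.SplitMain.map_point hU s hsU R' p', ?_⟩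
  intro i
  refine qfPieceData_of_dec f hU (hVaff i) (hUV i) R' p' (x i) (hxV i) (ΦPI (.of R'))
    (hdec i) ?_
  intro Q _ _ π hπ hfin r hr hrp hrq
  haveI := hqf i
  refine ⟨finite_residue (CommRingCat.ofHom (algebraMap R' Q))
    (RingHom.finite_algebraMap.mpr hfin) (⟨r, hr⟩ : PrimeSpectrum Q), ?_⟩
  exact piece_pi (hU.primeIdealOf ⟨s, hsU⟩).asIdeal p'
    ((hVaff i).primeIdealOf ⟨x i, hxV i⟩).asIdeal (hq i) (hsplit i) π hπ r hr hrp hrq

end Groth.Agent.Helper16.QFPI
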