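import Mathlib
import Groth.Prelude.Def_Flat
import Groth.Prelude.Def_EGA4b
import Groth.Agent.Lib.Helper16.Alg.QFPreC
import Groth.Agent.Lib.Helper14.LocalDimSpec
import Groth.Agent.Lib.Helper14.FibreGeneric
import Groth.Agent.Lib.Helper14.TrdegBridge

set_option autoImplicit false
set_option linter.style.haveILetI false
set_option linter.unusedSectionVars false
universe u

open IsLocalRing MvPolynomial

namespace Groth.Agent.Helper16.QFPre

section final

variable (R S : Type u) [CommRing R] [CommRing S] [Algebra R S]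

/-- the transcendence degree of the residue field extension computed on the quotient domains. -/
theorem trdeg_quot_of_residueField (p : Ideal R) [p.IsPrime] (q : Ideal S) [q.IsPrime]
    [q.LiesOver p] [Algebra (Localization.AtPrime p) (Localization.AtPrime q)]
    [Localization.AtPrime.IsLiesOverAlgebra p q] :
    Algebra.trdeg (R ⧸ p) (S ⧸ q) = Algebra.trdeg p.ResidueField q.ResidueField := by
  have key := Groth.Agent.Helper14.TrdegBridge.trdeg_eq_of_fraction p q
    (algebraMap R p.ResidueField) (Ideal.ker_algebraMap_residueField p)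
    (algebraMap S q.ResidueField) (Ideal.ker_algebraMap_residueField q)
    (algebraMap p.ResidueField q.ResidueField)
    ((IsScalarTower.algebraMap_eq R p.ResidueField q.ResidueField).symm.trans
      (IsScalarTower.algebraMap_eq R S q.ResidueField))
    (Groth.Agent.Helper14.FibreGeneric.fraction_residueField R p)
    (Groth.Agent.Helper14.FibreGeneric.fraction_residueField S q)
  rw [← key]
  congr 1

theorem withBot_aux (h : ℕ∞) (n r : ℕ)
    (e : (n : WithBot ℕ∞) = ((h : ℕ∞) : WithBot ℕ∞) + (r : WithBot ℕ∞)) :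
    r ≤ n ∧ h = ((n - r : ℕ) : ℕ∞) := by
  have e' : ((n : ℕ∞) : WithBot ℕ∞) = ((h + (r : ℕ∞) : ℕ∞) : WithBot ℕ∞) := by
    rw [WithBot.coe_add]
    exact e
  have e'' : (n : ℕ∞) = h + (r : ℕ∞) := WithBot.coe_injective e'
  have hfin : h ≠ ⊤ := by
    intro htop
    rw [htop, top_add] at e''
    exact ENat.natCast_ne_top n e''
  obtain ⟨m, rfl⟩ := ENat.ne_top_iff_exists.1 hfin
  have : n = m + r := by exact_mod_cast e''
  constructor
  · omega
  · have : m = n - r := by omega
    rw [this]

/-- numerics for the main theorem. -/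
theorem numerics [Algebra.FiniteType R S] (p : Ideal R) [p.IsPrime] (q : Ideal S) [q.IsPrime]
    [q.LiesOver p] [Algebra (Localization.AtPrime p) (Localization.AtPrime q)]
    [Localization.AtPrime.IsLiesOverAlgebra p q] (Q : PrimeSpectrum (p.Fiber S))
    (hQ : Q.asIdeal.comap (Algebra.TensorProduct.includeRight.toRingHom) = q) (n r : ℕ)
    (hdim : FlatMor.localDim (PrimeSpectrum (p.Fiber S)) Q = (n : WithBot ℕ∞))
    (hr : Algebra.trdeg p.ResidueField q.ResidueField = r) :
    r ≤ n ∧ Algebra.trdeg (R ⧸ p) (S ⧸ q) = (r : Cardinal.{u}) ∧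
      ringKrullDim (EGA4.FibLocRing R S q) = ((n - r : ℕ) : WithBot ℕ∞) := by
  have hr' : Algebra.trdeg (R ⧸ p) (S ⧸ q) = (r : Cardinal.{u}) := by
    rw [trdeg_quot_of_residueField, hr]
  have hr'' : Algebra.trdeg p.ResidueField (p.Fiber S ⧸ Q.asIdeal) = (r : Cardinal.{u}) := by
    rw [Groth.Agent.Helper14.FibreGeneric.trdeg_fiber_quotient R S p Q.asIdeal q hQ, hr']
  have h1 := Groth.Agent.Helper14.LocalDimSpec.localDim_eq p.ResidueField (p.Fiber S) Q.asIdeal r hr''
  have h2 : (n : WithBot ℕ∞) = ((Q.asIdeal.height : ℕ∞) : WithBot ℕ∞) + (r : WithBot ℕ∞) := by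
    rw [← hdim, ← h1]
  obtain ⟨h3, h4⟩ := withBot_aux _ _ _ h2
  refine ⟨h3, hr', ?_⟩
  obtain ⟨e⟩ := RegLoc.nonempty_ringEquiv_fibLocRing R S p q Q.asIdeal hQ
  rw [← ringKrullDim_eq_of_ringEquiv e,
    IsLocalization.AtPrime.ringKrullDim_eq_height Q.asIdeal (Localization.AtPrime Q.asIdeal), h4]
  rfl

set_option maxHeartbeats 800000 in
theorem main [Algebra.FiniteType R S] (p : Ideal R) [p.IsPrime] (q : Ideal S) [q.IsPrime]
    [q.LiesOver p] [Algebra (Localization.AtPrime p) (Localization.AtPrime q)]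
    [Localization.AtPrime.IsLiesOverAlgebra p q] (Q : PrimeSpectrum (p.Fiber S))
    (hQ : Q.asIdeal.comap (Algebra.TensorProduct.includeRight.toRingHom) = q) (n r : ℕ)
    (hdim : FlatMor.localDim (PrimeSpectrum (p.Fiber S)) Q = (n : WithBot ℕ∞))
    (hr : Algebra.trdeg p.ResidueField q.ResidueField = r) :
    ∃ (f : R) (g : S), f ∉ p ∧ g ∉ q ∧
      ∃ φ : MvPolynomial (Fin n) (Localization.Away f) →ₐ[R] Localization.Away g,
        φ.toRingHom.FiniteType ∧ φ.toRingHom.QuasiFinite ∧
        (q.map (algebraMap S (Localization.Away g))).comap φ =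
          p.map (algebraMap R (MvPolynomial (Fin n) (Localization.Away f))) ⊔
            Ideal.span (Set.range fun i : {i : Fin n // r ≤ (i : ℕ)} =>
              (MvPolynomial.X (i : Fin n) : MvPolynomial (Fin n) (Localization.Away f))) := by
  obtain ⟨hrn, hr', hm⟩ := numerics R S p q Q hQ n r hdim hr
  have hqp : p = q.comap (algebraMap R S) := Ideal.LiesOver.over (p := p) (P := q)
  have hr'' : Algebra.trdeg (R ⧸ q.comap (algebraMap R S)) (S ⧸ q) = (r : Cardinal.{u}) := by
    have : ∀ (p' : Ideal R) (hp' : p = p') (h : p' ≤ Ideal.comap (algebraMap R S) q),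
        @Algebra.trdeg (R ⧸ p') (S ⧸ q) _ _ (Ideal.Quotient.algebraQuotientOfLEComap h) =
        (r : Cardinal.{u}) := by
      intro p' hp' h
      subst hp'
      exact hr'
    exact this _ hqp le_rfl
  obtain ⟨g, φ, hgq, hft, hqf, hcomap⟩ := main_affine (R := R) q hrn hr'' hm
  let E : MvPolynomial (Fin n) R ≃ₐ[R] MvPolynomial (Fin n) (Localization.Away (1 : R)) :=
    MvPolynomial.mapAlgEquiv (Fin n) (IsLocalization.atOne R (Localization.Away (1 : R)))
  refine ⟨1, g, fun h => ‹p.IsPrime›.ne_top ((Ideal.eq_top_iff_one _).2 h), hgq,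
    φ.comp E.symm.toAlgHom, ?_, ?_, ?_⟩
  · exact hft.comp (RingHom.FiniteType.of_surjective _ E.symm.surjective)
  · exact hqf.comp (RingHom.QuasiFinite.of_finite
      (RingHom.Finite.of_surjective _ E.symm.surjective))
  · have h1 : (q.map (algebraMap S (Localization.Away g))).comap (φ.comp E.symm.toAlgHom) =
        ((q.map (algebraMap S (Localization.Away g))).comap φ).map
          (E.toAlgHom.toRingHom) := by
      ext P
      rw [Ideal.mem_map_iff_of_surjective (E.toAlgHom.toRingHom) E.surjective]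
      constructor
      · intro hP
        exact ⟨E.symm P, hP, E.apply_symm_apply P⟩
      · rintro ⟨P', hP', rfl⟩
        rw [Ideal.mem_comap]
        change φ (E.symm (E P')) ∈ _
        rw [E.symm_apply_apply]
        exact hP'
    rw [h1, hcomap, Ideal.map_sup, Ideal.map_map, Ideal.map_span, ← hqp]
    congr 1
    · congr 1
      refine RingHom.ext fun a => ?_
      change E (MvPolynomial.C a) = _
      rw [show (MvPolynomial.C a : MvPolynomial (Fin n) R) = algebraMap R _ a from rfl,
        AlgEquiv.commutes]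
    · congr 1
      ext P
      constructor
      · rintro ⟨_, ⟨i, rfl⟩, rfl⟩
        exact ⟨i, by simp [E]⟩
      · rintro ⟨i, rfl⟩
        exact ⟨_, ⟨i, rfl⟩, by simp [E]⟩

end final

end Groth.Agent.Helper16.QFPre
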