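import Mathlib
import Groth.Prelude
import Groth.Agent.Lib.Helper16.Alg.RedBCLen1
import Groth.Agent.Lib.Helper16.Sch.GenLenSep
import Groth.Agent.Lib.Helper12.FlatModBC2

set_option autoImplicit false
set_option linter.style.haveILetI false
universe u
open CategoryTheory CategoryTheory.Limits AlgebraicGeometry Opposite TopologicalSpace TensorProduct
open IsLocalRing

namespace Groth.Agent.Helper16.RedBCLen

open Groth.Agent.Helper12.FlatModBC Groth.Agent.Helper16.GenLenSep

/-- Let `π : X'' ⟶ X'` be flat, `i : R ⟶ X'` a closed immersion from a reduced scheme, and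
`Z'' = R ×_{X'} X''` with `j : Z'' ⟶ X''`. For `z'' : Z''` such that `j z''` is a maximal point,
`length 𝒪_{X'', j z''} = length 𝒪_{X', π (j z'')} * length 𝒪_{Z'', z''}`. -/
theorem length_stalk_eq_mul {X' X'' R Z'' : Scheme.{u}} (π : X'' ⟶ X') [Flat π] (i : R ⟶ X')
    [IsClosedImmersion i] [IsReduced R] (j : Z'' ⟶ X'') (p : Z'' ⟶ R)
    (hc : IsPullback j p π i) (z'' : Z'') (hx'' : ∀ z : X'', z ⤳ j z'' → z = j z'') :
    Module.length (X''.presheaf.stalk (j z'')) (X''.presheaf.stalk (j z'')) =
      Module.length (X'.presheaf.stalk (π (j z''))) (X'.presheaf.stalk (π (j z''))) *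
        Module.length (Z''.presheaf.stalk z'') (Z''.presheaf.stalk z'') := by
  -- the image is a maximal point
  have hx' : ∀ z : X', z ⤳ π (j z'') → z = π (j z'') := by
    intro z hz
    obtain ⟨w, hw, rfl⟩ := (Flat.generalizingMap π) hz
    rw [hx'' w hw]
  haveI : IsClosedImmersion j :=
    MorphismProperty.of_isPullback hc.flip (inferInstance : IsClosedImmersion i)
  letI iAD : Algebra (X'.presheaf.stalk (π (j z''))) (R.presheaf.stalk (p z'')) :=
    (gam hc z'').hom.toAlgebra
  letI iAB : Algebra (X'.presheaf.stalk (π (j z''))) (X''.presheaf.stalk (j z'')) :=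
    (π.stalkMap (j z'')).hom.toAlgebra
  obtain ⟨φ, hφ, hflat⟩ := flat_tensor_stalk hc z''
  haveI : IsLocalHom (algebraMap (X'.presheaf.stalk (π (j z''))) (X''.presheaf.stalk (j z''))) :=
    inferInstanceAs (IsLocalHom (π.stalkMap (j z'')).hom)
  haveI : Module.Flat (X'.presheaf.stalk (π (j z''))) (X''.presheaf.stalk (j z'')) :=
    Flat.stalkMap π (j z'')
  have hnil : ∀ a ∈ maximalIdeal (X'.presheaf.stalk (π (j z''))), IsNilpotent a := by
    intro a ha
    rw [← mem_nilradical, nilradical_eq_sInf, Ideal.mem_sInf]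
    intro Q hQ
    rw [eq_maximalIdeal_of_isPrime_stalk (π (j z'')) hx' Q hQ]
    exact ha
  have hD : Function.Surjective
      (algebraMap (X'.presheaf.stalk (π (j z''))) (R.presheaf.stalk (p z''))) := by
    change Function.Surjective (gam hc z'').hom
    rw [gam, CommRingCat.hom_comp, RingHom.coe_comp]
    refine (i.stalkMap_surjective (p z'')).comp ?_
    exact (ConcreteCategory.bijective_of_isIso
      (X'.presheaf.stalkCongr (.of_eq (pt_eq hc z''))).hom).2
  have hkey := ker_eq_map_maximalIdeal hnil hD (j.stalkMap z'').hom (p.stalkMap z'').hom φ hφ hflat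
  have hψ : Function.Surjective (j.stalkMap z'').hom := j.stalkMap_surjective z''
  -- length of C over itself = length of B ⧸ ker ψ over B
  letI iBC : Algebra (X''.presheaf.stalk (j z'')) (Z''.presheaf.stalk z'') :=
    (j.stalkMap z'').hom.toAlgebra
  have hC : Module.length (Z''.presheaf.stalk z'') (Z''.presheaf.stalk z'') =
      Module.length (X''.presheaf.stalk (j z''))
        (X''.presheaf.stalk (j z'') ⧸ (maximalIdeal (X'.presheaf.stalk (π (j z'')))).map
          (algebraMap (X'.presheaf.stalk (π (j z''))) (X''.presheaf.stalk (j z'')))) := by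
    rw [← Module.length_eq_of_surjective (S := X''.presheaf.stalk (j z''))
      (R := Z''.presheaf.stalk z'') (M := Z''.presheaf.stalk z'') hψ, ← hkey]
    exact (Ideal.quotientKerAlgEquivOfSurjective
      (f := Algebra.ofId (X''.presheaf.stalk (j z'')) (Z''.presheaf.stalk z''))
      hψ).toLinearEquiv.length_eq.symm
  have h1 := IsLocalRing.length_baseChange (X'.presheaf.stalk (π (j z'')))
    (X''.presheaf.stalk (j z'')) (X'.presheaf.stalk (π (j z'')))
  have e := TensorProduct.AlgebraTensorModule.rid (X'.presheaf.stalk (π (j z'')))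
    (X''.presheaf.stalk (j z'')) (X''.presheaf.stalk (j z''))
  rw [hC, ← h1, e.length_eq]

end Groth.Agent.Helper16.RedBCLen
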