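import Mathlib
import Groth.Prelude
import Groth.Agent.Lib.Helper16.Sch.RedBCLen2

set_option autoImplicit false
set_option linter.style.haveILetI false
universe u
open CategoryTheory CategoryTheory.Limits AlgebraicGeometry Opposite TopologicalSpace TensorProduct
open IsLocalRing

namespace Groth.Agent.Helper16.RedBCLen

/-- the closed subscheme defined by the nilradical is reduced. -/
theorem isReduced_nilradical_subscheme (X : Scheme.{u}) : IsReduced X.nilradical.subscheme := by
  apply +allowSynthFailures @IsReduced.of_openCover
    (𝒰 := X.nilradical.subschemeCover.openCover)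
  intro (U : X.affineOpens)
  show IsReduced (Spec (.of (Γ(X, U.1) ⧸ X.nilradical.ideal U)))
  rw [affine_isReduced_iff]
  show _root_.IsReduced (Γ(X, U.1) ⧸ X.nilradical.ideal U)
  rw [← Ideal.isRadical_iff_quotient_reduced]
  show ((⊥ : X.IdealSheafData).radical.ideal U).IsRadical
  rw [Scheme.IdealSheafData.radical_ideal]
  exact Ideal.radical_isRadical _

open FBase in
theorem main {k k' k'' : Type u} [Field k] [Field k'] [Field k''] [Algebra k k']
    [Algebra k' k''] {X : Scheme.{u}} (f : X ⟶ Spec (CommRingCat.of k))
    (x'' : ↥(FBase.bc (FBase.bcStr f k') k''))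
    (hx'' : ∀ z : ↥(FBase.bc (FBase.bcStr f k') k''), z ⤳ x'' → z = x'')
    (z'' : ↥(FBase.bc ((FBase.bc f k').nilradical.subschemeι ≫ FBase.bcStr f k') k''))
    (hz'' : pullback.map ((FBase.bc f k').nilradical.subschemeι ≫ FBase.bcStr f k')
        (Spec.map (CommRingCat.ofHom (algebraMap k' k''))) (FBase.bcStr f k')
        (Spec.map (CommRingCat.ofHom (algebraMap k' k''))) (FBase.bc f k').nilradical.subschemeι (𝟙 _) (𝟙 _)
        (Category.comp_id _) ((Category.comp_id _).trans (Category.id_comp _).symm) z'' = x'') :
    Module.length ((FBase.bc (FBase.bcStr f k') k'').presheaf.stalk x'') ((FBase.bc (FBase.bcStr f k') k'').presheaf.stalk x'') =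
      Module.length ((FBase.bc f k').presheaf.stalk (FBase.bcπ (FBase.bcStr f k') k'' x''))
          ((FBase.bc f k').presheaf.stalk (FBase.bcπ (FBase.bcStr f k') k'' x'')) *
        Module.length ((FBase.bc ((FBase.bc f k').nilradical.subschemeι ≫ FBase.bcStr f k') k'').presheaf.stalk z'')
          ((FBase.bc ((FBase.bc f k').nilradical.subschemeι ≫ FBase.bcStr f k') k'').presheaf.stalk z'') := by
  subst hz''
  haveI hflat0 : Flat (Spec.map (CommRingCat.ofHom (algebraMap k' k''))) := by
    rw [Flat.SpecMap_iff]
    exact RingHom.flat_algebraMap_iff.mpr inferInstance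
  haveI : Flat (FBase.bcπ (FBase.bcStr f k') k'') :=
    inferInstanceAs (Flat (Limits.pullback.fst (FBase.bcStr f k')
      (Spec.map (CommRingCat.ofHom (algebraMap k' k'')))))
  haveI := isReduced_nilradical_subscheme (FBase.bc f k')
  -- the left square is a pullback
  have houter : IsPullback
      (pullback.map ((FBase.bc f k').nilradical.subschemeι ≫ FBase.bcStr f k')
        (Spec.map (CommRingCat.ofHom (algebraMap k' k''))) (FBase.bcStr f k')
        (Spec.map (CommRingCat.ofHom (algebraMap k' k''))) (FBase.bc f k').nilradical.subschemeι (𝟙 _) (𝟙 _)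
        (Category.comp_id _) ((Category.comp_id _).trans (Category.id_comp _).symm) ≫
        pullback.snd (FBase.bcStr f k') (Spec.map (CommRingCat.ofHom (algebraMap k' k''))))
      (pullback.fst ((FBase.bc f k').nilradical.subschemeι ≫ FBase.bcStr f k')
        (Spec.map (CommRingCat.ofHom (algebraMap k' k''))))
      (Spec.map (CommRingCat.ofHom (algebraMap k' k'')))
      ((FBase.bc f k').nilradical.subschemeι ≫ FBase.bcStr f k') := by
    have h : pullback.map ((FBase.bc f k').nilradical.subschemeι ≫ FBase.bcStr f k')
        (Spec.map (CommRingCat.ofHom (algebraMap k' k''))) (FBase.bcStr f k')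
        (Spec.map (CommRingCat.ofHom (algebraMap k' k''))) (FBase.bc f k').nilradical.subschemeι (𝟙 _) (𝟙 _)
        (Category.comp_id _) ((Category.comp_id _).trans (Category.id_comp _).symm) ≫
        pullback.snd (FBase.bcStr f k') (Spec.map (CommRingCat.ofHom (algebraMap k' k''))) =
        pullback.snd ((FBase.bc f k').nilradical.subschemeι ≫ FBase.bcStr f k')
        (Spec.map (CommRingCat.ofHom (algebraMap k' k''))) := by
      rw [pullback.map, pullback.lift_snd, Category.comp_id]
    rw [h]
    exact (IsPullback.of_hasPullback _ _).flip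
  have hright : IsPullback
      (pullback.snd (FBase.bcStr f k') (Spec.map (CommRingCat.ofHom (algebraMap k' k''))))
      (FBase.bcπ (FBase.bcStr f k') k'')
      (Spec.map (CommRingCat.ofHom (algebraMap k' k''))) (FBase.bcStr f k') :=
    (IsPullback.of_hasPullback _ _).flip
  have hleft := IsPullback.of_right houter
    (by rw [FBase.bcπ, pullback.map, pullback.lift_fst]) hright
  exact length_stalk_eq_mul (FBase.bcπ (FBase.bcStr f k') k'')
    (FBase.bc f k').nilradical.subschemeι _ _ hleft z'' hx''

end Groth.Agent.Helper16.RedBCLen
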