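import Mathlib
import Groth.Agent.Lib.Helper16.Sch.FibStalk

set_option autoImplicit false
universe u

open IsLocalRing AlgebraicGeometry CategoryTheory

noncomputable section

namespace Groth.Agent.Helper16.RedDVR

/-- Noetherian local ring `B`, `t ∈ m_B` a nonzerodivisor with `B/(t)` reduced: `B` is reduced. -/
theorem isReduced_of_isReduced_quotient {B : Type u} [CommRing B] [IsLocalRing B]
    [IsNoetherianRing B] (t : B) (ht : t ∈ maximalIdeal B) (hreg : t ∈ nonZeroDivisors B)
    (hred : IsReduced (B ⧸ Ideal.span {t})) : IsReduced B := by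
  have key : ∀ n : ℕ, ∀ a : B, IsNilpotent a → a ∈ Ideal.span {t} ^ n := by
    intro n
    induction n with
    | zero => intro a _; simp
    | succ n ih =>
      intro a ha
      have h1 : IsNilpotent (Ideal.Quotient.mk (Ideal.span {t}) a) := ha.map _
      have h2 : Ideal.Quotient.mk (Ideal.span {t}) a = 0 := h1.eq_zero
      rw [Ideal.Quotient.eq_zero_iff_mem, Ideal.mem_span_singleton'] at h2
      obtain ⟨b, rfl⟩ := h2
      have hb : IsNilpotent b := by
        obtain ⟨k, hk⟩ := ha
        refine ⟨k, ?_⟩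
        rw [mul_pow] at hk
        exact (mul_right_mem_nonZeroDivisors_eq_zero_iff (pow_mem hreg k)).mp hk
      rw [pow_succ]
      exact Ideal.mul_mem_mul (ih b hb) (Ideal.mem_span_singleton_self t)
  have hne : Ideal.span {t} ≠ (⊤ : Ideal B) := by
    intro h
    have : Ideal.span {t} ≤ maximalIdeal B := (Ideal.span_singleton_le_iff_mem _).mpr ht
    exact (maximalIdeal.isMaximal B).ne_top (top_le_iff.mp (h ▸ this))
  have hK := Ideal.iInf_pow_eq_bot_of_isLocalRing (Ideal.span {t}) hne
  refine ⟨fun a ha => ?_⟩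
  have : a ∈ ⨅ i : ℕ, Ideal.span {t} ^ i := by
    rw [Ideal.mem_iInf]
    exact fun n => key n a ha
  rw [hK] at this
  exact this

/-- reducedness of stalks is stable under generization -/
theorem isReduced_stalk_of_specializes {X : Scheme.{u}} {x x₀ : X} (h : x ⤳ x₀)
    (hred : IsReduced (X.presheaf.stalk x₀)) : IsReduced (X.presheaf.stalk x) := by
  obtain ⟨_, ⟨U, hU, rfl⟩, hx₀U, -⟩ :=
    X.isBasis_affineOpens.exists_subset_of_mem_open (Set.mem_univ x₀) isOpen_univ
  have hxU : x ∈ U := h.mem_open U.isOpen hx₀U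
  letI a1 := TopCat.Presheaf.algebra_section_stalk X.presheaf (⟨x, hxU⟩ : U)
  letI a0 := TopCat.Presheaf.algebra_section_stalk X.presheaf (⟨x₀, hx₀U⟩ : U)
  haveI l1 := hU.isLocalization_stalk ⟨x, hxU⟩
  haveI l0 := hU.isLocalization_stalk ⟨x₀, hx₀U⟩
  set p := (hU.primeIdealOf ⟨x, hxU⟩).asIdeal with hp
  set p₀ := (hU.primeIdealOf ⟨x₀, hx₀U⟩).asIdeal with hp₀
  have hle : ∀ v : Γ(X, U), v ∈ p₀.primeCompl → v ∈ p.primeCompl := by
    intro v hv
    rw [← IsLocalization.AtPrime.isUnit_to_map_iff (X.presheaf.stalk x₀) p₀] at hv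
    rw [← IsLocalization.AtPrime.isUnit_to_map_iff (X.presheaf.stalk x) p]
    have h0 : x₀ ∈ X.basicOpen v := (X.mem_basicOpen v x₀ hx₀U).mpr hv
    have h1 : x ∈ X.basicOpen v := h.mem_open (X.basicOpen v).isOpen h0
    exact (X.mem_basicOpen v x hxU).mp h1
  refine ⟨fun a ha => ?_⟩
  obtain ⟨⟨s, t⟩, rfl⟩ := IsLocalization.mk'_surjective p.primeCompl a
  obtain ⟨n, hn⟩ := ha
  have hs : (algebraMap Γ(X, U) (X.presheaf.stalk x) s) ^ n = 0 := by
    have := IsLocalization.mk'_spec (X.presheaf.stalk x) s t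
    rw [← this, mul_pow, hn, zero_mul]
  rw [← map_pow, IsLocalization.map_eq_zero_iff p.primeCompl] at hs
  obtain ⟨u, hu⟩ := hs
  have hnil : IsNilpotent ((u : Γ(X, U)) * s) := by
    refine ⟨n + 1, ?_⟩
    calc ((u : Γ(X, U)) * s) ^ (n + 1) = (u : Γ(X, U)) ^ n * s * ((u : Γ(X, U)) * s ^ n) := by ring
      _ = 0 := by rw [hu, mul_zero]
  have h0 : algebraMap Γ(X, U) (X.presheaf.stalk x₀) ((u : Γ(X, U)) * s) = 0 :=
    (hnil.map _).eq_zero
  rw [IsLocalization.map_eq_zero_iff p₀.primeCompl] at h0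
  obtain ⟨v, hv⟩ := h0
  have : algebraMap Γ(X, U) (X.presheaf.stalk x) s = 0 := by
    rw [IsLocalization.map_eq_zero_iff p.primeCompl]
    exact ⟨⟨v * u, p.primeCompl.mul_mem (hle v v.2) u.2⟩, by rw [← hv]; simp [mul_assoc]⟩
  rw [IsLocalization.mk'_eq_zero_iff]
  rw [IsLocalization.map_eq_zero_iff p.primeCompl] at this
  exact this


open Groth.Agent.Helper16.FibStalk in
/-- stalks of `X` at points of the special fibre are reduced -/
theorem isReduced_stalk_of_mem_specialFibre {R : Type u} [CommRing R] [IsDomain R]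
    [IsDiscreteValuationRing R] {X : Scheme.{u}} (f : X ⟶ Spec (CommRingCat.of R))
    [LocallyOfFiniteType f] [Flat f]
    (hred : IsReduced (f.fiber (IsLocalRing.closedPoint R)))
    (x' : f.fiber (IsLocalRing.closedPoint R)) :
    _root_.IsReduced (X.presheaf.stalk (f.fiberι _ x')) := by
  have hfx : f (f.fiberι _ x') = IsLocalRing.closedPoint R := apply_fiberι f _ x'
  haveI : IsLocallyNoetherian X := LocallyOfFiniteType.isLocallyNoetherian f
  obtain ⟨ϖ, hϖ⟩ := IsDiscreteValuationRing.exists_irreducible R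
  let A := (Spec (CommRingCat.of R)).presheaf.stalk (f (f.fiberι _ x'))
  let B := X.presheaf.stalk (f.fiberι _ x')
  letI aRA : Algebra R A := inferInstanceAs
    (Algebra R ((Spec.structureSheaf R).presheaf.stalk (f (f.fiberι _ x'))))
  haveI lRA : IsLocalization.AtPrime A (f (f.fiberι _ x')).asIdeal := inferInstanceAs
    (IsLocalization.AtPrime ((Spec.structureSheaf R).presheaf.stalk (f (f.fiberι _ x')))
      (f (f.fiberι _ x')).asIdeal)
  let ψ : A →+* B := (f.stalkMap (f.fiberι _ x')).hom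
  letI aRB : Algebra R B := (ψ.comp (algebraMap R A)).toAlgebra
  letI aAB : Algebra A B := ψ.toAlgebra
  haveI : IsScalarTower R A B := IsScalarTower.of_algebraMap_eq' rfl
  haveI : Module.Flat R A := IsLocalization.flat A (f (f.fiberι _ x')).asIdeal.primeCompl
  haveI : Module.Flat A B := Flat.stalkMap f (f.fiberι _ x')
  haveI : Module.Flat R B := Module.Flat.trans R A B
  let t : B := algebraMap R B ϖ
  have hmax : maximalIdeal A = Ideal.span {algebraMap R A ϖ} := by
    rw [← IsLocalization.AtPrime.map_eq_maximalIdeal (f (f.fiberι _ x')).asIdeal A, hfx]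
    change Ideal.map (algebraMap R A) (maximalIdeal R) = _
    rw [hϖ.maximalIdeal_eq, Ideal.map_span, Set.image_singleton]
  have hfib : fibIdeal f (f.fiberι _ x') = Ideal.span {t} := by
    change Ideal.map ψ (maximalIdeal A) = _
    rw [hmax, Ideal.map_span, Set.image_singleton]
    rfl
  have ht : t ∈ maximalIdeal B := by
    apply fibIdeal_le f (f.fiberι _ x')
    rw [hfib]
    exact Ideal.mem_span_singleton_self t
  have hreg : t ∈ nonZeroDivisors B := by
    have h1 : IsSMulRegular B ϖ :=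
      Module.Flat.isSMulRegular_of_nonZeroDivisors (mem_nonZeroDivisors_of_ne_zero hϖ.ne_zero)
    rw [mem_nonZeroDivisors_iff_right]
    intro b hb
    apply h1
    show ϖ • b = ϖ • (0 : B)
    rw [smul_zero, Algebra.smul_def, mul_comm]
    exact hb
  have hq : _root_.IsReduced (B ⧸ Ideal.span {t}) := by
    let e : (B ⧸ Ideal.span {t}) ≃+* (f.fiber (IsLocalRing.closedPoint R)).presheaf.stalk x' :=
      (Ideal.quotEquivOfEq hfib.symm).trans (quotEquivStalkFiber f _ x')
    exact isReduced_of_injective e.toRingHom e.injective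
  exact isReduced_of_isReduced_quotient t ht hreg hq

end Groth.Agent.Helper16.RedDVR
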