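import Mathlib
import Groth.Agent.Lib.Helper16.Sch.RedDVR

set_option autoImplicit false
universe u

open IsLocalRing AlgebraicGeometry CategoryTheory

noncomputable section

namespace Groth.Agent.Helper16.RedDVR

open Groth.Agent.Helper16.FibStalk

theorem isReduced_of_proper_flat_dvr {R : Type u} [CommRing R] [IsDomain R]
    [IsDiscreteValuationRing R] {X : Scheme.{u}}
    (f : X ⟶ Spec (CommRingCat.of R)) [IsProper f] [Flat f]
    (hred : IsReduced (f.fiber (IsLocalRing.closedPoint R))) : IsReduced X := by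
  refine @isReduced_of_isReduced_stalk X (fun x => ?_)
  -- find a specialization in the special fibre
  have hcl : IsClosed (f '' closure {x}) := f.isClosedMap _ isClosed_closure
  have h1 : closure {f x} ⊆ f '' closure {x} :=
    hcl.closure_subset_iff.mpr (Set.singleton_subset_iff.mpr ⟨x, subset_closure rfl, rfl⟩)
  have h2 : IsLocalRing.closedPoint R ∈ closure {f x} :=
    specializes_iff_mem_closure.mp (IsLocalRing.specializes_closedPoint (f x))
  obtain ⟨x₀, hx₀, hfx₀⟩ := h1 h2
  have hsp : x ⤳ x₀ := specializes_iff_mem_closure.mpr hx₀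
  have hmem : x₀ ∈ Set.range (f.fiberι (IsLocalRing.closedPoint R)) := by
    rw [f.range_fiberι]; exact hfx₀
  obtain ⟨x₀', rfl⟩ := hmem
  exact isReduced_stalk_of_specializes hsp (isReduced_stalk_of_mem_specialFibre f hred x₀')

theorem isReduced_genericFibre {R : Type u} [CommRing R] [IsDomain R]
    {X : Scheme.{u}} (f : X ⟶ Spec (CommRingCat.of R)) [IsReduced X] :
    IsReduced (f.fiber (⟨⊥, Ideal.isPrime_bot⟩ : PrimeSpectrum R)) := by
  refine @isReduced_of_isReduced_stalk _ (fun x' => ?_)
  have hfx := apply_fiberι f (⟨⊥, Ideal.isPrime_bot⟩ : PrimeSpectrum R) x'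
  let A := (Spec (CommRingCat.of R)).presheaf.stalk (f (f.fiberι _ x'))
  let B := X.presheaf.stalk (f.fiberι _ x')
  letI aRA : Algebra R A := inferInstanceAs
    (Algebra R ((Spec.structureSheaf R).presheaf.stalk (f (f.fiberι _ x'))))
  haveI lRA : IsLocalization.AtPrime A (f (f.fiberι _ x')).asIdeal := inferInstanceAs
    (IsLocalization.AtPrime ((Spec.structureSheaf R).presheaf.stalk (f (f.fiberι _ x')))
      (f (f.fiberι _ x')).asIdeal)
  have hmax : maximalIdeal A = ⊥ := by
    rw [← IsLocalization.AtPrime.map_eq_maximalIdeal (f (f.fiberι _ x')).asIdeal A, hfx]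
    exact Ideal.map_bot
  have hfib : fibIdeal f (f.fiberι _ x') = ⊥ := by
    change Ideal.map (f.stalkMap (f.fiberι _ x')).hom (maximalIdeal A) = _
    rw [hmax, Ideal.map_bot]
  let e : B ≃+* (f.fiber (⟨⊥, Ideal.isPrime_bot⟩ : PrimeSpectrum R)).presheaf.stalk x' :=
    (RingEquiv.quotientBot B).symm.trans
      ((Ideal.quotEquivOfEq hfib.symm).trans (quotEquivStalkFiber f _ x'))
  exact isReduced_of_injective e.symm.toRingHom e.symm.injective

end Groth.Agent.Helper16.RedDVR
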