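import Mathlib
import Groth.Prelude

set_option autoImplicit false
set_option linter.style.haveILetI false
set_option linter.unusedSectionVars false
universe u

open AlgebraicGeometry CategoryTheory Limits IsLocalRing TopologicalSpace

namespace Groth.Agent.Helper16.RedFib

/-- geometric reducedness at a point implies reducedness of the local ring. -/
theorem isReduced_stalk_of_isGeomReducedAt {k : Type u} [Field k] {W : Scheme.{u}}
    (g : W ⟶ Spec (CommRingCat.of k)) (w : W) (h : FBase.IsGeomReducedAt g w) :
    _root_.IsReduced (W.presheaf.stalk w) := by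
  have hid : Spec.map (CommRingCat.ofHom (algebraMap k k)) = 𝟙 _ := by
    rw [Algebra.algebraMap_self]
    exact Spec.map_id _
  haveI : IsIso (Spec.map (CommRingCat.ofHom (algebraMap k k))) := by
    rw [hid]; infer_instance
  haveI : IsIso (FBase.bcπ g k) := by
    unfold FBase.bcπ
    exact pullback_fst_iso_of_right_iso g (Spec.map (CommRingCat.ofHom (algebraMap k k)))
  let w' : ↥(FBase.bc g k) := (inv (FBase.bcπ g k)).base w
  have hw' : (FBase.bcπ g k).base w' = w := by
    change ((inv (FBase.bcπ g k)) ≫ (FBase.bcπ g k)).base w = w
    rw [IsIso.inv_hom_id]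
    rfl
  haveI := h k w' hw'
  have hinj : Function.Injective ((FBase.bcπ g k).stalkMap w').hom :=
    ((ConcreteCategory.isIso_iff_bijective ((FBase.bcπ g k).stalkMap w')).mp inferInstance).1
  have hred : _root_.IsReduced (W.presheaf.stalk ((FBase.bcπ g k).base w')) :=
    isReduced_of_injective _ hinj
  rw [hw'] at hred
  exact hred

end Groth.Agent.Helper16.RedFib
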