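import Mathlib
import Groth.Prelude
import Groth.Agent.Lib.Helper16.Sch.FibStalk

set_option autoImplicit false
set_option linter.style.haveILetI false
set_option linter.unusedSectionVars false
universe u

open AlgebraicGeometry CategoryTheory Limits IsLocalRing TopologicalSpace

namespace Groth.Agent.Helper16.RedFib

open Groth.Agent.Helper16.FibStalk

/-- transport of reducedness of a quotient of a localization along the canonical iso. -/
theorem isReduced_quotient_of_isLocalization {B : Type u} [CommRing B] (r : Ideal B) [r.IsPrime]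
    (L : Type u) [CommRing L] [Algebra B L] [IsLocalization.AtPrime L r] (J : Ideal B)
    (h : _root_.IsReduced (L ⧸ J.map (algebraMap B L))) :
    _root_.IsReduced (Localization.AtPrime r ⧸ J.map (algebraMap B (Localization.AtPrime r))) := by
  let ε : Localization.AtPrime r ≃ₐ[B] L :=
    IsLocalization.algEquiv r.primeCompl (Localization.AtPrime r) L
  have hmap : J.map (algebraMap B L) =
      (J.map (algebraMap B (Localization.AtPrime r))).map (ε : Localization.AtPrime r →+* L) := by
    rw [Ideal.map_map]
    congr 1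
    ext b
    simp
  let e' : (Localization.AtPrime r ⧸ J.map (algebraMap B (Localization.AtPrime r))) ≃+*
      (L ⧸ J.map (algebraMap B L)) :=
    Ideal.quotientEquiv _ _ (ε : Localization.AtPrime r ≃+* L) hmap
  exact isReduced_of_injective e'.toRingHom e'.injective

set_option maxHeartbeats 1600000 in
/-- the fibre ideal in terms of affine charts. -/
theorem fibIdeal_eq_map {X Y : Scheme.{u}} (f : X ⟶ Y) (V : Y.Opens) (hV : IsAffineOpen V)
    (U : X.Opens) (hU : IsAffineOpen U) (e : U ≤ f ⁻¹ᵁ V) (x' : X) (hx' : x' ∈ U) :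
    fibIdeal f x' =
      ((((hU.primeIdealOf ⟨x', hx'⟩).asIdeal.comap (f.appLE V U e).hom).map
        (f.appLE V U e).hom).map (X.presheaf.germ U x' hx').hom) := by
  letI aY := Y.presheaf.algebra_section_stalk ⟨f x', e hx'⟩
  haveI locY := hV.isLocalization_stalk ⟨f x', e hx'⟩
  have hp : (hU.primeIdealOf ⟨x', hx'⟩).asIdeal.comap (f.appLE V U e).hom =
      (hV.primeIdealOf ⟨f x', e hx'⟩).asIdeal :=
    congrArg PrimeSpectrum.asIdeal (IsAffineOpen.comap_primeIdealOf_appLE V hV U hU e hx')
  have hmax : maximalIdeal (Y.presheaf.stalk (f x')) =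
      (hV.primeIdealOf ⟨f x', e hx'⟩).asIdeal.map (Y.presheaf.germ V (f x') (e hx')).hom :=
    (IsLocalization.AtPrime.map_eq_maximalIdeal (hV.primeIdealOf ⟨f x', e hx'⟩).asIdeal
      (Y.presheaf.stalk (f x'))).symm
  have hcomm : (f.stalkMap x').hom.comp (Y.presheaf.germ V (f x') (e hx')).hom =
      (X.presheaf.germ U x' hx').hom.comp (f.appLE V U e).hom := by
    rw [← CommRingCat.hom_comp, ← CommRingCat.hom_comp]
    congr 1
    rw [Scheme.Hom.germ_stalkMap, Scheme.Hom.appLE, Category.assoc, X.presheaf.germ_res']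
  rw [fibIdeal_def, hmax, Ideal.map_map, hcomm, hp, Ideal.map_map]

end Groth.Agent.Helper16.RedFib
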