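import Mathlib
import Groth.Prelude
import Groth.Agent.Lib.Helper16.Alg.RedFlat7
import Groth.Agent.Lib.Helper16.Sch.RedFib1
import Groth.Agent.Lib.Helper16.Sch.RedFib2
import Groth.Agent.Lib.Helper16.Sch.GeomRed2

set_option autoImplicit false
set_option linter.style.haveILetI false
set_option linter.unusedSectionVars false
universe u

open AlgebraicGeometry CategoryTheory Limits IsLocalRing TopologicalSpace

namespace Groth.Agent.Helper16.RedFib

open Groth.Agent.Helper16.FibStalk

set_option maxHeartbeats 3200000 in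
/-- **EGA IV 12.1.? (reduced case)**: `f` flat, locally of finite presentation; `𝒪_{Y,f x}`
reduced and the fibre geometrically reduced at `x`; then `𝒪_{X,x}` is reduced. -/
theorem isReduced_stalk_of_flat_of_geomReduced {X Y : Scheme.{u}} (f : X ⟶ Y) [Flat f]
    [LocallyOfFinitePresentation f] (x : X)
    (hy : _root_.IsReduced (Y.presheaf.stalk (f x)))
    (hx : FBase.IsGeomReducedAt (f.fiberToSpecResidueField (f x)) (f.asFiber x)) :
    _root_.IsReduced (X.presheaf.stalk x) := by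
  have hWo := Groth.Agent.Helper16.EquiSk.isOpen_geomReduced_fibre f
  let W : X.Opens := ⟨_, hWo⟩
  obtain ⟨V, hV, hfxV, -⟩ :=
    exists_isAffineOpen_mem_and_subset (x := f x) (U := (⊤ : Y.Opens)) trivial
  have hxW : x ∈ W ⊓ f ⁻¹ᵁ V := ⟨hx, hfxV⟩
  obtain ⟨U, hU, hxU, hUsub⟩ := exists_isAffineOpen_mem_and_subset hxW
  have e : U ≤ f ⁻¹ᵁ V := fun z hz => (hUsub hz).2
  have hUW : ∀ z ∈ U,
      FBase.IsGeomReducedAt (f.fiberToSpecResidueField (f z)) (f.asFiber z) :=
    fun z hz => (hUsub hz).1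
  letI alg : Algebra Γ(Y, V) Γ(X, U) := (f.appLE V U e).hom.toAlgebra
  haveI : Module.Flat Γ(Y, V) Γ(X, U) :=
    HasRingHomProperty.appLE (P := @Flat) f inferInstance ⟨V, hV⟩ ⟨U, hU⟩ e
  haveI : Algebra.FinitePresentation Γ(Y, V) Γ(X, U) :=
    HasRingHomProperty.appLE (P := @LocallyOfFinitePresentation) f inferInstance ⟨V, hV⟩ ⟨U, hU⟩ e
  let q₀ : Ideal Γ(X, U) := (hU.primeIdealOf ⟨x, hxU⟩).asIdeal
  let p₀ : Ideal Γ(Y, V) := (hV.primeIdealOf ⟨f x, hfxV⟩).asIdeal
  have hq : q₀.comap (algebraMap Γ(Y, V) Γ(X, U)) = p₀ :=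
    congrArg PrimeSpectrum.asIdeal (IsAffineOpen.comap_primeIdealOf_appLE V hV U hU e hxU)
  letI aY := Y.presheaf.algebra_section_stalk ⟨f x, hfxV⟩
  haveI locY := hV.isLocalization_stalk ⟨f x, hfxV⟩
  haveI : _root_.IsReduced (Localization.AtPrime p₀) := by
    let ε := IsLocalization.algEquiv p₀.primeCompl (Localization.AtPrime p₀)
      (Y.presheaf.stalk (f x))
    exact isReduced_of_injective ε.toRingEquiv.toRingHom ε.injective
  have H : ∀ (r : Ideal Γ(X, U)) [r.IsPrime], _root_.IsReduced (Localization.AtPrime r ⧸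
      ((r.comap (algebraMap Γ(Y, V) Γ(X, U))).map (algebraMap Γ(Y, V) Γ(X, U))).map
        (algebraMap Γ(X, U) (Localization.AtPrime r))) := by
    intro r hr
    obtain ⟨x', hx', hr'⟩ : ∃ (x' : X) (hx' : x' ∈ U),
        (hU.primeIdealOf ⟨x', hx'⟩).asIdeal = r := by
      let z : ↥U := hU.isoSpec.inv ⟨r, hr⟩
      refine ⟨z.1, z.2, ?_⟩
      have : hU.primeIdealOf ⟨z.1, z.2⟩ = ⟨r, hr⟩ := by
        change hU.isoSpec.hom (hU.isoSpec.inv ⟨r, hr⟩) = _
        rw [← Scheme.Hom.comp_apply, Iso.inv_hom_id]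
        rfl
      rw [this]
    subst hr'
    letI aX := X.presheaf.algebra_section_stalk ⟨x', hx'⟩
    haveI locX := hU.isLocalization_stalk ⟨x', hx'⟩
    refine isReduced_quotient_of_isLocalization (hU.primeIdealOf ⟨x', hx'⟩).asIdeal
      (X.presheaf.stalk x') _ ?_
    have hfib := fibIdeal_eq_map f V hV U hU e x' hx'
    have hstalk : _root_.IsReduced ((f.fiber (f x')).presheaf.stalk (f.asFiber x')) :=
      isReduced_stalk_of_isGeomReducedAt
        (k := IsLocalRing.ResidueField (Y.presheaf.stalk (f x')))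
        (f.fiberToSpecResidueField (f x')) (f.asFiber x') (hUW x' hx')
    have hquot : _root_.IsReduced (X.presheaf.stalk x' ⧸ fibIdeal f x') :=
      isReduced_of_injective (fibStalkEquiv f x').toRingHom (fibStalkEquiv f x').injective
    rw [hfib] at hquot
    exact hquot
  haveI hloc := Groth.Agent.Helper16.RedFlat.isReduced_localization_of_flat_of_stalks
    Γ(Y, V) Γ(X, U) q₀ p₀ hq H
  letI aX := X.presheaf.algebra_section_stalk ⟨x, hxU⟩
  haveI locX := hU.isLocalization_stalk ⟨x, hxU⟩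
  let ε := IsLocalization.algEquiv q₀.primeCompl (X.presheaf.stalk x) (Localization.AtPrime q₀)
  exact isReduced_of_injective ε.toRingEquiv.toRingHom ε.injective

end Groth.Agent.Helper16.RedFib
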