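import Mathlib

set_option autoImplicit false
set_option linter.style.haveILetI false
universe u
open CategoryTheory CategoryTheory.Limits AlgebraicGeometry Opposite TopologicalSpace

noncomputable section

namespace Groth.Agent.Helper16.RedGen

variable {X Y : Scheme.{u}}

/-- if the stalk at `y` is a field, the base change to the stalk is the fibre -/
theorem isReduced_pullback_fromSpecStalk (f : X ⟶ Y) (y : Y) (hF : IsField (Y.presheaf.stalk y))
    [IsReduced (f.fiber y)] : IsReduced (pullback f (Y.fromSpecStalk y)) := by
  letI := hF.toField
  have hbij : Function.Bijective (Y.residue y).hom := by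
    constructor
    · exact (Y.residue y).hom.injective
    · exact IsLocalRing.residue_surjective
  haveI : IsIso (Y.residue y) := by
    rw [ConcreteCategory.isIso_iff_bijective]
    exact hbij
  have H := IsPullback.of_hasPullback f (Y.fromSpecResidueField y)
  have H' : IsPullback (pullback.fst f (Y.fromSpecResidueField y))
      (pullback.snd f (Y.fromSpecResidueField y) ≫ Spec.map (Y.residue y)) f
      (Y.fromSpecStalk y) := by
    refine IsPullback.of_iso H (Iso.refl _) (Iso.refl _) (asIso (Spec.map (Y.residue y)))
      (Iso.refl _) ?_ ?_ ?_ ?_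
    · simp
    · simp
    · simp
    · simp [Scheme.fromSpecResidueField]
  haveI : IsReduced (pullback f (Y.fromSpecResidueField y)) := ‹IsReduced (f.fiber y)›
  exact isReduced_of_isOpenImmersion H'.isoPullback.inv

end Groth.Agent.Helper16.RedGen

namespace Groth.Agent.Helper16.RedGen

variable {X Y : Scheme.{u}}

set_option backward.isDefEq.respectTransparency false in
theorem main (f : X ⟶ Y) [Flat f] [IsReduced Y] (hfin : (irreducibleComponents ↥Y).Finite)
    (h : ∀ η : Y, closure {η} ∈ irreducibleComponents ↥Y → IsReduced (f.fiber η)) :
    IsReduced X := by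
  haveI : Finite (irreducibleComponents Y) := hfin.to_subtype
  let pt (Z : irreducibleComponents Y) := Y.presheaf.stalk Z.property.1.genericPoint
  have hcl (Z : irreducibleComponents Y) :
      closure {Z.property.1.genericPoint} ∈ irreducibleComponents Y := by
    rw [Z.property.1.closure_genericPoint (isClosed_of_mem_irreducibleComponents _ Z.property)]
    exact Z.property
  have hpt (Z : _) : IsField (pt Z) :=
    isField_stalk_of_closure_mem_irreducibleComponents _ _ (hcl Z)
  let (Z : _) := (hpt Z).toField
  let Z := ∐ fun Z ↦ Spec (pt Z)
  let g : Z ⟶ Y := Sigma.desc fun Z ↦ Y.fromSpecStalk _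
  have : Finite Z := (sigmaMk _).finite_iff.mp inferInstance
  have : QuasiCompact g := ⟨fun _ _ _ ↦ (Set.toFinite _).isCompact⟩
  have H : IsSchemeTheoreticallyDominant g := by
    rw [isSchemeTheoreticallyDominant_iff_isDominant, isDominant_iff, denseRange_iff_closure_range,
      Set.eq_univ_iff_forall]
    intro y
    let z : Z := Sigma.ι (fun Z ↦ Spec (pt Z)) ⟨_, irreducibleComponent_mem_irreducibleComponents y⟩
      (IsLocalRing.closedPoint _)
    have hz : g z ⤳ y := by
      simp only [g, z, Z, ← Scheme.Hom.comp_apply, Sigma.ι_desc, pt,
        Scheme.fromSpecStalk_closedPoint]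
      exact (IsIrreducible.isGenericPoint_genericPoint _
        isClosed_irreducibleComponent).specializes mem_irreducibleComponent
    exact hz.mem_closed isClosed_closure (subset_closure ⟨_, rfl⟩)
  suffices IsReduced (pullback f g) from IsSchemeTheoreticallyDominant.isReduced (pullback.fst f g)
  have H := IsUniversalColimit.isPullback_of_isColimit_left
    (X := fun Z ↦ Spec (pt Z))
    (FinitaryPreExtensive.isUniversal_finiteCoproducts (coproductIsCoproduct _))
    (fun Z ↦ Y.fromSpecStalk _) g f _ _ (fun _ ↦ .of_hasPullback _ _) (coproductIsCoproduct _)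
  apply +allowSynthFailures @isReduced_of_isOpenImmersion (f := H.isoPullback.inv)
  apply +allowSynthFailures @IsReduced.of_openCover (𝒰 := sigmaOpenCover _)
  intro i
  haveI := h _ (hcl i)
  exact isReduced_pullback_fromSpecStalk f _ (hpt i)

end Groth.Agent.Helper16.RedGen
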