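import Mathlib
import Groth.Prelude
import Groth.Agent.Lib.Helper16.Sch.RedModBC3
import Groth.Agent.Lib.Helper5.BCF4
import Groth.Agent.Lib.Helper12.EtStalk2
import Groth.Agent.Lib.Helper13.FittPullback

set_option autoImplicit false
set_option linter.style.haveILetI false
set_option linter.unusedSectionVars false
universe u
open CategoryTheory CategoryTheory.Limits AlgebraicGeometry Opposite TopologicalSpace TensorProduct
open IsLocalRing

namespace Groth.Agent.Helper16.RedModBC

theorem flat_of_isField_module {R M : Type u} [CommRing R] [AddCommGroup M] [Module R M]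
    (h : IsField R) : Module.Flat R M := by
  letI := h.toField
  infer_instance

variable {k : Type u} [Field k] {X Y : Scheme.{u}}

/-- every module is flat over a field. -/
theorem isFlatOver_of_field (g : Y ⟶ Spec (CommRingCat.of k)) (G : Y.Modules) :
    FlatMod.IsFlatOver g G := by
  intro y
  unfold FlatMod.IsFlatOverAt
  letI := FlatMod.moduleStalkOver g G y
  exact flat_of_isField_module (IsLocalRing.isField_iff_maximalIdeal_eq.mpr
    (Groth.Agent.Helper12.EtStalk.maximalIdeal_stalk_Spec_field k _))

theorem flat_of_Spec_field {κ : CommRingCat.{u}} (γ : Spec κ ⟶ Spec (CommRingCat.of k)) :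
    Flat γ := by
  obtain ⟨φ, rfl⟩ := Spec.map_surjective γ
  rw [Flat.SpecMap_iff]
  letI := φ.hom.toAlgebra
  show (algebraMap k κ).Flat
  exact RingHom.flat_algebraMap_iff.mpr inferInstance

variable (f : X ⟶ Spec (CommRingCat.of k))

/-- consequences of geometric reducedness at an associated point. -/
theorem facts_of_geomReduced [IsLocallyNoetherian X] (F : X.Modules) (hF : Coh.IsCoh F)
    (H : ∀ (k' : Type u) [Field k'] [Algebra k k'] [FiniteDimensional k k']
      [IsPurelyInseparable k k'],
        AssSch.IsReducedMod ((Scheme.Modules.pullback (FBase.bcπ f k')).obj F))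
    (x : X) (hx : x ∈ AssSch.Ass F) :
    (∀ x' ∈ AssSch.Ass F, x' ⤳ x → x' = x) ∧
      Module.length (X.presheaf.stalk x) (F.presheaf.stalk x) = 1 ∧
      ∀ (K : Type u) [Field K] [Algebra k K],
        IsReduced (FBase.bc (X.fromSpecResidueField x ≫ f) K) := by
  have H' : ∀ (k' : Type u) [Field k'] [Algebra k k'] [FiniteDimensional k k']
      [IsPurelyInseparable k k'], ∀ y ∈ AssSch.Ass F,
        (∀ y' ∈ AssSch.Ass F, y' ⤳ y → y' = y) ∧
          Module.length (X.presheaf.stalk y) (F.presheaf.stalk y) = 1 ∧
          AssSch.IsReducedMod (Coh.structureModule ((FBase.bcπ f k').fiber y)) := by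
    intro k' _ _ _ _ y hy
    exact (isReducedMod_pullback_iff (FBase.bcπ f k') F hF).mp (H k') y
      ⟨hy, surjective_bcπ' f k' y⟩
  obtain ⟨hmax, hlen, -⟩ := H' k x hx
  refine ⟨hmax, hlen, ?_⟩
  intro K _ _
  apply Groth.Agent.Helper16.BCRed.isReduced_bc_of_forall_finite_purelyInseparable
  intro k' _ _ hfin hpi
  rw [← isReduced_fiber_iff]
  haveI := hfin
  haveI := hpi
  haveI := isFinite_bcπ' f k'
  haveI : IsFinite ((FBase.bcπ f k').fiberToSpecResidueField x) :=
    inferInstanceAs (IsFinite (Limits.pullback.snd (FBase.bcπ f k')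
      (X.fromSpecResidueField x)))
  haveI : IsArtinianRing (X.residueField x) := inferInstance
  exact isReduced_of_isReducedMod_structureModule
    (fun z => isArtinianRing_stalk_of_isFinite
      ((FBase.bcπ f k').fiberToSpecResidueField x) z) (H' k' x hx).2.2

theorem isReduced_pullback_of_forall_bc {U : Scheme.{u}} (h : U ⟶ Spec (CommRingCat.of k))
    (H : ∀ (K : Type u) [Field K] [Algebra k K], IsReduced (FBase.bc h K))
    (y : Y) (g : Y ⟶ Spec (CommRingCat.of k)) :
    IsReduced (pullback h (Y.fromSpecResidueField y ≫ g)) := by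
  let φ : k →+* Y.residueField y := (Spec.preimage (Y.fromSpecResidueField y ≫ g)).hom
  letI := φ.toAlgebra
  have e : Spec.map (CommRingCat.ofHom (algebraMap k (Y.residueField y))) =
      Y.fromSpecResidueField y ≫ g := Spec.map_preimage _
  haveI key : IsReduced (pullback h
      (Spec.map (CommRingCat.ofHom (algebraMap k (Y.residueField y))))) := H (Y.residueField y)
  exact isReduced_of_isOpenImmersion (pullback.congrHom (rfl : h = h) e.symm).hom

variable (g : Y ⟶ Spec (CommRingCat.of k))

theorem isPullback_rho (x : X) :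
    IsPullback ((pullback.fst f g).fiberι x ≫ pullback.snd f g)
      ((pullback.fst f g).fiberToSpecResidueField x) g (X.fromSpecResidueField x ≫ f) :=
  (IsPullback.of_hasPullback (pullback.fst f g) (X.fromSpecResidueField x)).paste_horiz
    (IsPullback.of_hasPullback f g).flip

theorem flat_rho (x : X) : Flat ((pullback.fst f g).fiberι x ≫ pullback.snd f g) :=
  MorphismProperty.of_isPullback (P := @Flat) (isPullback_rho f g x).flip
    (flat_of_Spec_field (X.fromSpecResidueField x ≫ f))

theorem main4661 [IsLocallyNoetherian X] [IsLocallyNoetherian Y]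
    (F : X.Modules) (hF : Coh.IsCoh F) (G : Y.Modules) (hG : Coh.IsCoh G)
    (hFgr : ∀ (k' : Type u) [Field k'] [Algebra k k'] [FiniteDimensional k k']
      [IsPurelyInseparable k k'],
      AssSch.IsReducedMod ((Scheme.Modules.pullback (FBase.bcπ f k')).obj F))
    (hGr : AssSch.IsReducedMod G) :
    AssSch.IsReducedMod (CohB1.tensorMod ((Scheme.Modules.pullback (pullback.fst f g)).obj F)
      ((Scheme.Modules.pullback (pullback.snd f g)).obj G)) := by
  haveI : G.IsQuasicoherent := hG.1
  haveI : SheafOfModules.IsFiniteType (R := Y.ringCatSheaf) G := hG.2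
  have hcoh : Coh.IsCoh ((Scheme.Modules.pullback (pullback.snd f g)).obj G) :=
    ⟨inferInstance, Groth.Agent.Helper13.FittSheaf.isFiniteType_pullback _ G⟩
  have hflat : FlatMod.IsFlatOver (pullback.fst f g)
      ((Scheme.Modules.pullback (pullback.snd f g)).obj G) :=
    Groth.Agent.Helper5.BCF.isFlatOver_pullback (IsPullback.of_hasPullback f g).flip G
      (isFlatOver_of_field g G)
  rw [Groth.Agent.Helper16.AssTen.isReducedMod_tensor_iff (pullback.fst f g) F hF _ hcoh hflat]
  rintro x ⟨hxF, -⟩
  obtain ⟨hmax, hlen, hred⟩ := facts_of_geomReduced f F hF hFgr x hxF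
  refine ⟨hmax, hlen, ?_⟩
  have epc : (Scheme.Modules.pullback ((pullback.fst f g).fiberι x)).obj
      ((Scheme.Modules.pullback (pullback.snd f g)).obj G) ≅
      (Scheme.Modules.pullback ((pullback.fst f g).fiberι x ≫ pullback.snd f g)).obj G :=
    (Scheme.Modules.pullbackComp ((pullback.fst f g).fiberι x) (pullback.snd f g)).app G
  rw [isReducedMod_iff_of_iso epc]
  haveI := flat_rho f g x
  rw [isReducedMod_pullback_iff _ G hG]
  rintro y ⟨hyG, -⟩
  refine ⟨fun y' hy' h => (hGr.1 y hyG y' hy' h).symm, hGr.2 y hyG, ?_⟩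
  have h2 := (IsPullback.of_hasPullback ((pullback.fst f g).fiberι x ≫ pullback.snd f g)
    (Y.fromSpecResidueField y)).paste_horiz (isPullback_rho f g x).flip
  haveI : IsReduced (pullback (X.fromSpecResidueField x ≫ f) (Y.fromSpecResidueField y ≫ g)) :=
    isReduced_pullback_of_forall_bc _ hred y g
  haveI : IsReduced (((pullback.fst f g).fiberι x ≫ pullback.snd f g).fiber y) :=
    isReduced_of_isOpenImmersion h2.isoPullback.hom
  exact isReducedMod_structureModule_of_isReduced

end Groth.Agent.Helper16.RedModBC
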