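import Mathlib
import Groth.Prelude
import Groth.Agent.Lib.Helper15.ProjSpaceProper
import Groth.Agent.Lib.Helper15.AlgSpFinLocFree
import Groth.Agent.Lib.Helper21.FL9
import Groth.Agent.Lib.Helper16.Sch.FTDim7

set_option autoImplicit false
set_option linter.style.haveILetI false
universe u
open CategoryTheory CategoryTheory.Limits AlgebraicGeometry TopologicalSpace

namespace Groth.Agent.Helper16.ZCorr2

theorem flat_of_isField {R S : Type u} [CommRing R] [CommRing S] (f : R →+* S) (h : IsField R) :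
    f.Flat := by
  letI := h.toField
  letI := f.toAlgebra
  show Module.Flat R S
  infer_instance

theorem isField_stalk_of_eq_genericPoint {W : Scheme.{u}} [IsIntegral W] (w : W)
    (hw : w = genericPoint W) : IsField (W.presheaf.stalk w) := by
  subst hw
  exact Field.toIsField W.functionField

/-- fibre of a restriction. -/
theorem ι_image_fibre_subset {Z W : Scheme.{u}} (π : Z ⟶ W) (U : W.Opens) (u : U) :
    (π ⁻¹ᵁ U).ι '' ((π ∣_ U) ⁻¹' {u}) ⊆ π ⁻¹' {(u : W)} := by
  rintro _ ⟨x, hx, rfl⟩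
  have h1 : (π ∣_ U) x = u := hx
  have h2 : U.ι ((π ∣_ U) x) = π ((π ⁻¹ᵁ U).ι x) := by
    rw [← Scheme.Hom.comp_apply, ← Scheme.Hom.comp_apply, morphismRestrict_ι]
  show π ((π ⁻¹ᵁ U).ι x) = (u : W)
  rw [← h2, h1]
  rfl

theorem fibre_subset_ι_image {Z W : Scheme.{u}} (π : Z ⟶ W) (U : W.Opens) (u : U) :
    π ⁻¹' {(u : W)} ⊆ (π ⁻¹ᵁ U).ι '' ((π ∣_ U) ⁻¹' {u}) := by
  intro z hz
  have hz' : π z = (u : W) := hz
  have hzU : z ∈ π ⁻¹ᵁ U := by
    show π z ∈ U
    rw [hz']; exact u.2
  refine ⟨⟨z, hzU⟩, ?_, rfl⟩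
  have h2 : U.ι ((π ∣_ U) ⟨z, hzU⟩) = π ((π ⁻¹ᵁ U).ι ⟨z, hzU⟩) := by
    rw [← Scheme.Hom.comp_apply, ← Scheme.Hom.comp_apply, morphismRestrict_ι]
  show (π ∣_ U) ⟨z, hzU⟩ = u
  apply U.ι.isOpenEmbedding.injective
  rw [h2]
  exact hz'

set_option maxHeartbeats 1600000 in
theorem general {k : Type u} [Field k] {Z W : Scheme.{u}} (qW : W ⟶ Spec (CommRingCat.of k))
    [LocallyOfFiniteType qW] [QuasiCompact qW] [IsIntegral W] [IsIntegral Z]
    (π : Z ⟶ W) [IsProper π] (n : ℕ)
    (hdimW : topologicalKrullDim W = n) (hdimZ : topologicalKrullDim Z = n) :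
    (IsOpen {w : W | ∀ z : Z, π z = w → (π.stalkMap z).hom.Flat} ∧
      {w : W | ∀ z : Z, π z = w → (π.stalkMap z).hom.Flat}.Nonempty) ∧
    ∃ U : W.Opens, (U : Set W) = {w : W | (π ⁻¹' {w}).Finite} ∧
      (U : Set W).Nonempty ∧ IsFinite (π ∣_ U) := by
  haveI : IsNoetherian W := FTDim.isNoetherian_of_finiteType k qW
  haveI : LocallyOfFinitePresentation π :=
    Groth.Agent.Helper15.lfp_of_lft_of_isLocallyNoetherian π
  -- the generic fibre is contained in `{genericPoint Z}`
  have hgen : ∀ z : Z, π z = genericPoint W → z = genericPoint Z := by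
    intro z hz
    have hW := FTDim.dim_eq_td_genericPoint k qW
    rw [hdimW] at hW
    have hWn : FTDim.td qW (genericPoint W) = n := by exact_mod_cast hW.symm
    have hcomp := FTDim.td_comp π qW z
    rw [hz, hWn] at hcomp
    have hcl := FTDim.dim_closure k (π ≫ qW) z
    have hsub : (Set.univ : Set Z) ⊆ closure ({z} : Set Z) := by
      refine FTDim.eq_of_dim_eq (IrreducibleSpace.isIrreducible_univ Z) isClosed_closure
        ⟨z, subset_closure rfl, trivial⟩ n (by rw [FTDim.dim_univ, hdimZ]) ?_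
      rw [Set.inter_univ, hcl, hcomp]
      exact_mod_cast Nat.le_add_right n _
    have hz2 : IsGenericPoint z (⊤ : Set Z) := Set.eq_univ_of_univ_subset hsub
    exact hz2.eq (genericPoint_spec Z)
  refine ⟨⟨?_, ?_⟩, ?_⟩
  · -- openness of the flat set
    have hF : IsOpen {z : Z | (π.stalkMap z).hom.Flat} :=
      Groth.Agent.Helper21.FL.isOpen_flatLocus_scheme π
    have heq : {w : W | ∀ z : Z, π z = w → (π.stalkMap z).hom.Flat} =
        (π '' {z : Z | (π.stalkMap z).hom.Flat}ᶜ)ᶜ := by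
      ext w
      simp only [Set.mem_setOf_eq, Set.mem_compl_iff, Set.mem_image, not_exists, not_and]
      constructor
      · intro h z hz hzw
        exact hz (h z hzw)
      · intro h z hzw
        by_contra hcon
        exact h z hcon hzw
    rw [heq]
    exact (π.isClosedMap _ hF.isClosed_compl).isOpen_compl
  · exact ⟨genericPoint W, fun z hz =>
      flat_of_isField _ (isField_stalk_of_eq_genericPoint (π z) hz)⟩
  · have hopen : IsOpen {w : W | (π ⁻¹' {w}).Finite} := by
      rw [isOpen_iff_forall_mem_open]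
      intro w hw
      obtain ⟨V, hwV, hV⟩ := exists_isFinite_morphismRestrict_of_finite_preimage_singleton π w hw
      refine ⟨V, ?_, V.2, hwV⟩
      intro v hv
      have h1 : ((π ∣_ V) ⁻¹' {(⟨v, hv⟩ : V)}).Finite :=
        (π ∣_ V).finite_preimage_singleton ⟨v, hv⟩
      exact (h1.image _).subset (fibre_subset_ι_image π V ⟨v, hv⟩)
    refine ⟨⟨_, hopen⟩, rfl, ⟨genericPoint W, ?_⟩, ?_⟩
    · exact (Set.subsingleton_of_forall_eq (genericPoint Z) (fun z hz => hgen z hz)).finite
    · haveI : LocallyQuasiFinite (π ∣_ (⟨_, hopen⟩ : W.Opens)) := by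
        refine LocallyQuasiFinite.of_finite_preimage_singleton _ (fun u => ?_)
        have hu : (π ⁻¹' {u.1}).Finite := u.2
        exact Set.Finite.of_finite_image (hu.subset (ι_image_fibre_subset π _ u))
          (Scheme.Hom.isOpenEmbedding _).injective.injOn
      exact IsFinite.of_isProper_of_locallyQuasiFinite _

end Groth.Agent.Helper16.ZCorr2
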