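import Mathlib
import Groth.Prelude
import Groth.Agent.Lib.Helper16.Sch.RedModBC4
import Groth.Agent.Lib.Helper16.Sch.ZCorr2

set_option autoImplicit false
set_option linter.style.haveILetI false
set_option linter.unusedSectionVars false
universe u
open CategoryTheory CategoryTheory.Limits AlgebraicGeometry Opposite TopologicalSpace TensorProduct
open IsLocalRing

namespace Groth.Agent.Helper16.RedModBC

/-- the zero maximal ideal of a field-like local ring is associated. -/
theorem isAssociatedPrime_maximalIdeal_of_eq_bot {R : Type u} [CommRing R] [IsLocalRing R]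
    (h : maximalIdeal R = ⊥) : IsAssociatedPrime (maximalIdeal R) R := by
  refine ⟨inferInstance, 1, ?_⟩
  apply le_antisymm
  · rw [h]; exact bot_le
  · intro a ha
    rw [Ideal.mem_radical_iff] at ha
    obtain ⟨n, hn⟩ := ha
    rw [Submodule.mem_colon_singleton, Submodule.mem_bot, smul_eq_mul, mul_one] at hn
    rw [IsLocalRing.mem_maximalIdeal]
    intro hu
    have : IsUnit (a ^ n) := hu.pow n
    rw [hn] at this
    exact not_isUnit_zero this

section Scheme

variable {Z : Scheme.{u}}

/-- all points of a scheme with artinian stalks are associated. -/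
theorem mem_ass_structureModule_of_isArtinianRing (z : Z)
    [IsArtinianRing (Z.presheaf.stalk z)] : z ∈ AssSch.Ass (Coh.structureModule Z) :=
  (mem_ass_structureModule_iff z).mpr isAssociatedPrime_maximalIdeal_of_isArtinianRing

/-- the structure sheaf of an integral scheme has the generic point as only associated point. -/
theorem ass_structureModule_of_isIntegral [IsIntegral Z] :
    AssSch.Ass (Coh.structureModule Z) = {genericPoint Z} := by
  ext z
  rw [Set.mem_singleton_iff]
  constructor
  · intro hz
    have hbot : maximalIdeal (Z.presheaf.stalk z) = ⊥ :=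
      maximalIdeal_eq_bot_of_isReduced ((mem_ass_structureModule_iff z).mp hz)
    refine Groth.Agent.Helper3.NoEmbProd.eq_of_specializes_of_unique_prime z (genericPoint Z) ?_
      (genericPoint_specializes z)
    intro Q hQ
    rw [hbot]
    apply le_antisymm
    · rw [← hbot]
      exact IsLocalRing.le_maximalIdeal hQ.ne_top
    · exact bot_le
  · rintro rfl
    rw [mem_ass_structureModule_iff]
    apply isAssociatedPrime_maximalIdeal_of_eq_bot
    exact IsLocalRing.isField_iff_maximalIdeal_eq.mp
      (Groth.Agent.Helper16.ZCorr2.isField_stalk_of_eq_genericPoint _ rfl)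

end Scheme

section Pullback

variable {X' X : Scheme.{u}} (f : X' ⟶ X)

/-- associated points of a flat pullback. -/
theorem mem_ass_pullback_iff [Flat f] [IsLocallyNoetherian X] (E : X.Modules)
    [E.IsQuasicoherent] (x' : X') :
    x' ∈ AssSch.Ass ((Scheme.Modules.pullback f).obj E) ↔
      f x' ∈ AssSch.Ass E ∧ x' ∈ MoreMor.relAss f (Coh.structureModule X') := by
  rw [ass_eq_of_iso (Groth.Agent.Helper13.Tensor.rid ((Scheme.Modules.pullback f).obj E)).symm]
  exact Groth.Agent.Helper16.AssTen.mem_ass_tensor_pullback_iff f E (Coh.structureModule X') x'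
    (Groth.Agent.Helper16.UnitMod.isFlatOver_structureModule f x')

theorem fiberι_mem_relAss_iff (y : X) (w : f.fiber y) :
    f.fiberι y w ∈ MoreMor.relAss f (Coh.structureModule X') ↔
      w ∈ AssSch.Ass (Coh.structureModule (f.fiber y)) := by
  haveI : (Coh.structureModule X').IsQuasicoherent :=
    Groth.Agent.Helper13.QCoh.isQuasicoherent_unit X'
  rw [← ass_eq_of_iso (Groth.Agent.Helper13.PbUnit.pullbackUnitIso (f.fiberι y))]
  exact (Groth.Agent.Helper16.RelAss.isAssPoint_fibre_iff f (Coh.structureModule X') y w).symm

theorem apply_fiberι' (y : X) (w : f.fiber y) : f (f.fiberι y w) = y := by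
  have : (f.fiberι y) w ∈ Set.range (f.fiberι y) := ⟨w, rfl⟩
  rw [f.range_fiberι] at this
  exact this

theorem exists_fiberι_eq (x' : X') (y : X) (h : f x' = y) : ∃ w : f.fiber y, f.fiberι y w = x' := by
  have : x' ∈ Set.range (f.fiberι y) := by
    rw [f.range_fiberι]
    exact h
  exact this

end Pullback

end Groth.Agent.Helper16.RedModBC
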