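import Mathlib
import Groth.Prelude
import Groth.Agent.Lib.Helper16.Sch.RedModBC5
import Groth.Agent.Lib.Helper14.GeomIrred

set_option autoImplicit false
set_option linter.style.haveILetI false
set_option linter.unusedSectionVars false
universe u
open CategoryTheory CategoryTheory.Limits AlgebraicGeometry Opposite TopologicalSpace TensorProduct
open IsLocalRing

namespace Groth.Agent.Helper16.RedModBC

theorem isIntegral_iff_of_iso {A B : Scheme.{u}} (e : A ≅ B) : IsIntegral A ↔ IsIntegral B := by
  constructor
  · intro h
    haveI : Nonempty B := ⟨e.hom (Nonempty.some inferInstance)⟩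
    exact isIntegral_of_isOpenImmersion e.inv
  · intro h
    haveI : Nonempty A := ⟨e.inv (Nonempty.some inferInstance)⟩
    exact isIntegral_of_isOpenImmersion e.hom

variable {k : Type u} [Field k]

lemma isIntegral_pullback_Spec_iff (R : Type u) [CommRing R] [Algebra k R] (K : Type u) [Field K]
    [Algebra k K] :
    IsIntegral (pullback (Spec.map (CommRingCat.ofHom (algebraMap k R)))
      (Spec.map (CommRingCat.ofHom (algebraMap k K)))) ↔ IsDomain (K ⊗[k] R) := by
  rw [isIntegral_iff_of_iso (pullbackSpecIso k R K), affine_isIntegral_iff]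
  exact (Algebra.TensorProduct.comm k R K).toMulEquiv.isDomain_iff

variable {X : Scheme.{u}} (f : X ⟶ Spec (CommRingCat.of k))

/-- the `k`-algebra structure of a residue field. -/
noncomputable def resAlg (x : X) : Algebra k (X.residueField x) :=
  ((Spec.preimage (X.fromSpecResidueField x ≫ f)).hom).toAlgebra

theorem resAlg_spec (x : X) : letI := resAlg f x
    Spec.map (CommRingCat.ofHom (algebraMap k (X.residueField x))) =
      X.fromSpecResidueField x ≫ f :=
  Spec.map_preimage _

theorem isIntegral_fiber_iff (K : Type u) [Field K] [Algebra k K] (x : X) :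
    IsIntegral ((FBase.bcπ f K).fiber x) ↔
      (letI := resAlg f x; IsDomain (K ⊗[k] X.residueField x)) := by
  letI := resAlg f x
  rw [← isIntegral_pullback_Spec_iff (X.residueField x) K]
  have e2 : pullback (Spec.map (CommRingCat.ofHom (algebraMap k (X.residueField x))))
      (Spec.map (CommRingCat.ofHom (algebraMap k K))) ≅
      FBase.bc (X.fromSpecResidueField x ≫ f) K :=
    pullback.congrHom (resAlg_spec f x) rfl
  rw [isIntegral_iff_of_iso (fiberIso f K x), isIntegral_iff_of_iso e2]

theorem main4660 [IsLocallyNoetherian X] (F : X.Modules) (hF : Coh.IsCoh F)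
    (H : ∀ (k' : Type u) [Field k'] [Algebra k k'] [FiniteDimensional k k'],
        ∃ x' : ↥(FBase.bc f k'),
          AssSch.Ass ((Scheme.Modules.pullback (FBase.bcπ f k')).obj F) = {x'} ∧
          Module.length ↑((FBase.bc f k').presheaf.stalk x')
            ↑(((Scheme.Modules.pullback (FBase.bcπ f k')).obj F).presheaf.stalk x') = 1)
    (K : Type u) [Field K] [Algebra k K] :
    ∃ x' : ↥(FBase.bc f K),
      AssSch.Ass ((Scheme.Modules.pullback (FBase.bcπ f K)).obj F) = {x'} ∧
        Module.length ↑((FBase.bc f K).presheaf.stalk x')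
          ↑(((Scheme.Modules.pullback (FBase.bcπ f K)).obj F).presheaf.stalk x') = 1 := by
  haveI : F.IsQuasicoherent := hF.1
  -- facts for finite k'
  have key : ∀ (k' : Type u) [Field k'] [Algebra k k'] [FiniteDimensional k k'],
      ∀ y ∈ AssSch.Ass F,
        (AssSch.Ass F = {y}) ∧ Module.length (X.presheaf.stalk y) (F.presheaf.stalk y) = 1 ∧
          IsIntegral ((FBase.bcπ f k').fiber y) := by
    intro k' _ _ _ y hy
    obtain ⟨x', hA, hl⟩ := H k'
    have hred : AssSch.IsReducedMod ((Scheme.Modules.pullback (FBase.bcπ f k')).obj F) := by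
      refine ⟨?_, ?_⟩
      · intro a ha b hb _
        rw [hA, Set.mem_singleton_iff] at ha hb
        rw [ha, hb]
      · intro a ha
        rw [hA, Set.mem_singleton_iff] at ha
        rw [ha]; exact hl
    have hT := (isReducedMod_pullback_iff (FBase.bcπ f k') F hF).mp hred
    haveI := isFinite_bcπ' f k'
    have hart : ∀ (y : X) (w : (FBase.bcπ f k').fiber y),
        IsArtinianRing (((FBase.bcπ f k').fiber y).presheaf.stalk w) := by
      intro y w
      haveI : IsFinite ((FBase.bcπ f k').fiberToSpecResidueField y) :=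
        inferInstanceAs (IsFinite (Limits.pullback.snd (FBase.bcπ f k')
          (X.fromSpecResidueField y)))
      haveI : IsArtinianRing (X.residueField y) := inferInstance
      exact isArtinianRing_stalk_of_isFinite ((FBase.bcπ f k').fiberToSpecResidueField y) w
    -- every point over an associated point is associated
    have hall : ∀ (y : X), y ∈ AssSch.Ass F → ∀ w : (FBase.bcπ f k').fiber y,
        (FBase.bcπ f k').fiberι y w = x' := by
      intro y hy w
      have hmem : (FBase.bcπ f k').fiberι y w ∈
          AssSch.Ass ((Scheme.Modules.pullback (FBase.bcπ f k')).obj F) := by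
        rw [mem_ass_pullback_iff]
        refine ⟨by rw [apply_fiberι']; exact hy, ?_⟩
        rw [fiberι_mem_relAss_iff]
        haveI := hart y w
        exact mem_ass_structureModule_of_isArtinianRing w
      rw [hA, Set.mem_singleton_iff] at hmem
      exact hmem
    have hsing : ∀ y' ∈ AssSch.Ass F, y' = y := by
      intro y' hy'
      obtain ⟨x1, hx1⟩ := surjective_bcπ' f k' y
      obtain ⟨x2, hx2⟩ := surjective_bcπ' f k' y'
      obtain ⟨w1, hw1⟩ := exists_fiberι_eq (FBase.bcπ f k') x1 y hx1
      obtain ⟨w2, hw2⟩ := exists_fiberι_eq (FBase.bcπ f k') x2 y' hx2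
      have h1 := hall y hy w1
      have h2 := hall y' hy' w2
      rw [← hx1, ← hx2, ← hw1, ← hw2, h1, h2]
    refine ⟨?_, (hT y ⟨hy, surjective_bcπ' f k' y⟩).2.1, ?_⟩
    · ext y'
      rw [Set.mem_singleton_iff]
      exact ⟨hsing y', fun h => h ▸ hy⟩
    · haveI : IsReduced ((FBase.bcπ f k').fiber y) :=
        isReduced_of_isReducedMod_structureModule (hart y)
          (hT y ⟨hy, surjective_bcπ' f k' y⟩).2.2
      haveI : Nonempty ((FBase.bcπ f k').fiber y) := by
        obtain ⟨x1, hx1⟩ := surjective_bcπ' f k' y
        obtain ⟨w1, -⟩ := exists_fiberι_eq (FBase.bcπ f k') x1 y hx1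
        exact ⟨w1⟩
      haveI : Subsingleton ((FBase.bcπ f k').fiber y) := by
        constructor
        intro w1 w2
        apply ((FBase.bcπ f k').fiberι y).isEmbedding.injective
        rw [hall y hy w1, hall y hy w2]
      haveI : IrreducibleSpace ((FBase.bcπ f k').fiber y) :=
        { toPreirreducibleSpace := inferInstance, toNonempty := inferInstance }
      exact isIntegral_of_irreducibleSpace_of_isReduced _
  -- the unique associated point of `F`
  obtain ⟨x0', hA0, -⟩ := H k
  have hx0mem : x0' ∈ AssSch.Ass ((Scheme.Modules.pullback (FBase.bcπ f k)).obj F) := by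
    rw [hA0]; exact Set.mem_singleton _
  obtain ⟨hx0, -⟩ := (mem_ass_pullback_iff (FBase.bcπ f k) F x0').mp hx0mem
  generalize (FBase.bcπ f k) x0' = x₀ at hx0
  obtain ⟨hAssF, hlen, -⟩ := key k x₀ hx0
  -- the fibre over `x₀` is integral
  letI := resAlg f x₀
  have hdom : ∀ (k' : Type u) [Field k'] [Algebra k k'] [Module.Finite k k'],
      IsDomain (k' ⊗[k] X.residueField x₀) := by
    intro k' _ _ _
    exact (isIntegral_fiber_iff f k' x₀).mp (key k' x₀ hx0).2.2
  haveI : IsDomain (AlgebraicClosure k ⊗[k] X.residueField x₀) :=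
    Groth.Agent.Helper14.GeomIrred.isDomain_of_forall_finite (X.residueField x₀)
      (AlgebraicClosure k) hdom
  have hdomK : IsDomain (K ⊗[k] X.residueField x₀) :=
    Groth.Agent.Helper14.GeomIrred.isDomain_of_algebraicClosure (X.residueField x₀) K
  haveI hint : IsIntegral ((FBase.bcπ f K).fiber x₀) := (isIntegral_fiber_iff f K x₀).mpr hdomK
  -- the associated points upstairs
  have hAss : AssSch.Ass ((Scheme.Modules.pullback (FBase.bcπ f K)).obj F) =
      {(FBase.bcπ f K).fiberι x₀ (genericPoint ((FBase.bcπ f K).fiber x₀))} := by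
    ext x'
    rw [Set.mem_singleton_iff, mem_ass_pullback_iff]
    constructor
    · rintro ⟨h1, h2⟩
      rw [hAssF, Set.mem_singleton_iff] at h1
      obtain ⟨w, rfl⟩ := exists_fiberι_eq (FBase.bcπ f K) x' x₀ h1
      rw [fiberι_mem_relAss_iff, ass_structureModule_of_isIntegral, Set.mem_singleton_iff] at h2
      rw [h2]
    · rintro rfl
      refine ⟨by rw [apply_fiberι']; exact hx0, ?_⟩
      rw [fiberι_mem_relAss_iff, ass_structureModule_of_isIntegral]
      exact Set.mem_singleton _
  refine ⟨_, hAss, ?_⟩
  have hredK : AssSch.IsReducedMod ((Scheme.Modules.pullback (FBase.bcπ f K)).obj F) := by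
    rw [isReducedMod_pullback_iff (FBase.bcπ f K) F hF]
    rintro y ⟨hy, -⟩
    rw [hAssF, Set.mem_singleton_iff] at hy
    subst hy
    refine ⟨?_, hlen, ?_⟩
    · intro y' hy' _
      rw [hAssF, Set.mem_singleton_iff] at hy'
      exact hy'
    · exact isReducedMod_structureModule_of_isReduced
  exact hredK.2 _ (by rw [hAss]; exact Set.mem_singleton _)

end Groth.Agent.Helper16.RedModBC
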