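import Mathlib

set_option autoImplicit false
open CategoryTheory CategoryTheory.Limits AlgebraicGeometry TensorProduct
universe u

namespace Groth.Agent.Helper16.ReflSpec

/-- an epimorphic algebra over a field is a quotient of the field -/
theorem surjective_algebraMap_of_isEpi (k L : Type*) [Field k] [CommRing L] [Nontrivial L]
    [Algebra k L] [Algebra.IsEpi k L] : Function.Surjective (algebraMap k L) := by
  have hinj : LinearMap.ker (Algebra.linearMap k L) = ⊥ :=
    LinearMap.ker_eq_bot.mpr (algebraMap k L).injective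
  obtain ⟨g, hg⟩ := LinearMap.exists_leftInverse_of_injective (Algebra.linearMap k L) hinj
  have hg1 : g 1 = 1 := by
    have := congrArg (fun φ => φ 1) hg
    simpa using this
  intro a
  refine ⟨g a, ?_⟩
  have h1 := (Algebra.isEpi_iff_forall_one_tmul_eq k L).mp inferInstance a
  have h2 := congrArg (fun x => TensorProduct.lid k L (g.rTensor L x)) h1
  simp only [LinearMap.rTensor_tmul, TensorProduct.lid_tmul, hg1, one_smul] at h2
  rw [Algebra.algebraMap_eq_smul_one]
  exact h2.symm

/-- a monomorphism induces isomorphisms on residue fields -/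
theorem isIso_residueFieldMap_of_mono {X Y : Scheme.{u}} (f : Y ⟶ X) [Mono f] (y : Y) :
    IsIso (f.residueFieldMap y) := by
  have hepi : Epi (f.residueFieldMap y) := by
    constructor
    intro T α β hαβ
    apply Spec.map_injective
    rw [← cancel_mono (Y.fromSpecResidueField y), ← cancel_mono f]
    simp only [Category.assoc, ← f.SpecMap_residueFieldMap_fromSpecResidueField y,
      ← Spec.map_comp_assoc, hαβ]
  rw [ConcreteCategory.isIso_iff_bijective]
  refine ⟨(f.residueFieldMap y).hom.injective, ?_⟩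
  algebraize [(f.residueFieldMap y).hom]
  have : Algebra.IsEpi (X.residueField (f y)) (Y.residueField y) :=
    CommRingCat.epi_iff_epi.mp hepi
  exact surjective_algebraMap_of_isEpi _ _


open IsLocalRing

set_option backward.isDefEq.respectTransparency.types false in
/-- (B ⇒ A): valuative lifting (with closed point condition) implies that every base change
reflects specializations. -/
theorem reflects_of_lift {X Y : Scheme.{u}} (f : Y ⟶ X) [Mono f]
    (H : ∀ S : ValuativeCommSq f,
        (∃ l₀ : Spec (CommRingCat.of (IsLocalRing.ResidueField S.R)) ⟶ Y,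
            l₀ ≫ f = Spec.map (CommRingCat.ofHom (IsLocalRing.residue S.R)) ≫ S.i₂) →
          S.commSq.HasLift)
    {X' Y' : Scheme.{u}} (g : X' ⟶ X) (p : Y' ⟶ Y) (f' : Y' ⟶ X') (sq : IsPullback p f' f g)
    (y₀ y₁ : Y') (hspec : f' y₁ ⤳ f' y₀) : y₁ ⤳ y₀ := by
  have hmono : Mono f' :=
    (MorphismProperty.monomorphisms Scheme).of_isPullback sq
      (MorphismProperty.monomorphisms.infer_property f)
  let ρ : X'.presheaf.stalk (f' y₀) ⟶ Y'.residueField y₁ :=
    X'.presheaf.stalkSpecializes hspec ≫ f'.stalkMap y₁ ≫ Y'.residue y₁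
  obtain ⟨A, hA, hA_local⟩ := exists_factor_valuationRing ρ.hom
  let ρA : X'.presheaf.stalk (f' y₀) ⟶ .of A :=
    CommRingCat.ofHom (ρ.hom.codRestrict _ hA)
  have w' : Y'.fromSpecResidueField y₁ ≫ f' =
      Spec.map (CommRingCat.ofHom (algebraMap A (Y'.residueField y₁))) ≫
        Spec.map ρA ≫ X'.fromSpecStalk (f' y₀) := by
    rw [Scheme.fromSpecResidueField, Category.assoc, ← Scheme.SpecMap_stalkMap_fromSpecStalk,
      ← Scheme.SpecMap_stalkSpecializes_fromSpecStalk hspec]
    simp_rw [← Spec.map_comp_assoc]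
    rfl
  have w : (Y'.fromSpecResidueField y₁ ≫ p) ≫ f =
      Spec.map (CommRingCat.ofHom (algebraMap A (Y'.residueField y₁))) ≫
        (Spec.map ρA ≫ X'.fromSpecStalk (f' y₀) ≫ g) := by
    rw [Category.assoc, sq.w, ← Category.assoc, w']
    simp only [Category.assoc]
  -- the residue field lift
  have hiso : IsIso (f'.residueFieldMap y₀) := isIso_residueFieldMap_of_mono f' y₀
  let lam : Spec (X'.residueField (f' y₀)) ⟶ Y' :=
    Spec.map (inv (f'.residueFieldMap y₀)) ≫ Y'.fromSpecResidueField y₀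
  have hlam : lam ≫ f' = X'.fromSpecResidueField (f' y₀) := by
    simp only [lam, Category.assoc, ← f'.SpecMap_residueFieldMap_fromSpecResidueField y₀]
    rw [← Spec.map_comp_assoc, IsIso.hom_inv_id, Spec.map_id, Category.id_comp]
  have hρAloc : IsLocalHom ρA.hom := hA_local
  let resA : X'.residueField (f' y₀) ⟶ .of (IsLocalRing.ResidueField A) :=
    CommRingCat.ofHom (IsLocalRing.ResidueField.map ρA.hom)
  have hresA : X'.residue (f' y₀) ≫ resA = ρA ≫ CommRingCat.ofHom (IsLocalRing.residue A) := by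
    ext a
    rfl
  have hl₀ : (Spec.map resA ≫ lam ≫ p) ≫ f =
      Spec.map (CommRingCat.ofHom (IsLocalRing.residue A)) ≫
        (Spec.map ρA ≫ X'.fromSpecStalk (f' y₀) ≫ g) := by
    have e1 : X'.fromSpecResidueField (f' y₀) =
        Spec.map (X'.residue (f' y₀)) ≫ X'.fromSpecStalk (f' y₀) := rfl
    rw [Category.assoc, Category.assoc, sq.w, reassoc_of% hlam, e1, Category.assoc,
      ← Spec.map_comp_assoc, hresA, Spec.map_comp_assoc]
  obtain ⟨l, hl₁, hl₂⟩ := (H { R := A, K := Y'.residueField y₁, commSq := ⟨w⟩, .. } ⟨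
    Spec.map resA ≫ lam ≫ p, hl₀⟩).exists_lift
  dsimp only at hl₁ hl₂
  let l' : Spec (.of A) ⟶ Y' := sq.lift l (Spec.map ρA ≫ X'.fromSpecStalk (f' y₀))
    (by rw [hl₂]; simp only [Category.assoc])
  have hl'1 : l' ≫ p = l := sq.lift_fst _ _ _
  have hl'2 : l' ≫ f' = Spec.map ρA ≫ X'.fromSpecStalk (f' y₀) := sq.lift_snd _ _ _
  have hgen : Spec.map (CommRingCat.ofHom (algebraMap A (Y'.residueField y₁))) ≫ l' =
      Y'.fromSpecResidueField y₁ := by
    apply sq.hom_ext
    · rw [Category.assoc, hl'1, hl₁]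
    · rw [Category.assoc, hl'2, ← w']
  have hclosed : l' (closedPoint A) = y₀ := by
    have hinj : Function.Injective f' := f'.injective
    apply hinj
    rw [← Scheme.Hom.comp_apply, hl'2]
    simp only [Scheme.Hom.comp_base, TopCat.coe_comp, Function.comp_apply]
    have : Spec.map ρA (closedPoint A) = closedPoint (X'.presheaf.stalk (f' y₀)) :=
      comap_closedPoint (S := A) (ρ.hom.codRestrict A.toSubring hA)
    rw [this, X'.fromSpecStalk_closedPoint]
  have key : l' (Spec.map (CommRingCat.ofHom (algebraMap A (Y'.residueField y₁)))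
      (closedPoint (Y'.residueField y₁))) ⤳ l' (closedPoint A) :=
    (specializes_closedPoint _).map l'.continuous
  have e1 : l' (Spec.map (CommRingCat.ofHom (algebraMap A (Y'.residueField y₁)))
      (closedPoint (Y'.residueField y₁))) = y₁ := by
    rw [← Scheme.Hom.comp_apply, hgen, Scheme.fromSpecResidueField_apply]
  rw [e1, hclosed] at key
  exact key


/-- ring-theoretic core of (A ⇒ B): an epimorphic local homomorphism from a valuation ring `R`
to a local ring `B`, which admits a retraction to the fraction field, is bijective. -/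
theorem exists_retraction_of_epi {R K B : Type u} [CommRing R] [IsDomain R] [ValuationRing R]
    [Field K] [Algebra R K] [IsFractionRing R K] [CommRing B] [IsLocalRing B]
    (φ : R →+* B) (β : B →+* K) (hφβ : β.comp φ = algebraMap R K)
    (hloc : ∀ r ∈ maximalIdeal R, φ r ∈ maximalIdeal B)
    (hepi : Epi (CommRingCat.ofHom φ)) :
    ∃ π : B →+* R, π.comp φ = RingHom.id R ∧ φ.comp π = RingHom.id B ∧
      (algebraMap R K).comp π = β := by
  have hrange : ∀ b : B, ∃ r : R, algebraMap R K r = β b := by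
    intro b
    rcases ValuationRing.isInteger_or_isInteger R (β b) with ⟨r, hr⟩ | ⟨r, hr⟩
    · exact ⟨r, hr⟩
    · by_cases hb : β b = 0
      · exact ⟨0, by rw [hb, map_zero]⟩
      by_cases hru : IsUnit r
      · obtain ⟨u, rfl⟩ := hru
        refine ⟨((u⁻¹ : Rˣ) : R), ?_⟩
        have h1 : algebraMap R K (u : R) * algebraMap R K ((u⁻¹ : Rˣ) : R) = 1 := by
          rw [← map_mul, Units.mul_inv, map_one]
        have h2 : algebraMap R K (u : R) * β b = 1 := by
          rw [hr, inv_mul_cancel₀ hb]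
        have hu0 : algebraMap R K (u : R) ≠ 0 := left_ne_zero_of_mul_eq_one h1
        exact mul_left_cancel₀ hu0 (h1.trans h2.symm)
      · exfalso
        have hrm : r ∈ maximalIdeal R := (IsLocalRing.mem_maximalIdeal r).mpr hru
        have h1 : b * φ r ∈ maximalIdeal B := Ideal.mul_mem_left _ _ (hloc r hrm)
        have h2 : β (b * φ r) = 1 := by
          rw [map_mul, ← RingHom.comp_apply, hφβ, hr, mul_inv_cancel₀ hb]
        have h3 : b * φ r - 1 ∈ RingHom.ker β := by
          rw [RingHom.mem_ker, map_sub, h2, map_one, sub_self]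
        have h4 : RingHom.ker β ≤ maximalIdeal B :=
          IsLocalRing.le_maximalIdeal (RingHom.ker_ne_top β)
        have h5 : (1 : B) ∈ maximalIdeal B := by
          have := Ideal.sub_mem _ h1 (h4 h3)
          simp at this
        exact (Ideal.ne_top_iff_one _).mp (IsLocalRing.maximalIdeal.isMaximal B).ne_top h5
  have hinj : Function.Injective (algebraMap R K) := IsFractionRing.injective R K
  choose π₀ hπ₀ using hrange
  let π : B →+* R :=
    { toFun := π₀
      map_one' := hinj (by rw [hπ₀, map_one, map_one])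
      map_mul' := fun a b => hinj (by rw [hπ₀, map_mul, map_mul, hπ₀, hπ₀])
      map_zero' := hinj (by rw [hπ₀, map_zero, map_zero])
      map_add' := fun a b => hinj (by rw [hπ₀, map_add, map_add, hπ₀, hπ₀]) }
  have hπ : ∀ b, algebraMap R K (π b) = β b := hπ₀
  have h1 : π.comp φ = RingHom.id R := by
    ext r
    apply hinj
    rw [RingHom.comp_apply, hπ, ← RingHom.comp_apply, hφβ]
    rfl
  refine ⟨π, h1, ?_, RingHom.ext hπ⟩
  have h2 : CommRingCat.ofHom φ ≫ CommRingCat.ofHom (φ.comp π) =
      CommRingCat.ofHom φ ≫ 𝟙 _ := by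
    rw [Category.comp_id, ← CommRingCat.ofHom_comp, RingHom.comp_assoc, h1, RingHom.comp_id]
  have h3 := (cancel_epi (CommRingCat.ofHom φ)).mp h2
  exact congrArg CommRingCat.Hom.hom h3


set_option backward.isDefEq.respectTransparency.types false in
/-- (A ⇒ B) -/
theorem lift_of_reflects {X Y : Scheme.{u}} (f : Y ⟶ X) [Mono f]
    (H : ∀ (X' : Scheme.{u}) (g : X' ⟶ X) (y₀ y₁ : ↥(pullback f g)),
        (pullback.snd f g) y₁ ⤳ (pullback.snd f g) y₀ → y₁ ⤳ y₀)
    (S : ValuativeCommSq f)
    (hl₀ : ∃ l₀ : Spec (CommRingCat.of (IsLocalRing.ResidueField S.R)) ⟶ Y,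
            l₀ ≫ f = Spec.map (CommRingCat.ofHom (IsLocalRing.residue S.R)) ≫ S.i₂) :
    S.commSq.HasLift := by
  obtain ⟨l₀, hl₀⟩ := hl₀
  obtain ⟨η, hη1, hη2⟩ : ∃ η : Spec (.of S.K) ⟶ pullback f S.i₂, η ≫ pullback.fst f S.i₂ = S.i₁ ∧
      η ≫ pullback.snd f S.i₂ = Spec.map (CommRingCat.ofHom (algebraMap S.R S.K)) :=
    ⟨pullback.lift S.i₁ _ S.commSq.w, pullback.lift_fst _ _ _, pullback.lift_snd _ _ _⟩
  obtain ⟨c₀, hc1, hc2⟩ : ∃ c₀ : Spec (.of (IsLocalRing.ResidueField S.R)) ⟶ pullback f S.i₂,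
      c₀ ≫ pullback.fst f S.i₂ = l₀ ∧
      c₀ ≫ pullback.snd f S.i₂ = Spec.map (CommRingCat.ofHom (IsLocalRing.residue S.R)) :=
    ⟨pullback.lift l₀ _ hl₀, pullback.lift_fst _ _ _, pullback.lift_snd _ _ _⟩
  have hy₀ : pullback.snd f S.i₂ (c₀ (closedPoint (IsLocalRing.ResidueField S.R))) =
      closedPoint S.R := by
    rw [← Scheme.Hom.comp_apply, hc2]
    exact comap_closedPoint (IsLocalRing.residue S.R)
  have h10 : η (closedPoint S.K) ⤳ c₀ (closedPoint (IsLocalRing.ResidueField S.R)) :=
    H _ S.i₂ _ _ (by rw [hy₀]; exact specializes_closedPoint _)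
  set y₀ := c₀ (closedPoint (IsLocalRing.ResidueField S.R)) with hy₀def
  -- the ring maps
  obtain ⟨φ, hφ⟩ : ∃ φ : CommRingCat.of S.R ⟶ (pullback f S.i₂).presheaf.stalk y₀,
      Spec.map φ = (pullback f S.i₂).fromSpecStalk y₀ ≫ pullback.snd f S.i₂ :=
    ⟨Spec.preimage _, Spec.map_preimage _⟩
  obtain ⟨β, hβdef⟩ : ∃ β : (pullback f S.i₂).presheaf.stalk y₀ ⟶ CommRingCat.of S.K,
      β = (pullback f S.i₂).presheaf.stalkSpecializes h10 ≫ Scheme.stalkClosedPointTo η :=
    ⟨_, rfl⟩
  have hβ : Spec.map β ≫ (pullback f S.i₂).fromSpecStalk y₀ = η := by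
    rw [hβdef, Spec.map_comp, Category.assoc, Scheme.SpecMap_stalkSpecializes_fromSpecStalk h10,
      Scheme.Spec_stalkClosedPointTo_fromSpecStalk]
  have hφβ : φ ≫ β = CommRingCat.ofHom (algebraMap S.R S.K) := by
    apply Spec.map_injective
    rw [Spec.map_comp, hφ, reassoc_of% hβ, hη2]
  have hmono : Mono (Spec.map φ) := by rw [hφ]; infer_instance
  have hepi : Epi φ := by
    have h1 : Mono φ.op := Functor.mono_of_mono_map Scheme.Spec hmono
    exact unop_epi_of_mono φ.op
  have hcl : Spec.map φ (closedPoint _) = closedPoint S.R := by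
    rw [hφ, Scheme.Hom.comp_apply, Scheme.fromSpecStalk_closedPoint, hy₀]
  have hloc : ∀ r ∈ maximalIdeal S.R, φ.hom r ∈ maximalIdeal ((pullback f S.i₂).presheaf.stalk y₀) := by
    intro r hr
    have h1 : Ideal.comap φ.hom (maximalIdeal ((pullback f S.i₂).presheaf.stalk y₀)) =
        maximalIdeal S.R := congrArg PrimeSpectrum.asIdeal hcl
    rw [← h1] at hr
    exact hr
  obtain ⟨π, hπ1, hπ2, hπ3⟩ := exists_retraction_of_epi φ.hom β.hom
    (by rw [← CommRingCat.hom_comp, hφβ]; rfl) hloc (by rwa [CommRingCat.ofHom_hom])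
  refine ⟨⟨⟨Spec.map (CommRingCat.ofHom π) ≫ (pullback f S.i₂).fromSpecStalk y₀ ≫
    pullback.fst f S.i₂, ?_, ?_⟩⟩⟩
  · rw [← Spec.map_comp_assoc, ← CommRingCat.ofHom_comp, hπ3, CommRingCat.ofHom_hom,
      reassoc_of% hβ, hη1]
  · rw [Category.assoc, Category.assoc, pullback.condition, ← Category.assoc
      ((pullback f S.i₂).fromSpecStalk y₀), ← hφ, ← Spec.map_comp_assoc]
    have : φ ≫ CommRingCat.ofHom π = 𝟙 _ := by
      ext r
      exact congrArg (fun ψ => ψ r) hπ1
    erw [this, Spec.map_id, Category.id_comp]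

end Groth.Agent.Helper16.ReflSpec
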