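import Mathlib
import Groth.Agent.Lib.Helper16.Alg.RegLocA
import Groth.Agent.Lib.Helper16.Alg.RegLocB
import Groth.Agent.Lib.Helper16.Sch.RingFibDim
import Groth.Agent.Lib.Helper14.LocalDimSpec

set_option autoImplicit false
set_option linter.style.haveILetI false
set_option linter.unusedSectionVars false
universe u

open scoped TensorProduct
open IsLocalRing RingTheory.Sequence

namespace Groth.Agent.Helper16.RegLoc

open Groth.Agent.Helper14 Groth.Agent.Helper16

section main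

variable (R S : Type u) [CommRing R] [CommRing S] [Algebra R S]

theorem algebraMap_mem_maximalIdeal_fibLocRing (q : Ideal S) [q.IsPrime]
    [IsLocalRing (EGA4.FibLocRing R S q)] (s : S) (hs : s ∈ q) :
    algebraMap S (EGA4.FibLocRing R S q) s ∈ maximalIdeal (EGA4.FibLocRing R S q) := by
  haveI : IsLocalHom (Ideal.Quotient.mk ((q.comap (algebraMap R S)).map
      (algebraMap R (Localization.AtPrime q)))) :=
    IsLocalHom.of_surjective _ Ideal.Quotient.mk_surjective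
  have h1 : algebraMap S (Localization.AtPrime q) s ∈ maximalIdeal (Localization.AtPrime q) :=
    (IsLocalization.AtPrime.to_map_mem_maximal_iff (Localization.AtPrime q) q s).2 hs
  rw [mem_maximalIdeal, mem_nonunits_iff] at h1 ⊢
  intro hu
  apply h1
  have h2 : algebraMap S (EGA4.FibLocRing R S q) s =
      Ideal.Quotient.mk _ (algebraMap S (Localization.AtPrime q) s) := rfl
  rw [h2] at hu
  exact (isUnit_map_iff _ _).1 hu

variable [Algebra.FiniteType R S]

theorem enat_aux (a b : ℕ∞) (r i d : ℕ) (h : b + (r : ℕ∞) = (d : ℕ∞)) :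
    ((a : WithBot ℕ∞) + (i : WithBot ℕ∞) ≤ (b : WithBot ℕ∞)) ↔
      ((a : WithBot ℕ∞) + (r : WithBot ℕ∞)) + (i : WithBot ℕ∞) ≤ (d : WithBot ℕ∞) := by
  have h1 : ((a : WithBot ℕ∞) + (i : WithBot ℕ∞) ≤ (b : WithBot ℕ∞)) ↔ a + (i : ℕ∞) ≤ b := by
    exact_mod_cast Iff.rfl
  have h2 : (((a : WithBot ℕ∞) + (r : WithBot ℕ∞)) + (i : WithBot ℕ∞) ≤ (d : WithBot ℕ∞)) ↔
      a + (r : ℕ∞) + (i : ℕ∞) ≤ (d : ℕ∞) := by
    exact_mod_cast Iff.rfl
  rw [h1, h2, ← h]
  have : a + (r : ℕ∞) + (i : ℕ∞) = a + (i : ℕ∞) + (r : ℕ∞) := by ring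
  rw [this]
  exact (ENat.add_le_add_iff_right (ENat.natCast_ne_top r)).symm

/-- the pointwise criterion. -/
theorem isRegular_iff_fibreDimAt (d : ℕ)
    (hCM : ∀ p : PrimeSpectrum R, LocCoh.IsCohenMacaulayRing (p.asIdeal.Fiber S))
    (heq : ∀ p : PrimeSpectrum R, ∀ P ∈ minimalPrimes (p.asIdeal.Fiber S),
      ringKrullDim (p.asIdeal.Fiber S ⧸ P) = (d : WithBot ℕ∞))
    (f : List S) (I : Ideal S) (hI : I = Ideal.ofList f) (qT : PrimeSpectrum (S ⧸ I)) :
    IsRegular (EGA4.FibLocRing R S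
        (PrimeSpectrum.comap (Ideal.Quotient.mk I) qT).asIdeal)
      (f.map (algebraMap S (EGA4.FibLocRing R S
        (PrimeSpectrum.comap (Ideal.Quotient.mk I) qT).asIdeal))) ↔
    FlatMor.fibreDimAt (RingFibDim.specMap R (S ⧸ I)) qT +
      (f.length : WithBot ℕ∞) ≤ (d : WithBot ℕ∞) := by
  classical
  let p' : PrimeSpectrum R := PrimeSpectrum.comap (algebraMap R (S ⧸ I)) qT
  let p : Ideal R := p'.asIdeal
  let q : Ideal S := (PrimeSpectrum.comap (Ideal.Quotient.mk I) qT).asIdeal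
  haveI : q.IsPrime := (PrimeSpectrum.comap (Ideal.Quotient.mk I) qT).isPrime
  have hqcomap : qT.asIdeal.comap (Ideal.Quotient.mk I) = q := rfl
  haveI : qT.asIdeal.LiesOver p := ⟨rfl⟩
  haveI : q.LiesOver p := ⟨rfl⟩
  let QT : PrimeSpectrum (p.Fiber (S ⧸ I)) :=
    PrimeSpectrum.preimageHomeomorphFiber R (S ⧸ I) p' ⟨qT, rfl⟩
  have hQT : QT.asIdeal.comap (Algebra.TensorProduct.includeRight :
      (S ⧸ I) →ₐ[R] p.Fiber (S ⧸ I)).toRingHom = qT.asIdeal := by
    have := (PrimeSpectrum.preimageHomeomorphFiber R (S ⧸ I) p').symm_apply_apply ⟨qT, rfl⟩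
    exact congrArg (fun z => z.1.asIdeal) this
  let Q : Ideal (p.Fiber S) := QT.asIdeal.comap (fibMap R S p I)
  haveI : Q.IsPrime := Ideal.comap_isPrime _ _
  have hQ : Q.comap (Algebra.TensorProduct.includeRight : S →ₐ[R] p.Fiber S).toRingHom = q := by
    rw [comap_fibMap_comap, hQT]
    rfl
  obtain ⟨eS⟩ := nonempty_ringEquiv_fibLocRing R S p q Q hQ
  obtain ⟨eT⟩ := nonempty_ringEquiv_fibLocRing R (S ⧸ I) p qT.asIdeal QT.asIdeal hQT
  obtain ⟨eB⟩ := nonempty_ringEquiv_fibLocRing_quotient R S I q qT.asIdeal hqcomap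
  haveI hcmQ : LocCoh.IsCohenMacaulayLocalRing (Localization.AtPrime Q) :=
    (hCM p').isCohenMacaulayLocalRing_localization Q
  haveI hcmF : LocCoh.IsCohenMacaulayLocalRing (EGA4.FibLocRing R S q) :=
    FibCM.isCM_of_ringEquiv (A := Localization.AtPrime Q) eS
  have hdF : ringKrullDim (EGA4.FibLocRing R S q) = ((Q.height : ℕ∞) : WithBot ℕ∞) := by
    rw [← ringKrullDim_eq_of_ringEquiv eS,
      IsLocalization.AtPrime.ringKrullDim_eq_height Q (Localization.AtPrime Q)]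
  have hdT : ringKrullDim (EGA4.FibLocRing R S q ⧸ I.map (algebraMap S (EGA4.FibLocRing R S q))) =
      ((QT.asIdeal.height : ℕ∞) : WithBot ℕ∞) := by
    rw [ringKrullDim_eq_of_ringEquiv eB, ← ringKrullDim_eq_of_ringEquiv eT,
      IsLocalization.AtPrime.ringKrullDim_eq_height QT.asIdeal (Localization.AtPrime QT.asIdeal)]
  have hxs : ∀ x ∈ f.map (algebraMap S (EGA4.FibLocRing R S q)),
      x ∈ maximalIdeal (EGA4.FibLocRing R S q) := by
    intro x hx
    obtain ⟨s, hs, rfl⟩ := List.mem_map.1 hx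
    apply algebraMap_mem_maximalIdeal_fibLocRing
    have hsI : s ∈ I := by rw [hI]; exact Ideal.subset_span hs
    show Ideal.Quotient.mk I s ∈ qT.asIdeal
    rw [Ideal.Quotient.eq_zero_iff_mem.2 hsI]
    exact zero_mem _
  have hof : Ideal.ofList (f.map (algebraMap S (EGA4.FibLocRing R S q))) =
      I.map (algebraMap S (EGA4.FibLocRing R S q)) := by rw [hI]; exact (Ideal.map_ofList _ _).symm
  rw [isRegular_iff_dim _ _ hxs, hof, hdT, hdF, List.length_map]
  haveI : Algebra.FiniteType p.ResidueField (p.Fiber S) := inferInstance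
  haveI : Algebra.FiniteType p.ResidueField (p.Fiber (S ⧸ I)) := inferInstance
  obtain ⟨r, hr, hrd⟩ :=
    height_add_trdeg_eq_of_equidim p.ResidueField (p.Fiber S) d (heq p') Q
  have hrT : Algebra.trdeg p.ResidueField (p.Fiber (S ⧸ I) ⧸ QT.asIdeal) = (r : Cardinal.{u}) := by
    rw [← trdeg_quotient_comap_fibMap]
    exact hr
  have hloc := LocalDimSpec.localDim_eq p.ResidueField (p.Fiber (S ⧸ I)) QT.asIdeal r hrT
  have hfd := RingFibDim.localDim_eq_fibreDimAt R (S ⧸ I) qT QT hQT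
  rw [← hfd]
  have hloc' : FlatMor.localDim (PrimeSpectrum (p.Fiber (S ⧸ I))) QT =
      ((QT.asIdeal.height : ℕ∞) : WithBot ℕ∞) + (r : WithBot ℕ∞) := hloc
  rw [hloc']
  exact enat_aux _ _ r f.length d hrd

end main

end Groth.Agent.Helper16.RegLoc
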