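import Mathlib
import Groth.Agent.Lib.Helper16.Sch.RegLocC
import Groth.Agent.Lib.Helper14.FibreGeneric
import Groth.Agent.S0402

set_option autoImplicit false
set_option linter.style.haveILetI false
set_option linter.unusedSectionVars false
universe u

open scoped TensorProduct
open IsLocalRing RingTheory.Sequence AlgebraicGeometry

namespace Groth.Agent.Helper16.RegLoc

open Groth.Agent.Helper14 Groth.Agent.Helper16

section main

variable (R S : Type u) [CommRing R] [CommRing S] [Algebra R S] [Algebra.FiniteType R S]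

theorem withBot_aux (x : WithBot ℕ∞) (i d : ℕ) (hid : i ≤ d) :
    x + (i : WithBot ℕ∞) ≤ (d : WithBot ℕ∞) ↔ x ≤ ((d - i : ℕ) : WithBot ℕ∞) := by
  induction x with
  | bot => simp
  | coe a =>
    have h1 : (((a : ℕ∞) : WithBot ℕ∞) + (i : WithBot ℕ∞) ≤ (d : WithBot ℕ∞)) ↔
        a + (i : ℕ∞) ≤ (d : ℕ∞) := by
      exact_mod_cast Iff.rfl
    have h2 : (((a : ℕ∞) : WithBot ℕ∞) ≤ ((d - i : ℕ) : WithBot ℕ∞)) ↔
        a ≤ ((d - i : ℕ) : ℕ∞) := by
      rw [show ((d - i : ℕ) : WithBot ℕ∞) = (((d - i : ℕ) : ℕ∞) : WithBot ℕ∞) from rfl,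
        WithBot.coe_le_coe]
    rw [h1, h2]
    induction a with
    | top => simp
    | coe m =>
      have h3 : ((m : ℕ∞) + (i : ℕ∞) ≤ (d : ℕ∞)) ↔ m + i ≤ d := by exact_mod_cast Iff.rfl
      have h4 : ((m : ℕ∞) ≤ ((d - i : ℕ) : ℕ∞)) ↔ m ≤ d - i := by exact_mod_cast Iff.rfl
      rw [h3, h4]
      omega

/-- the locus in `Spec T` where the fibre dimension plus `i` is at most `d` is open. -/
theorem isOpen_fibreDimAt_add_le (i d : ℕ) :
    IsOpen {t : PrimeSpectrum S | FlatMor.fibreDimAt (RingFibDim.specMap R S) t +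
      (i : WithBot ℕ∞) ≤ (d : WithBot ℕ∞)} := by
  haveI : LocallyOfFiniteType (RingFibDim.specMap R S) := by
    rw [HasRingHomProperty.Spec_iff (P := @LocallyOfFiniteType)]
    exact (RingHom.finiteType_algebraMap (A := R) (B := S)).mpr inferInstance
  by_cases hid : i ≤ d
  · have h := Groth.Agent.S0402.result (RingFibDim.specMap R S) (d - i)
    have hset : {t : PrimeSpectrum S | FlatMor.fibreDimAt (RingFibDim.specMap R S) t +
        (i : WithBot ℕ∞) ≤ (d : WithBot ℕ∞)} =
        {t | FlatMor.fibreDimAt (RingFibDim.specMap R S) t ≤ ((d - i : ℕ) : WithBot ℕ∞)} := by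
      ext t
      exact withBot_aux _ i d hid
    rw [hset]
    exact h
  · have hset : {t : PrimeSpectrum S | FlatMor.fibreDimAt (RingFibDim.specMap R S) t +
        (i : WithBot ℕ∞) ≤ (d : WithBot ℕ∞)} = ∅ := by
      ext t
      simp only [Set.mem_ofPred_eq, Set.mem_empty_iff_false, iff_false]
      intro h
      have h0 : (0 : WithBot ℕ∞) ≤ FlatMor.fibreDimAt (RingFibDim.specMap R S) t :=
        FibreGeneric.zero_le_localDim _
      have h1 : (i : WithBot ℕ∞) ≤ (d : WithBot ℕ∞) :=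
        le_trans (by simpa using add_le_add_left h0 (i : WithBot ℕ∞)) h
      exact hid (by exact_mod_cast h1)
    rw [hset]
    exact isOpen_empty

/-- **Openness of the regular-sequence locus** for Cohen–Macaulay equidimensional fibres. -/
theorem main (d : ℕ)
    (hCM : ∀ p : PrimeSpectrum R, LocCoh.IsCohenMacaulayRing (p.asIdeal.Fiber S))
    (heq : ∀ p : PrimeSpectrum R, ∀ P ∈ minimalPrimes (p.asIdeal.Fiber S),
      ringKrullDim (p.asIdeal.Fiber S ⧸ P) = (d : WithBot ℕ∞))
    (f : List S) :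
    ∃ U : Set (PrimeSpectrum S), IsOpen U ∧ ∀ q : PrimeSpectrum S, Ideal.ofList f ≤ q.asIdeal →
      (q ∈ U ↔ RingTheory.Sequence.IsRegular (EGA4.FibLocRing R S q.asIdeal)
        (f.map (algebraMap S (EGA4.FibLocRing R S q.asIdeal)))) := by
  let I := Ideal.ofList f
  have hg : Topology.IsClosedEmbedding (PrimeSpectrum.comap (Ideal.Quotient.mk I)) :=
    PrimeSpectrum.isClosedEmbedding_comap_of_surjective _ _ Ideal.Quotient.mk_surjective
  let UT : Set (PrimeSpectrum (S ⧸ I)) :=
    {t | FlatMor.fibreDimAt (RingFibDim.specMap R (S ⧸ I)) t +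
      (f.length : WithBot ℕ∞) ≤ (d : WithBot ℕ∞)}
  have hUT : IsOpen UT := isOpen_fibreDimAt_add_le R (S ⧸ I) f.length d
  refine ⟨(PrimeSpectrum.comap (Ideal.Quotient.mk I) '' UTᶜ)ᶜ,
    (hg.isClosedMap _ hUT.isClosed_compl).isOpen_compl, ?_⟩
  intro q hq
  obtain ⟨qT, rfl⟩ : q ∈ Set.range (PrimeSpectrum.comap (Ideal.Quotient.mk I)) := by
    rw [range_comap_of_surjective _ _ Ideal.Quotient.mk_surjective, Ideal.mk_ker]
    exact hq
  rw [isRegular_iff_fibreDimAt R S d hCM heq f I rfl qT]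
  rw [Set.mem_compl_iff, hg.injective.mem_set_image, Set.mem_compl_iff, not_not]
  rfl

end main

end Groth.Agent.Helper16.RegLoc
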