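import Mathlib
import Groth.Agent.Lib.Helper16.Alg.RegSmE
import Groth.Agent.Lib.Helper16.Sch.SmDiv

/-!
# A scheme containing a smooth closed subscheme cut out by a regular sequence is smooth nearby
(helper16)
-/

set_option autoImplicit false
set_option linter.style.haveILetI false
universe u
open CategoryTheory CategoryTheory.Limits AlgebraicGeometry Opposite TopologicalSpace

noncomputable section

namespace Groth.Agent.Helper16.RegSm

set_option maxHeartbeats 1600000 in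
set_option synthInstance.maxHeartbeats 400000 in
theorem main {X Y S : Scheme.{u}} (f : X ⟶ S) (h : Y ⟶ S)
    [LocallyOfFinitePresentation f] [LocallyOfFinitePresentation h] (j : Y ⟶ X)
    [IsClosedImmersion j]
    (hj : j ≫ f = h) (y : ↥Y) (hy : ∃ V : Y.Opens, y ∈ V ∧ Smooth (V.ι ≫ h))
    (hreg : ∃ (U : X.Opens) (hU : IsAffineOpen U), j y ∈ U ∧
      ∃ rs : List Γ(X, U), RingTheory.Sequence.IsRegular Γ(X, U) rs ∧
        j.ker.ideal ⟨U, hU⟩ = Ideal.ofList rs) :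
    ∃ U : X.Opens, j y ∈ U ∧ Smooth (U.ι ≫ f) := by
  obtain ⟨V, hyV, hVsm⟩ := hy
  obtain ⟨U, hU, hxU, rs, hrs, hker⟩ := hreg
  -- an open of `X` cutting out `V`
  obtain ⟨O, hO⟩ : ∃ O : X.Opens, j ⁻¹ᵁ O = V := by
    obtain ⟨t, ht, htV⟩ := (j.isClosedEmbedding.isInducing.isOpen_iff).mp V.2
    exact ⟨⟨t, ht⟩, Opens.ext htV⟩
  obtain ⟨W, hW, hxW⟩ : ∃ W : S.Opens, IsAffineOpen W ∧ f (j y) ∈ W := by
    obtain ⟨W, hW, hyW, -⟩ := TopologicalSpace.Opens.isBasis_iff_nbhd.mp S.isBasis_affineOpens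
      (TopologicalSpace.Opens.mem_top (f (j y)))
    exact ⟨W, hW, hyW⟩
  have hxO : j y ∈ O := by
    have : y ∈ j ⁻¹ᵁ O := hO ▸ hyV
    exact this
  obtain ⟨g, hgle, hxg⟩ := hU.exists_basicOpen_le (V := O ⊓ f ⁻¹ᵁ W) ⟨j y, hxO, hxW⟩ hxU
  set U' : X.Opens := X.basicOpen g with hU'def
  have hU' : IsAffineOpen U' := hU.basicOpen g
  have e : U' ≤ f ⁻¹ᵁ W := hgle.trans inf_le_right
  have hU'O : U' ≤ O := hgle.trans inf_le_left
  have hxU' : j y ∈ U' := hxg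
  -- the rings
  letI algAB : Algebra Γ(S, W) Γ(X, U') := (f.appLE W U' e).hom.toAlgebra
  haveI : Algebra.FinitePresentation Γ(S, W) Γ(X, U') := f.finitePresentation_appLE hW hU' e
  haveI hloc : IsLocalization.Away g Γ(X, U') := hU.isLocalization_basicOpen g
  set rs' : List Γ(X, U') := rs.map (algebraMap Γ(X, U) Γ(X, U')) with hrs'
  have hreg' : RingTheory.Sequence.IsWeaklyRegular Γ(X, U') rs' :=
    RingTheory.Sequence.IsWeaklyRegular.of_isLocalization Γ(X, U') (.powers g)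
      hrs.toIsWeaklyRegular
  have hker' : j.ker.ideal ⟨U', hU'⟩ = Ideal.ofList rs' := by
    have := j.ker.map_ideal_basicOpen ⟨U, hU⟩ g
    rw [hker, Ideal.map_ofList] at this
    exact this.symm
  -- the quotient
  have hUY : IsAffineOpen (j ⁻¹ᵁ U') := hU'.preimage j
  have hleV : j ⁻¹ᵁ U' ≤ V := by rw [← hO]; exact j.preimage_mono hU'O
  have e₂ : j ⁻¹ᵁ U' ≤ h ⁻¹ᵁ W := by
    intro z hz
    show h z ∈ W
    rw [← hj]
    exact e hz
  have hsmC : (h.appLE W (j ⁻¹ᵁ U') e₂).hom.Smooth :=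
    Groth.Agent.Helper16.SmDiv.smooth_appLE_of_le h V hVsm hUY hleV hW e₂
  have hcompLE : h.appLE W (j ⁻¹ᵁ U') e₂ = f.appLE W U' e ≫ j.app U' := by
    subst hj
    rw [j.app_eq_appLE, Scheme.Hom.appLE_comp_appLE]
  -- `Γ(Y, j⁻¹U')` as an algebra over `Γ(S, W)`
  letI algAC : Algebra Γ(S, W) Γ(Y, j ⁻¹ᵁ U') := (h.appLE W (j ⁻¹ᵁ U') e₂).hom.toAlgebra
  haveI : Algebra.Smooth Γ(S, W) Γ(Y, j ⁻¹ᵁ U') := RingHom.smooth_algebraMap.mp hsmC
  let ψ : Γ(X, U') →ₐ[Γ(S, W)] Γ(Y, j ⁻¹ᵁ U') :=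
    { (j.app U').hom with
      commutes' := fun a => by
        show (j.app U').hom ((f.appLE W U' e).hom a) = (h.appLE W (j ⁻¹ᵁ U') e₂).hom a
        rw [hcompLE]
        rfl }
  have hψ : Function.Surjective ψ := j.app_surjective U' hU'
  have hkerψ : RingHom.ker ψ = Ideal.ofList rs' := by
    rw [← hker', Scheme.Hom.ker_apply]
    rfl
  let eq1 : (Γ(X, U') ⧸ RingHom.ker ψ) ≃ₐ[Γ(S, W)] Γ(Y, j ⁻¹ᵁ U') :=
    Ideal.quotientKerAlgEquivOfSurjective hψ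
  let eq2 : (Γ(X, U') ⧸ RingHom.ker ψ) ≃ₐ[Γ(S, W)] (Γ(X, U') ⧸ Ideal.ofList rs') :=
    Ideal.quotientEquivAlgOfEq _ hkerψ
  haveI : Algebra.Smooth Γ(S, W) (Γ(X, U') ⧸ Ideal.ofList rs') :=
    Algebra.Smooth.of_equiv (eq1.symm.trans eq2)
  -- the prime
  set qp := hU'.primeIdealOf ⟨j y, hxU'⟩ with hqp
  have hqle : Ideal.ofList rs' ≤ qp.asIdeal := by
    rw [← hkerψ]
    intro s hs
    by_contra hsq
    have h1 := Groth.Agent.Helper16.SmDiv.mem_basicOpen_of_notMem_primeIdealOf hU' (j y) hxU' s hsq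
    have h2 : y ∈ j ⁻¹ᵁ X.basicOpen s := h1
    rw [Scheme.preimage_basicOpen] at h2
    have h3 : j.app U' s = 0 := hs
    rw [h3, Scheme.basicOpen_zero] at h2
    exact h2
  have hsm : Algebra.IsSmoothAt Γ(S, W) qp.asIdeal :=
    isSmoothAt_of_regular_quotient rs' hreg' qp.asIdeal hqle
  have hmem : j y ∈ f.smoothLocus := by
    rw [Scheme.Hom.mem_smoothLocus, formallySmooth_stalkMap_iff W hW U' hU' e hxU']
    exact hsm
  refine ⟨f.smoothLocus, hmem, ?_⟩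
  rw [← Scheme.Hom.smoothLocus_eq_top_iff, ← Scheme.Hom.preimage_smoothLocus_eq]
  exact Scheme.Opens.ι_preimage_self _

end Groth.Agent.Helper16.RegSm
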