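import Mathlib
import Groth.Prelude
import Groth.Agent.Lib.Helper16.Sch.RelAss1
import Groth.Agent.Lib.Helper16.Sch.ModLoci1
import Groth.Agent.Lib.Helper16.Sch.ConsFD3

/-!
# Local constructibility of the locus where the relative assassin lies in a retrocompact open
(helper16)
-/

set_option autoImplicit false
set_option linter.style.haveILetI false
set_option linter.unusedSectionVars false
universe u

open AlgebraicGeometry CategoryTheory Limits IsLocalRing TopologicalSpace Topology

namespace Groth.Agent.Helper16.RelAss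

open Groth.Agent.Helper16.FibStalk Groth.Agent.Helper16.FibMod Groth.Agent.Helper16.FibModAlg
open Groth.Agent.Helper16.SmCd Groth.Agent.Helper16.FTDim Groth.Agent.Helper16.EquiSk
open Groth.Agent.Helper16.ModLoci

variable {X Y : Scheme.{u}} (f : X ⟶ Y) (ℱ : X.Modules)

/-- specializations within the fibre of the depth-zero points of `L` of transcendence degree `j`. -/
def setAL (L : Set X) (j : ℕ) : Set X := Gn f j (lowRd f ℱ (j + 1) ∩ L)

theorem mem_lowRd_and_iff [LocallyOfFiniteType f] (hF : CohB1.IsFP ℱ) (j : ℕ) (z : X) :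
    (z ∈ lowRd f ℱ (j + 1) ∧ j ≤ td f z) ↔ (cdepth f ℱ z = 0 ∧ td f z = j) := by
  constructor
  · rintro ⟨hzC, hj⟩
    have hcd : cdim f ℱ z ≠ ⊥ := by
      intro hbot
      apply hzC
      rw [cdepth_eq_top_of_cdim_eq_bot f ℱ z hbot, top_add]
      exact le_top
    obtain ⟨a, b, -, hb, -⟩ := exists_nat_cinvariants f ℱ hF z hcd
    have hlt : b + td f z < j + 1 := by
      have : ¬ (((j + 1 : ℕ) : ℕ∞) ≤ (b : ℕ∞) + (td f z : ℕ∞)) := by rw [← hb]; exact hzC
      rw [not_le] at this
      exact_mod_cast this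
    rw [hb]
    refine ⟨?_, by omega⟩
    have : b = 0 := by omega
    rw [this]
    rfl
  · rintro ⟨h0, htd⟩
    refine ⟨?_, htd.ge⟩
    unfold lowRd
    rw [Set.mem_ofPred_eq, h0, zero_add, htd, not_le]
    exact_mod_cast Nat.lt_succ_self j

theorem setAL_subset_setD [LocallyOfFiniteType f] (hF : CohB1.IsFP ℱ) (L : Set X) (j : ℕ) :
    setAL f ℱ L j ⊆ setD f ℱ j := by
  refine subset_trans ?_ (setA_subset_setD f ℱ hF j)
  rintro x ⟨z, ⟨hz, -⟩, h⟩
  exact ⟨z, hz, h⟩

theorem isLocallyConstructible_setAL [LocallyOfFinitePresentation f] (hF : CohB1.IsFP ℱ)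
    (L : Set X) (hL : IsLocallyConstructible L) (j : ℕ) :
    IsLocallyConstructible (setAL f ℱ L j) :=
  isLocallyConstructible_Gn f j _ ((isLocallyConstructible_lowRd f ℱ hF (j + 1)).inter hL)

theorem image_relAss_inter [LocallyOfFiniteType f] (hF : CohB1.IsFP ℱ) (L : Set X) :
    f '' (MoreMor.relAss f ℱ ∩ L) = f '' (⋃ j ∈ (Set.univ : Set ℕ), setAL f ℱ L j) := by
  ext y
  constructor
  · rintro ⟨x, ⟨hx, hxL⟩, rfl⟩
    refine ⟨x, ?_, rfl⟩
    simp only [Set.mem_iUnion, Set.mem_univ, exists_prop, true_and]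
    rw [mem_relAss_iff f ℱ hF] at hx
    refine ⟨td f x, x, ⟨((mem_lowRd_and_iff f ℱ hF _ x).mpr ⟨hx, rfl⟩).1, hxL⟩, specializes_rfl,
      rfl, le_rfl⟩
  · rintro ⟨x, hx, rfl⟩
    simp only [Set.mem_iUnion, Set.mem_univ, exists_prop, true_and] at hx
    obtain ⟨j, z, ⟨hz, hzL⟩, -, hfz, hj⟩ := hx
    refine ⟨z, ⟨?_, hzL⟩, hfz⟩
    rw [mem_relAss_iff f ℱ hF]
    exact ((mem_lowRd_and_iff f ℱ hF j z).mp ⟨hz, hj⟩).1

/-- **Local constructibility of the image of the relative assassin cut by a locally constructible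
set.** -/
theorem isLocallyConstructible_image_relAss_inter [LocallyOfFinitePresentation f] [QuasiCompact f]
    (hF : CohB1.IsFP ℱ) (L : Set X) (hL : IsLocallyConstructible L) :
    IsLocallyConstructible (f '' (MoreMor.relAss f ℱ ∩ L)) := by
  rw [image_relAss_inter f ℱ hF L]
  apply f.isLocallyConstructible_image
  exact isLocallyConstructible_iUnion_of_subset_setD f ℱ hF (setAL f ℱ L)
    (isLocallyConstructible_setAL f ℱ hF L hL) (setAL_subset_setD f ℱ hF L) Set.univ

/-- an open subscheme which is quasi-compact over the base of a quasi-separated morphism is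
locally constructible. -/
theorem isLocallyConstructible_opens_of_quasiCompact [QuasiSeparated f] (U : X.Opens)
    [QuasiCompact (U.ι ≫ f)] : IsLocallyConstructible (U : Set X) := by
  haveI : QuasiCompact U.ι := QuasiCompact.of_comp U.ι f
  have h1 : IsRetrocompact (U : Set X) := by
    have := U.ι.isSpectralMap
    exact IsRetrocompact_iff_isSpectralMap_subtypeVal.mpr this
  exact (h1.isConstructible U.isOpen).isLocallyConstructible

/-- **S1370.** -/
theorem isLocallyConstructible_relAss_subset [LocallyOfFinitePresentation f] [QuasiCompact f]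
    [QuasiSeparated f] (hF : CohB1.IsFP ℱ) (U : X.Opens) [QuasiCompact (U.ι ≫ f)] :
    IsLocallyConstructible {y : Y | ∀ x ∈ MoreMor.relAss f ℱ, f x = y → x ∈ U} := by
  have hU := isLocallyConstructible_opens_of_quasiCompact f U
  have h := isLocallyConstructible_image_relAss_inter f ℱ hF (U : Set X)ᶜ
    (Groth.Agent.Helper16.ConsFD.isLocallyConstructible_compl hU)
  have h' := Groth.Agent.Helper16.ConsFD.isLocallyConstructible_compl h
  convert h' using 1
  ext y
  simp only [Set.mem_ofPred_eq, Set.mem_compl_iff, Set.mem_image, Set.mem_inter_iff, not_exists,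
    not_and, SetLike.mem_coe]
  constructor
  · intro H x hx hfx
    exact hx.2 (H x hx.1 hfx)
  · intro H x hx hfx
    by_contra hxU
    exact H x ⟨hx, hxU⟩ hfx

end Groth.Agent.Helper16.RelAss
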