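import Mathlib
import Groth.Prelude
import Groth.Agent.Lib.Helper16.Sch.RelAss3
import Groth.Agent.Lib.Helper15.RingDimLocal

/-!
# The relative assassin under base change: maximal points of the fibres of the base change
(helper16)
-/

set_option autoImplicit false
set_option linter.style.haveILetI false
set_option linter.unusedSectionVars false
universe u

open AlgebraicGeometry CategoryTheory Limits IsLocalRing TopologicalSpace TensorProduct

namespace Groth.Agent.Helper16.RelAss

open Groth.Agent.Helper16.FibStalk Groth.Agent.Helper16.FibMod Groth.Agent.Helper16.FibModAlg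
open Groth.Agent.Helper16.FibCM Groth.Agent.Helper16.AssTensor

section Fibre

variable {X Y : Scheme.{u}} (f : X ⟶ Y)

/-- the dimension of the fibre local ring computed in any presentation of the fibre. -/
theorem fdim_fiberι (y : Y) (w : f.fiber y) :
    fdim f (f.fiberι y w) = ringKrullDim ((f.fiber y).presheaf.stalk w) := by
  have e : (f.fiber y).presheaf.stalk w ≃+*
      (f.fiber (f (f.fiberι y w))).presheaf.stalk (f.asFiber (f.fiberι y w)) :=
    (quotEquivStalkFiberOfEq f y w (f.fiberι y w) rfl).symm.trans
      (quotEquivStalkFiberOfEq f (f (f.fiberι y w)) (f.asFiber (f.fiberι y w)) (f.fiberι y w)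
        (f.fiberι_asFiber _))
  exact (ringKrullDim_eq_of_ringEquiv e).symm

theorem isLocallyNoetherian_fiber [LocallyOfFiniteType f] (y : Y) :
    IsLocallyNoetherian (f.fiber y) := by
  haveI : LocallyOfFiniteType (f.fiberToSpecResidueField y) :=
    MorphismProperty.pullback_snd _ _ ‹LocallyOfFiniteType f›
  exact LocallyOfFiniteType.isLocallyNoetherian (f.fiberToSpecResidueField _)

/-- strict generizations in a locally Noetherian scheme have local rings of smaller dimension. -/
theorem ringKrullDim_stalk_lt_of_specializes (W : Scheme.{u}) [IsLocallyNoetherian W] {v w : W}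
    (hvw : v ⤳ w) (hne : v ≠ w) :
    ringKrullDim (W.presheaf.stalk v) < ringKrullDim (W.presheaf.stalk w) := by
  obtain ⟨P, rfl⟩ : v ∈ Set.range (W.fromSpecStalk w) := by
    rw [Scheme.range_fromSpecStalk]
    exact hvw
  rw [Groth.Agent.Helper16.GenLift.ringKrullDim_stalk_fromSpecStalk,
    ← IsLocalRing.maximalIdeal_height_eq_ringKrullDim]
  haveI := P.isPrime
  have hle : P.asIdeal ≤ maximalIdeal (W.presheaf.stalk w) :=
    IsLocalRing.le_maximalIdeal P.isPrime.ne_top
  have hlt : P.asIdeal < maximalIdeal (W.presheaf.stalk w) := by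
    refine lt_of_le_of_ne hle ?_
    intro heq
    apply hne
    have : P = closedPoint (W.presheaf.stalk w) := PrimeSpectrum.ext heq
    rw [this]
    exact Scheme.fromSpecStalk_closedPoint
  have := Ideal.height_strict_mono_of_isPrime_of_isPrime hlt
  exact_mod_cast this

/-- strict generizations within a fibre have fibre local rings of smaller dimension. -/
theorem fdim_lt_of_specializes [LocallyOfFiniteType f] {x₁ x₂ : X} (h : x₁ ⤳ x₂)
    (hf : f x₁ = f x₂) (hne : x₁ ≠ x₂) : fdim f x₁ < fdim f x₂ := by
  obtain ⟨v, rfl⟩ : x₁ ∈ Set.range (f.fiberι (f x₂)) := by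
    rw [f.range_fiberι]
    exact hf
  have hx₂ : f.fiberι (f x₂) (f.asFiber x₂) = x₂ := f.fiberι_asFiber x₂
  haveI := isLocallyNoetherian_fiber f (f x₂)
  have hvw : v ⤳ f.asFiber x₂ := by
    rw [← (f.fiberι (f x₂)).isEmbedding.isInducing.specializes_iff, hx₂]
    exact h
  have hne' : v ≠ f.asFiber x₂ := by
    rintro rfl
    exact hne hx₂
  have h1 := ringKrullDim_stalk_lt_of_specializes (f.fiber (f x₂)) hvw hne'
  rw [← fdim_fiberι, ← fdim_fiberι, hx₂] at h1
  exact h1

end Fibre

section BC

variable {X Y X' Y' : Scheme.{u}} {f : X ⟶ Y} {g : Y' ⟶ Y} {f' : X' ⟶ Y'} {g' : X' ⟶ X}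

/-- the fibre local ring does not shrink under base change. -/
theorem fdim_le_baseChange [LocallyOfFiniteType f] (hsq : IsPullback g' f' f g) (x' : X') :
    fdim f (g' x') ≤ fdim f' x' := by
  obtain ⟨h, hcomp, hflat, -⟩ := exists_fibre_hom hsq x' (Or.inr inferInstance)
  have hz : f.fiberι (g (f' x')) (h (f'.asFiber x')) = g' x' := by
    rw [← Scheme.Hom.comp_apply, hcomp, Scheme.Hom.comp_apply]
    exact congrArg g' (f'.fiberι_asFiber x')
  letI : Algebra ((f.fiber (g (f' x'))).presheaf.stalk (h (f'.asFiber x')))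
      ((f'.fiber (f' x')).presheaf.stalk (f'.asFiber x')) :=
    (h.stalkMap (f'.asFiber x')).hom.toAlgebra
  haveI : IsLocalHom (algebraMap ((f.fiber (g (f' x'))).presheaf.stalk (h (f'.asFiber x')))
      ((f'.fiber (f' x')).presheaf.stalk (f'.asFiber x'))) :=
    inferInstanceAs (IsLocalHom (h.stalkMap (f'.asFiber x')).hom)
  haveI : Module.Flat ((f.fiber (g (f' x'))).presheaf.stalk (h (f'.asFiber x')))
      ((f'.fiber (f' x')).presheaf.stalk (f'.asFiber x')) := Flat.stalkMap h (f'.asFiber x')
  have h1 := Groth.Agent.Helper15.ringKrullDim_le_of_flat_of_isLocalHom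
    ((f.fiber (g (f' x'))).presheaf.stalk (h (f'.asFiber x')))
    ((f'.fiber (f' x')).presheaf.stalk (f'.asFiber x'))
  rw [← fdim_fiberι, hz] at h1
  exact h1

/-- **Existence of maximal points**: every point of the base change has a generization with the
same images whose fibre local ring has the dimension of that of the image. -/
theorem exists_generization_fdim_eq [LocallyOfFiniteType f] (hsq : IsPullback g' f' f g)
    (x' : X') :
    ∃ x'' : X', x'' ⤳ x' ∧ g' x'' = g' x' ∧ f' x'' = f' x' ∧ fdim f' x'' = fdim f (g' x') := by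
  haveI hft' : LocallyOfFiniteType f' :=
    MorphismProperty.of_isPullback hsq ‹LocallyOfFiniteType f›
  obtain ⟨h, hcomp, hflat, -⟩ := exists_fibre_hom hsq x' (Or.inr inferInstance)
  have hz : f.fiberι (g (f' x')) (h (f'.asFiber x')) = g' x' := by
    rw [← Scheme.Hom.comp_apply, hcomp, Scheme.Hom.comp_apply]
    exact congrArg g' (f'.fiberι_asFiber x')
  haveI := isLocallyNoetherian_fiber f (g (f' x'))
  haveI := isLocallyNoetherian_fiber f' (f' x')
  obtain ⟨v', hv', hhv', hdim⟩ := Groth.Agent.Helper16.GenLift.exists_generization_lift_of_flat h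
    (f'.asFiber x') (h (f'.asFiber x')) specializes_rfl
  have hg : g' (f'.fiberι (f' x') v') = g' x' := by
    rw [← Scheme.Hom.comp_apply, ← hcomp, Scheme.Hom.comp_apply, hhv', hz]
  refine ⟨f'.fiberι (f' x') v', ?_, hg, apply_fiberι f' (f' x') v', ?_⟩
  · have := hv'.map (f'.fiberι (f' x')).continuous
    rw [f'.fiberι_asFiber x'] at this
    exact this
  · rw [fdim_fiberι, hdim, ← fdim_fiberι, hz]

/-- **Maximal points of the fibres of a base change**: the fibre local rings of `x'` and of its
image have the same dimension iff `x'` is maximal among the points with the same images. -/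
theorem fdim_eq_iff_maximal [LocallyOfFiniteType f] (hsq : IsPullback g' f' f g) (x' : X') :
    fdim f' x' = fdim f (g' x') ↔
      ∀ x'' : X', f' x'' = f' x' → g' x'' = g' x' → x'' ⤳ x' → x'' = x' := by
  haveI hft' : LocallyOfFiniteType f' :=
    MorphismProperty.of_isPullback hsq ‹LocallyOfFiniteType f›
  constructor
  · intro heq x'' hf' hg' hsp
    by_contra hne
    have h1 := fdim_lt_of_specializes f' hsp hf' hne
    have h2 := fdim_le_baseChange hsq x''
    rw [hg', ← heq] at h2
    exact absurd h1 (not_lt.mpr h2)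
  · intro hmax
    obtain ⟨x'', hsp, hg', hf', hdim⟩ := exists_generization_fdim_eq hsq x'
    rw [hmax x'' hf' hg' hsp] at hdim
    exact hdim

end BC

end Groth.Agent.Helper16.RelAss
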