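import Mathlib
import Groth.Prelude
import Groth.Agent.Lib.Helper16.Sch.RelAss4
import Groth.Agent.Lib.Helper13.FinAffine2

/-!
# The relative assassin under base change: the statements (helper16)
-/

set_option autoImplicit false
set_option linter.style.haveILetI false
set_option linter.unusedSectionVars false
universe u

open AlgebraicGeometry CategoryTheory Limits IsLocalRing TopologicalSpace TensorProduct

namespace Groth.Agent.Helper16.RelAss

open Groth.Agent.Helper16.FibStalk Groth.Agent.Helper16.FibMod Groth.Agent.Helper16.FibModAlg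

/-- **S8885.** -/
theorem isAssPoint_baseChange_iff {X S S' : Scheme.{u}} (f : X ⟶ S) [LocallyOfFiniteType f]
    (g : S' ⟶ S) (F : X.Modules) (hF : Coh.IsQCoh F) (x' : ↥(pullback f g)) :
    Curv2.IsAssPoint
        ((Scheme.Modules.pullback ((pullback.snd f g).fiberι ((pullback.snd f g) x'))).obj
          ((Scheme.Modules.pullback (pullback.fst f g)).obj F))
        ((pullback.snd f g).asFiber x') ↔
      Curv2.IsAssPoint ((Scheme.Modules.pullback (f.fiberι (f ((pullback.fst f g) x')))).obj F)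
          (f.asFiber ((pullback.fst f g) x')) ∧
        ∀ x'' : ↥(pullback f g), (pullback.snd f g) x'' = (pullback.snd f g) x' →
          (pullback.fst f g) x'' = (pullback.fst f g) x' → x'' ⤳ x' → x'' = x' := by
  haveI : F.IsQuasicoherent := hF
  have hsq : IsPullback (pullback.fst f g) (pullback.snd f g) f g := IsPullback.of_hasPullback f g
  rw [isAssPoint_asFiber_iff, isAssPoint_asFiber_iff, mem_relAss_baseChange_iff hsq F x',
    fdim_eq_iff_maximal hsq x']

/-- **S9780.** -/
theorem relAss_fibre_subset_iff_baseChange {X S X' S' : Scheme.{u}} (f : X ⟶ S)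
    [LocallyOfFiniteType f] (F : X.Modules) [F.IsQuasicoherent] (U : X.Opens) (g : S' ⟶ S)
    (f' : X' ⟶ S') (g' : X' ⟶ X) (hc : IsPullback g' f' f g) (s' : S') :
    {x : ↑X | x ∈ MoreMor.relAss f F ∧ f x = g s'} ⊆ (U : Set ↑X) ↔
      {x' : ↑X' | x' ∈ MoreMor.relAss f' ((Scheme.Modules.pullback g').obj F) ∧ f' x' = s'} ⊆
        (g' ⁻¹ᵁ U : Set ↑X') := by
  have hcomm : ∀ z : X', f (g' z) = g (f' z) := fun z => by
    rw [← Scheme.Hom.comp_apply, hc.w, Scheme.Hom.comp_apply]
  constructor
  · rintro H x' ⟨hx', hfx'⟩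
    rw [mem_relAss_baseChange_iff hc F x'] at hx'
    have : g' x' ∈ (U : Set X) := H ⟨hx'.1, by rw [hcomm, hfx']⟩
    exact this
  · rintro H x ⟨hx, hfx⟩
    obtain ⟨x', hx'1, hx'2⟩ : ∃ x' : X', g' x' = x ∧ f' x' = s' := by
      obtain ⟨z, hz1, hz2⟩ := Scheme.Pullback.exists_preimage_pullback x s' hfx
      refine ⟨hc.isoPullback.inv z, ?_, ?_⟩
      · rw [← hz1, ← Scheme.Hom.comp_apply, hc.isoPullback_inv_fst]
      · rw [← hz2, ← Scheme.Hom.comp_apply, hc.isoPullback_inv_snd]
    obtain ⟨x'', -, hg', hf', hdim⟩ := exists_generization_fdim_eq hc x'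
    have hmem : x'' ∈ MoreMor.relAss f' ((Scheme.Modules.pullback g').obj F) := by
      rw [mem_relAss_baseChange_iff hc F x'', hg', hx'1]
      refine ⟨hx, ?_⟩
      rw [hdim, hx'1]
    have h1 : x'' ∈ (g' ⁻¹ᵁ U : Set X') := H ⟨hmem, hf'.trans hx'2⟩
    have h2 : g' x'' ∈ (U : Set X) := h1
    rw [hg', hx'1] at h2
    exact h2

end Groth.Agent.Helper16.RelAss
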