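import Mathlib
import Groth.Prelude
import Groth.Agent.Lib.Helper15.ProjSpaceProper
import Groth.Agent.Lib.Helper7.ZMT1
import Groth.Agent.Lib.Helper16.Sch.SteinIso2
import Groth.Agent.Lib.Helper16.Sch.FTDim3

set_option autoImplicit false
set_option linter.style.haveILetI false
universe u
open CategoryTheory CategoryTheory.Limits AlgebraicGeometry TopologicalSpace

namespace Groth.Agent.Helper16.ResFib

variable {X Y : Scheme.{u}}

/-- in a Jacobson space, the points of a finite closed set are closed -/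
theorem isClosed_singleton_of_mem_finite_closed {T : Type*} [TopologicalSpace T] [JacobsonSpace T]
    {S : Set T} (hS : S.Finite) (hSc : IsClosed S) {s : T} (hs : s ∈ S) :
    IsClosed ({s} : Set T) := by
  haveI : JacobsonSpace ↥S := JacobsonSpace.of_isClosedEmbedding hSc.isClosedEmbedding_subtypeVal
  haveI : Finite ↥S := hS
  have h1 : IsClosed ({⟨s, hs⟩} : Set ↥S) := isClosed_discrete _
  have h2 := hSc.isClosedEmbedding_subtypeVal.isClosedMap _ h1
  rwa [Set.image_singleton] at h2

theorem noetherianSpace_fibre (f : X ⟶ Y) [LocallyOfFiniteType f] [QuasiCompact f] (y : Y) :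
    NoetherianSpace ↥(f ⁻¹' {y}) := by
  haveI : LocallyOfFiniteType (f.fiberToSpecResidueField y) :=
    MorphismProperty.pullback_snd _ _ inferInstance
  haveI : IsLocallyNoetherian (f.fiber y) :=
    LocallyOfFiniteType.isLocallyNoetherian (f.fiberToSpecResidueField y)
  haveI : IsNoetherian (f.fiber y) := {}
  exact (f.fiberHomeo y).symm.isInducing.noetherianSpace

theorem quasiSober_fibre (f : X ⟶ Y) (y : Y) : QuasiSober ↥(f ⁻¹' {y}) :=
  (f.fiberHomeo y).symm.isClosedEmbedding.quasiSober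

/-- a zero-dimensional irreducible component of a fibre is a quasi-finite point -/
theorem quasiFiniteAt_of_singleton_component (f : X ⟶ Y) [LocallyOfFiniteType f] [QuasiCompact f]
    (y : Y) (Z : Set ↥(f ⁻¹' {y})) (hZ : Z ∈ irreducibleComponents ↥(f ⁻¹' {y}))
    (ξ : ↥(f ⁻¹' {y})) (hξ : Z = {ξ}) : f.QuasiFiniteAt ξ.1 := by
  haveI := noetherianSpace_fibre f y
  haveI := quasiSober_fibre f y
  have hmax : Maximal IsIrreducible Z := hZ
  have hop : IsOpen ({ξ} : Set ↥(f ⁻¹' {y})) := by
    apply SteinIso2.isOpen_singleton_of_noetherian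
    · intro x' hsp
      have hirr : IsIrreducible (closure ({x'} : Set ↥(f ⁻¹' {y}))) :=
        isIrreducible_singleton.closure
      have hsub : Z ⊆ closure {x'} := by
        rw [hξ]
        exact Set.singleton_subset_iff.mpr (specializes_iff_mem_closure.mp hsp)
      have h1 := hmax.le_of_ge hirr hsub
      have hx' : x' ∈ Z := h1 (subset_closure rfl)
      rw [hξ] at hx'
      exact hx'
    · intro x' hsp
      have hcl : IsClosed Z := isClosed_of_mem_irreducibleComponents Z hZ
      have h1 : closure ({ξ} : Set ↥(f ⁻¹' {y})) ⊆ Z :=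
        closure_minimal (by rw [hξ]) hcl
      have hx' : x' ∈ Z := h1 (specializes_iff_mem_closure.mp hsp)
      rw [hξ] at hx'
      exact hx'
  obtain ⟨x, hx⟩ := ξ
  have hy : y = f x := hx.symm
  subst hy
  have h3 := (f.fiberHomeo (f x)).symm.isOpen_image.mpr hop
  rw [Set.image_singleton] at h3
  exact Scheme.Hom.quasiFiniteAt_iff_isOpen_singleton_asFiber.mpr h3

theorem regular_of_isIso_stalkMap (φ : Y ⟶ X) (y : Y) [IsIso (φ.stalkMap y)]
    (h : IsRegularLocalRing (Y.presheaf.stalk y)) :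
    IsRegularLocalRing (X.presheaf.stalk (φ y)) := by
  have e' := (asIso (φ.stalkMap y)).commRingCatIsoToRingEquiv
  exact IsRegularLocalRing.of_ringEquiv e'.symm

theorem le_one_of_add_one_le_two (d : WithBot ℕ∞) (h : d + 1 ≤ 2) : d ≤ 1 := by
  induction d using WithBot.recBotCoe with
  | bot => exact bot_le
  | coe n =>
    induction n using ENat.recTopCoe with
    | top =>
      exfalso
      have : ((⊤ : ℕ∞) : WithBot ℕ∞) + 1 = ((⊤ : ℕ∞) : WithBot ℕ∞) := by
        rw [← WithBot.coe_one, ← WithBot.coe_add]; simp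
      rw [this] at h
      have h2 : ((⊤ : ℕ∞) : WithBot ℕ∞) ≤ ((2 : ℕ∞) : WithBot ℕ∞) := h
      rw [WithBot.coe_le_coe] at h2
      simp at h2
    | coe m =>
      have h1 : (((m + 1 : ℕ) : ℕ∞) : WithBot ℕ∞) ≤ (((2 : ℕ) : ℕ∞) : WithBot ℕ∞) := by
        push_cast
        exact h
      rw [WithBot.coe_le_coe, Nat.cast_le] at h1
      have h2 : m ≤ 1 := by omega
      have h3 : ((m : ℕ∞) : WithBot ℕ∞) ≤ (((1 : ℕ) : ℕ∞) : WithBot ℕ∞) := by
        rw [WithBot.coe_le_coe, Nat.cast_le]; exact h2
      simpa using h3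

theorem main (k : Type u) [Field k] [IsAlgClosed k] (X : Scheme.{u})
    [X.Over (Spec (CommRingCat.of k))]
    [IsIntegral X] (hdim : topologicalKrullDim X = 2)
    (hproj : ∃ (n : ℕ) (ι : X ⟶ CohB1.ProjSpace n k), IsClosedImmersion ι ∧
      ι ≫ CohB1.ProjSpace.toSpec n k = (X ↘ (Spec (CommRingCat.of k))))
    (hnorm : Pi1.IsNormalScheme X) (U : X.Opens) (hU : ((U : Set X)ᶜ).Finite)
    (Y : Scheme.{u}) (φ : Y ⟶ X) [IsIntegral Y] (hdimY : topologicalKrullDim Y = 2)
    (hregY : ∀ y : Y, IsRegularLocalRing (Y.presheaf.stalk y))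
    (hprojY : ∃ (n : ℕ) (ι : Y ⟶ CohB1.ProjSpace n k), IsClosedImmersion ι ∧
      ι ≫ CohB1.ProjSpace.toSpec n k = φ ≫ (X ↘ (Spec (CommRingCat.of k))))
    (hisoY : IsIso (φ ∣_ U))
    (x : X) (hx : ¬ IsRegularLocalRing (X.presheaf.stalk x)) :
    (φ.base ⁻¹' ({x} : Set X)).Nonempty ∧
      ∀ Z ∈ irreducibleComponents ↥(φ.base ⁻¹' ({x} : Set X)), topologicalKrullDim ↥Z = 1 := by
  haveI hpX : IsProper (X ↘ (Spec (CommRingCat.of k))) := by
    obtain ⟨n, i, hi, hi2⟩ := hproj
    rw [← hi2]
    infer_instance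
  haveI hpY : IsProper (φ ≫ (X ↘ (Spec (CommRingCat.of k)))) := by
    obtain ⟨n, i, hi, hi2⟩ := hprojY
    rw [← hi2]
    infer_instance
  haveI : IsProper φ := IsProper.of_comp φ (X ↘ (Spec (CommRingCat.of k)))
  haveI : JacobsonSpace X := LocallyOfFiniteType.jacobsonSpace (X ↘ (Spec (CommRingCat.of k)))
  haveI : IsLocallyNoetherian Y :=
    LocallyOfFiniteType.isLocallyNoetherian (φ ≫ (X ↘ (Spec (CommRingCat.of k))))
  have hUc : IsClosed ((U : Set X)ᶜ) := U.isOpen.isClosed_compl
  -- the generic point lies in U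
  have hηU : genericPoint X ∈ U := by
    by_contra hcon
    have hcl : IsClosed ({genericPoint X} : Set X) :=
      isClosed_singleton_of_mem_finite_closed hU hUc hcon
    have huniv : (Set.univ : Set X) = {genericPoint X} := by
      rw [← hcl.closure_eq]
      exact ((genericPoint_spec X).def).symm
    haveI : Subsingleton X := ⟨fun a b => by
      have ha : a ∈ ({genericPoint X} : Set X) := huniv ▸ Set.mem_univ a
      have hb : b ∈ ({genericPoint X} : Set X) := huniv ▸ Set.mem_univ b
      exact ha.trans hb.symm⟩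
    have hsub' : Subsingleton (IrreducibleCloseds X) := by
      constructor
      intro a b
      apply IrreducibleCloseds.ext
      ext t
      obtain ⟨y, hy⟩ := a.isIrreducible.nonempty
      obtain ⟨y', hy'⟩ := b.isIrreducible.nonempty
      rw [Subsingleton.elim t y]
      constructor
      · intro _; rw [Subsingleton.elim y y']; exact hy'
      · intro _; exact hy
    have : topologicalKrullDim X ≤ 0 := Order.krullDim_nonpos_of_subsingleton
    rw [hdim] at this
    exact absurd this (by decide)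
  -- stalk maps over U are isomorphisms
  have hstalk : ∀ y : Y, φ y ∈ U → IsIso (φ.stalkMap y) := by
    intro y hy
    have h1 : IsIso ((φ ∣_ U).stalkMap ⟨y, hy⟩) := inferInstance
    exact ((MorphismProperty.isomorphisms _).arrow_mk_iso_iff
      (morphismRestrictStalkMap φ U ⟨y, hy⟩)).mp h1
  have hno : ∀ z : Y, φ z = x → ¬ IsIso (φ.stalkMap z) := by
    intro z hz hiso
    subst hz
    exact hx (regular_of_isIso_stalkMap φ z (hregY z))
  -- surjectivity
  have hsurjU : ∀ v : X, v ∈ U → ∃ y : Y, φ y = v := by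
    intro v hv
    let e := asIso (φ ∣_ U)
    let b : ↥U := ⟨v, hv⟩
    have h2 : e.hom (e.inv b) = b := by
      rw [← Scheme.Hom.comp_apply, e.inv_hom_id]; rfl
    refine ⟨(e.inv b).1, ?_⟩
    have h3 := morphismRestrict_base_coe φ U (e.inv b)
    rw [show (φ ∣_ U) (e.inv b) = b from h2] at h3
    exact h3.symm
  have hxU : x ∉ U := by
    intro hxU
    obtain ⟨y, hy⟩ := hsurjU x hxU
    exact hno y hy (hstalk y (hy ▸ hxU))
  have hsurj : Function.Surjective φ := by
    intro v
    have hcl : IsClosed (Set.range φ) := φ.isClosedMap.isClosed_range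
    have hdense : Dense (U : Set X) := U.isOpen.dense ⟨genericPoint X, hηU⟩
    have hsub : (U : Set X) ⊆ Set.range φ := fun v hv => hsurjU v hv
    have h1 : closure (U : Set X) ⊆ Set.range φ := closure_minimal hsub hcl
    rw [hdense.closure_eq] at h1
    exact h1 (Set.mem_univ v)
  have hgen : φ (genericPoint Y) = genericPoint X := by
    have h1 : IsGenericPoint (φ (genericPoint Y)) (⊤ : Set X) := by
      rw [isGenericPoint_def]
      apply Set.eq_univ_of_univ_subset
      intro v _
      obtain ⟨y, rfl⟩ := hsurj v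
      have h2 : genericPoint Y ⤳ y := (genericPoint_spec Y).specializes (Set.mem_univ y)
      exact specializes_iff_mem_closure.mp (h2.map φ.continuous)
    exact h1.eq (genericPoint_spec X)
  -- quasi-finite points do not lie over x
  have hE : ∀ z : Y, φ.QuasiFiniteAt z → φ z ≠ x := by
    intro z hz hzx
    let Q : Y.Opens := φ.quasiFiniteLocus
    have hzQ : z ∈ Q := hz
    haveI : Nonempty ↥(Q : Scheme.{u}) := ⟨⟨z, hzQ⟩⟩
    haveI : IsIntegral (Q : Scheme.{u}) := isIntegral_of_isOpenImmersion Q.ι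
    haveI : LocallyQuasiFinite (Q.ι ≫ φ) := inferInstance
    haveI : IsSeparated (Q.ι ≫ φ) := inferInstance
    haveI : QuasiCompact (Q.ι ≫ φ) := inferInstance
    haveI : LocallyOfFiniteType (Q.ι ≫ φ) := inferInstance
    have hgenQ : Q.ι (genericPoint (Q : Scheme.{u})) = genericPoint Y := genericPoint_eq_of_isOpenImmersion Q.ι
    have hg1 : (Q.ι ≫ φ) (genericPoint (Q : Scheme.{u})) = genericPoint X := by
      rw [Scheme.Hom.comp_apply, hgenQ, hgen]
    have hηYU : φ (genericPoint Y) ∈ U := hgen ▸ hηU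
    have hbir : IsIso ((Q.ι ≫ φ).stalkMap (genericPoint (Q : Scheme.{u}))) := by
      rw [Scheme.Hom.stalkMap_comp]
      have ha : IsIso (φ.stalkMap (Q.ι (genericPoint (Q : Scheme.{u})))) :=
        (Groth.Agent.Helper7.ZMT1.isIso_stalkMap_congr_point φ hgenQ).mpr (hstalk _ hηYU)
      have hb : IsIso (Q.ι.stalkMap (genericPoint (Q : Scheme.{u}))) := inferInstance
      exact @IsIso.comp_isIso _ _ _ _ _ _ _ ha hb
    have hoi : IsOpenImmersion (Q.ι ≫ φ) :=
      Groth.Agent.Helper7.ZMT1.isOpenImmersion_of_birational (fun y => (hnorm y).2) (Q.ι ≫ φ)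
        hg1 hbir
    have h5 : IsIso ((Q.ι ≫ φ).stalkMap ⟨z, hzQ⟩) := inferInstance
    rw [Scheme.Hom.stalkMap_comp] at h5
    have hb : IsIso (Q.ι.stalkMap ⟨z, hzQ⟩) := inferInstance
    have h6 : IsIso (φ.stalkMap (Q.ι ⟨z, hzQ⟩)) :=
      @IsIso.of_isIso_comp_right _ _ _ _ _ _ (Q.ι.stalkMap ⟨z, hzQ⟩) hb h5
    exact hno z hzx h6
  have hxcl : IsClosed ({x} : Set X) := isClosed_singleton_of_mem_finite_closed hU hUc hxU
  have hFcl : IsClosed (φ ⁻¹' ({x} : Set X)) := hxcl.preimage φ.continuous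
  refine ⟨?_, ?_⟩
  · obtain ⟨y, hy⟩ := hsurj x
    exact ⟨y, hy⟩
  · intro Z hZ
    haveI := noetherianSpace_fibre φ x
    haveI := quasiSober_fibre φ x
    have hZirr : IsIrreducible Z := hZ.1
    have hZcl : IsClosed Z := isClosed_of_mem_irreducibleComponents Z hZ
    obtain ⟨ξ, hξ⟩ := QuasiSober.sober hZirr hZcl
    have hξcl : closure ({ξ} : Set ↥(φ ⁻¹' ({x} : Set X))) = Z := hξ.def
    have hξZ : ξ ∈ Z := hξcl ▸ subset_closure rfl
    haveI : Nonempty ↥Z := ⟨⟨ξ, hξZ⟩⟩
    apply le_antisymm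
    · have hce : Topology.IsClosedEmbedding (fun z : ↥Z => (z.1.1 : Y)) :=
        (hFcl.isClosedEmbedding_subtypeVal).comp (hZcl.isClosedEmbedding_subtypeVal)
      have hns : ¬ Function.Surjective (fun z : ↥Z => (z.1.1 : Y)) := by
        intro hs
        obtain ⟨y0, hy0⟩ := hsurj (genericPoint X)
        obtain ⟨z, hz⟩ := hs y0
        have h1 : φ y0 = x := by
          rw [← hz]; exact z.1.2
        rw [hy0] at h1
        exact hxU (h1 ▸ hηU)
      have h := FTDim.dim_add_one_le_of_isClosedEmbedding _ hce hns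
      rw [hdimY] at h
      exact le_one_of_add_one_le_two _ h
    · by_cases hsing : ∀ z ∈ Z, z = ξ
      · exfalso
        have hZeq : Z = {ξ} := Set.eq_singleton_iff_unique_mem.mpr ⟨hξZ, hsing⟩
        have hqf := quasiFiniteAt_of_singleton_component φ x Z hZ ξ hZeq
        exact hE ξ.1 hqf ξ.2
      · push Not at hsing
        obtain ⟨z, hzZ, hzne⟩ := hsing
        have hsubZ : closure ({z} : Set ↥(φ ⁻¹' ({x} : Set X))) ⊆ Z :=
          closure_minimal (Set.singleton_subset_iff.mpr hzZ) hZcl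
        have hnot : ¬ Z ⊆ closure ({z} : Set ↥(φ ⁻¹' ({x} : Set X))) := by
          intro h
          have h1 : z ⤳ ξ := specializes_iff_mem_closure.mpr (h hξZ)
          have h2 : ξ ⤳ z := specializes_iff_mem_closure.mpr (hξcl ▸ hzZ)
          exact hzne (h1.antisymm h2).eq
        have hA := FTDim.dim_add_one_le_of_ssubset (S := ↥(φ ⁻¹' ({x} : Set X)))
          (A := closure {z}) (F := Z) (C := closure {z}) hZirr isClosed_closure
          (Set.inter_eq_left.mpr hsubZ).symm ⟨z, subset_closure rfl⟩ hnot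
        have h0 : (0 : WithBot ℕ∞) ≤
            topologicalKrullDim ↥(closure ({z} : Set ↥(φ ⁻¹' ({x} : Set X)))) := by
          haveI : Nonempty (IrreducibleCloseds ↥(closure ({z} : Set ↥(φ ⁻¹' ({x} : Set X))))) :=
            ⟨⟨closure {⟨z, subset_closure rfl⟩}, isIrreducible_singleton.closure,
              isClosed_closure⟩⟩
          exact Order.krullDim_nonneg
        calc (1 : WithBot ℕ∞) = 0 + 1 := by simp
          _ ≤ topologicalKrullDim ↥(closure ({z} : Set ↥(φ ⁻¹' ({x} : Set X)))) + 1 :=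
              add_le_add_left h0 1
          _ ≤ _ := hA

end Groth.Agent.Helper16.ResFib
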