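import Mathlib

set_option autoImplicit false
universe u
open AlgebraicGeometry CategoryTheory

namespace Groth.Agent.Helper16.ResSquare

/-- transfer separability of the residue field extension at a point from schemes to the
ring-level residue fields of an affine chart -/
theorem isSeparable_of_scheme {X S : Scheme.{u}} (f : X ⟶ S) (x : X) {U : S.Opens}
    (hU : IsAffineOpen U) {V : X.Opens} (hV : IsAffineOpen V) (e : V ≤ f ⁻¹ᵁ U) (hxV : x ∈ V)
    (hsep : @Algebra.IsSeparable (S.residueField (f x)) (X.residueField x) _ _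
      (f.residueFieldMap x).hom.toAlgebra) :
    letI := (Ideal.ResidueField.map (hU.primeIdealOf ⟨f x, e hxV⟩).asIdeal
      (hV.primeIdealOf ⟨x, hxV⟩).asIdeal (f.appLE U V e).hom
      (congr($(IsAffineOpen.comap_primeIdealOf_appLE U hU V hV e hxV).1).symm)).toAlgebra
    Algebra.IsSeparable (hU.primeIdealOf ⟨f x, e hxV⟩).asIdeal.ResidueField
      (hV.primeIdealOf ⟨x, hxV⟩).asIdeal.ResidueField := by
  let α := IsAffineOpen.arrowStalkMapIso f U hU V hV e hxV
  let eL : S.presheaf.stalk (f x) ≃+* Localization.AtPrime (hU.primeIdealOf ⟨f x, e hxV⟩).asIdeal :=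
    (Arrow.leftFunc.mapIso α).commRingCatIsoToRingEquiv
  let eR : X.presheaf.stalk x ≃+* Localization.AtPrime (hV.primeIdealOf ⟨x, hxV⟩).asIdeal :=
    (Arrow.rightFunc.mapIso α).commRingCatIsoToRingEquiv
  have hw : (Localization.localRingHom _ _ (f.appLE U V e).hom
      (congr($(IsAffineOpen.comap_primeIdealOf_appLE U hU V hV e hxV).1).symm)).comp
        (eL : S.presheaf.stalk (f x) →+* Localization.AtPrime (hU.primeIdealOf ⟨f x, e hxV⟩).asIdeal) = (eR : X.presheaf.stalk x →+* Localization.AtPrime (hV.primeIdealOf ⟨x, hxV⟩).asIdeal).comp (f.stalkMap x).hom := by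
    have := α.hom.w
    exact congrArg CommRingCat.Hom.hom this
  letI a1 : Algebra (S.residueField (f x)) (X.residueField x) :=
    (f.residueFieldMap x).hom.toAlgebra
  letI a2 := (Ideal.ResidueField.map (hU.primeIdealOf ⟨f x, e hxV⟩).asIdeal
      (hV.primeIdealOf ⟨x, hxV⟩).asIdeal (f.appLE U V e).hom
      (congr($(IsAffineOpen.comap_primeIdealOf_appLE U hU V hV e hxV).1).symm)).toAlgebra
  refine @Algebra.IsSeparable.of_equiv_equiv _ _ _ _ _ _ _ _ a1 a2
    (IsLocalRing.ResidueField.mapEquiv eL) (IsLocalRing.ResidueField.mapEquiv eR) ?_ hsep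
  show (IsLocalRing.ResidueField.map (Localization.localRingHom _ _ (f.appLE U V e).hom _)).comp
    (IsLocalRing.ResidueField.map (eL : S.presheaf.stalk (f x) →+* Localization.AtPrime (hU.primeIdealOf ⟨f x, e hxV⟩).asIdeal)) =
    (IsLocalRing.ResidueField.map (eR : X.presheaf.stalk x →+* Localization.AtPrime (hV.primeIdealOf ⟨x, hxV⟩).asIdeal)).comp
      (IsLocalRing.ResidueField.map (f.stalkMap x).hom)
  rw [← IsLocalRing.ResidueField.map_comp, ← IsLocalRing.ResidueField.map_comp]
  congr 1

end Groth.Agent.Helper16.ResSquare
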