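import Mathlib
import Groth.Prelude.Def_FixPt
import Groth.Agent.Lib.Helper16.Alg.Sard1
import Groth.Agent.Lib.Helper16.Top.Sard2
import Groth.Agent.Lib.Helper16.Sch.CotSmoothSch5
import Groth.Agent.Lib.Helper16.Sch.ClosedRed
import Groth.Agent.Lib.Helper16.Sch.GenSm0

set_option autoImplicit false
set_option linter.style.haveILetI false
set_option linter.unusedSectionVars false
universe u

open CategoryTheory AlgebraicGeometry IsLocalRing TopologicalSpace Topology

namespace Groth.Agent.Helper16.Sard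

open Groth.Agent.Helper16.FTDim Groth.Agent.Helper16.ClosedRed Groth.Agent.Helper16.CotSmoothSch

variable {X Y : Scheme.{u}}

theorem ker_radical_of_isReduced {A : Scheme.{u}} [IsReduced A] (g : A ⟶ X) [QuasiCompact g] :
    g.ker.radical = g.ker := by
  apply le_antisymm _ (Scheme.IdealSheafData.le_radical _)
  rw [Scheme.IdealSheafData.le_def]
  intro U
  rw [Scheme.IdealSheafData.radical_ideal, Scheme.Hom.ker_apply]
  intro s hs
  obtain ⟨k, hk⟩ := hs
  rw [RingHom.mem_ker] at hk ⊢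
  rw [map_pow] at hk
  exact IsReduced.eq_zero _ ⟨k, hk⟩

theorem vanishingIdeal_le_ker_of_isReduced {A : Scheme.{u}} [IsReduced A] (g : A ⟶ X)
    [QuasiCompact g] (C : Closeds X) (hC : Set.range g ⊆ (C : Set X)) :
    Scheme.IdealSheafData.vanishingIdeal C ≤ g.ker := by
  rw [← ker_radical_of_isReduced g, ← Scheme.IdealSheafData.vanishingIdeal_support]
  apply Scheme.IdealSheafData.vanishingIdeal_antimono
  rw [← SetLike.coe_subset_coe, Scheme.Hom.support_ker]
  exact closure_minimal hC C.isClosed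

instance (ξ : X) : IsReduced (Xs ξ) :=
  Groth.Agent.Helper16.GenND.isReduced_vanishingIdeal_subscheme (Tc ξ)

instance (ξ : X) : IsIntegral (Xs ξ) := isIntegral_of_irreducibleSpace_of_isReduced _

/-- the morphism induced on the reduced closures of a point and its image. -/
noncomputable def redMap (f : X ⟶ Y) [QuasiCompact f] (ξ : X) : Xs ξ ⟶ Xs (f ξ) :=
  IsClosedImmersion.lift (ιs (f ξ)) (ιs ξ ≫ f) (by
    rw [Scheme.IdealSheafData.ker_subschemeι]
    apply vanishingIdeal_le_ker_of_isReduced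
    rintro _ ⟨w, rfl⟩
    change f ((ιs ξ) w) ∈ closure ({f ξ} : Set Y)
    have hw : (ιs ξ) w ∈ closure ({ξ} : Set X) := by
      rw [← range_ιs]
      exact ⟨w, rfl⟩
    have := image_closure_subset_closure_image f.continuous (s := {ξ}) ⟨_, hw, rfl⟩
    rwa [Set.image_singleton] at this)

theorem redMap_ι (f : X ⟶ Y) [QuasiCompact f] (ξ : X) :
    redMap f ξ ≫ ιs (f ξ) = ιs ξ ≫ f :=
  IsClosedImmersion.lift_fac _ _ _

theorem redMap_genericPoint (f : X ⟶ Y) [QuasiCompact f] (ξ : X) :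
    redMap f ξ (genericPoint ↥(Xs ξ)) = genericPoint ↥(Xs (f ξ)) := by
  apply (ιs (f ξ)).isClosedEmbedding.injective
  have := congrArg (fun t => t.base (genericPoint ↥(Xs ξ))) (redMap_ι f ξ)
  refine Eq.trans this ?_
  change f ((ιs ξ) (genericPoint ↥(Xs ξ))) = _
  rw [ιs_genericPoint, ιs_genericPoint]

section main

variable (k : Type u) [Field k] [IsAlgClosed k] [CharZero k]
  (qX : X ⟶ Spec (CommRingCat.of k)) (qY : Y ⟶ Spec (CommRingCat.of k))
  [LocallyOfFiniteType qX] [LocallyOfFiniteType qY] (f : X ⟶ Y) [QuasiCompact f]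

/-- the set of closed points at which the cotangent map has rank at most `r`. -/
def rankLE (f : X ⟶ Y) (r : ℕ) : Set X :=
  {x : ↥X | IsClosed ({x} : Set ↥X) ∧
    ∃ S : Finset (IsLocalRing.CotangentSpace (X.presheaf.stalk x)), S.card ≤ r ∧
      (LinearMap.range (FixPt.cotangentMapAt f x (f.base x) rfl) :
        Set (IsLocalRing.CotangentSpace (X.presheaf.stalk x))) ⊆
        (Submodule.span (IsLocalRing.ResidueField (X.presheaf.stalk x))
          (S : Set (IsLocalRing.CotangentSpace (X.presheaf.stalk x))) :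
            Set (IsLocalRing.CotangentSpace (X.presheaf.stalk x)))}

/-- the local ring of the reduced closure of `f ξ` at the image of a point of the smooth locus of
the induced map which lies in `rankLE f r` has dimension at most `r`. -/
theorem ringKrullDim_stalk_le (hf : f ≫ qY = qX) (r : ℕ) (ξ : X) (u : ↥(Xs ξ))
    (hu : ((redMap f ξ).stalkMap u).hom.FormallySmooth) (hx : ιs ξ u ∈ rankLE f r) :
    ringKrullDim ((Xs (f ξ)).presheaf.stalk (redMap f ξ u)) ≤ r := by
  obtain ⟨hxcl, S, hS, Hrange⟩ := hx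
  set f' := redMap f ξ with hf'
  have hfac : f' ≫ ιs (f ξ) = ιs ξ ≫ f := redMap_ι f ξ
  haveI : LocallyOfFiniteType (ιs ξ ≫ qX) := inferInstance
  haveI : LocallyOfFiniteType (ιs (f ξ) ≫ qY) := inferInstance
  have hf'q : f' ≫ (ιs (f ξ) ≫ qY) = ιs ξ ≫ qX := by
    rw [← Category.assoc, hfac, Category.assoc, hf]
  haveI : LocallyOfFiniteType (f' ≫ (ιs (f ξ) ≫ qY)) := by rw [hf'q]; infer_instance
  haveI : LocallyOfFiniteType f' := locallyOfFiniteType_of_comp f' (ιs (f ξ) ≫ qY)
  haveI : IsLocallyNoetherian (Xs (f ξ)) := LocallyOfFiniteType.isLocallyNoetherian (ιs (f ξ) ≫ qY)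
  haveI : LocallyOfFinitePresentation f' := inferInstance
  -- `u` is a closed point
  have hucl : IsClosed ({u} : Set ↥(Xs ξ)) := by
    have : ({u} : Set ↥(Xs ξ)) = (ιs ξ) ⁻¹' {ιs ξ u} := by
      ext w
      simp only [Set.mem_singleton_iff, Set.mem_preimage]
      exact ⟨fun h => by rw [h], fun h => (ιs ξ).isClosedEmbedding.injective h⟩
    rw [this]
    exact hxcl.preimage (ιs ξ).continuous
  -- the square of stalk maps
  have hpt : f (ιs ξ u) = ιs (f ξ) (f' u) := congrArg (fun t => t.base u) hfac.symm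
  set τ : Y.presheaf.stalk (f (ιs ξ u)) ⟶ Y.presheaf.stalk (ιs (f ξ) (f' u)) :=
    (Y.presheaf.stalkCongr (.of_eq hpt)).hom with hτ
  have hsq : f.stalkMap (ιs ξ u) ≫ (ιs ξ).stalkMap u =
      τ ≫ (ιs (f ξ)).stalkMap (f' u) ≫ f'.stalkMap u := by
    have h1 := Scheme.Hom.stalkMap_congr_hom (ιs ξ ≫ f) (f' ≫ ιs (f ξ)) hfac.symm u
    rw [Scheme.Hom.stalkMap_comp, Scheme.Hom.stalkMap_comp] at h1
    exact h1
  letI aA'B' : Algebra ((Xs (f ξ)).presheaf.stalk (f' u)) ((Xs ξ).presheaf.stalk u) :=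
    (f'.stalkMap u).hom.toAlgebra
  haveI : IsLocalHom (algebraMap ((Xs (f ξ)).presheaf.stalk (f' u)) ((Xs ξ).presheaf.stalk u)) :=
    (inferInstance : IsLocalHom (f'.stalkMap u).hom)
  haveI : Algebra.FormallySmooth ((Xs (f ξ)).presheaf.stalk (f' u)) ((Xs ξ).presheaf.stalk u) :=
    hu
  -- residue fields
  letI aB' : Algebra k ((Xs ξ).presheaf.stalk u) := (stalkAlg k (ιs ξ ≫ qX) u).toAlgebra
  letI aA' : Algebra k ((Xs (f ξ)).presheaf.stalk (f' u)) :=
    (stalkAlg k (ιs (f ξ) ≫ qY) (f' u)).toAlgebra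
  haveI : IsScalarTower k ((Xs (f ξ)).presheaf.stalk (f' u)) ((Xs ξ).presheaf.stalk u) :=
    IsScalarTower.of_algebraMap_eq fun a =>
      (congrArg (fun φ : k →+* _ => φ a)
        (stalkMap_comp_stalkAlg k (ιs ξ ≫ qX) (ιs (f ξ) ≫ qY) f' hf'q u)).symm
  have hκ' : Function.Bijective (algebraMap k (ResidueField ((Xs ξ).presheaf.stalk u))) :=
    bijective_residue_stalkAlg k (ιs ξ ≫ qX) u hucl
  have hres : Function.Surjective (algebraMap (ResidueField ((Xs (f ξ)).presheaf.stalk (f' u)))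
      (ResidueField ((Xs ξ).presheaf.stalk u))) := by
    intro b
    obtain ⟨c, hc⟩ := hκ'.2 b
    refine ⟨algebraMap k _ c, ?_⟩
    rw [← hc]
    exact (IsScalarTower.algebraMap_apply k (ResidueField ((Xs (f ξ)).presheaf.stalk (f' u)))
      (ResidueField ((Xs ξ).presheaf.stalk u)) c).symm
  -- the maps
  haveI : IsLocalHom (FixPt.stalkMapAt f (ιs ξ u) (f (ιs ξ u)) rfl) := by
    rw [stalkMapAt_rfl]
    infer_instance
  have hα : Function.Surjective (τ ≫ (ιs (f ξ)).stalkMap (f' u)).hom := by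
    rw [CommRingCat.hom_comp]
    exact ((ιs (f ξ)).stalkMap_surjective (f' u)).comp
      (ConcreteCategory.bijective_of_isIso τ).2
  haveI hτloc : IsLocalHom τ.hom := by
    constructor
    intro a ha
    have h2 := ha.map (Y.presheaf.stalkCongr (.of_eq hpt)).inv.hom
    rwa [hτ, ← RingHom.comp_apply, ← CommRingCat.hom_comp, Iso.hom_inv_id, CommRingCat.hom_id,
      RingHom.id_apply] at h2
  haveI : IsLocalHom (τ ≫ (ιs (f ξ)).stalkMap (f' u)).hom := by
    rw [CommRingCat.hom_comp]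
    exact RingHom.isLocalHom_comp _ _
  have hcomm : ((ιs ξ).stalkMap u).hom.comp (FixPt.stalkMapAt f (ιs ξ u) (f (ιs ξ u)) rfl) =
      (algebraMap ((Xs (f ξ)).presheaf.stalk (f' u)) ((Xs ξ).presheaf.stalk u)).comp
        (τ ≫ (ιs (f ξ)).stalkMap (f' u)).hom := by
    rw [stalkMapAt_rfl]
    ext a
    have := congrArg (fun g => g.hom a) hsq
    exact this
  have H : ∀ (a : Y.presheaf.stalk (f (ιs ξ u))) (_ : a ∈ maximalIdeal (Y.presheaf.stalk (f (ιs ξ u))))
      (hb : FixPt.stalkMapAt f (ιs ξ u) (f (ιs ξ u)) rfl a ∈ maximalIdeal (X.presheaf.stalk (ιs ξ u))),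
      (maximalIdeal (X.presheaf.stalk (ιs ξ u))).toCotangent
        ⟨FixPt.stalkMapAt f (ιs ξ u) (f (ιs ξ u)) rfl a, hb⟩ ∈
        Submodule.span (ResidueField (X.presheaf.stalk (ιs ξ u)))
          (S : Set (CotangentSpace (X.presheaf.stalk (ιs ξ u)))) := by
    intro a ha hb
    apply Hrange
    refine ⟨(maximalIdeal (Y.presheaf.stalk (f (ιs ξ u)))).toCotangent ⟨a, ha⟩, ?_⟩
    unfold FixPt.cotangentMapAt
    rw [Ideal.mapCotangent_toCotangent]
    rfl
  exact ringKrullDim_le_of_rank (FixPt.stalkMapAt f (ιs ξ u) (f (ιs ξ u)) rfl)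
    (τ ≫ (ιs (f ξ)).stalkMap (f' u)).hom ((ιs ξ).stalkMap u).hom hα hcomm hres r S hS H

/-- if the points of `rankLE f r` are dense in the closure of `ξ`, then `dim closure {f ξ} ≤ r`. -/
theorem td_le_of_dense (hf : f ≫ qY = qX) (r : ℕ) (ξ : X)
    (hξ : closure ({ξ} : Set X) ⊆ closure (rankLE f r ∩ closure {ξ})) : td qY (f ξ) ≤ r := by
  set f' := redMap f ξ with hf'
  have hfac : f' ≫ ιs (f ξ) = ιs ξ ≫ f := redMap_ι f ξ
  haveI : LocallyOfFiniteType (ιs ξ ≫ qX) := inferInstance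
  haveI : LocallyOfFiniteType (ιs (f ξ) ≫ qY) := inferInstance
  have hf'q : f' ≫ (ιs (f ξ) ≫ qY) = ιs ξ ≫ qX := by
    rw [← Category.assoc, hfac, Category.assoc, hf]
  haveI : LocallyOfFiniteType (f' ≫ (ιs (f ξ) ≫ qY)) := by rw [hf'q]; infer_instance
  haveI : LocallyOfFiniteType f' := locallyOfFiniteType_of_comp f' (ιs (f ξ) ≫ qY)
  haveI : IsLocallyNoetherian (Xs (f ξ)) := LocallyOfFiniteType.isLocallyNoetherian (ιs (f ξ) ≫ qY)
  haveI : LocallyOfFinitePresentation f' := inferInstance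
  -- generic smoothness
  have hgen : f' (genericPoint ↥(Xs ξ)) = genericPoint ↥(Xs (f ξ)) := redMap_genericPoint f ξ
  haveI : IsDominant f' := by
    constructor
    rw [DenseRange, dense_iff_closure_eq, ← Set.univ_subset_iff,
      ← (genericPoint_spec ↥(Xs (f ξ))).def]
    refine closure_minimal ?_ isClosed_closure
    rw [Set.singleton_subset_iff, ← hgen]
    exact subset_closure ⟨_, rfl⟩
  let φ : k →+* (Xs (f ξ)).residueField (genericPoint ↥(Xs (f ξ))) :=
    (Spec.preimage ((Xs (f ξ)).fromSpecResidueField (genericPoint ↥(Xs (f ξ))) ≫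
      (ιs (f ξ) ≫ qY))).hom
  haveI : CharZero ((Xs (f ξ)).residueField (genericPoint ↥(Xs (f ξ)))) :=
    charZero_of_injective_ringHom φ.injective
  have hsm : genericPoint ↥(Xs ξ) ∈ f'.smoothLocus :=
    Groth.Agent.Helper16.GenSm0.genericPoint_mem_smoothLocus_of_perfectField (Xs ξ) (Xs (f ξ)) f'
  -- an open subset of `X` cutting out the smooth locus
  obtain ⟨O, hO, hOU⟩ := (ιs ξ).isEmbedding.isInducing.isOpen_iff.mp f'.smoothLocus.isOpen
  have hξO : ξ ∈ O := by
    have : genericPoint ↥(Xs ξ) ∈ (ιs ξ) ⁻¹' O := by rw [hOU]; exact hsm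
    rw [Set.mem_preimage, ιs_genericPoint] at this
    exact this
  have hξcl : ξ ∈ closure (rankLE f r ∩ closure ({ξ} : Set X)) := hξ (subset_closure rfl)
  obtain ⟨x, hxO, hxr, hxξ⟩ := mem_closure_iff.mp hξcl O hO hξO
  rw [← range_ιs] at hxξ
  obtain ⟨u, rfl⟩ := hxξ
  have hu : u ∈ f'.smoothLocus := by
    have : u ∈ (ιs ξ) ⁻¹' O := hxO
    rw [hOU] at this
    exact this
  have hdim := ringKrullDim_stalk_le k qX qY f hf r ξ u
    ((Scheme.Hom.mem_smoothLocus (f := f')).mp hu) hxr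
  -- the dimension of the local ring
  have hYe := equidim_of_irreducibleSpace ↥(Xs (f ξ)) _ (dim_Xs k qY (f ξ))
  obtain ⟨m, hm, hme⟩ := Groth.Agent.Helper16.MiracleSch.dim_stalk_add_td k (ιs (f ξ) ≫ qY)
    (td qY (f ξ)) hYe (f' u)
  have hucl : IsClosed ({u} : Set ↥(Xs ξ)) := by
    have : ({u} : Set ↥(Xs ξ)) = (ιs ξ) ⁻¹' {ιs ξ u} := by
      ext w
      simp only [Set.mem_singleton_iff, Set.mem_preimage]
      exact ⟨fun h => by rw [h], fun h => (ιs ξ).isClosedEmbedding.injective h⟩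
    rw [this]
    exact hxr.1.preimage (ιs ξ).continuous
  haveI : JacobsonSpace ↥(Spec (CommRingCat.of k)) := inferInstance
  haveI : JacobsonSpace ↥(Xs (f ξ)) := LocallyOfFiniteType.jacobsonSpace (ιs (f ξ) ≫ qY)
  have hfucl : IsClosed ({f' u} : Set ↥(Xs (f ξ))) :=
    f'.closePoints_subset_preimage_closedPoints hucl
  rw [td_eq_zero_of_isClosed k (ιs (f ξ) ≫ qY) (f' u) hfucl, zero_add] at hme
  rw [hm, hme] at hdim
  exact_mod_cast hdim

/-- **Sard-type bound** (characteristic zero): the closure of the image of the set of closed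
points where the tangent map has rank `≤ r` has dimension `≤ r`. -/
theorem main [QuasiCompact qX] (f : X ⟶ Y) (hf : f ≫ qY = qX) (r : ℕ) :
    topologicalKrullDim ↥(closure (f.base '' rankLE f r)) ≤ r := by
  haveI : IsLocallyNoetherian X := LocallyOfFiniteType.isLocallyNoetherian qX
  haveI : CompactSpace ↥X := QuasiCompact.compactSpace_of_compactSpace qX
  haveI : IsNoetherian X := { }
  haveI : NoetherianSpace ↥X := inferInstance
  haveI : QuasiCompact f := inferInstance
  refine dim_closure_image_le f.base f.continuous (rankLE f r) r ?_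
  intro ξ hξ
  rw [dim_closure k qY (f ξ)]
  have := td_le_of_dense k qX qY f hf r ξ hξ
  exact_mod_cast this

end main

end Groth.Agent.Helper16.Sard
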