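import Mathlib
import Groth.Prelude
import Groth.Agent.Lib.Helper26.SpecFibReg
import Groth.Agent.Lib.Helper18.StalkBC

/-!
# A section of an arithmetic surface meets the closed fibre in a smooth rational point (S7920)
-/

set_option autoImplicit false
set_option linter.style.haveILetI false
set_option linter.unusedSectionVars false

open AlgebraicGeometry CategoryTheory Limits IsLocalRing

universe u

namespace Groth.Agent.Helper16.SecFib

/-- abstract topological lemma: the unique component of a closed set through `p`. -/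
lemma component_unique {T : Type*} [TopologicalSpace T] [QuasiSober T]
    (F : Set T) (hF : IsClosed F) (p ξ₀ : T) (hξF : ξ₀ ∈ F) (hξp : ξ₀ ⤳ p)
    (hmin : ∀ η ∈ F, η ⤳ p → ξ₀ ⤳ η) :
    Maximal (fun S : Set T => IsIrreducible S ∧ S ⊆ F) (closure {ξ₀}) ∧
    ∀ Z : Set T, Maximal (fun S : Set T => IsIrreducible S ∧ S ⊆ F) Z → p ∈ Z →
      Z = closure {ξ₀} := by
  have hP0 : IsIrreducible (closure {ξ₀}) ∧ closure {ξ₀} ⊆ F :=
    ⟨isIrreducible_singleton.closure,
      hF.closure_subset_iff.mpr (Set.singleton_subset_iff.mpr hξF)⟩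
  have key : ∀ S : Set T, IsIrreducible S → S ⊆ F → p ∈ closure S →
      closure S ⊆ closure {ξ₀} := by
    intro S hS hSF hpS
    obtain ⟨η, hη⟩ := QuasiSober.sober hS.closure isClosed_closure
    have hηS : η ∈ closure S := by
      rw [← hη.def]
      exact subset_closure (Set.mem_singleton η)
    have hηF : η ∈ F := hF.closure_subset_iff.mpr hSF hηS
    have hηp : η ⤳ p := by
      rw [specializes_iff_mem_closure, hη.def]
      exact hpS
    have h1 : ξ₀ ⤳ η := hmin η hηF hηp
    rw [← hη.def]
    exact specializes_iff_closure_subset.mp h1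
  have hpZ : p ∈ closure {ξ₀} := specializes_iff_mem_closure.mp hξp
  refine ⟨⟨hP0, fun S hS hle => ?_⟩, fun Z hZ hpZ' => ?_⟩
  · exact subset_closure.trans (key S hS.1 hS.2 (subset_closure (hle hpZ)))
  · apply subset_antisymm
    · exact subset_closure.trans (key Z hZ.prop.1 hZ.prop.2 (subset_closure hpZ'))
    · exact hZ.le_of_ge hP0 (subset_closure.trans (key Z hZ.prop.1 hZ.prop.2 (subset_closure hpZ')))

lemma isUnit_germ_Spec_iff (A : CommRingCat.{u}) (Q : Spec A) (a : A) :
    IsUnit ((Spec A).presheaf.germ ⊤ Q trivial ((Scheme.ΓSpecIso A).inv a)) ↔ a ∉ Q.asIdeal := by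
  rw [← Scheme.mem_basicOpen_top, basicOpen_eq_of_affine]
  rfl

set_option backward.isDefEq.respectTransparency.types false in
lemma maximalIdeal_stalk_Spec (A : CommRingCat.{u}) (Q : Spec A) :
    maximalIdeal ((Spec A).presheaf.stalk Q) =
      Ideal.map ((Scheme.ΓSpecIso A).inv ≫ (Spec A).presheaf.germ ⊤ Q trivial).hom Q.asIdeal := by
  letI : Algebra A ((Spec A).presheaf.stalk Q) := StructureSheaf.stalkAlgebra A Q
  haveI : IsLocalization.AtPrime ((Spec A).presheaf.stalk Q) Q.asIdeal :=
    StructureSheaf.IsLocalization.to_stalk A Q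
  exact (IsLocalization.AtPrime.map_eq_maximalIdeal Q.asIdeal ((Spec A).presheaf.stalk Q)).symm

lemma stalkMap_fromSpecStalk_germ (X : Scheme.{u}) (p : X) (Q : Spec (X.presheaf.stalk p))
    (s : Γ(X, ⊤)) :
    ((X.fromSpecStalk p).stalkMap Q).hom (X.presheaf.germ ⊤ ((X.fromSpecStalk p) Q) trivial s) =
      (Spec (X.presheaf.stalk p)).presheaf.germ ⊤ Q trivial
        ((Scheme.ΓSpecIso (X.presheaf.stalk p)).inv (X.presheaf.germ ⊤ p trivial s)) := by
  have h1 := Scheme.Hom.germ_stalkMap_apply (X.fromSpecStalk p) ⊤ Q trivial s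
  refine h1.trans ?_
  rw [Scheme.fromSpecStalk_app (X := X) (U := ⊤) (x := p) trivial]
  simp only [CommRingCat.comp_apply]
  exact TopCat.Presheaf.germ_res_apply _ _ _ _ _

section DVR

variable (R : Type u) [CommRing R] [IsDomain R] [IsDiscreteValuationRing R]
  (X : Over (Spec (CommRingCat.of R)))

lemma stalkHom_eq_germ (y : X.left) (r : R) :
    Models.stalkHom R X y r = X.left.presheaf.germ ⊤ y trivial
      (X.hom.appTop ((Scheme.ΓSpecIso (CommRingCat.of R)).inv r)) := rfl

lemma isUnit_stalkHom_iff (y : X.left) (r : R) :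
    IsUnit (Models.stalkHom R X y r) ↔ r ∉ (X.hom.base y).asIdeal := by
  rw [stalkHom_eq_germ, ← Scheme.mem_basicOpen_top, ← Scheme.preimage_basicOpen_top,
    basicOpen_eq_of_affine]
  rfl

lemma mem_specialFibreSet_iff {ϖ : R} (hϖ : Irreducible ϖ) (y : X.left) :
    y ∈ Models.specialFibreSet R X ↔ ¬ IsUnit (Models.stalkHom R X y ϖ) := by
  rw [isUnit_stalkHom_iff, not_not]
  show X.hom.base y = closedPoint R ↔ _
  constructor
  · intro h
    rw [h]
    show ϖ ∈ maximalIdeal R
    exact hϖ.not_isUnit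
  · intro h
    apply PrimeSpectrum.ext
    show (X.hom.base y).asIdeal = maximalIdeal R
    have hle : maximalIdeal R ≤ (X.hom.base y).asIdeal := by
      rw [hϖ.maximalIdeal_eq, Ideal.span_singleton_le_iff_mem]
      exact h
    exact ((maximalIdeal.isMaximal R).eq_of_le (X.hom.base y).isPrime.ne_top hle).symm

lemma isUnit_stalkHom_fromSpecStalk_iff (p : X.left) (Q : Spec (X.left.presheaf.stalk p))
    (r : R) :
    IsUnit (Models.stalkHom R X ((X.left.fromSpecStalk p) Q) r) ↔
      Models.stalkHom R X p r ∉ Q.asIdeal := by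
  rw [← isUnit_germ_Spec_iff, stalkHom_eq_germ R X p r, ← stalkMap_fromSpecStalk_germ,
    ← stalkHom_eq_germ]
  exact (isUnit_map_iff ((X.left.fromSpecStalk p).stalkMap Q).hom _).symm

lemma mem_specialFibreSet_fromSpecStalk_iff {ϖ : R} (hϖ : Irreducible ϖ) (p : X.left)
    (Q : Spec (X.left.presheaf.stalk p)) :
    (X.left.fromSpecStalk p) Q ∈ Models.specialFibreSet R X ↔
      Models.stalkHom R X p ϖ ∈ Q.asIdeal := by
  rw [mem_specialFibreSet_iff R X hϖ, isUnit_stalkHom_fromSpecStalk_iff, not_not]

lemma map_stalkHom_eq_maximalIdeal {ϖ : R} (hϖ : Irreducible ϖ) (p : X.left)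
    (P₀ : Spec (X.left.presheaf.stalk p))
    (hP : P₀.asIdeal = Ideal.span {Models.stalkHom R X p ϖ}) :
    Ideal.map (Models.stalkHom R X ((X.left.fromSpecStalk p) P₀)) (maximalIdeal R) =
      maximalIdeal (X.left.presheaf.stalk ((X.left.fromSpecStalk p) P₀)) := by
  have hb : Function.Bijective ((X.left.fromSpecStalk p).stalkMap P₀).hom :=
    Groth.Agent.Helper18.StalkBC.bijective_stalkMap (X.left.fromSpecStalk p) P₀
  have hψ : ((X.left.fromSpecStalk p).stalkMap P₀).hom
      (Models.stalkHom R X ((X.left.fromSpecStalk p) P₀) ϖ) =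
      (Spec (X.left.presheaf.stalk p)).presheaf.germ ⊤ P₀ trivial
        ((Scheme.ΓSpecIso (X.left.presheaf.stalk p)).inv (Models.stalkHom R X p ϖ)) :=
    stalkMap_fromSpecStalk_germ X.left p P₀ _
  rw [hϖ.maximalIdeal_eq, Ideal.map_span, Set.image_singleton]
  apply le_antisymm
  · rw [Ideal.span_singleton_le_iff_mem, mem_maximalIdeal, mem_nonunits_iff,
      isUnit_stalkHom_fromSpecStalk_iff, not_not, hP]
    exact Ideal.subset_span rfl
  · intro b hb'
    have h1 : ((X.left.fromSpecStalk p).stalkMap P₀).hom b ∈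
        maximalIdeal ((Spec (X.left.presheaf.stalk p)).presheaf.stalk P₀) := by
      rw [mem_maximalIdeal, mem_nonunits_iff] at hb' ⊢
      exact fun hu => hb' ((isUnit_map_iff ((X.left.fromSpecStalk p).stalkMap P₀).hom b).mp hu)
    rw [maximalIdeal_stalk_Spec, hP, Ideal.map_span, Set.image_singleton,
      Ideal.mem_span_singleton'] at h1
    obtain ⟨c, hc⟩ := h1
    obtain ⟨b', rfl⟩ := hb.2 c
    rw [Ideal.mem_span_singleton']
    refine ⟨b', hb.1 ?_⟩
    rw [map_mul, hψ]
    exact hc

lemma length_quot_maximalIdeal (B : Type u) [CommRing B] [IsLocalRing B] :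
    Module.length B (B ⧸ maximalIdeal B) = 1 :=
  Module.length_eq_one_iff.mpr
    (isSimpleModule_iff_quot_maximal.mpr ⟨maximalIdeal B, inferInstance, ⟨LinearEquiv.refl _ _⟩⟩)

lemma mult_eq_one (Γj : ArSurf.VertComp R X) (ξ₀ : X.left) (hgen : Models.genPtOf R X Γj = ξ₀)
    (hm : Ideal.map (Models.stalkHom R X ξ₀) (maximalIdeal R) =
      maximalIdeal (X.left.presheaf.stalk ξ₀)) :
    Models.mult R X Γj = 1 := by
  unfold Models.mult
  rw [hgen, hm, length_quot_maximalIdeal]
  rfl

theorem main
    (hX : ArSurf.IsArithSurface R X)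
    {n : ℕ} (Γ : Fin n → ArSurf.VertComp R X) (hΓ : Models.IsComponentList R X Γ)
    (σ : Spec (CommRingCat.of R) ⟶ X.left) (hσ : σ ≫ X.hom = 𝟙 _) :
    Function.Surjective ((X.left.residue (σ.base (IsLocalRing.closedPoint R))).hom.comp
        (Models.stalkHom R X (σ.base (IsLocalRing.closedPoint R)))) ∧
      IsRegularLocalRing (X.left.presheaf.stalk (σ.base (IsLocalRing.closedPoint R)) ⧸
        Ideal.map (Models.stalkHom R X (σ.base (IsLocalRing.closedPoint R)))
          (IsLocalRing.maximalIdeal R)) ∧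
      (∃! i : Fin n, σ.base (IsLocalRing.closedPoint R) ∈
        Set.range ((Γ i).ι.base : (Γ i).curve.left → X.left)) ∧
      ∀ i : Fin n, σ.base (IsLocalRing.closedPoint R) ∈
        Set.range ((Γ i).ι.base : (Γ i).curve.left → X.left) →
        Models.mult R X (Γ i) = 1 := by
  obtain ⟨ϖ, hϖ⟩ := IsDiscreteValuationRing.exists_irreducible R
  have hσ' : σ ≫ X.hom = Spec.map (CommRingCat.ofHom (algebraMap R R)) := by
    rw [hσ, Algebra.algebraMap_self]
    exact (Spec.map_id _).symm
  have hτφ : ∀ r, (Scheme.stalkClosedPointTo σ).hom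
      (Models.stalkHom R X (σ.base (IsLocalRing.closedPoint R)) r) = r := fun r =>
    Groth.Agent.Helper26.SpecFibReg.key R X R σ hσ' r
  have hV : Ideal.map (algebraMap R R) (maximalIdeal R) = maximalIdeal R := by
    rw [Algebra.algebraMap_self, Ideal.map_id]
  have h2 : IsRegularLocalRing (X.left.presheaf.stalk (σ.base (IsLocalRing.closedPoint R)) ⧸
      Ideal.map (Models.stalkHom R X (σ.base (IsLocalRing.closedPoint R)))
        (maximalIdeal R)) :=
    Groth.Agent.Helper26.SpecFibReg.main R X R hV σ hσ' _ rfl (hX.1 _)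
  have h1 : Function.Surjective ((X.left.residue (σ.base (IsLocalRing.closedPoint R))).hom.comp
      (Models.stalkHom R X (σ.base (IsLocalRing.closedPoint R)))) := by
    intro k
    obtain ⟨a, rfl⟩ := X.left.residue_surjective (σ.base (IsLocalRing.closedPoint R)) k
    refine ⟨(Scheme.stalkClosedPointTo σ).hom a, ?_⟩
    rw [RingHom.comp_apply]
    have hmem : a - Models.stalkHom R X (σ.base (IsLocalRing.closedPoint R))
        ((Scheme.stalkClosedPointTo σ).hom a) ∈
        maximalIdeal (X.left.presheaf.stalk (σ.base (IsLocalRing.closedPoint R))) := by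
      rw [mem_maximalIdeal, mem_nonunits_iff]
      intro hu
      have hu' := hu.map (Scheme.stalkClosedPointTo σ).hom
      rw [map_sub, hτφ, sub_self] at hu'
      exact not_isUnit_zero hu'
    have h0 : (X.left.residue (σ.base (IsLocalRing.closedPoint R))).hom
        (a - Models.stalkHom R X (σ.base (IsLocalRing.closedPoint R))
        ((Scheme.stalkClosedPointTo σ).hom a)) = 0 :=
      (IsLocalRing.residue_eq_zero_iff _).mpr hmem
    rw [map_sub, sub_eq_zero] at h0
    exact h0.symm
  have hI : Ideal.map (Models.stalkHom R X (σ.base (IsLocalRing.closedPoint R)))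
      (maximalIdeal R) =
      Ideal.span {Models.stalkHom R X (σ.base (IsLocalRing.closedPoint R)) ϖ} := by
    rw [hϖ.maximalIdeal_eq, Ideal.map_span, Set.image_singleton]
  have hprime : (Ideal.span {Models.stalkHom R X (σ.base (IsLocalRing.closedPoint R)) ϖ} :
      Ideal (X.left.presheaf.stalk (σ.base (IsLocalRing.closedPoint R)))).IsPrime := by
    rw [← hI]
    haveI := h2
    haveI : IsDomain (X.left.presheaf.stalk (σ.base (IsLocalRing.closedPoint R)) ⧸
        Ideal.map (Models.stalkHom R X (σ.base (IsLocalRing.closedPoint R)))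
          (maximalIdeal R)) := Groth.Agent.Lead.RLR.isDomain _
    exact (Ideal.Quotient.isDomain_iff_prime _).mp inferInstance
  obtain ⟨P₀, hP₀⟩ : ∃ P₀ : Spec (X.left.presheaf.stalk (σ.base (IsLocalRing.closedPoint R))),
      P₀.asIdeal = Ideal.span {Models.stalkHom R X (σ.base (IsLocalRing.closedPoint R)) ϖ} :=
    ⟨(⟨_, hprime⟩ : PrimeSpectrum (X.left.presheaf.stalk (σ.base (IsLocalRing.closedPoint R)))),
      rfl⟩
  have hξF : (X.left.fromSpecStalk (σ.base (IsLocalRing.closedPoint R))) P₀ ∈
      Models.specialFibreSet R X := by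
    rw [mem_specialFibreSet_fromSpecStalk_iff R X hϖ, hP₀]
    exact Ideal.subset_span rfl
  have hξp : (X.left.fromSpecStalk (σ.base (IsLocalRing.closedPoint R))) P₀ ⤳
      σ.base (IsLocalRing.closedPoint R) := by
    have h : (X.left.fromSpecStalk (σ.base (IsLocalRing.closedPoint R))) P₀ ∈
        Set.range (X.left.fromSpecStalk (σ.base (IsLocalRing.closedPoint R))) := ⟨P₀, rfl⟩
    rw [Scheme.range_fromSpecStalk] at h
    exact h
  have hmin : ∀ η ∈ Models.specialFibreSet R X, η ⤳ σ.base (IsLocalRing.closedPoint R) →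
      (X.left.fromSpecStalk (σ.base (IsLocalRing.closedPoint R))) P₀ ⤳ η := by
    intro η hηF hηp
    have h : η ∈ Set.range (X.left.fromSpecStalk (σ.base (IsLocalRing.closedPoint R))) := by
      rw [Scheme.range_fromSpecStalk]
      exact hηp
    obtain ⟨Q, rfl⟩ := h
    have ha : Models.stalkHom R X (σ.base (IsLocalRing.closedPoint R)) ϖ ∈ Q.asIdeal :=
      (mem_specialFibreSet_fromSpecStalk_iff R X hϖ _ Q).mp hηF
    have hle : P₀.asIdeal ≤ Q.asIdeal := by
      rw [hP₀, Ideal.span_singleton_le_iff_mem]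
      exact ha
    have hsp : P₀ ⤳ Q := (PrimeSpectrum.le_iff_specializes _ _).mp hle
    exact hsp.map (X.left.fromSpecStalk (σ.base (IsLocalRing.closedPoint R))).continuous
  obtain ⟨hZ₀, huniq⟩ := component_unique (Models.specialFibreSet R X)
    (Models.isClosed_specialFibreSet R X) _ _ hξF hξp hmin
  have hmem : closure {(X.left.fromSpecStalk (σ.base (IsLocalRing.closedPoint R))) P₀} ∈
      Models.fibreComponents R X := hZ₀
  rw [← hΓ.2] at hmem
  obtain ⟨i, hi⟩ := hmem
  have hpZ : σ.base (IsLocalRing.closedPoint R) ∈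
      closure {(X.left.fromSpecStalk (σ.base (IsLocalRing.closedPoint R))) P₀} :=
    specializes_iff_mem_closure.mp hξp
  have hall : ∀ j : Fin n, σ.base (IsLocalRing.closedPoint R) ∈
      Set.range ((Γ j).ι.base : (Γ j).curve.left → X.left) →
      Set.range ((Γ j).ι.base : (Γ j).curve.left → X.left) =
        closure {(X.left.fromSpecStalk (σ.base (IsLocalRing.closedPoint R))) P₀} := by
    intro j hj
    refine huniq _ ?_ hj
    have h : Set.range ((Γ j).ι.base : (Γ j).curve.left → X.left) ∈
        Models.fibreComponents R X := by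
      rw [← hΓ.2]
      exact ⟨j, rfl⟩
    exact h
  refine ⟨h1, h2, ⟨i, ?_, ?_⟩, ?_⟩
  · show σ.base (IsLocalRing.closedPoint R) ∈
      Set.range ((Γ i).ι.base : (Γ i).curve.left → X.left)
    have hi' : Set.range ((Γ i).ι.base : (Γ i).curve.left → X.left) =
      closure {(X.left.fromSpecStalk (σ.base (IsLocalRing.closedPoint R))) P₀} := hi
    rw [hi']
    exact hpZ
  · intro j hj
    have hi' : Set.range ((Γ i).ι.base : (Γ i).curve.left → X.left) =
      closure {(X.left.fromSpecStalk (σ.base (IsLocalRing.closedPoint R))) P₀} := hi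
    exact hΓ.1 ((hall j hj).trans hi'.symm)
  · intro j hj
    have hgen : Models.genPtOf R X (Γ j) =
        (X.left.fromSpecStalk (σ.base (IsLocalRing.closedPoint R))) P₀ := by
      have hcl : closure {Models.genPtOf R X (Γ j)} =
          closure {(X.left.fromSpecStalk (σ.base (IsLocalRing.closedPoint R))) P₀} := by
        rw [← hall j hj]
        unfold Models.genPtOf
        have hce : Topology.IsClosedEmbedding ((Γ j).ι.base : (Γ j).curve.left → X.left) :=
          (Γ j).ι.isClosedEmbedding
        rw [← Set.image_singleton, hce.closure_image_eq,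
          (genericPoint_spec (Γ j).curve.left).def]
        exact Set.image_univ
      exact IsGenericPoint.eq (show IsGenericPoint _ (closure
        {(X.left.fromSpecStalk (σ.base (IsLocalRing.closedPoint R))) P₀}) from hcl) rfl
    exact mult_eq_one R X (Γ j) _ hgen (map_stalkHom_eq_maximalIdeal R X hϖ _ P₀ hP₀)

end DVR

end Groth.Agent.Helper16.SecFib
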