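import Mathlib
import Groth.Agent.Lib.Helper16.Sch.FibIso
import Groth.Agent.Lib.Helper16.Sch.LocImm
import Groth.Agent.Lib.Helper16.Sch.Birat8
import Groth.Agent.Lib.Helper16.Sch.CINhd
import Groth.Agent.Lib.Helper7.FinPres

set_option autoImplicit false
open CategoryTheory CategoryTheory.Limits AlgebraicGeometry IsLocalRing
universe u

namespace Groth.Agent.Helper16.SecIso

variable {X Y S : Scheme.{u}}

/-- A morphism locally of finite presentation whose stalk map at `x` is surjective has stalk map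
with finitely generated kernel. -/
theorem surjKerFG_stalkMap_of_surjective (f : X ⟶ Y) [LocallyOfFinitePresentation f] (x : X)
    (hsurj : Function.Surjective (f.stalkMap x).hom) : FibIso.SurjKerFG (f.stalkMap x).hom := by
  obtain ⟨U, V, hUV, hxU, hci⟩ :=
    LocImm.exists_isClosedImmersion_resLE_of_surjective_stalkMap f x hsurj
  have h1 : LocallyOfFinitePresentation (f.resLE V U hUV ≫ V.ι) := by
    rw [Scheme.Hom.resLE_comp_ι]; infer_instance
  have h2 : LocallyOfFinitePresentation (f.resLE V U hUV) :=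
    Groth.Agent.Helper7.locallyOfFinitePresentation_of_comp _ V.ι h1 inferInstance
  have h3 := FibIso.surjKerFG_stalkMap (f.resLE V U hUV) ⟨x, hxU⟩
  exact (FibIso.surjKerFG_respectsIso.arrow_mk_iso_iff
    (Scheme.Hom.resLEStalkMap f hUV ⟨x, hxU⟩)).mp h3

/-- The stalk map of a section `ε` of `π` at `s` is an isomorphism if `ε` is locally of finite
presentation and the fibre of `π` over `π (ε s)` is the spectrum of the residue field. -/
theorem isIso_stalkMap_section {T : Scheme.{u}} (π : X ⟶ S) (ε : T ⟶ X)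
    [IsOpenImmersion (ε ≫ π)]
    [LocallyOfFinitePresentation ε] (s : T)
    [IsIso (π.fiberToSpecResidueField (π (ε s)))] : IsIso (ε.stalkMap s) := by
  have hθ : IsIso ((ε ≫ π).stalkMap s) := inferInstance
  rw [Scheme.Hom.stalkMap_comp] at hθ
  have hθbij : Function.Bijective ((π.stalkMap (ε s)) ≫ (ε.stalkMap s)).hom :=
    (ConcreteCategory.isIso_iff_bijective _).mp hθ
  rw [CommRingCat.hom_comp] at hθbij
  have hsurj : Function.Surjective (ε.stalkMap s).hom := by
    have := hθbij.2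
    rw [RingHom.coe_comp] at this
    exact Function.Surjective.of_comp this
  have hP := surjKerFG_stalkMap_of_surjective ε s hsurj
  rw [ConcreteCategory.isIso_iff_bijective]
  refine ⟨?_, hsurj⟩
  let _ : Algebra (S.presheaf.stalk (π (ε s))) (X.presheaf.stalk (ε s)) :=
    (π.stalkMap (ε s)).hom.toAlgebra
  have hbij := CINhd.bijective_quotientMap_of_isIso_fiber π (ε s)
  refine FlatQuot.injective_of_flat_of_ker_le (A := S.presheaf.stalk (π (ε s)))
    (ε.stalkMap s).hom hsurj ?_ (maximalIdeal _) ?_ ?_ hP.2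
  · exact RingHom.Flat.of_bijective hθbij
  · rw [IsLocalRing.jacobson_eq_maximalIdeal ⊥ bot_ne_top]
    exact IsLocalRing.map_maximalIdeal_le (π.stalkMap (ε s)).hom
  · -- the ideal is maximal
    have hfield : IsField (X.presheaf.stalk (ε s) ⧸
        (maximalIdeal (S.presheaf.stalk (π (ε s)))).map (π.stalkMap (ε s)).hom) :=
      (RingEquiv.ofBijective _ hbij).symm.toMulEquiv.isField
        ((Ideal.Quotient.maximal_ideal_iff_isField_quotient _).mp inferInstance)
    have hmax := Ideal.Quotient.maximal_of_isField _ hfield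
    have := IsLocalRing.eq_maximalIdeal hmax
    change RingHom.ker (ε.stalkMap s).hom ≤
      (maximalIdeal (S.presheaf.stalk (π (ε s)))).map (π.stalkMap (ε s)).hom
    rw [this]
    exact IsLocalRing.le_maximalIdeal (RingHom.ker_ne_top _)

/-- If `π` is a closed map with section `ε`, the fibre over `s` is the single point `ε s`, and
`π` is a monomorphism on an open neighbourhood of `ε s`, then `π` is an isomorphism over a
neighbourhood of `s`. -/
theorem exists_nhd_isIso_of_mono_nhd (π : X ⟶ S) (ε : S ⟶ X) (hε : ε ≫ π = 𝟙 S)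
    (hcl : IsClosedMap π) (s : S) (huniq : ∀ z : X, π z = s → z = ε s)
    (V : X.Opens) (hV : ε s ∈ V) (hmono : Mono (V.ι ≫ π)) :
    ∃ U : S.Opens, s ∈ U ∧ IsIso (π ∣_ U) := by
  let U : S.Opens := ⟨(π '' (V : Set X)ᶜ)ᶜ, (hcl _ V.2.isClosed_compl).isOpen_compl⟩
  have hsU : s ∈ U := by
    rintro ⟨z, hz, hzs⟩
    exact hz (huniq z hzs ▸ hV)
  have hUV : π ⁻¹ᵁ U ≤ V := by
    intro z hz
    by_contra hzV
    exact hz ⟨z, hzV, rfl⟩
  refine ⟨U, hsU, ?_⟩
  have h1 : Mono (π ∣_ U) := by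
    have h2 : (π ∣_ U) ≫ U.ι = X.homOfLE hUV ≫ V.ι ≫ π := by
      rw [morphismRestrict_ι, Scheme.homOfLE_ι_assoc]
    have h3 : Mono ((π ∣_ U) ≫ U.ι) := by rw [h2]; infer_instance
    exact mono_of_mono _ U.ι
  have hr : Set.range (U.ι ≫ ε) ⊆ Set.range (π ⁻¹ᵁ U).ι := by
    rw [Scheme.Opens.range_ι]
    rintro _ ⟨u, rfl⟩
    change π ((U.ι ≫ ε) u) ∈ U
    have : π ((U.ι ≫ ε) u) = U.ι u := by
      rw [← Scheme.Hom.comp_apply, Category.assoc, hε, Category.comp_id]
    rw [this]
    exact u.2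
  let σ : U.toScheme ⟶ (π ⁻¹ᵁ U).toScheme := IsOpenImmersion.lift (π ⁻¹ᵁ U).ι (U.ι ≫ ε) hr
  have hσ : σ ≫ (π ∣_ U) = 𝟙 _ := by
    rw [← cancel_mono U.ι, Category.assoc, morphismRestrict_ι, Category.id_comp,
      IsOpenImmersion.lift_fac_assoc, Category.assoc, hε, Category.comp_id]
  have : IsSplitEpi (π ∣_ U) := ⟨⟨⟨σ, hσ⟩⟩⟩
  exact isIso_of_mono_of_isSplitEpi _

/-- S5321 -/
theorem main (π : X ⟶ S) (ε : S ⟶ X) (hε : ε ≫ π = 𝟙 S)
    (hcl : IsClosedMap π.base) (s : S)
    (hfp : ∃ W : X.Opens, ε.base s ∈ W ∧ LocallyOfFinitePresentation (W.ι ≫ π))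
    (hs : IsIso (π.fiberToSpecResidueField s)) :
    ∃ U : S.Opens, s ∈ U ∧ IsIso (π ∣_ U) := by
  obtain ⟨W, hsW, hW⟩ := hfp
  have hπε : π (ε s) = s := by
    rw [← Scheme.Hom.comp_apply, hε]; rfl
  have hs' : IsIso (π.fiberToSpecResidueField (π (ε s))) := by rw [hπε]; exact hs
  have huniq : ∀ z : X, π z = s → z = ε s := by
    intro z hz
    exact CINhd.eq_of_isIso_fiber π (ε s) z (hz.trans hπε.symm)
  -- restrict to `W`
  let S' : S.Opens := ε ⁻¹ᵁ W
  let s' : S'.toScheme := ⟨s, hsW⟩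
  let ε' : S'.toScheme ⟶ W.toScheme := ε ∣_ W
  let π' : W.toScheme ⟶ S := W.ι ≫ π
  have hε' : ε' ≫ π' = S'.ι := by
    simp only [ε', π', S', morphismRestrict_ι_assoc, hε, Category.comp_id]
  have hlfp : LocallyOfFinitePresentation ε' :=
    Groth.Agent.Helper7.locallyOfFinitePresentation_of_comp ε' π'
      (by rw [hε']; infer_instance) inferInstance
  -- the composite `g = S'.ι ≫ ε` is locally of finite presentation
  let g : S'.toScheme ⟶ X := S'.ι ≫ ε
  have hg : LocallyOfFinitePresentation g := by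
    have : g = ε' ≫ W.ι := (morphismRestrict_ι ε W).symm
    rw [this]; infer_instance
  have hgπ : g ≫ π = S'.ι := by
    simp only [g, Category.assoc, hε, Category.comp_id]
  have hgoi : IsOpenImmersion (g ≫ π) := by rw [hgπ]; infer_instance
  have hs'' : IsIso (π.fiberToSpecResidueField (π (g s'))) := hs'
  have hstalk : IsIso (g.stalkMap s') := isIso_stalkMap_section π g s'
  obtain ⟨_, ⟨V₀, hV₀, rfl⟩, hfx, -⟩ :=
    X.isBasis_affineOpens.exists_subset_of_mem_open (Set.mem_univ (g s')) isOpen_univ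
  have hV₀ : IsAffineOpen V₀ := hV₀
  obtain ⟨U'', V, hUV, hsU'', -, hr⟩ :=
    Birat.exists_isIso_resLE_of_isIso_stalkMap' g s' hV₀ hfx (Or.inr hg)
  have hεV : ε s ∈ V := hUV hsU''
  have hmono : Mono (V.ι ≫ π) := by
    have h1 : V.ι ≫ π = inv (g.resLE V U'' hUV) ≫ U''.ι ≫ S'.ι := by
      rw [IsIso.eq_inv_comp, Scheme.Hom.resLE_comp_ι_assoc, hgπ]
    rw [h1]; infer_instance
  exact exists_nhd_isIso_of_mono_nhd π ε hε hcl s huniq V hεV hmono

end Groth.Agent.Helper16.SecIso
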