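import Mathlib
import Groth.Agent.Lib.Helper16.Sch.SmDiv
import Groth.Agent.Lib.Helper16.Alg.EtCoordF
import Groth.Agent.Lib.Helper16.Sch.FibStalk

set_option autoImplicit false
set_option linter.style.haveILetI false
universe u
open CategoryTheory CategoryTheory.Limits AlgebraicGeometry Opposite TopologicalSpace TensorProduct

noncomputable section

namespace Groth.Agent.Helper16.SmDiv

lemma formallySmooth_congr_algebra {K L : Type*} [CommRing K] [CommRing L] {a b : Algebra K L}
    (h : a = b) : @Algebra.FormallySmooth K L _ _ a ↔ @Algebra.FormallySmooth K L _ _ b := by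
  subst h; rfl

/-- stalk maps of a morphism smooth on `W` are formally smooth and essentially of finite type -/
theorem stalkMap_of_smooth_on {X S : Scheme.{u}} (f : X ⟶ S) (x : X)
    (W : X.Opens) (hxW : x ∈ W) (hW : Smooth (W.ι ≫ f)) :
    (f.stalkMap x).hom.FormallySmooth ∧ (f.stalkMap x).hom.EssFiniteType := by
  let x₀ : W.toScheme := ⟨x, hxW⟩
  have h1 : ((W.ι ≫ f).stalkMap x₀).hom.FormallySmooth := by
    have : x₀ ∈ (W.ι ≫ f).smoothLocus := by
      rw [Scheme.Hom.smoothLocus_eq_top]; trivial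
    exact this
  have h2 : ((W.ι ≫ f).stalkMap x₀).hom.EssFiniteType := LocallyOfFiniteType.stalkMap _ x₀
  rw [Scheme.Hom.stalkMap_comp] at h1 h2
  exact ⟨(RingHom.FormallySmooth.respectsIso.cancel_right_isIso _ (W.ι.stalkMap x₀)).mp h1,
    (RingHom.EssFiniteType.respectsIso.cancel_right_isIso _ (W.ι.stalkMap x₀)).mp h2⟩

open Groth.Agent.Helper16.FibStalk in
theorem smooth_effCartier_of_sep {X S : Scheme.{u}} (f : X ⟶ S) (x : X)
    (W : X.Opens) (hxW : x ∈ W) (hW : Smooth (W.ι ≫ f))
    (hsep : letI := (f.residueFieldMap x).hom.toAlgebra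
      Algebra.FormallySmooth (S.residueField (f x)) (X.residueField x))
    (hgen : IsLocalRing.maximalIdeal ↑((f.fiber (f x)).presheaf.stalk (f.asFiber x)) ≠ ⊥) :
    ∃ (U : X.Opens) (hU : IsAffineOpen U) (hx : x ∈ U) (h' : Γ(X, U)),
      h' ∈ nonZeroDivisors Γ(X, U) ∧
      X.presheaf.germ U x hx h' ∈ IsLocalRing.maximalIdeal ↑(X.presheaf.stalk x) ∧
      Smooth (Spec.map (CommRingCat.ofHom (Ideal.Quotient.mk (Ideal.span {h'}))) ≫
        hU.fromSpec ≫ f) := by
  obtain ⟨hfs, hess⟩ := stalkMap_of_smooth_on f x W hxW hW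
  letI : Algebra (S.presheaf.stalk (f x)) (X.presheaf.stalk x) := (f.stalkMap x).hom.toAlgebra
  haveI : IsLocalHom (algebraMap (S.presheaf.stalk (f x)) (X.presheaf.stalk x)) := by
    show IsLocalHom (f.stalkMap x).hom
    infer_instance
  haveI : Algebra.FormallySmooth (S.presheaf.stalk (f x)) (X.presheaf.stalk x) := hfs
  haveI : Algebra.EssFiniteType (S.presheaf.stalk (f x)) (X.presheaf.stalk x) := hess
  have halg : (IsLocalRing.ResidueField.instAlgebra :
      Algebra (IsLocalRing.ResidueField (S.presheaf.stalk (f x)))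
        (IsLocalRing.ResidueField (X.presheaf.stalk x))) = (f.residueFieldMap x).hom.toAlgebra := by
    apply Algebra.algebra_ext
    intro r
    rfl
  have hsep' : Algebra.FormallySmooth (IsLocalRing.ResidueField (S.presheaf.stalk (f x)))
      (IsLocalRing.ResidueField (X.presheaf.stalk x)) :=
    (formallySmooth_congr_algebra halg).mpr hsep
  have hQ : ¬ IsField (X.presheaf.stalk x ⧸ (IsLocalRing.maximalIdeal (S.presheaf.stalk (f x))).map
      (algebraMap (S.presheaf.stalk (f x)) (X.presheaf.stalk x))) := by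
    intro hF
    apply hgen
    rw [← IsLocalRing.isField_iff_maximalIdeal_eq]
    exact MulEquiv.isField hF (fibStalkEquiv f x).symm.toMulEquiv
  obtain ⟨h, hm, hd⟩ := Groth.Agent.Helper16.EtCoord.exists_D_ne_zero_of_local hsep' hQ
  obtain ⟨U, hU, hx, h', hgerm, hnzd, hsm⟩ :=
    smooth_effCartier_of_D_ne_zero f x W hxW hW h hd
  exact ⟨U, hU, hx, h', hnzd, hgerm ▸ hm, hsm⟩

end Groth.Agent.Helper16.SmDiv
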