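import Mathlib
import Groth.Agent.Lib.Helper16.Alg.SkRkSm
import Groth.Agent.Lib.Helper16.Sch.SmoothFibreSch
import Groth.Agent.Lib.Helper16.Sch.SmDiv2
set_option autoImplicit false
set_option linter.style.haveILetI false
open CategoryTheory CategoryTheory.Limits AlgebraicGeometry Opposite TopologicalSpace TensorProduct
universe u

namespace Groth.Agent.Helper16.SkRkSm

set_option backward.defeqAttrib.useBackward true in
set_option backward.isDefEq.respectTransparency false in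
/-- ascent of `(S_n)` and `(R_n)` at a smooth point over a locally Noetherian base -/
theorem stalk_ascent_of_mem_smoothLocus {X Y : Scheme.{u}} (f : X ⟶ Y) [IsLocallyNoetherian Y]
    [LocallyOfFinitePresentation f] (x : X) (hx : x ∈ f.smoothLocus) (n : ℕ) :
    (LocCoh.HasSk n (Y.presheaf.stalk (f x)) (Y.presheaf.stalk (f x)) →
      LocCoh.HasSk n (X.presheaf.stalk x) (X.presheaf.stalk x)) ∧
    (LocCoh.HasRk n (Y.presheaf.stalk (f x)) → LocCoh.HasRk n (X.presheaf.stalk x)) := by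
  obtain ⟨V, hV, U, hU, hUV, hxU, Hsm⟩ := exists_smooth_of_formallySmooth_stalk f x hx
  have hxV : f x ∈ V := hUV hxU
  algebraize [(f.appLE V U hUV).hom]
  letI := Y.presheaf.algebra_section_stalk ⟨f x, hxV⟩
  haveI := hV.isLocalization_stalk ⟨f x, hxV⟩
  letI := X.presheaf.algebra_section_stalk ⟨x, hxU⟩
  haveI := hU.isLocalization_stalk ⟨x, hxU⟩
  letI : Algebra (Y.presheaf.stalk (f x)) (X.presheaf.stalk x) := (f.stalkMap x).hom.toAlgebra
  letI : Algebra Γ(Y, V) (X.presheaf.stalk x) :=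
    ((algebraMap Γ(X, U) (X.presheaf.stalk x)).comp (algebraMap Γ(Y, V) Γ(X, U))).toAlgebra
  haveI : IsScalarTower Γ(Y, V) Γ(X, U) (X.presheaf.stalk x) := IsScalarTower.of_algebraMap_eq' rfl
  haveI : IsScalarTower Γ(Y, V) (Y.presheaf.stalk (f x)) (X.presheaf.stalk x) := by
    refine IsScalarTower.of_algebraMap_eq' ?_
    ext a
    simp only [RingHom.algebraMap_toAlgebra, RingHom.comp_apply]
    show X.presheaf.germ U x hxU (f.appLE V U hUV a) =
      f.stalkMap x (Y.presheaf.germ V (f x) hxV a)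
    rw [Scheme.Hom.appLE, CommRingCat.comp_apply, TopCat.Presheaf.germ_res_apply,
      ← Scheme.Hom.germ_stalkMap_apply]
  let p := (hV.primeIdealOf ⟨f x, hxV⟩).asIdeal
  let q := (hU.primeIdealOf ⟨x, hxU⟩).asIdeal
  have hlo : q.LiesOver p :=
    ⟨congr($(IsAffineOpen.comap_primeIdealOf_appLE V hV U hU hUV hxU).1).symm⟩
  haveI : IsNoetherianRing Γ(Y, V) := IsLocallyNoetherian.component_noetherian ⟨V, hV⟩
  exact ascent_atPrime Γ(Y, V) Γ(X, U) p q (Y.presheaf.stalk (f x)) (X.presheaf.stalk x) n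

/-- descent of `(S_n)` and `(R_n)` at a flat point -/
theorem stalk_descent_of_flat_stalkMap {X Y : Scheme.{u}} (f : X ⟶ Y) (x : X)
    [IsNoetherianRing (X.presheaf.stalk x)]
    (hflat : (f.stalkMap x).hom.Flat) (n : ℕ) :
    (LocCoh.HasSk n (X.presheaf.stalk x) (X.presheaf.stalk x) →
      LocCoh.HasSk n (Y.presheaf.stalk (f x)) (Y.presheaf.stalk (f x))) ∧
    (LocCoh.HasRk n (X.presheaf.stalk x) → LocCoh.HasRk n (Y.presheaf.stalk (f x))) := by
  letI : Algebra (Y.presheaf.stalk (f x)) (X.presheaf.stalk x) := (f.stalkMap x).hom.toAlgebra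
  haveI : Module.Flat (Y.presheaf.stalk (f x)) (X.presheaf.stalk x) := hflat
  haveI : IsLocalHom (algebraMap (Y.presheaf.stalk (f x)) (X.presheaf.stalk x)) :=
    inferInstanceAs <| IsLocalHom (f.stalkMap x).hom
  exact descent_of_flat_local (Y.presheaf.stalk (f x)) (X.presheaf.stalk x) n

/-- S5024 -/
theorem main {X Y : Scheme.{u}} (f : X ⟶ Y)
    [IsLocallyNoetherian Y] [LocallyOfFiniteType f] (x : ↥X)
    (hx : ∃ U : X.Opens, x ∈ U ∧ Smooth (U.ι ≫ f)) (n : ℕ) :
    (LocCoh.HasSk n ↑(X.presheaf.stalk x) ↑(X.presheaf.stalk x) ↔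
        LocCoh.HasSk n ↑(Y.presheaf.stalk (f.base x)) ↑(Y.presheaf.stalk (f.base x))) ∧
      (LocCoh.HasRk n ↑(X.presheaf.stalk x) ↔ LocCoh.HasRk n ↑(Y.presheaf.stalk (f.base x))) := by
  obtain ⟨W, hxW, hW⟩ := hx
  have hsm : x ∈ f.smoothLocus := (Groth.Agent.Helper16.SmDiv.stalkMap_of_smooth_on f x W hxW hW).1
  haveI : IsLocallyNoetherian X := LocallyOfFiniteType.isLocallyNoetherian f
  have hflat := Groth.Agent.Helper16.SmoothFibreSch.flat_stalkMap_of_mem_smoothLocus f x hsm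
  obtain ⟨a1, a2⟩ := stalk_ascent_of_mem_smoothLocus f x hsm n
  obtain ⟨d1, d2⟩ := stalk_descent_of_flat_stalkMap f x hflat n
  exact ⟨⟨d1, a1⟩, ⟨d2, a2⟩⟩

end Groth.Agent.Helper16.SkRkSm
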