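import Mathlib
import Groth.Prelude.Def_Mor2

/-!
# Scheme-level plumbing for Cohen–Macaulay slicing (helper16)

* `isRegular_map_ringEquiv`: regular sequences transport along ring isomorphisms.
* `slice_output`: from ring-level data on an affine open `V ∋ x` (a regular sequence `rs` in the
  prime of `x` with `Γ(X,V)/(rs)` flat and quasi-finite over `Γ(S,W)`, and `x` the only point of
  `V(rs)` in its fibre) build the regular closed immersion `Spec (Γ(X,V)/(rs)) ⟶ V`.
* `eq_of_specializes_of_isClosed_asFiber`, `hcl_ring`: a point closed in its fibre, in ring terms.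
-/

set_option autoImplicit false
set_option linter.style.haveILetI false
universe u

open CategoryTheory AlgebraicGeometry Limits

namespace Groth.Agent.Helper16.SliceSeq

/-- transport of regular sequences along a ring isomorphism. -/
theorem isRegular_map_ringEquiv {A B : Type*} [CommRing A] [CommRing B] (e : A ≃+* B)
    (rs : List A) :
    RingTheory.Sequence.IsRegular A rs ↔ RingTheory.Sequence.IsRegular B (rs.map e) :=
  AddEquiv.isRegular_congr (e := e.toAddEquiv) <| List.forall₂_map_right_iff.mpr <|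
    List.forall₂_same.mpr fun r _ x => by simp

theorem slice_output {X S : Scheme.{u}} (f : X ⟶ S) [LocallyOfFinitePresentation f] (x : X)
    (W : S.Opens) (hW : IsAffineOpen W) (V : X.Opens) (hV : IsAffineOpen V) (eV : V ≤ f ⁻¹ᵁ W)
    (hxV : x ∈ V) (rs : List Γ(X, V))
    (hrs : ∀ r ∈ rs, r ∈ (hV.primeIdealOf ⟨x, hxV⟩).asIdeal)
    (hreg : RingTheory.Sequence.IsWeaklyRegular Γ(X, V) rs)
    (hflat : ((Ideal.Quotient.mk (Ideal.ofList rs)).comp (f.appLE W V eV).hom).Flat)
    (hqf : ((Ideal.Quotient.mk (Ideal.ofList rs)).comp (f.appLE W V eV).hom).QuasiFinite)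
    (huniq : ∀ P : Ideal Γ(X, V), P.IsPrime → Ideal.ofList rs ≤ P →
      P.comap (f.appLE W V eV).hom =
        (hV.primeIdealOf ⟨x, hxV⟩).asIdeal.comap (f.appLE W V eV).hom →
      P = (hV.primeIdealOf ⟨x, hxV⟩).asIdeal) :
    ∃ (Z : Scheme.{u}) (i : Z ⟶ (V : Scheme.{u})), Mor2.IsRegularClosedImmersion i ∧
      x ∈ Set.range ⇑(i ≫ V.ι) ∧
      Flat (i ≫ V.ι ≫ f) ∧ LocallyOfFinitePresentation (i ≫ V.ι ≫ f) ∧
      LocallyQuasiFinite (i ≫ V.ι ≫ f) ∧
      ∀ z : Z, f (V.ι (i z)) = f x → V.ι (i z) = x := by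
  set J : Ideal Γ(X, V) := Ideal.ofList rs with hJ
  set Qv := hV.primeIdealOf ⟨x, hxV⟩ with hQv
  have hJQ : J ≤ Qv.asIdeal := Ideal.span_le.mpr hrs
  let φ : Γ(X, V) ⟶ CommRingCat.of (Γ(X, V) ⧸ J) := CommRingCat.ofHom (Ideal.Quotient.mk J)
  have hφsurj : Function.Surjective φ.hom := Ideal.Quotient.mk_surjective
  let i : Spec (CommRingCat.of (Γ(X, V) ⧸ J)) ⟶ (V : Scheme.{u}) := Spec.map φ ≫ hV.isoSpec.inv
  have hι : i ≫ V.ι = Spec.map φ ≫ hV.fromSpec := by
    simp only [i, Category.assoc, IsAffineOpen.isoSpec_inv_ι]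
  have hfac : i ≫ V.ι ≫ f = Spec.map (f.appLE W V eV ≫ φ) ≫ hW.fromSpec := by
    rw [← Category.assoc, hι, Category.assoc, ← IsAffineOpen.SpecMap_appLE_fromSpec f hW hV eV,
      Spec.map_comp, Category.assoc]
  haveI : IsClosedImmersion (Spec.map φ) := IsClosedImmersion.spec_of_surjective φ hφsurj
  haveI : IsClosedImmersion i := inferInstance
  haveI : IsAffine (V : Scheme.{u}) := hV
  have hψ : (f.appLE W V eV ≫ φ).hom = (Ideal.Quotient.mk J).comp (f.appLE W V eV).hom := rfl
  refine ⟨_, i, ⟨inferInstance, ?_⟩, ?_, ?_, ?_, ?_, ?_⟩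
  · intro z
    refine ⟨⊤, isAffineOpen_top _, trivial, rs.map V.topIso.inv.hom, ?_, ?_⟩
    · have h1 : RingTheory.Sequence.IsRegular Γ(X, V) rs := by
        refine ⟨hreg, ?_⟩
        intro h
        have h2 : (J • ⊤ : Submodule Γ(X, V) Γ(X, V)) = J := by simp
        rw [h2] at h
        exact Qv.2.ne_top (top_le_iff.mp (h ▸ hJQ))
      exact (isRegular_map_ringEquiv V.topIso.symm.commRingCatIsoToRingEquiv rs).mp h1
    · rw [Scheme.Hom.ker_apply]
      have h1 : i.app ⊤ = V.topIso.hom ≫ φ ≫ (Scheme.ΓSpecIso _).inv := by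
        change i.appTop = _
        rw [Scheme.Hom.comp_appTop, hV.isoSpec_inv_appTop, Category.assoc,
          ← Scheme.ΓSpecIso_inv_naturality]
      rw [h1]
      have h2 : Ideal.ofList (rs.map V.topIso.inv.hom) = J.map V.topIso.inv.hom :=
        (Ideal.map_ofList _ _).symm
      have h3 : J.map V.topIso.inv.hom = J.comap V.topIso.hom.hom :=
        Ideal.map_symm (I := J) V.topIso.commRingCatIsoToRingEquiv
      rw [h2, h3]
      ext a
      rw [RingHom.mem_ker, Ideal.mem_comap]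
      refine Iff.trans ?_ (Ideal.Quotient.eq_zero_iff_mem (I := J))
      exact map_eq_zero_iff (Scheme.ΓSpecIso (CommRingCat.of (Γ(X, V) ⧸ J))).inv.hom
        (ConcreteCategory.bijective_of_isIso (Scheme.ΓSpecIso _).inv).1
  · rw [hι]
    have hker : RingHom.ker (Ideal.Quotient.mk J) ≤ Qv.asIdeal := by
      rw [Ideal.mk_ker]; exact hJQ
    have hQ'prime : (Qv.asIdeal.map (Ideal.Quotient.mk J)).IsPrime :=
      Ideal.map_isPrime_of_surjective Ideal.Quotient.mk_surjective hker
    refine ⟨⟨Qv.asIdeal.map (Ideal.Quotient.mk J), hQ'prime⟩, ?_⟩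
    rw [Scheme.Hom.comp_apply]
    have h1 : Spec.map φ ⟨_, hQ'prime⟩ = Qv := by
      apply PrimeSpectrum.ext
      change Ideal.comap (Ideal.Quotient.mk J) (Qv.asIdeal.map (Ideal.Quotient.mk J)) = _
      rw [Ideal.comap_map_of_surjective _ Ideal.Quotient.mk_surjective, sup_eq_left,
        ← RingHom.ker_eq_comap_bot]
      exact hker
    rw [h1]
    exact hV.fromSpec_primeIdealOf ⟨x, hxV⟩
  · rw [hfac]
    haveI : Flat (Spec.map (f.appLE W V eV ≫ φ)) :=
      (HasRingHomProperty.Spec_iff (P := @Flat)).mpr (by rw [hψ]; exact hflat)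
    infer_instance
  · rw [hfac]
    have hfpring : (f.appLE W V eV ≫ φ).hom.FinitePresentation := by
      rw [hψ]
      refine RingHom.FinitePresentation.comp ?_ ?_
      · refine RingHom.FinitePresentation.of_surjective _ Ideal.Quotient.mk_surjective ?_
        rw [Ideal.mk_ker]
        classical
        exact ⟨rs.toFinset, by rw [hJ]; congr 1; ext; simp⟩
      · exact HasRingHomProperty.appLE @LocallyOfFinitePresentation f inferInstance ⟨W, hW⟩
          ⟨V, hV⟩ eV
    haveI : LocallyOfFinitePresentation (Spec.map (f.appLE W V eV ≫ φ)) :=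
      (HasRingHomProperty.Spec_iff (P := @LocallyOfFinitePresentation)).mpr hfpring
    infer_instance
  · rw [hfac]
    haveI : LocallyQuasiFinite (Spec.map (f.appLE W V eV ≫ φ)) :=
      (HasRingHomProperty.Spec_iff (P := @LocallyQuasiFinite)).mpr (by rw [hψ]; exact hqf)
    infer_instance
  · intro z hz
    have h1 : V.ι (i z) = hV.fromSpec (Spec.map φ z) := by
      rw [← Scheme.Hom.comp_apply, hι, Scheme.Hom.comp_apply]
    rw [h1] at hz ⊢
    have hPprime : (Spec.map φ z).asIdeal.IsPrime := (Spec.map φ z).2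
    have hJP : J ≤ (Spec.map φ z).asIdeal := by
      intro a ha
      change a ∈ Ideal.comap (Ideal.Quotient.mk J) z.asIdeal
      rw [Ideal.mem_comap, Ideal.Quotient.eq_zero_iff_mem.mpr ha]
      exact zero_mem _
    have h2 : (hV.fromSpec ≫ f) (Spec.map φ z) = (hV.fromSpec ≫ f) Qv := by
      rw [Scheme.Hom.comp_apply, Scheme.Hom.comp_apply, hz, hV.fromSpec_primeIdealOf ⟨x, hxV⟩]
    rw [← IsAffineOpen.SpecMap_appLE_fromSpec f hW hV eV, Scheme.Hom.comp_apply,
      Scheme.Hom.comp_apply] at h2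
    have h3 := hW.fromSpec.isOpenEmbedding.injective h2
    have h4 : (Spec.map φ z).asIdeal.comap (f.appLE W V eV).hom =
        Qv.asIdeal.comap (f.appLE W V eV).hom := congrArg PrimeSpectrum.asIdeal h3
    have h5 := huniq _ hPprime hJP h4
    have h6 : Spec.map φ z = Qv := PrimeSpectrum.ext h5
    rw [h6]
    exact hV.fromSpec_primeIdealOf ⟨x, hxV⟩

/-- a point closed in its fibre has no proper specializations inside the fibre. -/
theorem eq_of_specializes_of_isClosed_asFiber {X S : Scheme.{u}} (f : X ⟶ S) (x : X)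
    (hcl : IsClosed ({f.asFiber x} : Set ↑(f.fiber (f x)))) (y : X) (hsp : x ⤳ y)
    (hy : f y = f x) : y = x := by
  have hcl' : IsClosed ({(⟨x, rfl⟩ : f ⁻¹' {f x})} : Set (f ⁻¹' {f x})) := by
    have := (f.fiberHomeo (f x)).isClosed_image.mpr hcl
    rw [Set.image_singleton] at this
    convert this using 2
    exact ((f.fiberHomeo (f x)).apply_symm_apply _).symm
  have hsp' : (⟨x, rfl⟩ : f ⁻¹' {f x}) ⤳ ⟨y, hy⟩ :=
    Topology.IsInducing.subtypeVal.specializes_iff.mp hsp
  have := hsp'.mem_closed hcl' rfl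
  exact congrArg Subtype.val (Set.mem_singleton_iff.mp this)

theorem hcl_ring {X S : Scheme.{u}} (f : X ⟶ S) (x : X)
    (hcl : IsClosed ({f.asFiber x} : Set ↑(f.fiber (f x))))
    (W : S.Opens) (hW : IsAffineOpen W) (V : X.Opens) (hV : IsAffineOpen V) (eV : V ≤ f ⁻¹ᵁ W)
    (hxV : x ∈ V) (P : Ideal Γ(X, V)) (hP : P.IsPrime)
    (hle : (hV.primeIdealOf ⟨x, hxV⟩).asIdeal ≤ P)
    (hover : P.comap (f.appLE W V eV).hom =
      (hV.primeIdealOf ⟨x, hxV⟩).asIdeal.comap (f.appLE W V eV).hom) :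
    P = (hV.primeIdealOf ⟨x, hxV⟩).asIdeal := by
  set Qv := hV.primeIdealOf ⟨x, hxV⟩ with hQv
  have hxQ : hV.fromSpec Qv = x := hV.fromSpec_primeIdealOf ⟨x, hxV⟩
  have hsp : x ⤳ hV.fromSpec ⟨P, hP⟩ := by
    rw [← hxQ]
    exact ((PrimeSpectrum.le_iff_specializes Qv ⟨P, hP⟩).mp hle).map hV.fromSpec.continuous
  have h3 : Spec.map (f.appLE W V eV) ⟨P, hP⟩ = Spec.map (f.appLE W V eV) Qv :=
    PrimeSpectrum.ext hover
  have hy : f (hV.fromSpec ⟨P, hP⟩) = f x := by
    rw [← hxQ, ← Scheme.Hom.comp_apply, ← Scheme.Hom.comp_apply,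
      ← IsAffineOpen.SpecMap_appLE_fromSpec f hW hV eV, Scheme.Hom.comp_apply,
      Scheme.Hom.comp_apply, h3]
  have h4 := eq_of_specializes_of_isClosed_asFiber f x hcl _ hsp hy
  rw [← hxQ] at h4
  have h5 := hV.fromSpec.isOpenEmbedding.injective h4
  exact congrArg PrimeSpectrum.asIdeal h5

end Groth.Agent.Helper16.SliceSeq
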