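import Mathlib
import Groth.Prelude.Def_Mor2
import Groth.Prelude.Def_MoreMor
import Groth.Agent.Lib.Helper16.Alg.SliceSeq3
import Groth.Agent.Lib.Helper16.Sch.SliceCM1
import Groth.Agent.Lib.Helper16.Sch.FibCM

/-!
# Slicing a Cohen–Macaulay morphism down to a quasi-finite flat one (helper16)

`slice_cm`: `f : X ⟶ S` locally of finite presentation, Cohen–Macaulay at a point `x` closed in its
fibre.  Then there are an open `V ∋ x` and a regular closed immersion `i : Z ⟶ V` through `x` with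
`Z ⟶ S` flat, locally of finite presentation and locally quasi-finite, and `x` the only point of `Z`
over `f x`.
-/

set_option autoImplicit false
set_option linter.style.haveILetI false
set_option linter.unusedSectionVars false
universe u

open CategoryTheory AlgebraicGeometry Limits

namespace Groth.Agent.Helper16.SliceSeq

set_option maxHeartbeats 1600000 in
set_option synthInstance.maxHeartbeats 400000 in
theorem slice_cm {X S : Scheme.{u}} (f : X ⟶ S) [LocallyOfFinitePresentation f] (x : X)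
    (hcm : MoreMor.IsCMAt f x) (hcl : IsClosed ({f.asFiber x} : Set ↑(f.fiber (f x)))) :
    ∃ (V : X.Opens) (Z : Scheme.{u}) (i : Z ⟶ (V : Scheme.{u})),
      Mor2.IsRegularClosedImmersion i ∧ x ∈ Set.range ⇑(i ≫ V.ι) ∧
      Flat (i ≫ V.ι ≫ f) ∧ LocallyOfFinitePresentation (i ≫ V.ι ≫ f) ∧
      LocallyQuasiFinite (i ≫ V.ι ≫ f) ∧
      ∀ z : Z, f (V.ι (i z)) = f x → V.ι (i z) = x := by
  obtain ⟨hflat, hCMfib⟩ := hcm
  obtain ⟨W, hW, hfx, -⟩ := TopologicalSpace.Opens.isBasis_iff_nbhd.mp S.isBasis_affineOpens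
    (TopologicalSpace.Opens.mem_top (f x))
  obtain ⟨V, hV, hxV, eV⟩ := TopologicalSpace.Opens.isBasis_iff_nbhd.mp X.isBasis_affineOpens
    (show x ∈ f ⁻¹ᵁ W from hfx)
  have hfp : (f.appLE W V eV).hom.FinitePresentation :=
    HasRingHomProperty.appLE @LocallyOfFinitePresentation f inferInstance ⟨W, hW⟩ ⟨V, hV⟩ eV
  algebraize [(f.appLE W V eV).hom]
  letI aΛ := S.presheaf.algebra_section_stalk ⟨f x, hfx⟩
  letI aLX := X.presheaf.algebra_section_stalk ⟨x, hxV⟩
  haveI lΛ := hW.isLocalization_stalk ⟨f x, hfx⟩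
  haveI lLX := hV.isLocalization_stalk ⟨x, hxV⟩
  have hp : (hW.primeIdealOf ⟨f x, hfx⟩).asIdeal =
      (hV.primeIdealOf ⟨x, hxV⟩).asIdeal.comap (algebraMap Γ(S, W) Γ(X, V)) := by
    have h3 := IsAffineOpen.comap_primeIdealOf_appLE (f := f) W hW V hV eV hxV
    exact congr($(h3).1).symm
  have hα : (f.stalkMap x).hom.comp (algebraMap Γ(S, W) (S.presheaf.stalk (f x))) =
      (algebraMap Γ(X, V) (X.presheaf.stalk x)).comp (algebraMap Γ(S, W) Γ(X, V)) := by
    ext a
    simp only [RingHom.comp_apply, RingHom.algebraMap_toAlgebra,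
      Scheme.Hom.germ_stalkMap_apply, Scheme.Hom.appLE,
      homOfLE_leOfHom, CommRingCat.hom_comp, X.presheaf.germ_res_apply]
  letI aRLX : Algebra Γ(S, W) (X.presheaf.stalk x) :=
    ((algebraMap Γ(X, V) (X.presheaf.stalk x)).comp (algebraMap Γ(S, W) Γ(X, V))).toAlgebra
  haveI tRCLX : IsScalarTower Γ(S, W) Γ(X, V) (X.presheaf.stalk x) :=
    IsScalarTower.of_algebraMap_eq fun _ => rfl
  haveI hRLX : Module.Flat Γ(S, W) (X.presheaf.stalk x) := by
    have h1 : (algebraMap Γ(S, W) (S.presheaf.stalk (f x))).Flat :=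
      RingHom.flat_algebraMap_iff.mpr
        (IsLocalization.flat _ (hW.primeIdealOf ⟨f x, hfx⟩).asIdeal.primeCompl)
    have h2 := RingHom.Flat.comp h1 hflat
    rw [hα] at h2
    exact h2
  have hIX : Ideal.map (f.stalkMap x).hom (IsLocalRing.maximalIdeal (S.presheaf.stalk (f x))) =
      ((hV.primeIdealOf ⟨x, hxV⟩).asIdeal.comap (algebraMap Γ(S, W) Γ(X, V))).map
        (algebraMap Γ(S, W) (X.presheaf.stalk x)) := by
    rw [← hp, ← IsLocalization.AtPrime.map_eq_maximalIdeal (hW.primeIdealOf ⟨f x, hfx⟩).asIdeal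
      (S.presheaf.stalk (f x)), Ideal.map_map, hα]
    rfl
  -- the Cohen–Macaulay fibre ring
  haveI hCM : LocCoh.IsCohenMacaulayLocalRing (X.presheaf.stalk x ⧸ Ideal.map (f.stalkMap x).hom
      (IsLocalRing.maximalIdeal (S.presheaf.stalk (f x)))) :=
    Groth.Agent.Helper16.FibCM.isCM_of_ringEquiv
      (Groth.Agent.Helper16.FibStalk.fibStalkEquiv f x).symm
  -- closedness in the fibre
  have hclr : ∀ P : Ideal Γ(X, V), P.IsPrime → (hV.primeIdealOf ⟨x, hxV⟩).asIdeal ≤ P →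
      P.comap (algebraMap Γ(S, W) Γ(X, V)) =
        (hV.primeIdealOf ⟨x, hxV⟩).asIdeal.comap (algebraMap Γ(S, W) Γ(X, V)) →
      P = (hV.primeIdealOf ⟨x, hxV⟩).asIdeal :=
    fun P hP hle hover => hcl_ring f x hcl W hW V hV eV hxV P hP hle hover
  obtain ⟨g, rs, hgQ, hg⟩ := qf_slice' (hV.primeIdealOf ⟨x, hxV⟩).asIdeal
    (LX := X.presheaf.stalk x) _ hIX hclr
  have hUaff : IsAffineOpen (X.basicOpen g) := hV.basicOpen g
  have hxU : x ∈ X.basicOpen g := (X.mem_basicOpen g x hxV).mpr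
    (IsLocalization.map_units (X.presheaf.stalk x)
      (⟨g, hgQ⟩ : (hV.primeIdealOf ⟨x, hxV⟩).asIdeal.primeCompl))
  haveI lCg : IsLocalization.Away g Γ(X, X.basicOpen g) := hV.isLocalization_basicOpen g
  letI aRCg : Algebra Γ(S, W) Γ(X, X.basicOpen g) :=
    ((algebraMap Γ(X, V) Γ(X, X.basicOpen g)).comp (algebraMap Γ(S, W) Γ(X, V))).toAlgebra
  haveI tRCCg : IsScalarTower Γ(S, W) Γ(X, V) Γ(X, X.basicOpen g) :=
    IsScalarTower.of_algebraMap_eq fun _ => rfl
  have eU : X.basicOpen g ≤ f ⁻¹ᵁ W := (X.basicOpen_le g).trans eV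
  have happ : (f.appLE W (X.basicOpen g) eU).hom = algebraMap Γ(S, W) Γ(X, X.basicOpen g) := by
    rw [← Scheme.Hom.appLE_map f eV (homOfLE (X.basicOpen_le g)).op]
    rfl
  -- the prime of `x` in the smaller affine open
  have hQg : (hUaff.primeIdealOf ⟨x, hxU⟩).asIdeal.comap
      (algebraMap Γ(X, V) Γ(X, X.basicOpen g)) = (hV.primeIdealOf ⟨x, hxV⟩).asIdeal := by
    letI aLX' := X.presheaf.algebra_section_stalk ⟨x, hxU⟩
    haveI lLX' := hUaff.isLocalization_stalk ⟨x, hxU⟩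
    ext a
    rw [Ideal.mem_comap,
      ← IsLocalization.AtPrime.to_map_mem_maximal_iff (X.presheaf.stalk x)
        (hV.primeIdealOf ⟨x, hxV⟩).asIdeal a,
      ← IsLocalization.AtPrime.to_map_mem_maximal_iff (X.presheaf.stalk x)
        (hUaff.primeIdealOf ⟨x, hxU⟩).asIdeal (algebraMap Γ(X, V) Γ(X, X.basicOpen g) a)]
    have : algebraMap Γ(X, X.basicOpen g) (X.presheaf.stalk x)
        (algebraMap Γ(X, V) Γ(X, X.basicOpen g) a) = algebraMap Γ(X, V) (X.presheaf.stalk x) a :=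
      X.presheaf.germ_res_apply (homOfLE (X.basicOpen_le g)) x hxU a
    rw [this]
  obtain ⟨hwr, hfl, hqf, hmem, huniq⟩ := hg Γ(X, X.basicOpen g)
    (hUaff.primeIdealOf ⟨x, hxU⟩).asIdeal (hUaff.primeIdealOf ⟨x, hxU⟩).2 hQg
  obtain ⟨Z, i, h1, h2, h3, h4, h5, h6⟩ := slice_output f x W hW (X.basicOpen g) hUaff eU hxU
    ((rs.map (algebraMap Γ(X, V) Γ(X, X.basicOpen g))).reverse) hmem hwr
    (by
      rw [happ, Ideal.Quotient.mk_comp_algebraMap]
      exact RingHom.flat_algebraMap_iff.mpr hfl)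
    (by
      rw [happ, Ideal.Quotient.mk_comp_algebraMap]
      exact hqf)
    (by
      intro P hP hle hover
      rw [happ] at hover
      exact huniq P hP hle hover)
  exact ⟨X.basicOpen g, Z, i, h1, h2, h3, h4, h5, h6⟩

end Groth.Agent.Helper16.SliceSeq
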