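import Mathlib
import Groth.Agent.Lib.Helper16.Alg.Slice
import Groth.Agent.Lib.Helper16.Sch.ResSquare
import Groth.Agent.Lib.Helper15.AlgSpDescent

set_option autoImplicit false
universe u
open AlgebraicGeometry CategoryTheory

namespace Groth.Agent.Helper16.SliceSch

/-- étale slice through a point of a smooth morphism with separable residue field extension -/
theorem etale_slice {X S : Scheme.{u}} (f : X ⟶ S) [Smooth f] (x : X)
    (hsep : @Algebra.IsSeparable (S.residueField (f x)) (X.residueField x) _ _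
      (f.residueFieldMap x).hom.toAlgebra) :
    ∃ (Z : Scheme.{u}) (i : Z ⟶ X) (z : Z), IsImmersion i ∧ Etale (i ≫ f) ∧ i z = x ∧
      ∀ z' : ↑Z, f (i z') = f x → z' = z := by
  classical
  obtain ⟨U, hU, V, hV, hxV, e, -⟩ := Smooth.exists_isStandardSmooth f x
  letI : Algebra Γ(S, U) Γ(X, V) := (f.appLE U V e).hom.toAlgebra
  haveI : Algebra.Smooth Γ(S, U) Γ(X, V) := f.smooth_appLE hU hV e
  let q : Ideal Γ(X, V) := (hV.primeIdealOf ⟨x, hxV⟩).asIdeal
  let p : Ideal Γ(S, U) := (hU.primeIdealOf ⟨f x, e hxV⟩).asIdeal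
  have hpq : p = q.comap (algebraMap Γ(S, U) Γ(X, V)) :=
    congr($(IsAffineOpen.comap_primeIdealOf_appLE U hU V hV e hxV).1).symm
  have hsep' := ResSquare.isSeparable_of_scheme f x hU hV e hxV hsep
  haveI : Algebra.FormallyUnramified Γ(S, U) q.ResidueField :=
    Slice.formallyUnramified_residueField p q hpq hsep'
  obtain ⟨I, hIfg, hIq, h, hh, het⟩ := Slice.slice_ring (A := Γ(S, U)) q
  let B' := Γ(X, V) ⧸ I
  let C := Localization.Away h
  let j₁ : Spec (.of C) ⟶ Spec (.of B') := Spec.map (CommRingCat.ofHom (algebraMap B' C))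
  let j₂ : Spec (.of B') ⟶ Spec Γ(X, V) := Spec.map (CommRingCat.ofHom (Ideal.Quotient.mk I))
  let j : Spec (.of C) ⟶ X := j₁ ≫ j₂ ≫ hV.fromSpec
  haveI : IsOpenImmersion j₁ := Scheme.isOpenImmersion_SpecMap_localizationAway (R := .of B') h
  haveI : IsClosedImmersion j₂ :=
    IsClosedImmersion.spec_of_surjective _ Ideal.Quotient.mk_surjective
  haveI : IsImmersion j := inferInstance
  -- étale over S
  have hjf : j ≫ f = Spec.map (CommRingCat.ofHom (algebraMap Γ(S, U) C)) ≫ hU.fromSpec := by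
    show (j₁ ≫ j₂ ≫ hV.fromSpec) ≫ f = _
    rw [Category.assoc, Category.assoc, ← hU.SpecMap_appLE_fromSpec f hV e, ← Category.assoc j₂,
      ← Category.assoc j₁, ← Spec.map_comp, ← Spec.map_comp]
    rfl
  haveI hjfet : Etale (j ≫ f) := by
    rw [hjf]
    haveI : Etale (Spec.map (CommRingCat.ofHom (algebraMap Γ(S, U) C))) :=
      (HasRingHomProperty.Spec_iff (P := @Etale)).mpr (RingHom.etale_algebraMap.mpr het)
    infer_instance
  -- the point
  haveI hQp : (q.map (Ideal.Quotient.mk I)).IsPrime :=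
    Ideal.map_isPrime_of_surjective Ideal.Quotient.mk_surjective (by rwa [Ideal.mk_ker])
  have hdisj : Disjoint (Submonoid.powers h : Set B') (q.map (Ideal.Quotient.mk I) : Set B') := by
    rw [Set.disjoint_left]
    rintro _ ⟨n, rfl⟩ hn
    exact hh (hQp.mem_of_pow_mem n hn)
  have hQ'p : ((q.map (Ideal.Quotient.mk I)).map (algebraMap B' C)).IsPrime :=
    IsLocalization.isPrime_of_isPrime_disjoint (Submonoid.powers h) C _ hQp hdisj
  have hQ'c : ((q.map (Ideal.Quotient.mk I)).map (algebraMap B' C)).comap (algebraMap B' C) =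
      q.map (Ideal.Quotient.mk I) :=
    IsLocalization.comap_map_of_isPrime_disjoint (Submonoid.powers h) C hQp hdisj
  let z₀ : Spec (.of C) := (⟨_, hQ'p⟩ : PrimeSpectrum C)
  have hz₀ : j z₀ = x := by
    show hV.fromSpec (j₂ (j₁ z₀)) = x
    have h1 : j₂ (j₁ z₀) = hV.primeIdealOf ⟨x, hxV⟩ := by
      apply PrimeSpectrum.ext
      show (((q.map (Ideal.Quotient.mk I)).map (algebraMap B' C)).comap
        (algebraMap B' C)).comap (Ideal.Quotient.mk I) = q
      rw [hQ'c, Ideal.comap_map_mk hIq]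
    rw [h1, hV.fromSpec_primeIdealOf]
  -- isolate the point in its fibre
  haveI : LocallyQuasiFinite (j ≫ f) :=
    Groth.Agent.Helper15.locallyQuasiFinite_of_formallyUnramified (j ≫ f)
  have hdisc := (j ≫ f).isDiscrete_preimage_singleton (f x)
  have hz₀mem : z₀ ∈ (j ≫ f) ⁻¹' {f x} := by
    show (j ≫ f) z₀ = f x
    rw [Scheme.Hom.comp_apply, hz₀]
  obtain ⟨W, hWo, hW⟩ := isDiscrete_iff_forall_mem_exists_isOpen.mp hdisc z₀ hz₀mem
  let Wo : (Spec (.of C)).Opens := ⟨W, hWo⟩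
  have hz₀W : z₀ ∈ W := by
    have : z₀ ∈ W ∩ (j ≫ f) ⁻¹' {f x} := by rw [hW]; rfl
    exact this.1
  refine ⟨Wo, Wo.ι ≫ j, ⟨z₀, hz₀W⟩, inferInstance, ?_, ?_, ?_⟩
  · rw [Category.assoc]
    infer_instance
  · rw [Scheme.Hom.comp_apply]
    exact hz₀
  · intro z' hz'
    apply Subtype.ext
    have : (z'.1 : Spec (.of C)) ∈ W ∩ (j ≫ f) ⁻¹' {f x} := by
      refine ⟨z'.2, ?_⟩
      show (j ≫ f) z'.1 = f x
      rw [Scheme.Hom.comp_apply]
      rw [Scheme.Hom.comp_apply] at hz'
      exact hz'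
    rw [hW] at this
    exact this

end Groth.Agent.Helper16.SliceSch
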