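import Mathlib
import Groth.Prelude.Def_CInt
import Groth.Agent.Lib.Helper16.Alg.SmRegQuotB

/-!
# Smoothness of the ambient scheme along a smooth regularly immersed subscheme (helper16)
-/

set_option autoImplicit false
set_option linter.style.haveILetI false
set_option linter.unusedSectionVars false
universe u
open CategoryTheory AlgebraicGeometry TopologicalSpace IsLocalRing

namespace Groth.Agent.Helper16.SmRegQuot

set_option maxHeartbeats 1600000 in
set_option synthInstance.maxHeartbeats 400000 in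
theorem mem_smoothLocus_of_regular {X S Y : Scheme.{u}} [IsLocallyNoetherian S] (f : X ⟶ S)
    [LocallyOfFiniteType f] [LocallyOfFinitePresentation f] (ι : Y ⟶ X) [IsClosedImmersion ι]
    [LocallyOfFinitePresentation (ι ≫ f)] (x : Y)
    (hY : x ∈ (ι ≫ f).smoothLocus)
    (h : CInt.IsRegularIdeal (RingHom.ker (ι.stalkMap x).hom)) :
    ι x ∈ f.smoothLocus := by
  rw [Scheme.Hom.mem_smoothLocus] at hY ⊢
  obtain ⟨rs, hrs, hrs2⟩ := h
  obtain ⟨_, ⟨V, hV, rfl⟩, hfxV, -⟩ := S.isBasis_affineOpens.exists_subset_of_mem_open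
    (Set.mem_univ (f (ι x))) isOpen_univ
  have hV' : IsAffineOpen V := hV
  obtain ⟨_, ⟨U, hU, rfl⟩, hxU, hUV⟩ := X.isBasis_affineOpens.exists_subset_of_mem_open
    (show ι x ∈ ((f ⁻¹ᵁ V : X.Opens) : Set X) from hfxV) (f ⁻¹ᵁ V).isOpen
  have hU' : IsAffineOpen U := hU
  have e : U ≤ f ⁻¹ᵁ V := hUV
  letI algRB₀ : Algebra Γ(S, V) Γ(X, U) := (f.appLE V U e).hom.toAlgebra
  letI algRA : Algebra Γ(S, V) (S.presheaf.stalk (f (ι x))) :=
    S.presheaf.algebra_section_stalk ⟨f (ι x), hfxV⟩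
  haveI locA := hV'.isLocalization_stalk ⟨f (ι x), hfxV⟩
  letI algB₀B : Algebra Γ(X, U) (X.presheaf.stalk (ι x)) :=
    X.presheaf.algebra_section_stalk ⟨ι x, hxU⟩
  haveI locB := hU'.isLocalization_stalk ⟨ι x, hxU⟩
  letI algAB : Algebra (S.presheaf.stalk (f (ι x))) (X.presheaf.stalk (ι x)) :=
    (f.stalkMap (ι x)).hom.toAlgebra
  letI algRB : Algebra Γ(S, V) (X.presheaf.stalk (ι x)) :=
    ((algebraMap Γ(X, U) (X.presheaf.stalk (ι x))).comp (algebraMap Γ(S, V) Γ(X, U))).toAlgebra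
  haveI : IsScalarTower Γ(S, V) Γ(X, U) (X.presheaf.stalk (ι x)) :=
    IsScalarTower.of_algebraMap_eq fun _ => rfl
  haveI : IsScalarTower Γ(S, V) (S.presheaf.stalk (f (ι x))) (X.presheaf.stalk (ι x)) := by
    refine IsScalarTower.of_algebraMap_eq fun r => ?_
    show (X.presheaf.germ U (ι x) hxU).hom ((f.appLE V U e).hom r) =
      (f.stalkMap (ι x)).hom ((S.presheaf.germ V (f (ι x)) hfxV).hom r)
    have h1 := Scheme.Hom.germ_stalkMap_apply f V (ι x) hfxV r
    refine Eq.trans ?_ h1.symm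
    exact TopCat.Presheaf.germ_res_apply X.presheaf (homOfLE e) (ι x) hxU ((f.app V).hom r)
  haveI : Algebra.FiniteType Γ(S, V) Γ(X, U) := f.finiteType_appLE hV' hU' e
  haveI : IsNoetherianRing Γ(S, V) := IsLocallyNoetherian.component_noetherian ⟨V, hV'⟩
  have hp := IsAffineOpen.comap_primeIdealOf_appLE V hV' U hU' e hxU
  have hp' : (hV'.primeIdealOf ⟨f (ι x), hfxV⟩).asIdeal =
      (hU'.primeIdealOf ⟨ι x, hxU⟩).asIdeal.comap (algebraMap Γ(S, V) Γ(X, U)) := by
    rw [← hp]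
    rfl
  -- the subscheme
  letI algOB : Algebra (X.presheaf.stalk (ι x)) (Y.presheaf.stalk x) :=
    (ι.stalkMap x).hom.toAlgebra
  letI algAB' : Algebra (S.presheaf.stalk (f (ι x))) (Y.presheaf.stalk x) :=
    ((ι ≫ f).stalkMap x).hom.toAlgebra
  haveI : IsScalarTower (S.presheaf.stalk (f (ι x))) (X.presheaf.stalk (ι x))
      (Y.presheaf.stalk x) := by
    refine IsScalarTower.of_algebraMap_eq fun a => ?_
    show ((ι ≫ f).stalkMap x).hom a = (ι.stalkMap x).hom ((f.stalkMap (ι x)).hom a)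
    rw [Scheme.Hom.stalkMap_comp]
    rfl
  haveI : IsLocalHom (algebraMap (S.presheaf.stalk (f (ι x))) (Y.presheaf.stalk x)) :=
    inferInstanceAs (IsLocalHom ((ι ≫ f).stalkMap x).hom)
  haveI : Algebra.FormallySmooth (S.presheaf.stalk (f (ι x))) (Y.presheaf.stalk x) := hY
  have hOB : Function.Surjective
      (algebraMap (X.presheaf.stalk (ι x)) (Y.presheaf.stalk x)) :=
    ι.stalkMap_surjective x
  have hker : RingHom.ker (algebraMap (X.presheaf.stalk (ι x)) (Y.presheaf.stalk x)) =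
      Ideal.span (Set.range rs.get) := by
    rw [Set.range_list_get]
    exact hrs2.symm
  exact formallySmooth_of_regular_quotient' (R := Γ(S, V)) (C := Γ(X, U))
    (hU'.primeIdealOf ⟨ι x, hxU⟩).asIdeal (hV'.primeIdealOf ⟨f (ι x), hfxV⟩).asIdeal hp' hOB
    rs.get (by rw [List.ofFn_get]; exact hrs.toIsWeaklyRegular) hker

end Groth.Agent.Helper16.SmRegQuot
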