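import Mathlib
import Groth.Prelude.Def_CInt
import Groth.Agent.Lib.Helper16.Alg.SmRegQuotC
import Groth.Agent.Lib.Helper16.Sch.HomFibA2
import Groth.Agent.Lib.Helper16.Sch.SmDiv
import Groth.Agent.Lib.Helper28.RegImmStalk

/-!
# A smooth closed subscheme of a smooth scheme is regularly immersed (helper16)
-/

set_option autoImplicit false
set_option linter.style.haveILetI false
set_option linter.unusedSectionVars false
universe u
open CategoryTheory AlgebraicGeometry TopologicalSpace IsLocalRing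

namespace Groth.Agent.Helper16.SmRegQuot

set_option maxHeartbeats 1600000 in
set_option synthInstance.maxHeartbeats 400000 in
theorem regular_of_mem_smoothLocus {X S Y : Scheme.{u}} (f : X ⟶ S)
    [LocallyOfFinitePresentation f] (ι : Y ⟶ X) [IsClosedImmersion ι]
    [LocallyOfFinitePresentation (ι ≫ f)] (x : Y)
    (hY : x ∈ (ι ≫ f).smoothLocus) (hX : ι x ∈ f.smoothLocus) :
    CInt.IsRegularIdeal (RingHom.ker (ι.stalkMap x).hom) := by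
  obtain ⟨W, hxW, hW⟩ :=
    (Groth.Agent.Helper16.HomFibCrit.exists_smooth_nhd_iff_mem_smoothLocus f (ι x)).mpr hX
  obtain ⟨W', hxW', hW'⟩ :=
    (Groth.Agent.Helper16.HomFibCrit.exists_smooth_nhd_iff_mem_smoothLocus (ι ≫ f) x).mpr hY
  obtain ⟨U₁s, hU₁open, hU₁eq⟩ := ι.isEmbedding.isInducing.isOpen_iff.mp W'.isOpen
  let U₁ : X.Opens := ⟨U₁s, hU₁open⟩
  have hxU₁ : ι x ∈ U₁ := by
    show x ∈ ι ⁻¹' U₁s
    rw [hU₁eq]
    exact hxW'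
  obtain ⟨_, ⟨V, hV, rfl⟩, hfxV, -⟩ := S.isBasis_affineOpens.exists_subset_of_mem_open
    (Set.mem_univ (f (ι x))) isOpen_univ
  have hV' : IsAffineOpen V := hV
  obtain ⟨_, ⟨U, hU, rfl⟩, hxU, hUsub⟩ := X.isBasis_affineOpens.exists_subset_of_mem_open
    (show ι x ∈ ((W ⊓ U₁ ⊓ f ⁻¹ᵁ V : X.Opens) : Set X) from ⟨⟨hxW, hxU₁⟩, hfxV⟩)
    (W ⊓ U₁ ⊓ f ⁻¹ᵁ V).isOpen
  have hU' : IsAffineOpen U := hU
  have hUW : U ≤ W := fun z hz => (hUsub hz).1.1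
  have hUU₁ : U ≤ U₁ := fun z hz => (hUsub hz).1.2
  have e : U ≤ f ⁻¹ᵁ V := fun z hz => (hUsub hz).2
  have hW0 : IsAffineOpen (ι ⁻¹ᵁ U) :=
    Groth.Agent.Helper28.RegImmStalk.isAffineOpen_preimage ι U hU'
  have hsurj : Function.Surjective (ι.app U).hom :=
    Groth.Agent.Helper28.RegImmStalk.app_surjective ι U hU'
  have hιUW' : ι ⁻¹ᵁ U ≤ W' := by
    intro z hz
    have h1 : ι z ∈ U₁s := hUU₁ hz
    have h2 : z ∈ ι ⁻¹' U₁s := h1
    rw [hU₁eq] at h2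
    exact h2
  have e' : ι ⁻¹ᵁ U ≤ (ι ≫ f) ⁻¹ᵁ V := fun z hz => e hz
  have hsmC : (f.appLE V U e).hom.Smooth :=
    Groth.Agent.Helper16.SmDiv.smooth_appLE_of_le f W hW hU' hUW hV' e
  have hsmC' : ((ι ≫ f).appLE V (ι ⁻¹ᵁ U) e').hom.Smooth :=
    Groth.Agent.Helper16.SmDiv.smooth_appLE_of_le (ι ≫ f) W' hW' hW0 hιUW' hV' e'
  letI algRC : Algebra Γ(S, V) Γ(X, U) := (f.appLE V U e).hom.toAlgebra
  letI algRC' : Algebra Γ(S, V) Γ(Y, ι ⁻¹ᵁ U) := ((ι ≫ f).appLE V (ι ⁻¹ᵁ U) e').hom.toAlgebra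
  haveI : Algebra.Smooth Γ(S, V) Γ(X, U) := hsmC
  haveI : Algebra.Smooth Γ(S, V) Γ(Y, ι ⁻¹ᵁ U) := hsmC'
  let ψ : Γ(X, U) →ₐ[Γ(S, V)] Γ(Y, ι ⁻¹ᵁ U) :=
    { (ι.app U).hom with
      commutes' := fun r => by
        show (ι.app U).hom ((f.appLE V U e).hom r) = ((ι ≫ f).appLE V (ι ⁻¹ᵁ U) e').hom r
        have h2 : f.appLE V U e ≫ ι.appLE U (ι ⁻¹ᵁ U) le_rfl = (ι ≫ f).appLE V (ι ⁻¹ᵁ U) e' :=
          Scheme.Hom.appLE_comp_appLE _ _ _ _ _ _ _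
        rw [← h2, ← Scheme.Hom.app_eq_appLE]
        rfl }
  have hψ : Function.Surjective ψ := hsurj
  have hq : RingHom.ker ψ.toRingHom ≤ (hU'.primeIdealOf ⟨ι x, hxU⟩).asIdeal := by
    intro a ha
    by_contra haq
    have h1 := Groth.Agent.Helper16.SmDiv.mem_basicOpen_of_notMem_primeIdealOf hU' (ι x) hxU a haq
    have h2 : x ∈ ι ⁻¹ᵁ X.basicOpen a := h1
    rw [Scheme.preimage_basicOpen] at h2
    have h3 : (ι.app U).hom a = 0 := ha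
    rw [h3, Scheme.basicOpen_zero] at h2
    exact h2
  letI algCO : Algebra Γ(X, U) (X.presheaf.stalk (ι x)) :=
    X.presheaf.algebra_section_stalk ⟨ι x, hxU⟩
  haveI locO := hU'.isLocalization_stalk ⟨ι x, hxU⟩
  obtain ⟨rs, hrs, hrs2⟩ := exists_regular_of_smooth ψ hψ
    (hU'.primeIdealOf ⟨ι x, hxU⟩).asIdeal hq (O := X.presheaf.stalk (ι x))
  have hker := Groth.Agent.Helper28.RegImmStalk.ker_stalkMap_of_surjective ι x ⟨U, hU'⟩ hxU hW0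
    hsurj
  refine ⟨rs, hrs, ?_⟩
  rw [hrs2, hker]
  rfl

end Groth.Agent.Helper16.SmRegQuot
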