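import Mathlib
import Groth.Agent.Lib.Helper16.Alg.SmSubC
import Groth.Agent.Lib.Helper16.Sch.AffDict2
import Groth.Agent.Lib.Helper16.Sch.SmDiv

/-!
# Étale charts adapted to a smooth closed subscheme: the pullback square (helper16)
-/

set_option autoImplicit false
set_option linter.style.haveILetI false
universe u
open CategoryTheory CategoryTheory.Limits AlgebraicGeometry Opposite TopologicalSpace MvPolynomial

noncomputable section

namespace Groth.Agent.Helper16.SmSub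

set_option maxHeartbeats 1600000 in
set_option synthInstance.maxHeartbeats 400000 in
/-- coordinates on a basic open of an affine scheme, the last `n` of which generate the ideal of a
closed subscheme, give a pullback square with the coordinate subspace -/
theorem isPullback_of_coords {S X₁ Y₁ : Scheme.{u}} [IsAffine X₁] (p : X₁ ⟶ S) (i₁ : Y₁ ⟶ X₁)
    [IsClosedImmersion i₁] (g : Γ(X₁, ⊤)) (m n : ℕ) (c : ULift.{u} (Fin m ⊕ Fin n) → Γ(X₁, ⊤))
    (hc : ∀ b : Fin n, i₁.appTop (c ⟨Sum.inr b⟩) = 0)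
    (hgen : ∀ f, i₁.appTop f = 0 →
      g * f ∈ Ideal.span (Set.range fun b : Fin n => c ⟨Sum.inr b⟩)) :
    IsPullback
      (AffineSpace.homOfVector ((i₁ ⁻¹ᵁ X₁.basicOpen g).ι ≫ i₁ ≫ p)
        (fun a : ULift.{u} (Fin m) =>
          ((i₁ ⁻¹ᵁ X₁.basicOpen g).ι ≫ i₁).appTop (c ⟨Sum.inl a.down⟩)))
      (i₁ ∣_ X₁.basicOpen g)
      (AffineSpace.homOfVector (𝔸(ULift.{u} (Fin m); S) ↘ S)
        (fun j : ULift.{u} (Fin m ⊕ Fin n) =>
          Sum.elim (fun a => AffineSpace.coord S (ULift.up a)) (fun _ => 0) j.down))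
      ((X₁.basicOpen g).ι ≫ AffineSpace.homOfVector p c) := by
  set U₁ := X₁.basicOpen g with hU₁
  set ρ := AffineSpace.homOfVector ((i₁ ⁻¹ᵁ U₁).ι ≫ i₁ ≫ p)
    (fun a : ULift.{u} (Fin m) => ((i₁ ⁻¹ᵁ U₁).ι ≫ i₁).appTop (c ⟨Sum.inl a.down⟩)) with hρ
  set ζ := AffineSpace.homOfVector (𝔸(ULift.{u} (Fin m); S) ↘ S)
    (fun j : ULift.{u} (Fin m ⊕ Fin n) =>
      Sum.elim (fun a => AffineSpace.coord S (ULift.up a)) (fun _ => 0) j.down) with hζ
  set π := U₁.ι ≫ AffineSpace.homOfVector p c with hπ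
  haveI : IsAffine U₁.toScheme := (isAffineOpen_top X₁).basicOpen g
  have hπc : ∀ o, π.appTop (AffineSpace.coord S o) = U₁.ι.appTop (c o) := fun o => by
    rw [hπ, Scheme.Hom.comp_appTop, CommRingCat.comp_apply, AffineSpace.homOfVector_appTop_coord]
  have hζl : ∀ a : Fin m, ζ.appTop (AffineSpace.coord S ⟨Sum.inl a⟩) = AffineSpace.coord S ⟨a⟩ :=
    fun a => by rw [hζ, AffineSpace.homOfVector_appTop_coord]; rfl
  have hζr : ∀ b : Fin n, ζ.appTop (AffineSpace.coord S ⟨Sum.inr b⟩) = 0 :=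
    fun b => by rw [hζ, AffineSpace.homOfVector_appTop_coord]; rfl
  have hζo : ζ ≫ (𝔸(ULift.{u} (Fin m ⊕ Fin n); S) ↘ S) = 𝔸(ULift.{u} (Fin m); S) ↘ S :=
    AffineSpace.homOfVector_over _ _
  have hπo : π ≫ (𝔸(ULift.{u} (Fin m ⊕ Fin n); S) ↘ S) = U₁.ι ≫ p := by
    rw [hπ, Category.assoc, AffineSpace.homOfVector_over]
  have hρo : ρ ≫ (𝔸(ULift.{u} (Fin m); S) ↘ S) = (i₁ ⁻¹ᵁ U₁).ι ≫ i₁ ≫ p :=
    AffineSpace.homOfVector_over _ _
  have hρc : ∀ a : Fin m, ρ.appTop (AffineSpace.coord S ⟨a⟩) =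
      ((i₁ ⁻¹ᵁ U₁).ι ≫ i₁).appTop (c ⟨Sum.inl a⟩) := fun a => by
    rw [hρ, AffineSpace.homOfVector_appTop_coord]
  have hres : i₁ ∣_ U₁ ≫ U₁.ι = (i₁ ⁻¹ᵁ U₁).ι ≫ i₁ := morphismRestrict_ι i₁ U₁
  have hπc' : ∀ {T : Scheme.{u}} (t : T ⟶ U₁.toScheme) (o),
      (t ≫ π).appTop (AffineSpace.coord S o) = t.appTop (U₁.ι.appTop (c o)) := fun t o => by
    rw [Scheme.Hom.comp_appTop, CommRingCat.comp_apply, hπc]
  have hζl' : ∀ {T : Scheme.{u}} (t : T ⟶ 𝔸(ULift.{u} (Fin m); S)) (a : Fin m),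
      (t ≫ ζ).appTop (AffineSpace.coord S ⟨Sum.inl a⟩) = t.appTop (AffineSpace.coord S ⟨a⟩) :=
    fun t a => by rw [Scheme.Hom.comp_appTop, CommRingCat.comp_apply, hζl]
  have hζr' : ∀ {T : Scheme.{u}} (t : T ⟶ 𝔸(ULift.{u} (Fin m); S)) (b : Fin n),
      (t ≫ ζ).appTop (AffineSpace.coord S ⟨Sum.inr b⟩) = 0 :=
    fun t b => by rw [Scheme.Hom.comp_appTop, CommRingCat.comp_apply, hζr, map_zero]
  have hresc : ∀ x, (i₁ ∣_ U₁).appTop (U₁.ι.appTop x) = ((i₁ ⁻¹ᵁ U₁).ι ≫ i₁).appTop x := fun x => by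
    rw [← CommRingCat.comp_apply, ← Scheme.Hom.comp_appTop, hres]
  -- the square commutes
  have w : ρ ≫ ζ = (i₁ ∣_ U₁) ≫ π := by
    apply AffineSpace.hom_ext
    · rw [Category.assoc, hζo, hρo, Category.assoc, hπo, reassoc_of% hres]
    · rintro ⟨a | b⟩
      · rw [hζl', hρc, hπc', hresc]
      · rw [hζr', hπc', hresc, Scheme.Hom.comp_appTop, CommRingCat.comp_apply, hc, map_zero]
  -- the lifting property
  have hker : ∀ (T : Scheme.{u}) (s₁ : T ⟶ 𝔸(ULift.{u} (Fin m); S)) (s₂ : T ⟶ U₁.toScheme),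
      s₁ ≫ ζ = s₂ ≫ π → (i₁ ∣_ U₁).ker ≤ s₂.ker := by
    intro T s₁ s₂ hs
    have hkill : ∀ b : Fin n, s₂.appTop (U₁.ι.appTop (c ⟨Sum.inr b⟩)) = 0 := fun b => by
      rw [← hπc', ← hs, hζr']
    have hunit : IsUnit (U₁.ι.appTop g) := by
      have h1 : U₁.toScheme.basicOpen (U₁.ι.appTop g) = ⊤ := by
        have := Scheme.preimage_basicOpen U₁.ι g
        rw [Scheme.Opens.ι_preimage_self] at this
        exact this.symm
      exact U₁.toScheme.toRingedSpace.isUnit_of_isUnit_germ ⊤ _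
        (fun x hx => (U₁.toScheme.mem_basicOpen _ x hx).mp (by rw [h1]; trivial))
    have hzero : ∀ f, i₁.appTop f = 0 → s₂.appTop (U₁.ι.appTop f) = 0 := by
      intro f hf
      have h1 := hgen f hf
      have h2 : ∀ x ∈ Ideal.span (Set.range fun b : Fin n => c ⟨Sum.inr b⟩),
          s₂.appTop (U₁.ι.appTop x) = 0 := by
        intro x hx
        have : Ideal.span (Set.range fun b : Fin n => c ⟨Sum.inr b⟩) ≤
            RingHom.ker ((U₁.ι.appTop ≫ s₂.appTop).hom) := by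
          rw [Ideal.span_le]
          rintro _ ⟨b, rfl⟩
          exact hkill b
        exact this hx
      have h3 := h2 _ h1
      rw [map_mul, map_mul] at h3
      exact ((hunit.map s₂.appTop.hom).mul_right_eq_zero).mp h3
    refine Scheme.IdealSheafData.le_of_isAffine ?_
    rw [Scheme.ker_morphismRestrict_ideal i₁ U₁ ⟨⊤, isAffineOpen_top _⟩,
      ← Scheme.IdealSheafData.map_ideal (I := i₁.ker)
        (U := ⟨U₁.ι ''ᵁ ⊤, (isAffineOpen_top U₁.toScheme).image_of_isOpenImmersion _⟩)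
        (V := ⟨⊤, isAffineOpen_top X₁⟩) (le_top (a := U₁.ι ''ᵁ ⊤)),
      Scheme.Hom.ker_apply]
    refine Ideal.map_le_iff_le_comap.mpr ?_
    intro f hf
    have hf' : i₁.appTop f = 0 := hf
    have h0 := hzero f hf'
    have hid : (U₁.toScheme.presheaf.map
        (homOfLE (le_top : (⊤ : U₁.toScheme.Opens) ≤ ⊤)).op) = 𝟙 _ := by
      rw [show homOfLE (le_top : (⊤ : U₁.toScheme.Opens) ≤ ⊤) = 𝟙 _ from rfl, op_id,
        CategoryTheory.Functor.map_id]
    rw [Ideal.mem_comap, Scheme.ker_of_isAffine s₂, Scheme.IdealSheafData.ofIdealTop_ideal, hid,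
      CommRingCat.hom_id, Ideal.map_id]
    exact h0
  refine IsPullback.of_isLimit' ⟨w⟩ (PullbackCone.IsLimit.mk w
    (fun s => IsClosedImmersion.lift (i₁ ∣_ U₁) s.snd (hker _ s.fst s.snd s.condition))
    (fun s => ?_) (fun s => IsClosedImmersion.lift_fac _ _ _) (fun s m' _ h2 => ?_))
  · apply AffineSpace.hom_ext
    · rw [Category.assoc, hρo, ← reassoc_of% hres, IsClosedImmersion.lift_fac_assoc, ← hπo,
        ← reassoc_of% s.condition, hζo]
    · rintro ⟨a⟩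
      rw [Scheme.Hom.comp_appTop, CommRingCat.comp_apply, hρc, ← hresc, ← CommRingCat.comp_apply,
        ← Scheme.Hom.comp_appTop, IsClosedImmersion.lift_fac, ← hπc', ← s.condition, hζl']
  · rw [← cancel_mono (i₁ ∣_ U₁), h2, IsClosedImmersion.lift_fac]

end Groth.Agent.Helper16.SmSub
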