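import Mathlib
import Groth.Agent.Lib.Helper16.Sch.SmSubD

/-!
# Étale charts adapted to a smooth closed subscheme: affine case (helper16)
-/

set_option autoImplicit false
set_option linter.style.haveILetI false
universe u
open CategoryTheory CategoryTheory.Limits AlgebraicGeometry Opposite TopologicalSpace MvPolynomial

noncomputable section

namespace Groth.Agent.Helper16.SmSub

open Groth.Agent.Helper16.AffDict

set_option maxHeartbeats 1600000 in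
set_option synthInstance.maxHeartbeats 400000 in
theorem affine_chart {S S₁ X₁ Y₁ : Scheme.{u}} [IsAffine S₁] [IsAffine X₁] [IsAffine Y₁]
    (j : S₁ ⟶ S) [IsOpenImmersion j] (pX₁ : X₁ ⟶ S₁) [Smooth pX₁] (i₁ : Y₁ ⟶ X₁)
    [IsClosedImmersion i₁] [Smooth (i₁ ≫ pX₁)] (y₁ : Y₁) :
    ∃ (U₁ : X₁.Opens) (m n : ℕ) (π : (U₁ : Scheme.{u}) ⟶ 𝔸(ULift.{u} (Fin m ⊕ Fin n); S))
      (ρ : (↑(i₁ ⁻¹ᵁ U₁) : Scheme.{u}) ⟶ 𝔸(ULift.{u} (Fin m); S)),
      i₁ y₁ ∈ U₁ ∧ Etale π ∧ π ≫ (𝔸(ULift.{u} (Fin m ⊕ Fin n); S) ↘ S) = U₁.ι ≫ pX₁ ≫ j ∧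
      IsPullback ρ (i₁ ∣_ U₁)
        (AffineSpace.homOfVector (𝔸(ULift.{u} (Fin m); S) ↘ S)
          (fun j : ULift.{u} (Fin m ⊕ Fin n) =>
            Sum.elim (fun a => AffineSpace.coord S (ULift.up a)) (fun _ => 0) j.down))
        π := by
  letI aRA : Algebra Γ(S₁, ⊤) Γ(X₁, ⊤) := pX₁.appTop.hom.toAlgebra
  letI aRB : Algebra Γ(S₁, ⊤) Γ(Y₁, ⊤) := (i₁ ≫ pX₁).appTop.hom.toAlgebra
  haveI : Algebra.Smooth Γ(S₁, ⊤) Γ(X₁, ⊤) :=
    (HasRingHomProperty.iff_of_isAffine (P := @Smooth) (f := pX₁)).mp inferInstance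
  haveI : Algebra.Smooth Γ(S₁, ⊤) Γ(Y₁, ⊤) :=
    (HasRingHomProperty.iff_of_isAffine (P := @Smooth) (f := i₁ ≫ pX₁)).mp inferInstance
  let ψ : Γ(X₁, ⊤) →ₐ[Γ(S₁, ⊤)] Γ(Y₁, ⊤) :=
    { i₁.appTop.hom with
      commutes' := fun r => by
        show i₁.appTop.hom (pX₁.appTop.hom r) = (i₁ ≫ pX₁).appTop.hom r
        rw [Scheme.Hom.comp_appTop]
        rfl }
  have hψ : Function.Surjective ψ :=
    (IsClosedImmersion.isAffine_surjective_of_isAffine i₁).2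
  have hT := isAffineOpen_top X₁
  have hq : RingHom.ker ψ.toRingHom ≤ (hT.primeIdealOf ⟨i₁ y₁, trivial⟩).asIdeal := by
    intro f hf
    by_contra hfq
    have h1 := Groth.Agent.Helper16.SmDiv.mem_basicOpen_of_notMem_primeIdealOf hT (i₁ y₁) trivial
      f hfq
    have h2 : y₁ ∈ i₁ ⁻¹ᵁ X₁.basicOpen f := h1
    rw [Scheme.preimage_basicOpen] at h2
    have h3 : i₁.app ⊤ f = 0 := hf
    rw [h3, Scheme.basicOpen_zero] at h2
    exact h2
  obtain ⟨m, n, c, g, hg, hcψ, hgen, Het⟩ :=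
    exists_coords ψ hψ (hT.primeIdealOf ⟨i₁ y₁, trivial⟩).asIdeal hq
  have hxg := Groth.Agent.Helper16.SmDiv.mem_basicOpen_of_notMem_primeIdealOf hT (i₁ y₁) trivial
    g hg
  have het : Etale ((X₁.basicOpen g).ι ≫ AffineSpace.homOfVector pX₁ c) :=
    etale_basicOpen_ι_comp_homOfVector pX₁ c g (Het Γ(X₁.basicOpen g, ⊤))
  have hcomp : (X₁.basicOpen g).ι ≫ AffineSpace.homOfVector (pX₁ ≫ j) c =
      ((X₁.basicOpen g).ι ≫ AffineSpace.homOfVector pX₁ c) ≫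
        AffineSpace.map (ULift.{u} (Fin m ⊕ Fin n)) j := by
    rw [Category.assoc, homOfVector_comp_map]
  refine ⟨X₁.basicOpen g, m, n, (X₁.basicOpen g).ι ≫ AffineSpace.homOfVector (pX₁ ≫ j) c, _,
    hxg, ?_, ?_, isPullback_of_coords (pX₁ ≫ j) i₁ g m n c hcψ hgen⟩
  · rw [hcomp]
    infer_instance
  · rw [Category.assoc, AffineSpace.homOfVector_over]

end Groth.Agent.Helper16.SmSub
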