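import Mathlib
import Groth.Agent.Lib.Helper16.Sch.SmSubE

/-!
# Étale charts adapted to a smooth closed subscheme: general case (helper16)
-/

set_option autoImplicit false
set_option linter.style.haveILetI false
universe u
open CategoryTheory CategoryTheory.Limits AlgebraicGeometry Opposite TopologicalSpace

noncomputable section

namespace Groth.Agent.Helper16.SmSub

set_option maxHeartbeats 1600000 in
set_option synthInstance.maxHeartbeats 400000 in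
theorem main {S X Y : Scheme.{u}} (pX : X ⟶ S) (pY : Y ⟶ S) [Smooth pX] [Smooth pY]
    (i : Y ⟶ X) [IsClosedImmersion i] (w : i ≫ pX = pY) (y : Y) :
    ∃ (U : X.Opens) (m n : ℕ) (π : (U : Scheme.{u}) ⟶ 𝔸(ULift.{u} (Fin m ⊕ Fin n); S))
      (ρ : (↑(i ⁻¹ᵁ U) : Scheme.{u}) ⟶ 𝔸(ULift.{u} (Fin m); S)),
      i y ∈ U ∧ Etale π ∧ π ≫ (𝔸(ULift.{u} (Fin m ⊕ Fin n); S) ↘ S) = U.ι ≫ pX ∧
      IsPullback ρ (i ∣_ U)
        (AffineSpace.homOfVector (𝔸(ULift.{u} (Fin m); S) ↘ S)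
          (fun j : ULift.{u} (Fin m ⊕ Fin n) =>
            Sum.elim (fun a => AffineSpace.coord S (ULift.up a)) (fun _ => 0) j.down))
        π := by
  obtain ⟨W, hW, hyW⟩ : ∃ W : S.Opens, IsAffineOpen W ∧ pX (i y) ∈ W := by
    obtain ⟨W, hW, hyW, -⟩ := TopologicalSpace.Opens.isBasis_iff_nbhd.mp S.isBasis_affineOpens
      (TopologicalSpace.Opens.mem_top (pX (i y)))
    exact ⟨W, hW, hyW⟩
  obtain ⟨V, hV, hyV, eV⟩ : ∃ V : X.Opens, IsAffineOpen V ∧ i y ∈ V ∧ V ≤ pX ⁻¹ᵁ W := by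
    obtain ⟨V, hV, hyV, eV⟩ := TopologicalSpace.Opens.isBasis_iff_nbhd.mp X.isBasis_affineOpens
      (show i y ∈ pX ⁻¹ᵁ W from hyW)
    exact ⟨V, hV, hyV, eV⟩
  haveI : IsAffine W.toScheme := hW
  haveI : IsAffine V.toScheme := hV
  have hV' : IsAffineOpen (i ⁻¹ᵁ V) := hV.preimage i
  haveI : IsAffine (i ⁻¹ᵁ V).toScheme := hV'
  have eV' : i ⁻¹ᵁ V ≤ pY ⁻¹ᵁ W := by
    intro z hz
    show pY z ∈ W
    rw [← w]
    exact eV hz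
  have hcomp : (i ∣_ V) ≫ pX.resLE W V eV = pY.resLE W (i ⁻¹ᵁ V) eV' := by
    rw [← cancel_mono W.ι, Category.assoc, Scheme.Hom.resLE_comp_ι, Scheme.Hom.resLE_comp_ι,
      ← Category.assoc, morphismRestrict_ι, Category.assoc, w]
  haveI : Smooth ((i ∣_ V) ≫ pX.resLE W V eV) := by rw [hcomp]; infer_instance
  obtain ⟨U₁, m, n, π₁, ρ₁, hy₁, het, hover, hpb⟩ :=
    affine_chart (S := S) W.ι (pX.resLE W V eV) (i ∣_ V) (⟨y, hyV⟩ : (i ⁻¹ᵁ V).toScheme)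
  -- transport to `X`
  let eR : U₁.toScheme ≅ (V.ι ''ᵁ U₁).toScheme := V.ι.isoImage U₁
  have heR : eR.hom ≫ (V.ι ''ᵁ U₁).ι = U₁.ι ≫ V.ι := V.ι.isoImage_hom_ι U₁
  let eL : ((i ∣_ V) ⁻¹ᵁ U₁).toScheme ≅ (i ⁻¹ᵁ (V.ι ''ᵁ U₁)).toScheme :=
    (i ⁻¹ᵁ V).ι.isoImage ((i ∣_ V) ⁻¹ᵁ U₁) ≪≫ Y.isoOfEq (image_morphismRestrict_preimage i V U₁)
  have heL : eL.hom ≫ (i ⁻¹ᵁ (V.ι ''ᵁ U₁)).ι = ((i ∣_ V) ⁻¹ᵁ U₁).ι ≫ (i ⁻¹ᵁ V).ι := by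
    simp only [eL, Iso.trans_hom, Category.assoc, Scheme.isoOfEq_hom_ι,
      Scheme.Hom.isoImage_hom_ι]
  have hsq : eL.hom ≫ (i ∣_ (V.ι ''ᵁ U₁)) = ((i ∣_ V) ∣_ U₁) ≫ eR.hom := by
    rw [← cancel_mono (V.ι ''ᵁ U₁).ι, Category.assoc, Category.assoc, morphismRestrict_ι,
      reassoc_of% heL, heR]
    have h1 : (i ∣_ V ∣_ U₁) ≫ U₁.ι = ((i ∣_ V) ⁻¹ᵁ U₁).ι ≫ (i ∣_ V) :=
      morphismRestrict_ι (i ∣_ V) U₁
    have h2 : (i ∣_ V) ≫ V.ι = (i ⁻¹ᵁ V).ι ≫ i := morphismRestrict_ι i V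
    rw [reassoc_of% h1, h2]
  refine ⟨V.ι ''ᵁ U₁, m, n, eR.inv ≫ π₁, eL.inv ≫ ρ₁, ?_, inferInstance, ?_, ?_⟩
  · refine ⟨(i ∣_ V) ⟨y, hyV⟩, hy₁, ?_⟩
    show V.ι ((i ∣_ V) ⟨y, hyV⟩) = i y
    rw [← Scheme.Hom.comp_apply, morphismRestrict_ι]
    rfl
  · rw [Category.assoc, hover, Scheme.Hom.resLE_comp_ι, ← reassoc_of% heR, Iso.inv_hom_id_assoc]
  · refine IsPullback.of_iso hpb eL (Iso.refl _) eR (Iso.refl _) ?_ ?_ ?_ ?_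
    · simp
    · exact hsq.symm
    · simp
    · simp

end Groth.Agent.Helper16.SmSub
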