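import Mathlib
import Groth.Agent.Lib.Helper16.Sch.Birat7

set_option autoImplicit false
universe u
open CategoryTheory CategoryTheory.Limits AlgebraicGeometry Opposite TopologicalSpace

noncomputable section

namespace Groth.Agent.Helper16.Spread

variable {S X Y : Scheme.{u}}

open Groth.Agent.Helper16.Birat in
theorem exists_iso_spread_out (sX : X ⟶ S) (sY : Y ⟶ S)
    [LocallyOfFinitePresentation sX] [LocallyOfFinitePresentation sY]
    {x : X} {y : Y} (e : sX x = sY y)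
    (φ : Y.presheaf.stalk y ⟶ X.presheaf.stalk x) [IsIso φ]
    (h : sY.stalkMap y ≫ φ =
      S.presheaf.stalkSpecializes (Inseparable.of_eq e).specializes ≫ sX.stalkMap x) :
    ∃ (U : X.Opens) (hxU : x ∈ U) (V : Y.Opens) (f : U.toScheme ⟶ V.toScheme), IsIso f ∧
      Spec.map φ ≫ Y.fromSpecStalk y = U.fromSpecStalkOfMem x hxU ≫ f ≫ V.ι ∧
        f ≫ V.ι ≫ sY = U.ι ≫ sX := by
  obtain ⟨U₁, hxU₁, f₁, hf1, hfS⟩ := spread_out_of_finitePresentation sX sY e φ h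
  have : IsIso (f₁.stalkMap ⟨x, hxU₁⟩) :=
    isIso_stalkMap_of_fromSpecStalkOfMem U₁ _ hxU₁ f₁ _ φ hf1
  have hlfp : LocallyOfFinitePresentation (f₁ ≫ sY) := by rw [hfS]; infer_instance
  have : LocallyOfFinitePresentation f₁ :=
    Groth.Agent.Helper7.locallyOfFinitePresentation_of_comp f₁ sY hlfp inferInstance
  obtain ⟨_, ⟨V₀, hV₀, rfl⟩, hfuV₀, -⟩ :=
    Y.isBasis_affineOpens.exists_subset_of_mem_open (Set.mem_univ (f₁ ⟨x, hxU₁⟩)) isOpen_univ
  have hV₀ : IsAffineOpen V₀ := hV₀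
  obtain ⟨U', V', e', huU', -, hiso⟩ :=
    exists_isIso_resLE_of_isIso_stalkMap f₁ ⟨x, hxU₁⟩ hV₀ hfuV₀ (Or.inr inferInstance)
  have hxU : x ∈ U₁.ι ''ᵁ U' := ⟨⟨x, hxU₁⟩, huU', rfl⟩
  refine ⟨U₁.ι ''ᵁ U', hxU, V', (U₁.ι.isoImage U').inv ≫ f₁.resLE V' U' e', inferInstance, ?_, ?_⟩
  · have key : (U₁.ι ''ᵁ U').fromSpecStalkOfMem x hxU ≫ (U₁.ι.isoImage U').inv ≫ U'.ι =
        U₁.fromSpecStalkOfMem x hxU₁ := by
      rw [← cancel_mono U₁.ι, Scheme.Opens.fromSpecStalkOfMem_ι, Category.assoc, Category.assoc,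
        Scheme.Hom.isoImage_inv_ι, Scheme.Opens.fromSpecStalkOfMem_ι]
    rw [Category.assoc, Scheme.Hom.resLE_comp_ι, hf1, ← key]
    simp only [Category.assoc]
  · rw [Category.assoc, Scheme.Hom.resLE_comp_ι_assoc, hfS, Scheme.Hom.isoImage_inv_ι_assoc]

end Groth.Agent.Helper16.Spread
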