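import Mathlib

set_option autoImplicit false
open CategoryTheory CategoryTheory.Limits AlgebraicGeometry
universe u

namespace Groth.Agent.Helper16.SteinIso

variable {X Y : Scheme.{u}}

set_option backward.isDefEq.respectTransparency false in
/-- If `𝒪_Y → f_* 𝒪_X` is bijective, the relative normalization of `Y` in `X` is `Y`. -/
theorem isIso_fromNormalization (f : X ⟶ Y) [QuasiCompact f] [QuasiSeparated f]
    (hO : ∀ U : Y.Opens, Function.Bijective (f.app U)) : IsIso f.fromNormalization := by
  change MorphismProperty.isomorphisms Scheme f.fromNormalization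
  rw [IsZariskiLocalAtTarget.iff_of_iSup_eq_top (P := MorphismProperty.isomorphisms Scheme) _
    (iSup_affineOpens_eq_top Y)]
  intro U
  change IsIso (f.fromNormalization ∣_ U.1)
  rw [isIso_morphismRestrict_iff_isIso_app _ U.2, f.fromNormalization_app U.2]
  let _ := (f.app U.1).hom.toAlgebra
  have hbij : Function.Bijective (algebraMap Γ(Y, U.1)
      (integralClosure Γ(Y, U.1) Γ(X, f ⁻¹ᵁ U.1))) := by
    constructor
    · intro a b hab
      apply (hO U.1).1
      exact congrArg Subtype.val hab
    · rintro ⟨b, hb⟩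
      obtain ⟨a, rfl⟩ := (hO U.1).2 b
      exact ⟨a, Subtype.ext rfl⟩
  have : IsIso (CommRingCat.ofHom (algebraMap Γ(Y, U.1)
      (integralClosure Γ(Y, U.1) Γ(X, f ⁻¹ᵁ U.1)))) := by
    rw [ConcreteCategory.isIso_iff_bijective]
    exact hbij
  infer_instance


/-- a point isolated in its (scheme-theoretic) fibre is a quasi-finite point -/
theorem quasiFiniteAt_of_isOpen_singleton (f : X ⟶ Y) [LocallyOfFiniteType f] (y : Y)
    (x : f.fiber y) (hx : IsOpen ({x} : Set (f.fiber y))) : f.QuasiFiniteAt (f.fiberι y x) := by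
  obtain ⟨x₀, hx₀⟩ : ∃ x₀ : X, f.fiberι y x = x₀ := ⟨_, rfl⟩
  have hy : f x₀ = y := by
    have := (f.range_fiberι y).le ⟨x, hx₀⟩
    exact this
  subst hy
  have hxe : x = f.asFiber x₀ := by
    apply (f.fiberι (f x₀)).isEmbedding.injective
    rw [hx₀, f.fiberι_asFiber]
  rw [hx₀, Scheme.Hom.quasiFiniteAt_iff_isOpen_singleton_asFiber, ← hxe]
  exact hx

/-- Consequence of Zariski's main theorem: if `𝒪_Y → f_* 𝒪_X` is bijective then `f` is an
isomorphism over an open `V`, and no fibre outside `V` has an isolated point. -/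
theorem main (f : X ⟶ Y) [IsSeparated f] [LocallyOfFiniteType f] [QuasiCompact f]
    (hO : ∀ U : Y.Opens, Function.Bijective (f.app U)) :
    ∃ V : Y.Opens, IsIso (f ∣_ V) ∧
      ∀ y : Y, y ∉ (V : Set Y) → ∀ x : ↥(f.fiber y), ¬ IsOpen ({x} : Set ↥(f.fiber y)) := by
  have hν : IsIso f.fromNormalization := isIso_fromNormalization f hO
  obtain ⟨U, hU, e⟩ := f.exists_isIso_morphismRestrict_toNormalization
  have hf : f.toNormalization ≫ f.fromNormalization = f := f.toNormalization_fromNormalization
  have hUV : f.fromNormalization ⁻¹ᵁ ((inv f.fromNormalization) ⁻¹ᵁ U) = U := by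
    rw [← Scheme.Hom.comp_preimage, IsIso.hom_inv_id, Scheme.Hom.id_preimage]
  refine ⟨(inv f.fromNormalization) ⁻¹ᵁ U, ?_, ?_⟩
  · have h1 : IsIso (f.toNormalization ∣_ (f.fromNormalization ⁻¹ᵁ
        ((inv f.fromNormalization) ⁻¹ᵁ U))) := by
      rw [hUV]; exact hU
    have h2 : IsIso ((f.toNormalization ≫ f.fromNormalization) ∣_
        ((inv f.fromNormalization) ⁻¹ᵁ U)) := by
      rw [morphismRestrict_comp]
      have h3 : IsIso (f.fromNormalization ∣_ ((inv f.fromNormalization) ⁻¹ᵁ U)) := inferInstance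
      exact @IsIso.comp_isIso _ _ _ _ _ _ _ h1 h3
    rwa [hf] at h2
  · intro y hy x hx
    apply hy
    have hq := quasiFiniteAt_of_isOpen_singleton f y x hx
    have hmem : f.fiberι y x ∈ (f.toNormalization ⁻¹ᵁ U).1 := by rw [e]; exact hq
    have hfy : f (f.fiberι y x) = y := (f.range_fiberι y).le ⟨x, rfl⟩
    change (inv f.fromNormalization) y ∈ U
    rw [← hfy, ← Scheme.Hom.comp_apply]
    have : f ≫ inv f.fromNormalization = f.toNormalization := by
      rw [IsIso.comp_inv_eq]; exact hf.symm
    rw [this]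
    exact hmem

end Groth.Agent.Helper16.SteinIso
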