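import Mathlib
import Groth.Agent.Lib.Helper16.Sch.SuppComp4

/-!
# EGA IV 12.2.1: no embedded components and prescribed dimensions of the components (helper16)
-/

set_option autoImplicit false
set_option linter.style.haveILetI false
set_option linter.unusedSectionVars false
universe u

open AlgebraicGeometry CategoryTheory Limits IsLocalRing TopologicalSpace

namespace Groth.Agent.Helper16.EquiSk

open Groth.Agent.Helper16.FibStalk Groth.Agent.Helper16.FibMod Groth.Agent.Helper16.FTDim
open Groth.Agent.Helper14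

variable {X Y : Scheme.{u}} (f : X ⟶ Y) (ℱ : X.Modules)

variable [LocallyOfFinitePresentation f] (hF : CohB1.IsFP ℱ) (hflat : FlatMod.IsFlatOver f ℱ)

include hF in
omit [LocallyOfFinitePresentation f] in
theorem noEmbedded_and_dims_iff [LocallyOfFiniteType f] (Φ : Finset ℕ) (y : Y) :
    (AssSch.NoEmbedded ((Scheme.Modules.pullback (f.fiberι y)).obj ℱ) ∧
      (fun Z : Set ↥{z : ↥(f.fiber y) |
          Nontrivial (((Scheme.Modules.pullback (f.fiberι y)).obj ℱ).presheaf.stalk z)} =>
        topologicalKrullDim ↥Z) '' irreducibleComponents ↥{z : ↥(f.fiber y) |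
          Nontrivial (((Scheme.Modules.pullback (f.fiberι y)).obj ℱ).presheaf.stalk z)} =
        (fun n : ℕ => (n : WithBot ℕ∞)) '' (Φ : Set ℕ)) ↔
    (AssSch.NoEmbedded ((Scheme.Modules.pullback (f.fiberι y)).obj ℱ) ∧
      (∀ n ∈ Φ, n ∈ genDims f ℱ y) ∧
      ∀ z ∈ AssSch.Ass ((Scheme.Modules.pullback (f.fiberι y)).obj ℱ), ∃ n ∈ Φ,
        topologicalKrullDim ↥(closure ({z} : Set ↥(f.fiber y))) = (n : WithBot ℕ∞)) := by
  have hinj : Function.Injective (fun n : ℕ => (n : WithBot ℕ∞)) := fun a b h => by
    simpa using h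
  rw [dims_fibre f ℱ hF y, hinj.image_injective.eq_iff]
  refine and_congr_right fun hNE => ?_
  have hNE' := (noEmbedded_fibre_iff f ℱ hF y).mp hNE
  constructor
  · intro heq
    refine ⟨fun n hn => by rw [heq]; exact hn, ?_⟩
    intro z hz
    have h0 := (mem_ass_fibre_iff f ℱ hF y z).mp hz
    have hcd := hNE' _ (apply_fiberι f y z) h0
    refine ⟨td f (f.fiberι y z), ?_, dim_closure_fibre f y z⟩
    have : td f (f.fiberι y z) ∈ genDims f ℱ y := ⟨_, apply_fiberι f y z, hcd, rfl⟩
    rw [heq] at this
    exact this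
  · rintro ⟨h1, h2⟩
    apply Set.Subset.antisymm
    · rintro n ⟨x, hfx, hcd, rfl⟩
      obtain ⟨w, rfl⟩ : x ∈ Set.range (f.fiberι y) := by
        rw [f.range_fiberι]
        exact hfx
      have hw : w ∈ AssSch.Ass ((Scheme.Modules.pullback (f.fiberι y)).obj ℱ) :=
        (mem_ass_fibre_iff f ℱ hF y w).mpr (cdepth_eq_zero_of_cdim_eq_zero f ℱ hF _ hcd)
      obtain ⟨n, hn, hdim⟩ := h2 w hw
      rw [dim_closure_fibre f y w] at hdim
      have : td f (f.fiberι y w) = n := by exact_mod_cast hdim
      rw [this]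
      exact hn
    · intro n hn
      exact h1 n hn

include hF hflat in
/-- **EGA IV 12.2.1**: for a closed morphism, openness of the set of points of the base over which
the fibre module has no embedded associated points and the set of dimensions of the components of
its support is `Φ`. -/
theorem isOpen_setOf_noEmbedded_and_dims_eq (hcl : IsClosedMap f) (Φ : Finset ℕ) :
    IsOpen {y : Y | AssSch.NoEmbedded ((Scheme.Modules.pullback (f.fiberι y)).obj ℱ) ∧
      (fun Z : Set ↥{z : ↥(f.fiber y) |
          Nontrivial (((Scheme.Modules.pullback (f.fiberι y)).obj ℱ).presheaf.stalk z)} =>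
        topologicalKrullDim ↥Z) '' irreducibleComponents ↥{z : ↥(f.fiber y) |
          Nontrivial (((Scheme.Modules.pullback (f.fiberι y)).obj ℱ).presheaf.stalk z)} =
        (fun n : ℕ => (n : WithBot ℕ∞)) '' (Φ : Set ℕ)} := by
  have h1 := isOpen_setOf_noEmbedded f ℱ hF hcl hflat
  have h2 := isOpen_setOf_subset_genDims f ℱ hF hflat Φ
  have h3 := isOpen_forall_assDims f ℱ hF hcl hflat Φ
  have := (h1.inter h2).inter h3
  convert this using 1
  ext y
  simp only [Set.mem_ofPred_eq, Set.mem_inter_iff]
  rw [noEmbedded_and_dims_iff f ℱ hF Φ y, and_assoc]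

end Groth.Agent.Helper16.EquiSk
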