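import Mathlib
import Groth.Agent.Lib.Helper16.Sch.SuppComp5

/-!
# EGA IV 12.1.1: openness of the complement of the embedded associated cycles of the fibre modules
(helper16)
-/

set_option autoImplicit false
set_option linter.style.haveILetI false
set_option linter.unusedSectionVars false
universe u

open AlgebraicGeometry CategoryTheory Limits IsLocalRing TopologicalSpace

namespace Groth.Agent.Helper16.EquiSk

open Groth.Agent.Helper16.FibStalk Groth.Agent.Helper16.FibMod Groth.Agent.Helper16.FTDim
open Groth.Agent.Helper14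

variable {X Y : Scheme.{u}} (f : X ⟶ Y) (ℱ : X.Modules)

variable [LocallyOfFiniteType f] (hF : CohB1.IsFP ℱ)

include hF

/-- the points lying on no embedded associated cycle of the fibre module, on the total space. -/
theorem not_mem_embedded_iff (y : Y) (w : f.fiber y) :
    (∀ z ∈ AssSch.Ass ((Scheme.Modules.pullback (f.fiberι y)).obj ℱ), w ∈ closure {z} →
      ∀ z' ∈ AssSch.Ass ((Scheme.Modules.pullback (f.fiberι y)).obj ℱ), z ∈ closure {z'} →
        z' = z) ↔ f.fiberι y w ∉ ⋃ j, setE f ℱ j := by
  have hemb := (f.fiberι y).isEmbedding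
  simp only [Set.mem_iUnion, not_exists]
  constructor
  · intro H j hj
    obtain ⟨z, hzx, hfz, h0, htd, hne⟩ := (mem_setE_iff f ℱ hF j _).mp hj
    obtain ⟨v, rfl⟩ : z ∈ Set.range (f.fiberι y) := by
      rw [f.range_fiberι]
      exact hfz.trans (apply_fiberι f y w)
    have hvw : v ⤳ w := by
      rw [← hemb.isInducing.specializes_iff]
      exact hzx
    have hv : v ∈ AssSch.Ass ((Scheme.Modules.pullback (f.fiberι y)).obj ℱ) :=
      (mem_ass_fibre_iff f ℱ hF y v).mpr h0
    have hS := mem_support_of_cdepth_eq_zero f ℱ hF _ h0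
    obtain ⟨z', hz'z, hfz', hz'0, -⟩ := exists_generic f ℱ hF _ hS
    obtain ⟨v', rfl⟩ : z' ∈ Set.range (f.fiberι y) := by
      rw [f.range_fiberι]
      exact hfz'.trans (apply_fiberι f y v)
    have hv'v : v' ⤳ v := by
      rw [← hemb.isInducing.specializes_iff]
      exact hz'z
    have hv' : v' ∈ AssSch.Ass ((Scheme.Modules.pullback (f.fiberι y)).obj ℱ) :=
      (mem_ass_fibre_iff f ℱ hF y v').mpr (cdepth_eq_zero_of_cdim_eq_zero f ℱ hF _ hz'0)
    have := H v hv (specializes_iff_mem_closure.mp hvw) v' hv'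
      (specializes_iff_mem_closure.mp hv'v)
    rw [this] at hz'0
    exact hne hz'0
  · intro H z hz hwz z' hz' hzz'
    have hzw : z ⤳ w := specializes_iff_mem_closure.mpr hwz
    have hz'z : z' ⤳ z := specializes_iff_mem_closure.mpr hzz'
    have h0 := (mem_ass_fibre_iff f ℱ hF y z).mp hz
    have h0' := (mem_ass_fibre_iff f ℱ hF y z').mp hz'
    by_contra hne
    apply H (td f (f.fiberι y z))
    rw [mem_setE_iff f ℱ hF]
    refine ⟨f.fiberι y z, hemb.isInducing.specializes_iff.mpr hzw,
      (apply_fiberι f y z).trans (apply_fiberι f y w).symm, h0, rfl, ?_⟩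
    intro hcd
    have hmin := ((cdim_eq_zero_iff f ℱ hF _).mp hcd).2
    have := hmin (f.fiberι y z') (hemb.isInducing.specializes_iff.mpr hz'z)
      ((apply_fiberι f y z').trans (apply_fiberι f y z).symm)
      (mem_support_of_cdepth_eq_zero f ℱ hF _ h0')
    exact hne (hemb.injective this)

/-- **EGA IV 12.1.1 (iii)**: openness of the set of points lying on no embedded associated cycle of
the fibre module. -/
theorem isOpen_not_mem_embedded [LocallyOfFinitePresentation f] (hflat : FlatMod.IsFlatOver f ℱ) :
    IsOpen {x : X | ∀ z ∈ AssSch.Ass ((Scheme.Modules.pullback (f.fiberι (f x))).obj ℱ),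
      f.asFiber x ∈ closure {z} →
      ∀ z' ∈ AssSch.Ass ((Scheme.Modules.pullback (f.fiberι (f x))).obj ℱ), z ∈ closure {z'} →
        z' = z} := by
  have h := (isClosed_iUnion_setE f ℱ hF hflat).isOpen_compl
  convert h using 1
  ext x
  have hι : f.fiberι (f x) (f.asFiber x) = x := f.fiberι_asFiber x
  have h1 := not_mem_embedded_iff f ℱ hF (f x) (f.asFiber x)
  rw [hι] at h1
  exact h1

end Groth.Agent.Helper16.EquiSk
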