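import Mathlib
import Groth.Agent.Lib.Helper16.Sch.SuppComp5

/-!
# Local constancy of the dimension of the supports of the fibre modules (helper16)
-/

set_option autoImplicit false
set_option linter.style.haveILetI false
set_option linter.unusedSectionVars false
universe u

open AlgebraicGeometry CategoryTheory Limits IsLocalRing TopologicalSpace Topology

namespace Groth.Agent.Helper16.EquiSk

open Groth.Agent.Helper16.FibStalk Groth.Agent.Helper16.FibMod Groth.Agent.Helper16.FTDim
open Groth.Agent.Helper14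

variable {X Y : Scheme.{u}} (f : X ⟶ Y) (ℱ : X.Modules)

section

variable [LocallyOfFiniteType f] (hF : CohB1.IsFP ℱ)

include hF

theorem dim_support_fibre_le (y : Y) (n : ℕ)
    (h : ∀ x : X, f x = y → x ∈ CohB1.support ℱ → td f x ≤ n) :
    topologicalKrullDim ↥{z : ↥(f.fiber y) |
      Nontrivial (((Scheme.Modules.pullback (f.fiberι y)).obj ℱ).presheaf.stalk z)} ≤
      (n : WithBot ℕ∞) := by
  have hcl := isClosed_support_fibre f ℱ hF y
  have hemb : IsClosedEmbedding (Subtype.val : ↥{z : ↥(f.fiber y) |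
      Nontrivial (((Scheme.Modules.pullback (f.fiberι y)).obj ℱ).presheaf.stalk z)} → _) :=
    hcl.isClosedEmbedding_subtypeVal
  haveI := hemb.quasiSober
  have h1 := DimClosure.topDim_le_of_strictAnti
    (fun t : ↥{z : ↥(f.fiber y) |
      Nontrivial (((Scheme.Modules.pullback (f.fiberι y)).obj ℱ).presheaf.stalk z)} =>
        (td f (f.fiberι y t.1) : ℤ)) ?_ 0 n ?_ ?_
  · simpa using h1
  · intro t t' htt' hne
    have h2 : t.1 ⤳ t'.1 := hemb.isInducing.specializes_iff.mpr htt'
    have h3 : t.1 ≠ t'.1 := fun h => hne (Subtype.ext h)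
    exact (isDimFun_fibre f y t.1 t'.1 h2 h3).1
  · intro t
    exact_mod_cast Nat.zero_le _
  · intro t
    have := h (f.fiberι y t.1) (apply_fiberι f y t.1)
      ((nontrivial_stalk_fibre_iff f ℱ hF y t.1).mp t.2)
    exact_mod_cast this

theorem le_dim_support_fibre (y : Y) (x : X) (hfx : f x = y) (hx : x ∈ CohB1.support ℱ) :
    (td f x : WithBot ℕ∞) ≤ topologicalKrullDim ↥{z : ↥(f.fiber y) |
      Nontrivial (((Scheme.Modules.pullback (f.fiberι y)).obj ℱ).presheaf.stalk z)} := by
  have hcl := isClosed_support_fibre f ℱ hF y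
  obtain ⟨w, rfl⟩ : x ∈ Set.range (f.fiberι y) := by
    rw [f.range_fiberι]
    exact hfx
  have hw := (nontrivial_stalk_fibre_iff f ℱ hF y w).mpr hx
  rw [← dim_closure_fibre f y w,
    ← Groth.Agent.Helper16.ClosedComp.dim_closure_subtype _ hcl ⟨w, hw⟩]
  exact topologicalKrullDim_subspace_le _ _

theorem dim_support_fibre_eq_bot (y : Y) (h : ∀ x : X, f x = y → x ∉ CohB1.support ℱ) :
    topologicalKrullDim ↥{z : ↥(f.fiber y) |
      Nontrivial (((Scheme.Modules.pullback (f.fiberι y)).obj ℱ).presheaf.stalk z)} = ⊥ := by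
  haveI : IsEmpty ↥{z : ↥(f.fiber y) |
      Nontrivial (((Scheme.Modules.pullback (f.fiberι y)).obj ℱ).presheaf.stalk z)} := by
    refine ⟨fun t => ?_⟩
    exact h _ (apply_fiberι f y t.1) ((nontrivial_stalk_fibre_iff f ℱ hF y t.1).mp t.2)
  unfold topologicalKrullDim
  rw [Order.krullDim_eq_bot_iff]
  refine ⟨fun Z => ?_⟩
  obtain ⟨t, -⟩ := Z.isIrreducible.nonempty
  exact isEmptyElim t

/-- a uniform bound for the transcendence degrees of the points of a quasi-compact fibre. -/
theorem exists_fibre_disjoint_setD [QuasiCompact f] (y : Y) :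
    ∃ N : ℕ, ∀ x : X, f x = y → x ∉ setD f ℱ (N + 1) := by
  have hcomp : IsCompact (Set.range (f.fiberι y)) :=
    isCompact_range (f.fiberι y).continuous
  have hcov : Set.range (f.fiberι y) ⊆ ⋃ N : ℕ, (setD f ℱ (N + 1))ᶜ := by
    intro x _
    obtain ⟨N, hN⟩ := exists_notMem_setD f ℱ hF x
    exact Set.mem_iUnion.mpr ⟨N, hN⟩
  obtain ⟨t, ht⟩ := hcomp.elim_finite_subcover _
    (fun N => (isClosed_setD f ℱ hF (N + 1)).isOpen_compl) hcov
  refine ⟨t.sup id, ?_⟩
  intro x hfx
  have hx : x ∈ Set.range (f.fiberι y) := by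
    rw [f.range_fiberι]
    exact hfx
  obtain ⟨N, hNt, hN⟩ := Set.mem_iUnion₂.mp (ht hx)
  intro hcon
  apply hN
  refine setD_anti f ℱ ?_ hcon
  have : N ≤ t.sup id := Finset.le_sup (f := id) hNt
  omega

end

section Main

variable [LocallyOfFinitePresentation f] (hF : CohB1.IsFP ℱ) (hflat : FlatMod.IsFlatOver f ℱ)

include hF hflat in
/-- **EGA IV 12.2.1 (iv)**-type statement: for a closed quasi-compact morphism, the dimension of
the support of the fibre module is locally constant on the base. -/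
theorem isLocallyConstant_dim_support_fibre [QuasiCompact f] (hcl : IsClosedMap f) :
    IsLocallyConstant (fun y : Y => topologicalKrullDim ↥{z : ↥(f.fiber y) |
      Nontrivial (((Scheme.Modules.pullback (f.fiberι y)).obj ℱ).presheaf.stalk z)}) := by
  haveI : SheafOfModules.IsFinitePresentation (R := X.ringCatSheaf) ℱ := hF
  have hScl : IsClosed (CohB1.support ℱ) := Groth.Agent.Helper28.SuppProper.isClosed_support ℱ
  rw [IsLocallyConstant.iff_exists_open]
  intro y₀
  by_cases hemp : ∀ x : X, f x = y₀ → x ∉ CohB1.support ℱ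
  · -- the support does not meet the fibre
    refine ⟨(f '' CohB1.support ℱ)ᶜ, (hcl _ hScl).isOpen_compl, ?_, ?_⟩
    · rintro ⟨x, hx, hfx⟩
      exact hemp x hfx hx
    · intro y hy
      have hy' : ∀ x : X, f x = y → x ∉ CohB1.support ℱ := fun x hfx hx => hy ⟨x, hx, hfx⟩
      rw [dim_support_fibre_eq_bot f ℱ hF y hy', dim_support_fibre_eq_bot f ℱ hF y₀ hemp]
  · push Not at hemp
    obtain ⟨x₀, hfx₀, hx₀⟩ := hemp
    obtain ⟨N, hN⟩ := exists_fibre_disjoint_setD f ℱ hF y₀
    -- the maximal transcendence degree on the fibre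
    have hbdd : ∀ x : X, f x = y₀ → x ∈ CohB1.support ℱ → td f x ≤ N := by
      intro x hfx hx
      by_contra hlt
      exact hN x hfx ⟨x, hx, specializes_rfl, rfl, by omega⟩
    classical
    let P : ℕ → Prop := fun n => ∀ x : X, f x = y₀ → x ∈ CohB1.support ℱ → td f x ≤ n
    have hP : ∃ n, P n := ⟨N, hbdd⟩
    set n := Nat.find hP with hn
    have hPn : P n := Nat.find_spec hP
    -- a point where the maximum is attained
    have hatt : ∃ x : X, f x = y₀ ∧ x ∈ CohB1.support ℱ ∧ td f x = n := by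
      by_contra hcon
      push Not at hcon
      rcases Nat.eq_zero_or_pos n with h0 | hpos
      · have := hPn x₀ hfx₀ hx₀
        exact hcon x₀ hfx₀ hx₀ (by omega)
      · have hP' : P (n - 1) := by
          intro x hfx hx
          have h1 := hPn x hfx hx
          have h2 := hcon x hfx hx
          omega
        have := Nat.find_min' hP hP'
        omega
    obtain ⟨x₁, hfx₁, hx₁, htd₁⟩ := hatt
    have hy₀n : n ∈ genDims f ℱ y₀ := by
      obtain ⟨z, hzx, hfz, hz0, heq⟩ := exists_generic f ℱ hF x₁ hx₁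
      have hzS : z ∈ CohB1.support ℱ := ((cdim_eq_zero_iff f ℱ hF z).mp hz0).1
      have h1 := hPn z (hfz.trans hfx₁) hzS
      obtain ⟨a, b, ha, -, -⟩ := exists_nat_cinvariants f ℱ hF x₁
        ((cdim_ne_bot_iff f ℱ hF x₁).mpr hx₁)
      rw [ha] at heq
      have h2 : a + td f x₁ = td f z := by exact_mod_cast heq
      exact ⟨z, hfz.trans hfx₁, hz0, by omega⟩
    have hdim₀ : topologicalKrullDim ↥{z : ↥(f.fiber y₀) |
        Nontrivial (((Scheme.Modules.pullback (f.fiberι y₀)).obj ℱ).presheaf.stalk z)} =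
        (n : WithBot ℕ∞) := by
      apply le_antisymm (dim_support_fibre_le f ℱ hF y₀ n hPn)
      rw [← htd₁]
      exact le_dim_support_fibre f ℱ hF y₀ x₁ hfx₁ hx₁
    refine ⟨{y : Y | n ∈ genDims f ℱ y} ∩ (f '' setD f ℱ (n + 1))ᶜ,
      (isOpen_setOf_mem_genDims f ℱ hF hflat n).inter
        (hcl _ (isClosed_setD f ℱ hF (n + 1))).isOpen_compl, ⟨hy₀n, ?_⟩, ?_⟩
    · rintro ⟨x, ⟨z, hzS, hzx, hfz, hm⟩, hfx⟩
      have := hPn z (hfz.trans hfx) hzS
      omega
    · rintro y ⟨⟨x, hfx, hx0, htd⟩, hy2⟩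
      rw [hdim₀]
      have hxS : x ∈ CohB1.support ℱ := ((cdim_eq_zero_iff f ℱ hF x).mp hx0).1
      apply le_antisymm
      · apply dim_support_fibre_le f ℱ hF y n
        intro x' hfx' hx'
        by_contra hlt
        exact hy2 ⟨x', ⟨x', hx', specializes_rfl, rfl, by omega⟩, hfx'⟩
      · rw [← htd]
        exact le_dim_support_fibre f ℱ hF y x hfx hxS

end Main

end Groth.Agent.Helper16.EquiSk
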