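import Mathlib
import Groth.Prelude
import Groth.Agent.Lib.Helper16.Sch.Isog

set_option autoImplicit false
set_option linter.style.haveILetI false
universe u
open CategoryTheory CategoryTheory.Limits AlgebraicGeometry Opposite TopologicalSpace Topology
  MonoidalCategory CartesianMonoidalCategory MonObj GrpObj

noncomputable section

namespace Groth.Agent.Helper16.SurjFlat

open Groth.Agent.Helper16.HomFibCrit Groth.Agent.Helper16.GrpSurj

variable {S : Scheme.{u}} {G H : Over S} [GrpObj G] [GrpObj H]

/-- over a one-point base, a surjective homomorphism from a flat group scheme to a reduced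
group scheme is flat. -/
theorem flat_of_surjective_of_isReduced [Subsingleton S] [Flat G.hom] [IsReduced H.left]
    (u : G ⟶ H) [IsMonHom u] (hu : Function.Surjective u.left) : Flat u.left := by
  by_cases hG : Nonempty G.left
  · obtain ⟨x⟩ := hG
    obtain ⟨y, -, hy⟩ := exists_isMaxPt (u.left x)
    obtain ⟨g, hg⟩ := hu y
    have e' := OrbitFlat.orbitMap_restrict u
    have hflat : (u.left.stalkMap g).hom.Flat := by
      have hF : IsField (H.left.presheaf.stalk (u.left g)) := by
        rw [hg]; exact isField_stalk_of_isMaxPt hy
      letI := hF.toField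
      algebraize [(u.left.stalkMap g).hom]
      show Module.Flat (H.left.presheaf.stalk (u.left g)) (G.left.presheaf.stalk g)
      infer_instance
    have := OrbitFlat.flat_orbitMap ((OrbitFlat.selfAct H).restrict u) η[H]
      ⟨g, by rw [e']; exact hflat⟩
    rwa [e'] at this
  · rw [Flat.iff_flat_stalkMap]
    intro x
    exact (hG ⟨x⟩).elim

/-- a surjective homomorphism from a flat l.f.p. group scheme to an l.f.t. group scheme with
reduced fibres is flat, and the target is flat over the base. -/
theorem main7800 (u : G ⟶ H) [IsMonHom u] [Flat G.hom] [LocallyOfFinitePresentation G.hom]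
    [LocallyOfFiniteType H.hom] (hred : ∀ s : S, IsReduced (H.hom.fiber s))
    [Surjective u.left] : Flat u.left ∧ Flat H.hom := by
  have hfl : ∀ s : S, Flat ((Over.pullback (S.fromSpecResidueField s)).map u).left := by
    intro s
    haveI := flat_bc (G := G) s
    haveI : IsReduced ((Over.pullback (S.fromSpecResidueField s)).obj H).left := hred s
    have sq := ImmSub.isPullback_map u (S.fromSpecResidueField s)
    haveI : Surjective ((Over.pullback (S.fromSpecResidueField s)).map u).left :=
      MorphismProperty.of_isPullback sq ‹_›
    exact flat_of_surjective_of_isReduced _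
      ((Over.pullback (S.fromSpecResidueField s)).map u).left.surjective
  obtain ⟨-, h2⟩ := main_flat u
  have h3 : ∀ x : G.left, (u.left.stalkMap x).hom.Flat := by
    intro x
    have : x ∈ {x : G.left | (u.left.stalkMap x).hom.Flat} := by
      rw [h2]
      exact hfl (G.hom x)
    exact this
  refine ⟨(Flat.iff_flat_stalkMap _).mpr h3, ?_⟩
  rw [Flat.iff_flat_stalkMap]
  intro y
  obtain ⟨x, rfl⟩ := u.left.surjective y
  have h4 : ((u.left ≫ H.hom).stalkMap x).hom.Flat := by
    have := Flat.stalkMap G.hom x
    have e : u.left ≫ H.hom = G.hom := Over.w u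
    rw [e]
    exact this
  exact SmFibPt.flat_stalkMap_of_comp u.left H.hom x (h3 x) h4

end Groth.Agent.Helper16.SurjFlat
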