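import Mathlib
import Groth.Agent.Lib.Helper16.Sch.FFLocus3
import Groth.Agent.Lib.Helper18.StabFib3

/-!
# Triviality of a homomorphism on affine points (helper16)
-/

set_option autoImplicit false
set_option linter.style.haveILetI false
set_option linter.unusedSectionVars false
universe u
open CategoryTheory CategoryTheory.Limits MonoidalCategory CartesianMonoidalCategory MonObj GrpObj
  AlgebraicGeometry

noncomputable section

namespace Groth.Agent.Helper16.TorChar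

open Groth.Agent.Helper18 Groth.Agent.Helper18.MultToGa Groth.Agent.Helper7.MTRig
  Groth.Agent.Helper7.GL Groth.Agent.Helper7.ML Groth.Agent.Helper17.FieldPt
  Groth.Agent.Helper16.FFLocus

variable {S : Scheme.{u}} {G H : Over S} [GrpObj G] [GrpObj H] (u : G ⟶ H)

/-- `u` is trivial on all affine points over `t` -/
def TrivOver {T : Scheme.{u}} (t : T ⟶ S) : Prop :=
  ∀ (C : CommRingCat.{u}) (σ : Spec C ⟶ S), (∃ τ : Spec C ⟶ T, τ ≫ t = σ) →
    ∀ g : Over.mk σ ⟶ G, g ≫ u = 1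

theorem TrivOver.comp {T T' : Scheme.{u}} {t : T ⟶ S} (h : TrivOver u t) (π : T' ⟶ T) :
    TrivOver u (π ≫ t) := by
  intro C σ ⟨τ, hτ⟩
  exact h C σ ⟨τ ≫ π, by rw [Category.assoc, hτ]⟩

/-- descent along a flat surjective morphism -/
theorem TrivOver.descend {T T' : Scheme.{u}} (t : T ⟶ S) (q : T' ⟶ T) [Flat q] [Surjective q]
    (h : TrivOver u (q ≫ t)) : TrivOver u t := by
  intro C σ ⟨τ, hτ⟩ g
  subst hτ
  let p₁ : pullback τ q ⟶ Spec C := pullback.fst τ q
  haveI : Epi p₁ := Flat.epi_of_flat_of_surjective p₁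
  apply Over.OverMorphism.ext
  rw [← cancel_epi p₁]
  apply Groth.Agent.Helper7.Nil.hom_ext_of_local
  intro y
  obtain ⟨D, f, hf, hy, -⟩ :=
    Scheme.exists_affine_mem_range_and_range_subset (U := (⊤ : (pullback τ q).Opens)) (x := y)
      trivial
  refine ⟨D, f, hf, hy, ?_⟩
  let r : Over.mk ((f ≫ p₁) ≫ τ ≫ t) ⟶ Over.mk (τ ≫ t) := Over.homMk (f ≫ p₁) rfl
  have key : r ≫ (g ≫ u) = r ≫ 1 := by
    refine (Category.assoc _ _ _).symm.trans (Eq.trans ?_ (MonObj.comp_one r).symm)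
    apply h D ((f ≫ p₁) ≫ τ ≫ t) ⟨f ≫ pullback.snd τ q, ?_⟩
    show (f ≫ pullback.snd τ q) ≫ q ≫ t = (f ≫ pullback.fst τ q) ≫ τ ≫ t
    have hc := pullback.condition (f := τ) (g := q)
    calc (f ≫ pullback.snd τ q) ≫ q ≫ t = f ≫ (pullback.snd τ q ≫ q) ≫ t := by
          simp only [Category.assoc]
      _ = f ≫ (pullback.fst τ q ≫ τ) ≫ t := by rw [hc]
      _ = (f ≫ pullback.fst τ q) ≫ τ ≫ t := by simp only [Category.assoc]
  have key2 : (f ≫ p₁) ≫ (g ≫ u).left = (f ≫ p₁) ≫ (1 : Over.mk (τ ≫ t) ⟶ H).left :=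
    congrArg (fun k => k.left) key
  exact (Category.assoc _ _ _).symm.trans (key2.trans (Category.assoc _ _ _))

/-- triviality on affine points implies that the base change is the unit homomorphism -/
theorem eq_one_of_trivOver {T : Scheme.{u}} (t : T ⟶ S) (h : TrivOver u t) :
    (Over.pullback t).map u = 1 := by
  apply over_hom_ext
  intro D τ k
  rw [MonObj.comp_one]
  apply dn_injective t H
  rw [dn_map', Groth.Agent.Helper18.StabFib.dn_one]
  exact h D (τ ≫ t) ⟨τ, rfl⟩ (BcPts.dn t G k)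

section Transfer

variable {B : CommRingCat.{u}} (v : Spec B ⟶ S) {M N : Type} [AddCommGroup M] [AddCommGroup N]
  (εG : Red.bc v G ⟶ Red.DS (Spec B) M) (εGi : Red.DS (Spec B) M ⟶ Red.bc v G)
  (εH : Red.bc v H ⟶ Red.DS (Spec B) N) (εHi : Red.DS (Spec B) N ⟶ Red.bc v H)
  (hG1 : εG ≫ εGi = 𝟙 _) (hH1 : εH ≫ εHi = 𝟙 _)

include hG1 hH1 in
theorem trivOver_of_trivOver_psi [IsMonHom εHi] {T : Scheme.{u}} (τ : T ⟶ Spec B)
    (h : TrivOver (psiOf u v εGi εH) τ) : TrivOver u (τ ≫ v) := by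
  intro D σ ⟨τ', hτ'⟩ g
  have hσ : σ = (τ' ≫ τ) ≫ v := by rw [← hτ', Category.assoc]
  subst hσ
  have e1 : (up v G (T := Over.mk (τ' ≫ τ)) g ≫ εG) ≫ psiOf u v εGi εH =
        up v H (T := Over.mk (τ' ≫ τ)) (g ≫ u) ≫ εH := by
    unfold psiOf
    rw [up_map, Category.assoc, ← Category.assoc εG, hG1, Category.id_comp, Category.assoc]
  have h1 := h D (τ' ≫ τ) ⟨τ', rfl⟩ (up v G (T := Over.mk (τ' ≫ τ)) g ≫ εG)
  rw [e1] at h1
  have h2 := congrArg (fun k => k ≫ εHi) h1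
  simp only [Category.assoc, hH1, Category.comp_id] at h2
  rw [MonObj.one_comp] at h2
  have h3 := congrArg (BcPts.dn v H) h2
  rw [dn_up, Groth.Agent.Helper18.StabFib.dn_one] at h3
  exact h3

end Transfer

section Std

variable {B : CommRingCat.{u}} {M N : Type} [AddCommGroup M] [AddCommGroup N]
  (ψ : Red.DS (Spec B) M ⟶ Red.DS (Spec B) N)

theorem pt_one {U : Scheme.{u}} {D : CommRingCat.{u}} (σ : Spec D ⟶ U) :
    pt σ (1 : Multiplicative N →* D) = 1 := by
  apply DSPts.charOfPt_injective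
  rw [charOfPt_pt, DSPts.charOfPt_one]
  ext n
  simp

theorem trivOver_of_std_one {C : CommRingCat.{u}} (θ : B ⟶ C) (h : Std ψ θ 1) :
    TrivOver ψ (Spec.map θ) := by
  intro D σ ⟨τ, hτ⟩ g
  rw [← pt_char σ g, pt_psi_of_std ψ θ 1 h σ τ hτ]
  have : (((Scheme.ΓSpecIso D).hom.hom : Γ(Spec D, ⊤) →* D).comp (DSPts.charOfPt g)).comp
      (1 : Multiplicative N →* Multiplicative M) = 1 := by
    ext n
    simp
  rw [this, pt_one]

end Std

end Groth.Agent.Helper16.TorChar
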