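import Mathlib
import Groth.Agent.Lib.Helper16.Sch.TorChar1

/-!
# A character of a torus is faithfully flat iff it is nontrivial on geometric fibres (helper16)
-/

set_option autoImplicit false
set_option linter.style.haveILetI false
set_option linter.unusedSectionVars false
universe u
open CategoryTheory CategoryTheory.Limits MonoidalCategory CartesianMonoidalCategory MonObj GrpObj
  AlgebraicGeometry

noncomputable section

namespace Groth.Agent.Helper16.TorChar

open Groth.Agent.Helper18 Groth.Agent.Helper18.MultToGa Groth.Agent.Helper7.MTRig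
  Groth.Agent.Helper7.GL Groth.Agent.Helper7.ML Groth.Agent.Helper17.FieldPt
  Groth.Agent.Helper16.FFLocus Groth.Agent.Helper16.DSmapFF

theorem fg_int : AddGroup.FG ℤ := by
  haveI : Module.Finite ℤ ℤ := inferInstance
  exact AddGroup.fg_iff_addMonoid_fg.2 (AddMonoid.fg_of_addGroup_fg) 

theorem eq_one_of_not_injective {r : ℕ} (φ : Multiplicative ℤ →* Multiplicative (Fin r → ℤ))
    (h : ¬ Function.Injective φ) : φ = 1 := by
  let φa : ℤ →+ (Fin r → ℤ) := MonoidHom.toAdditive φ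
  have h' : ¬ Function.Injective φa := h
  rw [injective_iff_map_eq_zero] at h'
  push_neg at h'
  obtain ⟨n, hn, hn0⟩ := h'
  have h1 : n • φa 1 = 0 := by
    rw [← map_zsmul, smul_eq_mul, _root_.mul_one]; exact hn
  have h2 : φa 1 = 0 := (smul_eq_zero.1 h1).resolve_left hn0
  have h3 : φa = 0 := by
    apply AddMonoidHom.ext_int
    simpa using h2
  have h4 : AddMonoidHom.toMultiplicative φa = 1 := by rw [h3]; rfl
  exact h4

variable {S : Scheme.{u}}

theorem isMultTypeFT_of_isTorus (T : Over S) [GrpObj T] (hT : Red.IsTorus T) :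
    SGA3x.IsMultTypeFT T := by
  obtain ⟨S', f, hfl, hsurj, hqc, hloc⟩ := hT
  refine ⟨S', f, hfl, hsurj, hqc, ?_⟩
  intro s'
  obtain ⟨U, hU, r, he⟩ := hloc s'
  refine ⟨U, hU, Fin r → ℤ, inferInstance, ?_, he⟩
  haveI : Module.Finite ℤ (Fin r → ℤ) := inferInstance
  exact AddGroup.fg_iff_addMonoid_fg.2 (AddMonoid.fg_of_addGroup_fg)

theorem isMultTypeFT_Gm : SGA3x.IsMultTypeFT (Red.Gm S) := by
  refine ⟨S, 𝟙 _, inferInstance, inferInstance, ?_, ?_⟩
  · intro V hV
    refine ⟨V, hV.isCompact, ?_⟩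
    simp
  · intro s'
    exact ⟨⊤, trivial, ℤ, inferInstance, fg_int, nonempty_bc_DS _ ℤ⟩

variable {T : Over S} [GrpObj T] (α : T ⟶ Red.Gm S) [IsMonHom α]

/-- (P3 ⇒ P2) a faithfully flat character is nontrivial after any nonempty base change -/
theorem ne_one_of_ff (h : FF α.left) {S' : Scheme.{u}} (g : S' ⟶ S) (hne : Nonempty ↥S') :
    (Over.pullback g).map α ≠ 1 := by
  intro h1
  have hff : FF ((Over.pullback g).map α).left :=
    MorphismProperty.of_isPullback (isPullback_overPullback_map g α).flip h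
  haveI : Flat ((Over.pullback g).map α).left := hff.1
  haveI : Surjective ((Over.pullback g).map α).left := hff.2
  haveI : Epi ((Over.pullback g).map α).left := Flat.epi_of_flat_of_surjective _
  haveI : Epi ((Over.pullback g).map α) := Over.epi_of_epi_left _
  have e1 : (Over.pullback g).map α ≫ 𝟙 _ = (Over.pullback g).map α ≫ 1 := by
    rw [Category.comp_id, MonObj.comp_one]; exact h1
  have e2 : (𝟙 (Red.bc g (Red.Gm S))) = 1 := (cancel_epi _).1 e1
  obtain ⟨s'⟩ := hne
  let κ : CommRingCat.{u} := S'.residueField s'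
  let D : CommRingCat.{u} := CommRingCat.of (MonoidAlgebra κ (Multiplicative ℤ))
  let ρ : κ ⟶ D := ιA κ (Multiplicative ℤ)
  let τ : Spec D ⟶ S' := Spec.map ρ ≫ S'.fromSpecResidueField s'
  let χ : Multiplicative ℤ →* D := MonoidAlgebra.of κ (Multiplicative ℤ)
  have hk : ∀ k : Over.mk τ ⟶ Red.bc g (Red.Gm S), k = 1 := by
    intro k
    calc k = k ≫ 𝟙 _ := (Category.comp_id k).symm
      _ = k ≫ 1 := by rw [e2]
      _ = 1 := MonObj.comp_one k
  have h12 : up g (Red.Gm S) (T := Over.mk τ) (pt (τ ≫ g) χ) =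
      up g (Red.Gm S) (T := Over.mk τ) (pt (τ ≫ g) 1) := (hk _).trans (hk _).symm
  have h3 := congrArg (BcPts.dn g (Red.Gm S)) h12
  rw [dn_up, dn_up] at h3
  have hχ : χ = 1 := pt_injective _ h3
  have h4 : MonoidAlgebra.of κ (Multiplicative ℤ) (Multiplicative.ofAdd 1) =
      MonoidAlgebra.of κ (Multiplicative ℤ) 1 := by
    have := congrArg (fun c => c (Multiplicative.ofAdd 1)) hχ
    exact this.trans (map_one (MonoidAlgebra.of κ (Multiplicative ℤ))).symm
  have h5 := MonoidAlgebra.of_injective h4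
  have h6 : (1 : ℤ) = 0 := h5
  exact one_ne_zero h6

/-- over a field-valued point, a character of a torus is either faithfully flat or trivial -/
theorem ffOver_of_ne_one (hT : Red.IsTorus T) (K : Type u) [Field K]
    (b : Spec (CommRingCat.of K) ⟶ S) (hne : (Over.pullback b).map α ≠ 1) : FFOver α b := by
  obtain ⟨S', f, hfl, hsurj, hqc, hloc⟩ := hT
  haveI := hfl
  let x0 : Spec (CommRingCat.of K) := IsLocalRing.closedPoint K
  obtain ⟨s', hs'⟩ := hsurj.surj (b x0)
  obtain ⟨U, hs'U, r, he⟩ := hloc s'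
  obtain ⟨z, hz1, -⟩ := Scheme.Pullback.exists_preimage_pullback (f := b) (g := U.ι ≫ f) x0
    (⟨s', hs'U⟩ : U) hs'.symm
  obtain ⟨B, j, hj, ⟨y, hy⟩, -⟩ :=
    Scheme.exists_affine_mem_range_and_range_subset (U := (⊤ : (pullback b (U.ι ≫ f)).Opens))
      (x := z) trivial
  haveI := hj
  let w : Spec B ⟶ Spec (CommRingCat.of K) := j ≫ pullback.fst b (U.ι ≫ f)
  let π : Spec B ⟶ U := j ≫ pullback.snd b (U.ι ≫ f)
  have hv : π ≫ (U.ι ≫ f) = w ≫ b := by
    show (j ≫ pullback.snd b (U.ι ≫ f)) ≫ (U.ι ≫ f) = (j ≫ pullback.fst b (U.ι ≫ f)) ≫ b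
    rw [Category.assoc, Category.assoc, pullback.condition]
  obtain ⟨isoG⟩ := Groth.Agent.Helper7.TwoGrp.nonempty_triv_bc (g := U.ι ≫ f) π (w ≫ b) hv T
    (Fin r → ℤ) he
  obtain ⟨isoH⟩ := nonempty_bc_DS (w ≫ b) ℤ
  have hG1 : isoG.hom.hom.hom ≫ isoG.inv.hom.hom = 𝟙 _ := by
    have := congrArg (fun k => k.hom.hom) isoG.hom_inv_id
    exact this
  have hG2 : isoG.inv.hom.hom ≫ isoG.hom.hom.hom = 𝟙 _ := by
    have := congrArg (fun k => k.hom.hom) isoG.inv_hom_id
    exact this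
  have hH1 : isoH.hom.hom.hom ≫ isoH.inv.hom.hom = 𝟙 _ := by
    have := congrArg (fun k => k.hom.hom) isoH.hom_inv_id
    exact this
  have hH2 : isoH.inv.hom.hom ≫ isoH.hom.hom.hom = 𝟙 _ := by
    have := congrArg (fun k => k.hom.hom) isoH.inv_hom_id
    exact this
  haveI : IsMonHom ((Over.pullback (w ≫ b)).map α) := isMonHom_map α (w ≫ b)
  haveI : IsMonHom isoG.inv.hom.hom := inferInstance
  haveI : IsMonHom isoH.hom.hom.hom := inferInstance
  haveI : IsMonHom isoH.inv.hom.hom := inferInstance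
  haveI : IsMonHom (psiOf α (w ≫ b) isoG.inv.hom.hom isoH.hom.hom.hom) := by
    show IsMonHom (isoG.inv.hom.hom ≫ (Over.pullback (w ≫ b)).map α ≫ isoH.hom.hom.hom)
    infer_instance
  haveI : IsIso isoG.inv.hom.hom := ⟨isoG.hom.hom.hom, hG2, hG1⟩
  haveI : IsIso isoH.hom.hom.hom := ⟨isoH.inv.hom.hom, hH1, hH2⟩
  obtain ⟨e, φ, he', hey, hstd⟩ :=
    exists_idem_std (psiOf α (w ≫ b) isoG.inv.hom.hom isoH.hom.hom.hom) fg_int y
  obtain ⟨C, θ, hoi, ⟨y₀, hy₀⟩, hθe⟩ := exists_openImm_of_idem e he' y hey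
  haveI := hoi
  let w' : Spec C ⟶ Spec (CommRingCat.of K) := Spec.map θ ≫ w
  haveI : Flat w' := by
    show Flat (Spec.map θ ≫ j ≫ pullback.fst b (U.ι ≫ f))
    infer_instance
  haveI : Surjective w' := by
    constructor
    intro x
    exact ⟨y₀, Subsingleton.elim _ _⟩
  have hw' : w' ≫ b = Spec.map θ ≫ (w ≫ b) := Category.assoc _ _ _
  by_cases hφ : Function.Injective φ
  · have h3 : FFOver (psiOf α (w ≫ b) isoG.inv.hom.hom isoH.hom.hom.hom) (Spec.map θ) :=
      ffOver_of_std _ θ φ (hstd _ θ hθe) hφ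
    have h2 : FFOver α (Spec.map θ ≫ (w ≫ b)) :=
      (ffOver_psi_iff α (w ≫ b) isoG.inv.hom.hom isoH.hom.hom.hom (Spec.map θ)).1 h3
    rw [← hw'] at h2
    exact FFOver.descend α b w' h2
  · exfalso
    apply hne
    have hφ1 : φ = 1 := eq_one_of_not_injective φ hφ
    have hs := hstd _ θ hθe
    rw [hφ1] at hs
    have h3 : TrivOver (psiOf α (w ≫ b) isoG.inv.hom.hom isoH.hom.hom.hom) (Spec.map θ) :=
      trivOver_of_std_one _ θ hs
    have h2 : TrivOver α (Spec.map θ ≫ (w ≫ b)) :=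
      trivOver_of_trivOver_psi α (w ≫ b) isoG.hom.hom.hom isoG.inv.hom.hom isoH.hom.hom.hom
        isoH.inv.hom.hom hG1 hH1 (Spec.map θ) h3
    rw [← hw'] at h2
    exact eq_one_of_trivOver α b (TrivOver.descend α b w' h2)

theorem geomPt_closedPoint (s : S) :
    (Red.geomPt s) (IsLocalRing.closedPoint (AlgebraicClosure (S.residueField s))) = s := by
  show (Spec.map _ ≫ S.fromSpecResidueField s) _ = s
  rw [Scheme.Hom.comp_apply, Scheme.fromSpecResidueField_apply]

/-- (P1 ⇒ P3) -/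
theorem ff_of_forall_ne_one (hT : Red.IsTorus T)
    (h : ∀ s : S, (Over.pullback (Red.geomPt s)).map α ≠ 1) : FF α.left := by
  obtain ⟨U, -, hU, hUff⟩ := Groth.Agent.Helper16.FFLocus.main α (isMultTypeFT_of_isTorus T hT)
    isMultTypeFT_Gm
  have hall : ∀ s : S, s ∈ U := by
    intro s
    rw [hU s, ← ffOver_iff]
    have h1 : FFOver α (Red.geomPt s) :=
      ffOver_of_ne_one α hT (AlgebraicClosure (S.residueField s)) (Red.geomPt s) (h s)
    obtain ⟨q, hqf, hqs, hq⟩ := exists_fac_of_field (AlgebraicClosure (S.residueField s))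
      (Red.geomPt s) s (geomPt_closedPoint s)
    rw [← hq] at h1
    exact FFOver.descend α _ q h1
  have hUtop : U = ⊤ := by
    ext s
    simp [hall s]
  have h2 : FFOver α U.ι := (ffOver_iff α U.ι).2 hUff
  haveI : Surjective U.ι := by
    constructor
    intro s
    exact ⟨⟨s, hall s⟩, rfl⟩
  have h3 : FFOver α (𝟙 S) := by
    apply FFOver.descend α (𝟙 S) U.ι
    rw [Category.comp_id]
    exact h2
  have hpb := isPullback_overPullback_map (𝟙 S) α
  haveI : IsIso (pullback.fst T.hom (𝟙 S)) := inferInstance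
  haveI : IsIso (pullback.fst (Red.Gm S).hom (𝟙 S)) := inferInstance
  have h4 : FF (((Over.pullback (𝟙 S)).map α).left ≫ pullback.fst (Red.Gm S).hom (𝟙 S)) := by
    rw [FF.cancel_right_of_respectsIso]
    exact h3
  rw [hpb.w, FF.cancel_left_of_respectsIso] at h4
  exact h4

theorem main (hT : Red.IsTorus T) :
    ((∀ s : S, (Over.pullback (Red.geomPt s)).map α ≠ 1) ↔
      (∀ (S' : Scheme.{u}) (g : S' ⟶ S), Nonempty ↥S' → (Over.pullback g).map α ≠ 1)) ∧
    ((∀ s : S, (Over.pullback (Red.geomPt s)).map α ≠ 1) ↔ (Flat α.left ∧ Surjective α.left)) := by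
  refine ⟨⟨fun h1 S' g hne => ne_one_of_ff α (ff_of_forall_ne_one α hT h1) g hne,
    fun h2 s => h2 _ (Red.geomPt s) inferInstance⟩,
    ⟨fun h1 => ff_of_forall_ne_one α hT h1, fun h3 s => ne_one_of_ff α h3 (Red.geomPt s) inferInstance⟩⟩

end Groth.Agent.Helper16.TorChar
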