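import Mathlib
import Groth.Prelude
import Groth.Agent.Lib.Lead.EmbPts

/-!
# Torsion and torsion-free quasi-coherent modules on locally integral, locally Noetherian schemes
(helper16)
-/

set_option autoImplicit false
set_option linter.style.haveILetI false
set_option linter.unusedSectionVars false
universe u

open AlgebraicGeometry CategoryTheory Limits IsLocalRing TopologicalSpace

namespace Groth.Agent.Helper16.TorsFib

open Groth.Agent.Helper13.QCoh Groth.Agent.Helper13.FinType Groth.Agent.Helper13.QCohLoc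
  Groth.Agent.Helper13.LocFree Groth.Agent.Helper13.FlatOver Groth.Agent.Lead.EmbPts

section Alg

/-- a local domain of dimension zero has zero maximal ideal. -/
theorem maximalIdeal_eq_bot_of_dim_zero {R : Type*} [CommRing R] [IsLocalRing R] [IsDomain R]
    (h : ringKrullDim R = 0) : maximalIdeal R = ⊥ := by
  haveI : Ring.KrullDimLE 0 R := (Ring.krullDimLE_iff).mpr (le_of_eq h)
  have hf : IsField R := by
    have := Ring.KrullDimLE.isField_of_isDomain (R := R)
    exact this
  exact IsLocalRing.isField_iff_maximalIdeal_eq.mp hf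

theorem dim_zero_of_maximalIdeal_eq_bot {R : Type*} [CommRing R] [IsLocalRing R]
    (h : maximalIdeal R = ⊥) : ringKrullDim R = 0 :=
  ringKrullDim_eq_zero_of_isField (IsLocalRing.isField_iff_maximalIdeal_eq.mpr h)

end Alg

variable {W : Scheme.{u}} (G : W.Modules) [G.IsQuasicoherent]

/-- **Torsion-freeness**: on a locally Noetherian scheme with integral local rings, all stalks of
`G` are torsion-free iff every associated point of `G` has a local ring of dimension zero. -/
theorem forall_torsion_eq_bot_iff [IsLocallyNoetherian W]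
    (hdom : ∀ w : W, IsDomain (W.presheaf.stalk w)) :
    (∀ w : W, Submodule.torsion (W.presheaf.stalk w) (G.presheaf.stalk w) = ⊥) ↔
      ∀ ξ : W, Curv2.IsAssPoint G ξ → ringKrullDim (W.presheaf.stalk ξ) = 0 := by
  constructor
  · intro H ξ hξ
    haveI := hdom ξ
    apply dim_zero_of_maximalIdeal_eq_bot
    by_contra hne
    obtain ⟨a, ha, ha0⟩ := Submodule.exists_mem_ne_zero_of_ne_bot hne
    obtain ⟨hprime, m, hm⟩ := hξ
    have ham : a ∈ (Submodule.colon (⊥ : Submodule (W.presheaf.stalk ξ) (G.presheaf.stalk ξ))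
        {m}).radical := hm ▸ ha
    obtain ⟨n, hn⟩ := ham
    rw [Submodule.mem_colon_singleton, Submodule.mem_bot] at hn
    have hmt : m ∈ Submodule.torsion (W.presheaf.stalk ξ) (G.presheaf.stalk ξ) := by
      rw [Submodule.mem_torsion_iff]
      exact ⟨⟨a ^ n, mem_nonZeroDivisors_of_ne_zero (pow_ne_zero n ha0)⟩, hn⟩
    rw [H ξ, Submodule.mem_bot] at hmt
    have : (Submodule.colon (⊥ : Submodule (W.presheaf.stalk ξ) (G.presheaf.stalk ξ))
        {m}).radical = ⊤ := by
      rw [Ideal.radical_eq_top, Ideal.eq_top_iff_one, Submodule.mem_colon_singleton, hmt,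
        smul_zero]
      exact Submodule.mem_bot _ |>.mpr rfl
    rw [this] at hm
    exact hprime.ne_top hm
  · intro H w
    haveI := hdom w
    rw [eq_bot_iff]
    intro m hm
    rw [Submodule.mem_bot]
    by_contra hm0
    rw [Submodule.mem_torsion_iff] at hm
    obtain ⟨⟨a, ha⟩, ham⟩ := hm
    have ha0 : a ≠ 0 := nonZeroDivisors.ne_zero ha
    change a • m = 0 at ham
    -- an affine chart
    obtain ⟨_, ⟨V, hV, rfl⟩, hwV, -⟩ :=
      W.isBasis_affineOpens.exists_subset_of_mem_open (Set.mem_univ w) isOpen_univ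
    have hV : IsAffineOpen V := hV
    haveI : IsNoetherianRing Γ(W, V) := IsLocallyNoetherian.component_noetherian ⟨V, hV⟩
    haveI : IsNoetherianRing (W.presheaf.stalk w) := inferInstance
    obtain ⟨w', rfl⟩ : ∃ w' : V, (w' : W) = w := ⟨⟨w, hwV⟩, rfl⟩
    obtain ⟨𝔮, h𝔮, hle⟩ := exists_le_isAssociatedPrime_of_isNoetherianRing
      (W.presheaf.stalk (w' : W)) m hm0
    have ha𝔮 : a ∈ 𝔮 := hle (by
      rw [Submodule.mem_colon_singleton, Submodule.mem_bot]
      exact ham)
    haveI hlocw : IsLocalization.AtPrime (W.presheaf.stalk (w' : W))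
        (hV.primeIdealOf w').asIdeal := hV.isLocalization_stalk w'
    have h1 := comap_mem_associatedPrimes_sections G hV w' 𝔮 h𝔮
    obtain ⟨q, hq⟩ : ∃ q : Ideal Γ(W, V),
        q = 𝔮.comap (algebraMap Γ(W, V) (W.presheaf.stalk (w' : W))) := ⟨_, rfl⟩
    rw [← hq] at h1
    have hqp : q.IsPrime := h1.isPrime
    have hyV0 : hV.fromSpec (⟨q, hqp⟩ : PrimeSpectrum Γ(W, V)) ∈ V := by
      have : hV.fromSpec (⟨q, hqp⟩ : PrimeSpectrum Γ(W, V)) ∈ hV.fromSpec.opensRange := ⟨_, rfl⟩
      rwa [hV.opensRange_fromSpec] at this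
    have hprime : hV.primeIdealOf ⟨_, hyV0⟩ = ⟨q, hqp⟩ := primeIdealOf_fromSpec' hV _ _
    have hass : Curv2.IsAssPoint G (hV.fromSpec (⟨q, hqp⟩ : PrimeSpectrum Γ(W, V))) :=
      Groth.Agent.Lead.IsoDepth.isAssPoint_of_isAssociatedPrime G hV ⟨_, hyV0⟩
        (by rw [hprime]; exact h1)
    have hdim := H _ hass
    obtain ⟨ξ, hξ⟩ : ∃ ξ : V, ξ = (⟨hV.fromSpec (⟨q, hqp⟩ : PrimeSpectrum Γ(W, V)), hyV0⟩ : V) :=
      ⟨_, rfl⟩
    rw [← hξ] at hprime
    have hdim' : ringKrullDim (W.presheaf.stalk (ξ : W)) = 0 := by rw [hξ]; exact hdim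
    haveI := hdom (ξ : W)
    have hmax := maximalIdeal_eq_bot_of_dim_zero hdim'
    haveI hlocξ : IsLocalization.AtPrime (W.presheaf.stalk (ξ : W)) q := by
      have := hV.isLocalization_stalk ξ
      rw [hprime] at this
      exact this
    -- write `a = a' / t`
    obtain ⟨⟨a', t⟩, hat⟩ := IsLocalization.surj (hV.primeIdealOf w').asIdeal.primeCompl a
    simp only at hat
    have ha'𝔮 : algebraMap Γ(W, V) (W.presheaf.stalk (w' : W)) a' ∈ 𝔮 := by
      rw [← hat]
      exact Ideal.mul_mem_right _ _ ha𝔮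
    have ha'q : a' ∈ q := by
      rw [hq]
      exact ha'𝔮
    have ha'0 : algebraMap Γ(W, V) (W.presheaf.stalk (w' : W)) a' ≠ 0 := by
      rw [← hat]
      refine mul_ne_zero ha0 ?_
      have hu := IsLocalization.map_units (W.presheaf.stalk (w' : W)) t
      exact hu.ne_zero
    -- `a'` dies in the local ring at `ξ`
    have h0 : algebraMap Γ(W, V) (W.presheaf.stalk (ξ : W)) a' = 0 := by
      have : algebraMap Γ(W, V) (W.presheaf.stalk (ξ : W)) a' ∈
          maximalIdeal (W.presheaf.stalk (ξ : W)) := by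
        rw [← IsLocalization.AtPrime.map_eq_maximalIdeal q (W.presheaf.stalk (ξ : W))]
        exact Ideal.mem_map_of_mem _ ha'q
      rw [hmax] at this
      exact this
    obtain ⟨⟨b, hb⟩, hba⟩ := (IsLocalization.map_eq_zero_iff q.primeCompl
      (W.presheaf.stalk (ξ : W)) a').mp h0
    simp only at hba
    have hb0 : algebraMap Γ(W, V) (W.presheaf.stalk (w' : W)) b = 0 := by
      have h2 : algebraMap Γ(W, V) (W.presheaf.stalk (w' : W)) b *
          algebraMap Γ(W, V) (W.presheaf.stalk (w' : W)) a' = 0 := by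
        rw [← map_mul, hba, map_zero]
      rcases mul_eq_zero.mp h2 with h | h
      · exact h
      · exact absurd h ha'0
    apply hb
    rw [hq]
    change algebraMap Γ(W, V) (W.presheaf.stalk (w' : W)) b ∈ 𝔮
    rw [hb0]
    exact Ideal.zero_mem _

/-- **Torsion**: on a locally Noetherian scheme with integral local rings, all stalks of `G` are
torsion iff the stalks of `G` at the points with zero-dimensional local rings vanish. -/
theorem forall_torsion_eq_top_iff
    (hdom : ∀ w : W, IsDomain (W.presheaf.stalk w)) :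
    (∀ w : W, Submodule.torsion (W.presheaf.stalk w) (G.presheaf.stalk w) = ⊤) ↔
      ∀ ξ : W, ringKrullDim (W.presheaf.stalk ξ) = 0 → Subsingleton (G.presheaf.stalk ξ) := by
  constructor
  · intro H ξ hξ
    haveI := hdom ξ
    have hmax := maximalIdeal_eq_bot_of_dim_zero hξ
    have hf : IsField (W.presheaf.stalk ξ) := IsLocalRing.isField_iff_maximalIdeal_eq.mpr hmax
    refine ⟨fun m m' => ?_⟩
    have key : ∀ m : G.presheaf.stalk ξ, m = 0 := by
      intro m
      have hm : m ∈ Submodule.torsion (W.presheaf.stalk ξ) (G.presheaf.stalk ξ) := by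
        rw [H ξ]; trivial
      rw [Submodule.mem_torsion_iff] at hm
      obtain ⟨⟨a, ha⟩, ham⟩ := hm
      change a • m = 0 at ham
      obtain ⟨b, hb⟩ := hf.mul_inv_cancel (nonZeroDivisors.ne_zero ha)
      calc m = (b * a) • m := by rw [mul_comm, hb, one_smul]
        _ = b • a • m := mul_smul _ _ _
        _ = 0 := by rw [ham, smul_zero]
    rw [key m, key m']
  · intro H w
    haveI := hdom w
    rw [eq_top_iff]
    intro m _
    obtain ⟨_, ⟨V, hV, rfl⟩, hwV, -⟩ :=
      W.isBasis_affineOpens.exists_subset_of_mem_open (Set.mem_univ w) isOpen_univ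
    have hV : IsAffineOpen V := hV
    obtain ⟨w', rfl⟩ : ∃ w' : V, (w' : W) = w := ⟨⟨w, hwV⟩, rfl⟩
    haveI hlocw : IsLocalization.AtPrime (W.presheaf.stalk (w' : W))
        (hV.primeIdealOf w').asIdeal := hV.isLocalization_stalk w'
    -- the generic point of the component through `w`
    obtain ⟨q, hq⟩ : ∃ q : Ideal Γ(W, V),
        q = (⊥ : Ideal (W.presheaf.stalk (w' : W))).comap
          (algebraMap Γ(W, V) (W.presheaf.stalk (w' : W))) := ⟨_, rfl⟩
    have hqp : q.IsPrime := by
      rw [hq]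
      exact Ideal.comap_isPrime _ _
    have hqle : q ≤ (hV.primeIdealOf w').asIdeal := by
      rw [← comap_maximalIdeal_stalk hV w', hq]
      exact Ideal.comap_mono bot_le
    have hyV0 : hV.fromSpec (⟨q, hqp⟩ : PrimeSpectrum Γ(W, V)) ∈ V := by
      have : hV.fromSpec (⟨q, hqp⟩ : PrimeSpectrum Γ(W, V)) ∈ hV.fromSpec.opensRange := ⟨_, rfl⟩
      rwa [hV.opensRange_fromSpec] at this
    have hprime : hV.primeIdealOf ⟨_, hyV0⟩ = ⟨q, hqp⟩ := primeIdealOf_fromSpec' hV _ _
    obtain ⟨ξ, hξ⟩ : ∃ ξ : V, ξ = (⟨hV.fromSpec (⟨q, hqp⟩ : PrimeSpectrum Γ(W, V)), hyV0⟩ : V) :=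
      ⟨_, rfl⟩
    rw [← hξ] at hprime
    haveI := hdom (ξ : W)
    haveI hlocξ : IsLocalization.AtPrime (W.presheaf.stalk (ξ : W)) q := by
      have := hV.isLocalization_stalk ξ
      rw [hprime] at this
      exact this
    -- the maximal ideal at `ξ` vanishes
    have hmax : maximalIdeal (W.presheaf.stalk (ξ : W)) = ⊥ := by
      rw [← IsLocalization.AtPrime.map_eq_maximalIdeal q (W.presheaf.stalk (ξ : W)), eq_bot_iff,
        Ideal.map_le_iff_le_comap]
      intro x hx
      rw [Ideal.mem_comap, Ideal.mem_bot]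
      have hx0 : algebraMap Γ(W, V) (W.presheaf.stalk (w' : W)) x = 0 := by
        rw [hq] at hx
        exact hx
      obtain ⟨⟨t, ht⟩, htx⟩ := (IsLocalization.map_eq_zero_iff
        (hV.primeIdealOf w').asIdeal.primeCompl (W.presheaf.stalk (w' : W)) x).mp hx0
      simp only at htx
      refine (IsLocalization.map_eq_zero_iff q.primeCompl (W.presheaf.stalk (ξ : W)) x).mpr
        ⟨⟨t, fun htq => ht (hqle htq)⟩, htx⟩
    haveI := H (ξ : W) (dim_zero_of_maximalIdeal_eq_bot hmax)
    -- localized module structures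
    letI := modStalk G w'
    haveI := isScalarTower_stalk G w'
    haveI hlmw : IsLocalizedModule (hV.primeIdealOf w').asIdeal.primeCompl
        (germLin G w') := isLocalizedModule_germ G hV w'
    letI := modStalk G ξ
    haveI := isScalarTower_stalk G ξ
    haveI hlmξ : IsLocalizedModule q.primeCompl (germLin G ξ) := by
      have := isLocalizedModule_germ G hV ξ
      rw [hprime] at this
      exact this
    obtain ⟨⟨m', t⟩, hmt⟩ := IsLocalizedModule.surj
      (hV.primeIdealOf w').asIdeal.primeCompl (germLin G w') m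
    have h0 : germLin G ξ m' = 0 := Subsingleton.elim _ _
    obtain ⟨⟨b, hb⟩, hbm⟩ := (IsLocalizedModule.eq_zero_iff q.primeCompl
      (germLin G ξ)).mp h0
    have hbm' : b • m' = 0 := hbm
    -- `b * t` is a nonzero element killing `m`
    rw [Submodule.mem_torsion_iff]
    have hbt0 : algebraMap Γ(W, V) (W.presheaf.stalk (w' : W)) (b * (t : Γ(W, V))) ≠ 0 := by
      intro h
      rw [map_mul] at h
      rcases mul_eq_zero.mp h with h | h
      · apply hb
        rw [hq]
        change algebraMap Γ(W, V) (W.presheaf.stalk (w' : W)) b ∈ (⊥ : Ideal _)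
        rw [h]
        exact Ideal.zero_mem _
      · exact (IsLocalization.map_units (W.presheaf.stalk (w' : W)) t).ne_zero h
    refine ⟨⟨algebraMap Γ(W, V) (W.presheaf.stalk (w' : W)) (b * (t : Γ(W, V))),
      mem_nonZeroDivisors_of_ne_zero hbt0⟩, ?_⟩
    change algebraMap Γ(W, V) (W.presheaf.stalk (w' : W)) (b * (t : Γ(W, V))) • m = 0
    rw [algebraMap_smul, mul_smul]
    have : (t : Γ(W, V)) • m = germLin G w' m' := hmt
    rw [this, ← map_smul, hbm', map_zero]

end Groth.Agent.Helper16.TorsFib
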