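import Mathlib
import Groth.Prelude
import Groth.Agent.Lib.Helper16.Sch.TorsFib1
import Groth.Agent.Lib.Helper16.Sch.RelAss4
import Groth.Agent.Lib.Helper16.Sch.RelAss2
import Groth.Agent.Lib.Helper16.Sch.ConsFD2
import Groth.Agent.Lib.Helper16.Sch.FibMod8
import Groth.Agent.Lib.Helper15.AlgSpFinLocFree

/-!
# Local constructibility of the loci where the fibre modules are torsion / torsion-free (helper16)
-/

set_option autoImplicit false
set_option linter.style.haveILetI false
set_option linter.unusedSectionVars false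
universe u

open AlgebraicGeometry CategoryTheory Limits IsLocalRing TopologicalSpace Topology

namespace Groth.Agent.Helper16.TorsFib

open Groth.Agent.Helper16.FibStalk Groth.Agent.Helper16.FibMod Groth.Agent.Helper16.FibModAlg
open Groth.Agent.Helper16.SmCd Groth.Agent.Helper16.FTDim Groth.Agent.Helper16.EquiSk
open Groth.Agent.Helper16.ModLoci Groth.Agent.Helper16.RelAss

variable {X S : Scheme.{u}} (f : X ⟶ S) (ℱ : X.Modules)

section Pointwise

variable [LocallyOfFiniteType f] [ℱ.IsQuasicoherent] (hF : CohB1.IsFP ℱ)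

include hF

/-- vanishing of the stalk of the fibre module. -/
theorem subsingleton_stalk_fibre_iff (s : S) (ξ : f.fiber s) :
    Subsingleton (((Scheme.Modules.pullback (f.fiberι s)).obj ℱ).presheaf.stalk ξ) ↔
      f.fiberι s ξ ∉ CohB1.support ℱ := by
  haveI := finite_stalk_of_isFP ℱ hF (f.fiberι s ξ)
  obtain ⟨h1, -⟩ := bridge1 f ℱ s ξ
  rw [← cdim_ne_bot_iff f ℱ hF, not_not]
  unfold cdim
  rw [← h1]
  haveI : Module.Finite ((f.fiber s).presheaf.stalk ξ)
      (((Scheme.Modules.pullback (f.fiberι s)).obj ℱ).presheaf.stalk ξ) :=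
    finite_stalk_pullback (f.fiberι s) ℱ (finite_stalk_of_isFP ℱ hF) ξ
  constructor
  · intro h
    exact Module.supportDim_eq_bot_of_subsingleton _ _
  · intro h
    by_contra hne
    rw [not_subsingleton_iff_nontrivial] at hne
    exact (Module.supportDim_ne_bot_iff_nontrivial _ _).mpr hne h

/-- **torsion fibre modules, pointwise.** -/
theorem forall_torsion_top_fibre_iff (s : S)
    (hdom : ∀ x : f.fiber s, IsDomain ((f.fiber s).presheaf.stalk x)) :
    (∀ x : f.fiber s, Submodule.torsion ((f.fiber s).presheaf.stalk x)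
      (((Scheme.Modules.pullback (f.fiberι s)).obj ℱ).presheaf.stalk x) = ⊤) ↔
      ∀ z : X, f z = s → fdim f z = 0 → z ∉ CohB1.support ℱ := by
  rw [forall_torsion_eq_top_iff _ hdom]
  constructor
  · intro H z hz hdim
    subst hz
    have := H (f.asFiber z) (by rw [← fdim_fiberι, f.fiberι_asFiber]; exact hdim)
    rw [subsingleton_stalk_fibre_iff f ℱ hF, f.fiberι_asFiber] at this
    exact this
  · intro H ξ hξ
    rw [subsingleton_stalk_fibre_iff f ℱ hF]
    exact H _ (apply_fiberι f s ξ) (by rw [fdim_fiberι]; exact hξ)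

/-- **torsion-free fibre modules, pointwise.** -/
theorem forall_torsion_bot_fibre_iff (s : S)
    (hdom : ∀ x : f.fiber s, IsDomain ((f.fiber s).presheaf.stalk x)) :
    (∀ x : f.fiber s, Submodule.torsion ((f.fiber s).presheaf.stalk x)
      (((Scheme.Modules.pullback (f.fiberι s)).obj ℱ).presheaf.stalk x) = ⊥) ↔
      ∀ z : X, f z = s → cdepth f ℱ z = 0 → fdim f z = 0 := by
  haveI := Groth.Agent.Helper16.RelAss.isLocallyNoetherian_fiber f s
  rw [forall_torsion_eq_bot_iff _ hdom]
  constructor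
  · intro H z hz hdep
    subst hz
    have := H (f.asFiber z) (by
      rw [isAssPoint_asFiber_iff, mem_relAss_iff f ℱ hF]
      exact hdep)
    rw [← fdim_fiberι, f.fiberι_asFiber] at this
    exact this
  · intro H ξ hξ
    rw [isAssPoint_fibre_iff, mem_relAss_iff f ℱ hF] at hξ
    rw [← fdim_fiberι]
    exact H _ (apply_fiberι f s ξ) hξ

end Pointwise

section Cons

variable [LocallyOfFinitePresentation f] (hF : CohB1.IsFP ℱ)

include hF

theorem fdim_nat (z : X) : ∃ n : ℕ, fdim f z = (n : WithBot ℕ∞) := by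
  haveI := isNoetherianRing_fiber_stalk f (f z) (f.asFiber z)
  have h1 : fdim f z ≠ ⊤ := ringKrullDim_ne_top
  have h2 : fdim f z ≠ ⊥ := ringKrullDim_ne_bot
  obtain ⟨m, hm⟩ := WithBot.ne_bot_iff_exists.mp h2
  have h3 : m ≠ ⊤ := by
    rintro rfl
    exact h1 hm.symm
  obtain ⟨n, hn⟩ := ENat.ne_top_iff_exists.mp h3
  exact ⟨n, by rw [← hm, ← hn]; rfl⟩

/-- the image of the maximal points of the fibres lying in the support. -/
theorem isLocallyConstructible_image_support_fdim_zero [QuasiCompact f] :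
    IsLocallyConstructible (f '' {z | fdim f z = 0 ∧ z ∈ CohB1.support ℱ}) := by
  have heq : f '' {z | fdim f z = 0 ∧ z ∈ CohB1.support ℱ} =
      f '' (⋃ j ∈ (Set.univ : Set ℕ),
        Gn f j (CohB1.support ℱ ∩ {x | FlatMor.fibreDimAt f x ≤ (j : ℕ)})) := by
    ext y
    constructor
    · rintro ⟨z, ⟨hz0, hzs⟩, rfl⟩
      refine ⟨z, ?_, rfl⟩
      simp only [Set.mem_iUnion, Set.mem_univ, exists_prop, true_and]
      refine ⟨td f z, z, ⟨hzs, ?_⟩, specializes_rfl, rfl, le_rfl⟩
      rw [Set.mem_ofPred_eq, fibreDimAt_eq_fdim_add_td, hz0, zero_add]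
    · rintro ⟨x, hx, rfl⟩
      simp only [Set.mem_iUnion, Set.mem_univ, exists_prop, true_and] at hx
      obtain ⟨j, z, ⟨hzs, hzd⟩, -, hfz, hj⟩ := hx
      refine ⟨z, ⟨?_, hzs⟩, hfz⟩
      rw [Set.mem_ofPred_eq, fibreDimAt_eq_fdim_add_td] at hzd
      obtain ⟨n, hn⟩ := fdim_nat f ℱ hF z
      rw [hn] at hzd ⊢
      have : n + td f z ≤ j := by exact_mod_cast hzd
      have : n = 0 := by omega
      rw [this]
      rfl
  rw [heq]
  apply f.isLocallyConstructible_image
  refine isLocallyConstructible_iUnion_of_subset_setD f ℱ hF _ (fun j => ?_) (fun j => ?_) Set.univ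
  · exact isLocallyConstructible_Gn f j _ ((isLocallyConstructible_support ℱ hF).inter
      (Groth.Agent.Helper16.ConsFD.isLocallyConstructible_fibreDimAt_le f j))
  · rintro x ⟨z, ⟨hz, -⟩, h⟩
    exact ⟨z, hz, h⟩

/-- the image of the non-maximal points of the relative assassin. -/
theorem isLocallyConstructible_image_relAss_fdim_ne_zero [QuasiCompact f] :
    IsLocallyConstructible (f '' {z | cdepth f ℱ z = 0 ∧ fdim f z ≠ 0}) := by
  have heq : f '' {z | cdepth f ℱ z = 0 ∧ fdim f z ≠ 0} =
      f '' (⋃ j ∈ (Set.univ : Set ℕ),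
        Gn f j (lowRd f ℱ (j + 1) ∩ {x | FlatMor.fibreDimAt f x ≤ (j : ℕ)}ᶜ)) := by
    ext y
    constructor
    · rintro ⟨z, ⟨hz0, hzd⟩, rfl⟩
      refine ⟨z, ?_, rfl⟩
      simp only [Set.mem_iUnion, Set.mem_univ, exists_prop, true_and]
      refine ⟨td f z, z, ⟨((mem_lowRd_and_iff f ℱ hF _ z).mpr ⟨hz0, rfl⟩).1, ?_⟩,
        specializes_rfl, rfl, le_rfl⟩
      rw [Set.mem_compl_iff, Set.mem_ofPred_eq, fibreDimAt_eq_fdim_add_td]
      obtain ⟨n, hn⟩ := fdim_nat f ℱ hF z
      rw [hn] at hzd ⊢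
      intro hle
      have : n + td f z ≤ td f z := by exact_mod_cast hle
      have : n = 0 := by omega
      apply hzd
      rw [this]
      rfl
    · rintro ⟨x, hx, rfl⟩
      simp only [Set.mem_iUnion, Set.mem_univ, exists_prop, true_and] at hx
      obtain ⟨j, z, ⟨hzl, hzd⟩, -, hfz, hj⟩ := hx
      obtain ⟨h0, htd⟩ := (mem_lowRd_and_iff f ℱ hF j z).mp ⟨hzl, hj⟩
      refine ⟨z, ⟨h0, ?_⟩, hfz⟩
      intro hdim
      apply hzd
      rw [Set.mem_ofPred_eq, fibreDimAt_eq_fdim_add_td, hdim, zero_add, htd]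
  rw [heq]
  apply f.isLocallyConstructible_image
  refine isLocallyConstructible_iUnion_of_subset_setD f ℱ hF _ (fun j => ?_) (fun j => ?_) Set.univ
  · exact isLocallyConstructible_Gn f j _ ((isLocallyConstructible_lowRd f ℱ hF (j + 1)).inter
      (Groth.Agent.Helper16.ConsFD.isLocallyConstructible_compl
        (Groth.Agent.Helper16.ConsFD.isLocallyConstructible_fibreDimAt_le f j)))
  · refine subset_trans ?_ (setA_subset_setD f ℱ hF j)
    rintro x ⟨z, ⟨hz, -⟩, h⟩
    exact ⟨z, hz, h⟩

end Cons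

section Main

variable [IsLocallyNoetherian S] [LocallyOfFiniteType f] [QuasiCompact f] [ℱ.IsQuasicoherent]
  (hF : CohB1.IsFP ℱ)
  (hint : ∀ (s : S) (x : ↥(f.fiber s)), IsDomain ((f.fiber s).presheaf.stalk x))

include hF hint

/-- **S4831.** -/
theorem isLocallyConstructible_torsion :
    IsLocallyConstructible {s : S | ∀ x : ↥(f.fiber s),
      Submodule.torsion ((f.fiber s).presheaf.stalk x)
        (((Scheme.Modules.pullback (f.fiberι s)).obj ℱ).presheaf.stalk x) = ⊤} := by
  haveI : LocallyOfFinitePresentation f :=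
    Groth.Agent.Helper15.lfp_of_lft_of_isLocallyNoetherian f
  have h := Groth.Agent.Helper16.ConsFD.isLocallyConstructible_compl
    (isLocallyConstructible_image_support_fdim_zero f ℱ hF)
  convert h using 1
  ext s
  rw [Set.mem_ofPred_eq, forall_torsion_top_fibre_iff f ℱ hF s (hint s), Set.mem_compl_iff]
  simp only [Set.mem_image, Set.mem_ofPred_eq, not_exists, not_and]
  constructor
  · intro H z hz hfz
    exact H z hfz hz.1 hz.2
  · intro H z hfz hdim hzs
    exact H z ⟨hdim, hzs⟩ hfz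

/-- **S4832.** -/
theorem isLocallyConstructible_torsionFree :
    IsLocallyConstructible {s : S | ∀ x : ↥(f.fiber s),
      Submodule.torsion ((f.fiber s).presheaf.stalk x)
        (((Scheme.Modules.pullback (f.fiberι s)).obj ℱ).presheaf.stalk x) = ⊥} := by
  haveI : LocallyOfFinitePresentation f :=
    Groth.Agent.Helper15.lfp_of_lft_of_isLocallyNoetherian f
  have h := Groth.Agent.Helper16.ConsFD.isLocallyConstructible_compl
    (isLocallyConstructible_image_relAss_fdim_ne_zero f ℱ hF)
  convert h using 1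
  ext s
  rw [Set.mem_ofPred_eq, forall_torsion_bot_fibre_iff f ℱ hF s (hint s), Set.mem_compl_iff]
  simp only [Set.mem_image, Set.mem_ofPred_eq, not_exists, not_and]
  constructor
  · intro H z hz hfz
    exact hz.2 (H z hfz hz.1)
  · intro H z hfz hdep
    by_contra hdim
    exact H z ⟨hdep, hdim⟩ hfz

end Main

end Groth.Agent.Helper16.TorsFib
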