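import Mathlib
import Groth.Prelude
import Groth.Agent.Lib.Helper16.Sch.TriFlatSch3
import Groth.Agent.Lib.Helper16.Sch.FibMap1
import Groth.Agent.Lib.Helper15.AlgSpFinLocFree
import Groth.Agent.Lib.Helper4.Constr

/-!
# Relative fibrewise flatness: spreading non-flatness from the generic fibre (helper16)
-/

set_option autoImplicit false
set_option linter.style.haveILetI false
universe u
open CategoryTheory CategoryTheory.Limits AlgebraicGeometry TopologicalSpace Topology

namespace Groth.Agent.Helper16.TriFlatSch

open Groth.Agent.Helper16.FibMap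

/-- flatness of the restriction of `F` to the fibre over `s` relative to the morphism of fibres
is relative fibrewise flatness at all points over `s`. -/
theorem isFlatOver_fibMap_iff {X Y S : Scheme.{u}} (g : X ⟶ Y) (h : Y ⟶ S)
    (F : X.Modules) [F.IsQuasicoherent] (s : S) :
    FlatMod.IsFlatOver (fibMap g h s)
        ((Scheme.Modules.pullback (pullback.fst (g ≫ h) (S.fromSpecResidueField s))).obj F) ↔
      ∀ x : X, (g ≫ h) x = s → RelFlatAt g h F x := by
  have hY : IsPullback (pullback.fst h (S.fromSpecResidueField s))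
      (pullback.snd h (S.fromSpecResidueField s)) h (S.fromSpecResidueField s) :=
    IsPullback.of_hasPullback _ _
  have hX := isPullback_fibMap g h s
  constructor
  · intro H x hx
    have hmem : x ∈ Set.range (pullback.fst (g ≫ h) (S.fromSpecResidueField s)) := by
      rw [FibMap.range_fst]
      exact hx
    obtain ⟨x', rfl⟩ := hmem
    exact (isFlatOverAt_fibre_iff g h F s hY hX x').mp (H x')
  · intro H x'
    rw [isFlatOverAt_fibre_iff g h F s hY hX x']
    refine H _ ?_
    have : pullback.fst (g ≫ h) (S.fromSpecResidueField s) x' ∈ (g ≫ h) ⁻¹' {s} := by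
      rw [← FibMap.range_fst]
      exact ⟨x', rfl⟩
    exact this

/-- in an irreducible space, a constructible set containing a point which lies in all nonempty
opens contains an open neighbourhood of this point. -/
theorem exists_open_subset_of_isConstructible {T : Type u} [TopologicalSpace T]
    [IrreducibleSpace T] {E : Set T} (hE : IsConstructible E) {η : T}
    (hη : ∀ U : Set T, IsOpen U → U.Nonempty → η ∈ U) (hηE : η ∈ E) :
    ∃ U : Set T, IsOpen U ∧ η ∈ U ∧ U ⊆ E := by
  have hirr : IsIrreducible (Set.univ : Set T) := IrreducibleSpace.isIrreducible_univ T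
  rcases Groth.Agent.Helper4.Constr.trace_dichotomy hirr hE with
    ⟨U, hU, hne, hsub⟩ | ⟨U, hU, hne, hsub⟩
  · rw [Set.inter_univ] at hne hsub
    exact ⟨U, hU, hη U hU hne, hsub⟩
  · rw [Set.inter_univ] at hne hsub
    exact absurd hηE (hsub (hη U hU hne))

/-- **S4833**. -/
theorem exists_nhd_not_isFlatOver_fibMap {X Y S : Scheme.{u}} [IsIntegral S] [IsNoetherian S]
    (g : X ⟶ Y) (h : Y ⟶ S) [LocallyOfFiniteType h] [QuasiCompact h]
    [LocallyOfFiniteType (g ≫ h)] [QuasiCompact (g ≫ h)]
    (F : X.Modules) [F.IsQuasicoherent] (hF : CohB1.IsFP F)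
    (hη : ¬ FlatMod.IsFlatOver (fibMap g h (genericPoint S))
      ((Scheme.Modules.pullback
        (pullback.fst (g ≫ h) (S.fromSpecResidueField (genericPoint S)))).obj F)) :
    ∃ U : S.Opens, genericPoint S ∈ U ∧ ∀ s ∈ U, ¬ FlatMod.IsFlatOver (fibMap g h s)
      ((Scheme.Modules.pullback (pullback.fst (g ≫ h) (S.fromSpecResidueField s))).obj F) := by
  haveI : LocallyOfFinitePresentation h :=
    Groth.Agent.Helper15.lfp_of_lft_of_isLocallyNoetherian h
  haveI : LocallyOfFinitePresentation (g ≫ h) :=
    Groth.Agent.Helper15.lfp_of_lft_of_isLocallyNoetherian (g ≫ h)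
  have h1 := isLocallyConstructible_forall_relFlatAt g h F hF
  have h2 := Groth.Agent.Helper16.ConsFD.isLocallyConstructible_compl h1
  have h3 : IsConstructible {s : S | ∀ x : X, (g ≫ h) x = s → RelFlatAt g h F x}ᶜ :=
    h2.isConstructible
  have hgen : ∀ U : Set S, IsOpen U → U.Nonempty → genericPoint S ∈ U := by
    intro U hU hne
    exact ((genericPoint_spec S).mem_open_set_iff hU).mpr (by simpa using hne)
  have hmem : genericPoint S ∈ {s : S | ∀ x : X, (g ≫ h) x = s → RelFlatAt g h F x}ᶜ := by
    intro hc
    exact hη ((isFlatOver_fibMap_iff g h F _).mpr hc)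
  obtain ⟨U, hU, hηU, hsub⟩ := exists_open_subset_of_isConstructible h3 hgen hmem
  refine ⟨⟨U, hU⟩, hηU, fun s hs hc => ?_⟩
  exact hsub hs ((isFlatOver_fibMap_iff g h F s).mp hc)

end Groth.Agent.Helper16.TriFlatSch
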