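import Mathlib
import Groth.Prelude
import Groth.Agent.Lib.Helper16.Sch.UnrNormSchB
set_option autoImplicit false
set_option linter.style.haveILetI false
universe u
open CategoryTheory CategoryTheory.Limits AlgebraicGeometry Opposite TopologicalSpace

namespace Groth.Agent.Helper16.UnrNorm

variable {X Y S : Scheme.{u}}

/-- open immersion iff monomorphism with equal fibre dimensions (flat source, normal fibres). -/
theorem isOpenImmersion_iff (g : Y ⟶ S) [LocallyOfFinitePresentation g] (f : X ⟶ Y)
    [LocallyOfFinitePresentation (f ≫ g)] [Flat (f ≫ g)]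
    (hnorm : ∀ y : Y, IsDomain ((g.fiber (g y)).presheaf.stalk (g.asFiber y)) ∧
      IsIntegrallyClosed ((g.fiber (g y)).presheaf.stalk (g.asFiber y))) :
    IsOpenImmersion f ↔
      (Mono f ∧ ∀ x : X, FlatMor.fibreDimAt (f ≫ g) x = FlatMor.fibreDimAt g (f x)) := by
  have hf : LocallyOfFinitePresentation f := HomFibCrit.lfp_of_comp f (f ≫ g) g rfl
  constructor
  · intro hoi
    refine ⟨inferInstance, fun x => ?_⟩
    have H : ∃ U : X.Opens, x ∈ U ∧ Etale (U.ι ≫ f) := ⟨⊤, trivial, inferInstance⟩
    exact ((main g f x (Flat.stalkMap (f ≫ g) x) (hnorm (f x))).mp H).2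
  · rintro ⟨hmono, hdim⟩
    haveI : FormallyUnramified f := inferInstance
    have hflat : Flat f := by
      rw [Flat.iff_flat_stalkMap]
      intro x
      have H : ∃ U : X.Opens, x ∈ U ∧ Etale (U.ι ≫ f) :=
        (main g f x (Flat.stalkMap (f ≫ g) x) (hnorm (f x))).mpr
          ⟨⟨⊤, trivial, inferInstance⟩, hdim x⟩
      exact ((HomFibCrit.exists_etale_nhd_iff f x).mp H).1
    exact IsOpenImmersion.of_flat_of_mono f

end Groth.Agent.Helper16.UnrNorm
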