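import Mathlib
import Groth.Agent.Lib.Helper16.Sch.DimOneBase
import Groth.Agent.Lib.Helper14.ValRingFibre

set_option autoImplicit false
set_option linter.style.haveILetI false
universe u
open CategoryTheory CategoryTheory.Limits AlgebraicGeometry Opposite TopologicalSpace Topology

noncomputable section

namespace Groth.Agent.Helper16.ValBase

open Groth.Agent.Helper14 Groth.Agent.Helper16 Groth.Agent.Helper16.FTDim

variable {X : Scheme.{u}}

/-- over a valuation ring, all irreducible components of all fibres of a morphism locally of
finite type from an irreducible scheme have the dimension of the generic fibre. -/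
theorem dim_component_fibre_eq (R : Type u) [CommRing R] [IsDomain R] [ValuationRing R]
    [IrreducibleSpace ↥X] (f : X ⟶ Spec (CommRingCat.of R)) [LocallyOfFiniteType f]
    (y : Spec (CommRingCat.of R))
    (Z : Set ↥(f.fiber y)) (hZ : Z ∈ irreducibleComponents ↥(f.fiber y)) :
    topologicalKrullDim ↥Z = topologicalKrullDim ↥(f.fiber (f (genericPoint X))) := by
  have hE := DimFormulaSch.dim_genericFibre_eq f (td f (genericPoint X)) (td_spec f _)
  rw [hE]
  obtain ⟨z, n, hfz, hmax, hn, hdim⟩ := FibreMax.exists_of_mem_irreducibleComponents f y Z hZ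
  rw [hdim]
  have hsp : genericPoint X ⤳ z := genericPoint_specializes z
  have h1 := SectionComp.fibreDimAt_le_of_specializes f (genericPoint X) z hsp
  have h2 := EquidimAt.trdeg_le_fibreDimAt f (genericPoint X) (genericPoint X) specializes_rfl
    (td f (genericPoint X)) (td_spec f _)
  rw [FibreMax.fibreDimAt_eq_of_maximal f z hmax n hn] at h1
  have hge : td f (genericPoint X) ≤ n := by exact_mod_cast h2.trans h1
  have h3 := ValRingFibre.trdeg_le_of_specializes_Spec f (genericPoint X) z hsp
  rw [hn, td_spec f (genericPoint X)] at h3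
  have hle : n ≤ td f (genericPoint X) := by exact_mod_cast h3
  have : n = td f (genericPoint X) := le_antisymm hle hge
  rw [this]

theorem main7624 (R : Type u) [CommRing R] [IsDomain R] [ValuationRing R]
    [IrreducibleSpace ↥X] (f : X ⟶ Spec (CommRingCat.of R)) [LocallyOfFiniteType f]
    [Surjective f]
    (Z : Set ↥(f.fiber (IsLocalRing.closedPoint R)))
    (hZ : Z ∈ irreducibleComponents ↥(f.fiber (IsLocalRing.closedPoint R))) :
    topologicalKrullDim ↥Z =
      topologicalKrullDim ↥(f.fiber (⟨⊥, Ideal.bot_prime⟩ : PrimeSpectrum R)) := by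
  rw [dim_component_fibre_eq R f _ Z hZ]
  haveI : IrreducibleSpace ↥(Spec (CommRingCat.of R)) :=
    inferInstanceAs (IrreducibleSpace (PrimeSpectrum R))
  have hgen := DimOneBase.map_genericPoint_of_denseRange f f.surjective.denseRange
  have hbot : genericPoint ↥(Spec (CommRingCat.of R)) = (⟨⊥, Ideal.bot_prime⟩ : PrimeSpectrum R) := by
    apply (genericPoint_spec _).eq
    have h : closure ({⟨⊥, Ideal.bot_prime⟩} : Set (PrimeSpectrum R)) = Set.univ := by
      rw [PrimeSpectrum.closure_singleton]
      simp
    exact h
  rw [hgen, hbot]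

end Groth.Agent.Helper16.ValBase
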