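import Mathlib
import Groth.Agent.Lib.Helper16.Sch.ValBase
import Groth.Agent.Lib.Helper16.Sch.FTDim8
import Groth.Agent.Lib.Helper14.FibreConst

set_option autoImplicit false
set_option linter.style.haveILetI false
universe u
open CategoryTheory CategoryTheory.Limits AlgebraicGeometry Opposite TopologicalSpace Topology
open scoped TensorProduct

noncomputable section

namespace Groth.Agent.Helper16.ValBase

open Groth.Agent.Helper14 Groth.Agent.Helper16 Groth.Agent.Helper16.FTDim

variable {X : Scheme.{u}}

/-- over a valuation ring, maximal points of fibres have the transcendence degree of the generic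
point. -/
theorem td_eq_of_maximal (R : Type u) [CommRing R] [IsDomain R] [ValuationRing R]
    [IrreducibleSpace ↥X] (f : X ⟶ Spec (CommRingCat.of R)) [LocallyOfFiniteType f]
    (z : X) (hmax : ∀ x₁ : X, f x₁ = f z → x₁ ⤳ z → x₁ = z) :
    td f z = td f (genericPoint X) := by
  have hsp : genericPoint X ⤳ z := genericPoint_specializes z
  have h1 := SectionComp.fibreDimAt_le_of_specializes f (genericPoint X) z hsp
  have h2 := EquidimAt.trdeg_le_fibreDimAt f (genericPoint X) (genericPoint X) specializes_rfl
    (td f (genericPoint X)) (td_spec f _)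
  rw [FibreMax.fibreDimAt_eq_of_maximal f z hmax (td f z) (td_spec f z)] at h1
  have hge : td f (genericPoint X) ≤ td f z := by exact_mod_cast h2.trans h1
  have h3 := ValRingFibre.trdeg_le_of_specializes_Spec f (genericPoint X) z hsp
  rw [td_spec f z, td_spec f (genericPoint X)] at h3
  have hle : td f z ≤ td f (genericPoint X) := by exact_mod_cast h3
  exact le_antisymm hle hge

/-- over a valuation ring, all nonempty fibres of a quasi-compact morphism locally of finite type
from an irreducible scheme have the same dimension. -/
theorem dim_fiber_eq_generic (R : Type u) [CommRing R] [IsDomain R] [ValuationRing R]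
    [IrreducibleSpace ↥X] (f : X ⟶ Spec (CommRingCat.of R)) [LocallyOfFiniteType f]
    [QuasiCompact f] (y : Spec (CommRingCat.of R)) (hne : ∃ x : X, f x = y) :
    topologicalKrullDim ↥(f.fiber y) = topologicalKrullDim ↥(f.fiber (f (genericPoint X))) := by
  have hE := DimFormulaSch.dim_genericFibre_eq f (td f (genericPoint X)) (td_spec f _)
  rw [hE]
  obtain ⟨ζ, N, hfζ, hg, hdim, -⟩ := FibreConst.exists_isGen_dim_eq f y hne
  rw [hdim]
  have h1 : td f ζ = N := td_eq f ζ N hg.2
  rw [← h1, td_eq_of_maximal R f ζ hg.1]

end Groth.Agent.Helper16.ValBase
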