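import Mathlib
import Groth.Agent.Lib.Helper16.Sch.ValBase2

set_option autoImplicit false
set_option linter.style.haveILetI false
universe u
open CategoryTheory CategoryTheory.Limits AlgebraicGeometry Opposite TopologicalSpace Topology
open scoped TensorProduct

noncomputable section

namespace Groth.Agent.Helper16.ValBase

open Groth.Agent.Helper14 Groth.Agent.Helper16 Groth.Agent.Helper16.FTDim

/-- the Krull dimension of the fibre ring is the dimension of the scheme-theoretic fibre. -/
theorem ringKrullDim_fiber_eq (R S : Type u) [CommRing R] [CommRing S] [Algebra R S]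
    (p : PrimeSpectrum R) :
    ringKrullDim (p.asIdeal.Fiber S) =
      topologicalKrullDim
        ↥((Spec.map (CommRingCat.ofHom (algebraMap R S))).fiber (p : Spec (CommRingCat.of R))) := by
  rw [FTDim.dim_fiber_eq, ← PrimeSpectrum.topologicalKrullDim_eq_ringKrullDim]
  exact (IsHomeomorph.topologicalKrullDim_eq _
    (PrimeSpectrum.preimageHomeomorphFiber R S p).isHomeomorph).symm

end Groth.Agent.Helper16.ValBase

namespace Groth.Agent.Helper16.ValBase

open Groth.Agent.Helper14 Groth.Agent.Helper16 Groth.Agent.Helper16.FTDim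

/-- the residue field of a local ring as the residue field at its maximal ideal. -/
def residueFieldEquiv (R : Type u) [CommRing R] [IsLocalRing R] :
    IsLocalRing.ResidueField R ≃ₐ[R] (IsLocalRing.maximalIdeal R).ResidueField :=
  IsLocalRing.ResidueField.mapAlgEquiv
    (IsLocalization.atUnits (R := R) (M := (IsLocalRing.maximalIdeal R).primeCompl)
      (S := Localization.AtPrime (IsLocalRing.maximalIdeal R)) (by
        intro x hx
        exact IsLocalRing.notMem_maximalIdeal.mp hx))

/-- the fraction field of a domain as the residue field at the zero ideal. -/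
def fractionRingEquiv (R : Type u) [CommRing R] [IsDomain R] :
    FractionRing R ≃ₐ[R] (⊥ : Ideal R).ResidueField :=
  IsLocalization.algEquiv (nonZeroDivisors R) (FractionRing R) (⊥ : Ideal R).ResidueField

theorem main0444 {R S : Type u} [CommRing R] [IsDomain R] [ValuationRing R] [CommRing S]
    [IsDomain S] [Algebra R S]
    (hinj : Function.Injective (algebraMap R S)) [Algebra.FiniteType R S]
    [Nontrivial (IsLocalRing.ResidueField R ⊗[R] S)] :
    ringKrullDim (IsLocalRing.ResidueField R ⊗[R] S) = ringKrullDim (FractionRing R ⊗[R] S) := by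
  have e1 : (IsLocalRing.ResidueField R ⊗[R] S) ≃ₐ[R]
      ((IsLocalRing.maximalIdeal R).ResidueField ⊗[R] S) :=
    Algebra.TensorProduct.congr (residueFieldEquiv R) AlgEquiv.refl
  have e2 : (FractionRing R ⊗[R] S) ≃ₐ[R] ((⊥ : Ideal R).ResidueField ⊗[R] S) :=
    Algebra.TensorProduct.congr (fractionRingEquiv R) AlgEquiv.refl
  rw [ringKrullDim_eq_of_ringEquiv e1.toRingEquiv, ringKrullDim_eq_of_ringEquiv e2.toRingEquiv]
  let f : Spec (CommRingCat.of S) ⟶ Spec (CommRingCat.of R) :=
    Spec.map (CommRingCat.ofHom (algebraMap R S))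
  haveI : LocallyOfFiniteType f := by
    rw [HasRingHomProperty.Spec_iff (P := @LocallyOfFiniteType)]
    exact (RingHom.finiteType_algebraMap (A := R) (B := S)).mpr inferInstance
  haveI : IrreducibleSpace ↥(Spec (CommRingCat.of S)) :=
    inferInstanceAs (IrreducibleSpace (PrimeSpectrum S))
  have h1 := ringKrullDim_fiber_eq R S (IsLocalRing.closedPoint R)
  have h2 := ringKrullDim_fiber_eq R S (⟨⊥, Ideal.isPrime_bot⟩ : PrimeSpectrum R)
  show ringKrullDim ((IsLocalRing.closedPoint R).asIdeal.Fiber S) =
    ringKrullDim ((⟨⊥, Ideal.isPrime_bot⟩ : PrimeSpectrum R).asIdeal.Fiber S)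
  rw [h1, h2]
  have hgenS : genericPoint ↥(Spec (CommRingCat.of S)) =
      (⟨⊥, Ideal.isPrime_bot⟩ : PrimeSpectrum S) := by
    apply (genericPoint_spec _).eq
    have h : closure ({⟨⊥, Ideal.isPrime_bot⟩} : Set (PrimeSpectrum S)) = Set.univ := by
      rw [PrimeSpectrum.closure_singleton]
      simp
    exact h
  have hfgen : f (genericPoint ↥(Spec (CommRingCat.of S))) =
      (⟨⊥, Ideal.isPrime_bot⟩ : PrimeSpectrum R) := by
    rw [hgenS]
    apply PrimeSpectrum.ext
    show Ideal.comap (algebraMap R S) ⊥ = ⊥
    rw [← RingHom.ker_eq_comap_bot]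
    exact (RingHom.injective_iff_ker_eq_bot _).mp hinj
  have hne : ∃ x : ↥(Spec (CommRingCat.of S)), f x = IsLocalRing.closedPoint R := by
    haveI : Nontrivial ((IsLocalRing.closedPoint R).asIdeal.Fiber S) :=
      show Nontrivial ((IsLocalRing.maximalIdeal R).ResidueField ⊗[R] S) from
        e1.symm.toRingEquiv.surjective.nontrivial
    obtain ⟨q⟩ := (PrimeSpectrum.nonempty_iff_nontrivial
      (R := (IsLocalRing.closedPoint R).asIdeal.Fiber S)).mpr inferInstance
    let x := (PrimeSpectrum.preimageHomeomorphFiber R S (IsLocalRing.closedPoint R)).symm q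
    exact ⟨x.1, x.2⟩
  have key := dim_fiber_eq_generic R f (IsLocalRing.closedPoint R) hne
  rw [hfgen] at key
  exact key

end Groth.Agent.Helper16.ValBase
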