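import Mathlib
import Groth.Agent.Lib.Helper16.Sch.ValBase3
import Groth.Agent.Lib.Helper14.FibreDimBC
import Groth.Agent.Lib.Helper14.PullbackPts

set_option autoImplicit false
set_option linter.style.haveILetI false
universe u
open CategoryTheory CategoryTheory.Limits AlgebraicGeometry Opposite TopologicalSpace Topology
open scoped TensorProduct

noncomputable section

namespace Groth.Agent.Helper16.ValBase

open Groth.Agent.Helper14 Groth.Agent.Helper16 Groth.Agent.Helper16.FTDim

variable {X S : Scheme.{u}}

/-- transcendence degrees at maximal points of fibres do not exceed those of generizations, when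
the image point is dominated flatly by the closed point of a valuation ring. -/
theorem td_le_of_specializes_of_flat_valuationRing (f : X ⟶ S) [LocallyOfFiniteType f]
    {A : Type u} [CommRing A] [IsDomain A] [ValuationRing A]
    (a : Spec (CommRingCat.of A) ⟶ S) [Flat a]
    (ξ ζ : X) (h : ξ ⤳ ζ) (hζ : f ζ = a (IsLocalRing.closedPoint A))
    (hmax : ∀ w : X, f w = f ζ → w ⤳ ζ → w = ζ) :
    td f ζ ≤ td f ξ := by
  have hsq : IsPullback (pullback.fst f a) (pullback.snd f a) f a := IsPullback.of_hasPullback f a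
  haveI : LocallyOfFiniteType (pullback.snd f a) := MorphismProperty.pullback_snd _ _ inferInstance
  haveI : Flat (pullback.fst f a) := MorphismProperty.pullback_fst _ _ inferInstance
  obtain ⟨ζ'₀, hζ'₀1, hζ'₀2⟩ := exists_preimage_of_isPullback hsq ζ (IsLocalRing.closedPoint A) hζ
  obtain ⟨ζ', n, hζ'sp, hζ'f, hgen, -⟩ := FibreConst.exists_isGen (pullback.snd f a) ζ'₀
  have hgζ' : pullback.fst f a ζ' = ζ := by
    apply hmax
    · rw [← Scheme.Hom.comp_apply, pullback.condition, Scheme.Hom.comp_apply, hζ'f, hζ'₀2, hζ]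
    · rw [← hζ'₀1]
      exact hζ'sp.map (pullback.fst f a).continuous
  have h1 : td (pullback.snd f a) ζ' = td f ζ := by
    have := FibreDimBC.trdeg_eq_of_maximal hsq ζ' hgen.1
    have h' : td (pullback.snd f a) ζ' = td f (pullback.fst f a ζ') := by
      unfold td
      rw [this]
    rw [h', hgζ']
  have hsp' : ξ ⤳ pullback.fst f a ζ' := by rw [hgζ']; exact h
  obtain ⟨ξ', hξ'ζ', hξ'⟩ := (Flat.generalizingMap (f := pullback.fst f a)) hsp'
  have h2 : td (pullback.snd f a) ξ' ≤ td f ξ := by
    have := (FibreBC.trdeg_of_isPullback hsq ξ').1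
    rw [td_spec (pullback.snd f a) ξ', td_spec f (pullback.fst f a ξ'), hξ'] at this
    exact_mod_cast this
  have h3 : td (pullback.snd f a) ζ' ≤ td (pullback.snd f a) ξ' := by
    have := ValRingFibre.trdeg_le_of_specializes_Spec (pullback.snd f a) ξ' ζ' hξ'ζ'
    rw [td_spec (pullback.snd f a) ξ', td_spec (pullback.snd f a) ζ'] at this
    exact_mod_cast this
  omega

end Groth.Agent.Helper16.ValBase

namespace Groth.Agent.Helper16.ValBase

open Groth.Agent.Helper14 Groth.Agent.Helper16 Groth.Agent.Helper16.FTDim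

variable {X : Scheme.{u}}

theorem main14733 (R : Type u) [CommRing R] [IsDomain R]
    (hR : ∀ (p : Ideal R) [p.IsPrime], ValuationRing (Localization.AtPrime p))
    [IrreducibleSpace X] (f : X ⟶ Spec (CommRingCat.of R))
    [LocallyOfFiniteType f] [QuasiCompact f] [IsDominant f] (γ : Spec (CommRingCat.of R))
    (h0 : Nonempty ↥(f.fiber γ)) [IrreducibleSpace ↥(Spec (CommRingCat.of R))] :
    topologicalKrullDim ↥(f.fiber γ) =
      topologicalKrullDim ↥(f.fiber (genericPoint ↥(Spec (CommRingCat.of R)))) := by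
  have hgen := DimOneBase.map_genericPoint_of_denseRange f f.denseRange
  have hE := DimFormulaSch.dim_genericFibre_eq f (td f (genericPoint X)) (td_spec f _)
  rw [hgen] at hE
  rw [hE]
  obtain ⟨z⟩ := h0
  have hne : ∃ x : X, f x = γ := ⟨f.fiberι γ z, (f.fiberHomeo γ z).2⟩
  obtain ⟨ζ, N, hfζ, hg, hdim, -⟩ := FibreConst.exists_isGen_dim_eq f γ hne
  rw [hdim]
  have h1 : td f ζ = N := td_eq f ζ N hg.2
  rw [← h1]
  have hsp : genericPoint X ⤳ ζ := genericPoint_specializes ζ
  -- lower bound
  have h2 := SectionComp.fibreDimAt_le_of_specializes f (genericPoint X) ζ hsp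
  have h3 := EquidimAt.trdeg_le_fibreDimAt f (genericPoint X) (genericPoint X) specializes_rfl
    (td f (genericPoint X)) (td_spec f _)
  rw [FibreMax.fibreDimAt_eq_of_maximal f ζ hg.1 (td f ζ) (td_spec f ζ)] at h2
  have hge : td f (genericPoint X) ≤ td f ζ := by exact_mod_cast h3.trans h2
  -- upper bound
  haveI : γ.asIdeal.IsPrime := γ.isPrime
  haveI := hR γ.asIdeal
  let a : Spec (CommRingCat.of (Localization.AtPrime γ.asIdeal)) ⟶ Spec (CommRingCat.of R) :=
    Spec.map (CommRingCat.ofHom (algebraMap R (Localization.AtPrime γ.asIdeal)))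
  haveI : Flat a := by
    rw [HasRingHomProperty.Spec_iff (P := @Flat)]
    exact (RingHom.flat_algebraMap_iff (R := R) (S := Localization.AtPrime γ.asIdeal)).mpr
      (IsLocalization.flat _ γ.asIdeal.primeCompl)
  have ha : f ζ = a (IsLocalRing.closedPoint (Localization.AtPrime γ.asIdeal)) := by
    rw [hfζ]
    apply PrimeSpectrum.ext
    exact (IsLocalization.AtPrime.comap_maximalIdeal (Localization.AtPrime γ.asIdeal)
      γ.asIdeal).symm
  have hle := td_le_of_specializes_of_flat_valuationRing f a (genericPoint X) ζ hsp ha hg.1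
  have : td f ζ = td f (genericPoint X) := le_antisymm hle hge
  rw [this]

end Groth.Agent.Helper16.ValBase
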