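import Mathlib
import Groth.Prelude
import Groth.Agent.Lib.Helper15.ProjSpaceProper
import Groth.Agent.Lib.Helper14.DedFlat
import Groth.Agent.Lib.Helper4.SmoothRegSch
import Groth.Agent.Lib.Helper16.Top.ConstrDimOne
import Groth.Agent.Lib.Helper16.Sch.FTDim6

set_option autoImplicit false
universe u
open CategoryTheory CategoryTheory.Limits AlgebraicGeometry TopologicalSpace

namespace Groth.Agent.Helper16.ZCorr

/-- A proper surjective morphism from an integral noetherian one-dimensional scheme onto a
scheme with at least... (topological part): all fibres are finite. -/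
theorem finite_fibres {Z C : Scheme.{u}} [IsIntegral Z] [IsNoetherian Z]
    (hdimZ : topologicalKrullDim Z ≤ 1) (g : Z ⟶ C) (hcl : IsClosedMap g)
    (hne : ∀ c : C, ∃ z : Z, g z ≠ c) (c : C) : (g ⁻¹' {c}).Finite := by
  by_cases hc : IsClosed ({c} : Set C)
  · have h1 : IsClosed (g ⁻¹' {c}) := hc.preimage g.continuous
    have h2 : g ⁻¹' {c} ≠ Set.univ := by
      intro h
      obtain ⟨z, hz⟩ := hne c
      exact hz (h ▸ Set.mem_univ z : z ∈ g ⁻¹' {c})
    exact (ConstrDimOne.closed_finite hdimZ _ h1 h2).1
  · apply Set.Subsingleton.finite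
    have key : ∀ z : Z, g z = c → closure ({z} : Set Z) = Set.univ := by
      intro z hz
      by_contra hne'
      obtain ⟨w, hw⟩ := ConstrDimOne.irreducible_closed_eq_singleton hdimZ (closure {z})
        isIrreducible_singleton.closure isClosed_closure hne'
      have hzw : z = w := by
        have : z ∈ closure ({z} : Set Z) := subset_closure rfl
        rw [hw] at this
        exact this
      subst hzw
      have hzc : IsClosed ({z} : Set Z) := by rw [← hw]; exact isClosed_closure
      have := hcl _ hzc
      rw [Set.image_singleton, hz] at this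
      exact hc this
    intro z hz z' hz'
    have h1 := key z hz
    have h2 := key z' hz'
    have : Inseparable z z' := by
      rw [inseparable_iff_closure_eq, h1, h2]
    exact this.eq

theorem main
    (C X : Scheme.{0}) [C.Over (Spec (CommRingCat.of ℂ))] [X.Over (Spec (CommRingCat.of ℂ))]
    [AlgebraicGeometry.IsIntegral C] [Smooth (C ↘ Spec (CommRingCat.of ℂ))]
    (hC : RelProj.IsHQuasiProjective (C ↘ Spec (CommRingCat.of ℂ)))
    (hdimC : topologicalKrullDim C = 1)
    (hX : RelProj.IsHProjective (X ↘ Spec (CommRingCat.of ℂ)))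
    {Z : Scheme.{0}} (i : Z ⟶ pullback (C ↘ Spec (CommRingCat.of ℂ)) (X ↘ Spec (CommRingCat.of ℂ)))
    [IsClosedImmersion i]
    [AlgebraicGeometry.IsIntegral Z] (hdimZ : topologicalKrullDim Z = 1)
    (hsurj : Function.Surjective ⇑(i ≫ pullback.fst (C ↘ Spec (CommRingCat.of ℂ)) (X ↘ Spec (CommRingCat.of ℂ)))) :
    IsFinite (i ≫ pullback.fst (C ↘ Spec (CommRingCat.of ℂ)) (X ↘ Spec (CommRingCat.of ℂ))) ∧
      Flat (i ≫ pullback.fst (C ↘ Spec (CommRingCat.of ℂ)) (X ↘ Spec (CommRingCat.of ℂ))) := by
  haveI : IsProper (X ↘ Spec (CommRingCat.of ℂ)) := ((Groth.Agent.Helper15.isHProjective_iff _).mp hX).2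
  haveI : QuasiCompact (C ↘ Spec (CommRingCat.of ℂ)) := by
    obtain ⟨n, j, hj1, hj2, hj3⟩ := hC
    rw [← hj3]
    infer_instance
  set g := i ≫ pullback.fst (C ↘ Spec (CommRingCat.of ℂ)) (X ↘ Spec (CommRingCat.of ℂ)) with hg
  haveI : IsProper g := by rw [hg]; infer_instance
  haveI : IsNoetherian C := FTDim.isNoetherian_of_finiteType ℂ (C ↘ Spec (CommRingCat.of ℂ))
  haveI : IsNoetherian Z := FTDim.isNoetherian_of_finiteType ℂ (g ≫ (C ↘ Spec (CommRingCat.of ℂ)))
  have hflat : Flat g := by
    refine (Groth.Agent.Helper14.DedFlat.main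
      (fun y => Groth.Agent.Helper4.SmoothRegSch.isRegularLocalRing_stalk ℂ
        (C ↘ Spec (CommRingCat.of ℂ)) y) hdimC.le g).mpr ?_
    intro T hT
    rw [irreducibleComponents_eq_singleton, Set.mem_singleton_iff] at hT
    subst hT
    rw [Set.image_univ, Set.range_eq_univ.mpr hsurj]
    exact dense_univ
  refine ⟨?_, hflat⟩
  haveI : LocallyQuasiFinite g := by
    refine LocallyQuasiFinite.of_finite_preimage_singleton g (fun c => ?_)
    refine finite_fibres hdimZ.le g g.isClosedMap (fun c => ?_) c
    by_contra hcon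
    push_neg at hcon
    have hsub : Subsingleton C := by
      constructor
      intro a b
      obtain ⟨za, rfl⟩ := hsurj a
      obtain ⟨zb, rfl⟩ := hsurj b
      rw [hcon za, hcon zb]
    have hsub' : Subsingleton (IrreducibleCloseds C) := by
      constructor
      intro a b
      apply IrreducibleCloseds.ext
      ext x
      obtain ⟨y, hy⟩ := a.isIrreducible.nonempty
      obtain ⟨y', hy'⟩ := b.isIrreducible.nonempty
      rw [Subsingleton.elim x y]
      constructor
      · intro _; rw [Subsingleton.elim y y']; exact hy'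
      · intro _; exact hy
    have : topologicalKrullDim C ≤ 0 := Order.krullDim_nonpos_of_subsingleton
    rw [hdimC] at this
    exact absurd this (by decide)
  exact IsFinite.of_isProper_of_locallyQuasiFinite g

end Groth.Agent.Helper16.ZCorr
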